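import Cfsg.Agent.H9.HH2
import Cfsg.Agent.H1.PLength
import Cfsg.Agent.H2.SPE

/-! Hall–Higman Theorem B. -/

set_option autoImplicit false
set_option linter.unusedSectionVars false

namespace CfsgH9

open Subgroup Cfsg CfsgH1 CfsgH2 CfsgFT Module Polynomial
open scoped commutatorElement

universe u v

variable {F : Type*} [Field F] {G : Type u} [Group G] [Finite G] {V : Type v} [AddCommGroup V] [Module F V]
  [FiniteDimensional F V] {ρ : Representation F G V} {p : ℕ}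

theorem Dg.baseChange (E : Type*) [Field E] [Algebra F E] {x : G} {r : ℕ} (h : Dg (ρ x) r) : Dg (repBaseChange E ρ x) r := by
  obtain ⟨f, a, b, c⟩ := h
  refine ⟨f.map (algebraMap F E), Polynomial.map_ne_zero a, natDegree_map_le.trans b, ?_⟩
  rw [aeval_map_algebraMap]
  exact (aeval_algHom_apply (End.baseChangeHom F E V) _ f).trans (by rw [c, map_zero])

theorem le_ker_baseChange (E : Type*) [Field E] [Algebra F E] {Q : Subgroup G} (h : Q ≤ MonoidHom.ker (repBaseChange E ρ)) :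
    Q ≤ MonoidHom.ker ρ := by
  rw [← fixS_eq_top_iff] at h ⊢
  exact Submodule.eq_top_of_finrank_eq (by rw [← finrank_fixS_baseChange E, h, finrank_top, finrank_baseChange])

theorem hh_field {Q : Subgroup G} {x : G} {r : ℕ} (H : HH Q x) (hQ : (Nat.card Q : F) ≠ 0) (hk : ¬ Q ≤ MonoidHom.ker ρ)
    (h : Dg (ρ x) r) : orderOf x ≤ r ∨ ∃ k, k ∣ orderOf x ∧ EX Q (x ^ k) ∧ k * (orderOf (x ^ k) - 1) ≤ r :=
  hh_core _ (repBaseChange (AlgebraicClosure F) ρ) rfl H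
    (by rw [← map_natCast (algebraMap F _)]; exact (_root_.map_ne_zero _).2 hQ) (mt (le_ker_baseChange _) hk) (h.baseChange _)

theorem exists_special [hp : Fact p.Prime] {B A M : Subgroup G} (hB : IsPGroup p B) (hAB : A ≤ B) (hA : B ≤ N(A))
    (hM : (Nat.card M).Coprime p) (hBM : B ≤ N(M)) (h : ¬ M ≤ C(A)) : ∃ q, q.Prime ∧ q ≠ p ∧ ∃ Q ≤ M, IsPGroup q Q ∧ B ≤ N(Q) ∧
      Q ≠ ⊥ ∧ ⁅Q, A⁆ = Q ∧ Q ⊓ C(A) = ⁅Q, Q⁆ ∧ ⁅Q, Q⁆ ≤ C(Q) ∧ (frattini Q).map Q.subtype = ⁅Q, Q⁆ := by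
  obtain ⟨k, hk⟩ := hB.exists_card_eq
  have := hB.isNilpotent
  obtain ⟨q, hq, d, hS⟩ : ∃ q, ∃ _ : Fact q.Prime, q ∣ Nat.card M ∧ ∀ S, IsSylowIn q S M → B ≤ N(S) → ¬ S ≤ C(A) := by
    by_contra! e
    exact h (le_of_forall_sylowIn_le fun q i d => let ⟨S, a, _, c⟩ := e q i d; ⟨S, a, c⟩)
  obtain ⟨S, s1, s2⟩ := exists_invariant_sylow hBM (hk ▸ (hM.pow_right k).symm) (.inl inferInstance) q
  have qp : q ≠ p := fun e => hp.out.coprime_iff_not_dvd.1 hM.symm (e ▸ d)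
  obtain ⟨Q, ⟨a, b, c⟩, hm⟩ := exists_minimal_of_wellFoundedLT (fun Q : Subgroup G => Q ≤ S ∧ B ≤ N(Q) ∧ ⁅Q, A⁆ ≠ ⊥)
    ⟨S, le_rfl, s2, mt cent_of_comm_eq_bot (hS S s1 s2)⟩
  obtain ⟨j, hj⟩ := (hB.to_le hAB).exists_card_eq
  obtain ⟨m1, m2, m3, m4, -⟩ := minimal_action (s1.pgroup.to_le a) b hAB hA
    (hj ▸ ((Nat.coprime_primes hp.out hq.out).2 qp.symm).pow_left j) c fun U l n => by
      by_contra e; exact l.not_ge (hm ⟨l.le.trans a, n, e⟩ l.le)
  exact ⟨q, hq.out, qp, Q, a.trans s1.le, s1.pgroup.to_le a, b, by rintro rfl; exact c (commutator_bot_left _), m1, m2, m4, m3⟩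

theorem cent1_le_of_ne_one [hp : Fact p.Prime] {x z : G} {n : ℕ} (hx : orderOf x = p ^ (n + 1)) (hz : z ∈ zpowers x)
    (h1 : z ≠ 1) : x ^ p ^ n ∈ zpowers z := by
  obtain ⟨j, rfl⟩ := mem_powers_iff_mem_zpowers.2 hz
  simp only at h1 ⊢
  rw [Ne, ← orderOf_dvd_iff_pow_eq_one, hx] at h1
  obtain ⟨i, -, e⟩ := (Nat.dvd_prime_pow hp.out).1 (Nat.gcd_dvd_right j (p ^ (n + 1)))
  have l : i ≤ n := by
    by_contra! l
    exact h1 ((pow_dvd_pow p l).trans (e ▸ Nat.gcd_dvd_left _ _))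
  obtain ⟨d, rfl⟩ := Nat.exists_eq_add_of_le l
  rw [pow_add, pow_mul]
  refine pow_mem ?_ _
  rw [← e, ← hx, ← zpow_natCast x (Nat.gcd _ _), Nat.gcd_eq_gcd_ab, zpow_add, zpow_mul, zpow_mul, zpow_natCast, zpow_natCast,
    pow_orderOf_eq_one, one_zpow, mul_one]
  exact zpow_mem_zpowers ..

theorem HH.of [hp : Fact p.Prime] {Q : Subgroup G} {x : G} {n : ℕ} (hx : orderOf x = p ^ (n + 1)) (hn : x ∈ N(Q))
    (hc : (Nat.card Q).Coprime p) (h2 : ⁅Q, Q⁆ ≤ C(Q)) (hf : Q ⊓ C(zpowers (x ^ p ^ n)) ≤ ⁅Q, Q⁆) : HH Q x :=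
  ⟨hn, hx ▸ (hc.pow_right _).symm, h2, fun z hz h1 => le_trans (inf_le_inf_left _ ((centralizer_zpowers_eq z).ge.trans
    (cent_anti (zpowers_le.2 (cent1_le_of_ne_one hx hz h1))))) hf⟩

theorem cast_ne_zero_of_coprime [hp : Fact p.Prime] [CharP F p] {n : ℕ} (h : n.Coprime p) : (n : F) ≠ 0 :=
  fun e => hp.out.coprime_iff_not_dvd.1 h.symm ((CharP.cast_eq_zero_iff F p n).1 e)

theorem EX.pow {Q : Subgroup G} {z : G} {q : ℕ} (hq : q.Prime) (hQ : IsPGroup q Q) (h : EX Q z) :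
    ∃ m, 1 ≤ m ∧ orderOf z - 1 = q ^ m := by
  obtain ⟨K, Z, -, -, c, d⟩ := h
  have := Fact.mk hq
  obtain ⟨k, hk⟩ := hQ.exists_card_eq
  obtain ⟨m, -, e⟩ := (Nat.dvd_prime_pow hq).1 ((dvd_pow_self _ two_ne_zero).trans (c ▸ hk ▸ relIndex_dvd_card Z Q))
  refine ⟨m, Nat.pos_of_ne_zero fun e' => ?_, e⟩
  rw [e', pow_zero] at e
  omega

theorem order_pow_data [hp : Fact p.Prime] {x : G} {n k : ℕ} (hx : orderOf x = p ^ n) (hk : k ∣ orderOf x) :
    ∃ m ≤ n, k = p ^ (n - m) ∧ orderOf (x ^ k) = p ^ m := by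
  obtain ⟨i, l, rfl⟩ := (Nat.dvd_prime_pow hp.out).1 (hx ▸ hk)
  exact ⟨n - i, Nat.sub_le _ _, by rw [Nat.sub_sub_self l], by
    rw [orderOf_pow_of_dvd (pow_ne_zero _ hp.out.ne_zero) hk, hx, Nat.pow_div l hp.out.pos]⟩

/-- Hall–Higman Theorem B. -/
theorem thmB [hp : Fact p.Prime] [CharP F p] [Nontrivial V] (hρ : Function.Injective ρ) (hs : IsPSolvable p G) (h0 : pCore p G = ⊥)
    {x : G} {n r : ℕ} (hx : orderOf x = p ^ n) (h : Dg (ρ x) r) : p ^ n ≤ r ∨ ∃ n₀ q m : ℕ, 1 ≤ n₀ ∧ n₀ ≤ n ∧ q.Prime ∧ q ≠ p ∧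
      1 ≤ m ∧ p ^ n₀ - 1 = q ^ m ∧ (∀ Q : Subgroup G, IsSylowIn q Q ⊤ → ¬ Q ≤ C(Q)) ∧ p ^ (n - n₀) * (p ^ n₀ - 1) ≤ r := by
  cases n with
  | zero => exact .inl h.pos
  | succ n =>
  have hX : IsPGroup p (zpowers x) := .of_card ((Nat.card_zpowers x).trans hx)
  have y1 : x ^ p ^ n ≠ 1 := pow_ne_one_of_lt_orderOf (pow_ne_zero _ hp.out.ne_zero) (hx ▸ Nat.pow_lt_pow_succ hp.out.one_lt)
  have l := zpowers_le.2 (npow_mem_zpowers x (p ^ n))
  obtain ⟨q, hq, qp, Q, a, b, c, d, -, e, f, -⟩ := exists_special (M := pPrimeCore p G) hX l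
    (le_norm_of_cent (zpowers_le.2 (cent_anti l (le_centralizer (zpowers x) (mem_zpowers x))))) (coprime_card_pPrimeCore p G)
    le_normalizer_of_normal fun e => y1 (by
      have := IsPSolvable.centralizer_pPrimeCore_le hs h0 (cent_symm e (mem_zpowers _))
      obtain ⟨j, hj⟩ := (hX.to_le l).exists_card_eq
      rw [← orderOf_eq_one_iff, ← Nat.card_zpowers]
      exact Nat.eq_one_of_dvd_coprimes (hj ▸ (coprime_card_pPrimeCore p G).pow_right j) (card_dvd_of_le (zpowers_le.2 this)) dvd_rfl)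
  have cq := (coprime_card_pPrimeCore p G).coprime_dvd_left (card_dvd_of_le a)
  rcases hh_field (HH.of hx (c (mem_zpowers x)) cq f e.le) (cast_ne_zero_of_coprime cq)
    (fun k => d (eq_bot_iff.2 fun g hg => hρ ((k hg).trans (map_one ρ).symm))) h with k | ⟨k, k1, k2, k3⟩
  · exact .inl (hx ▸ k)
  obtain ⟨m, m1, rfl, m2⟩ := order_pow_data hx k1
  obtain ⟨j, j1, j2⟩ := k2.pow hq b
  have := Fact.mk hq
  rw [m2] at j2 k3
  refine .inr ⟨m, q, j, Nat.pos_of_ne_zero fun e => ?_, m1, hq, qp, j1, j2, fun S hS e => k2.not_comm ?_, k3⟩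
  · rw [e] at j2; exact (pow_pos hq.pos j).ne j2
  · obtain ⟨g, -, hg⟩ := hS.exists_cj_le b le_top
    intro u hu w hw
    have := e (hg (conj_mem_cj g hu)) _ (hg (conj_mem_cj g hw))
    simpa using this

theorem dg_geom {t : End F V} {k : ℕ} (hk : k ≠ 0) (h : ∑ i ∈ Finset.range k, t ^ i = 0) : Dg t (k - 1) :=
  ⟨_, (monic_geom_sum_X hk).ne_zero, natDegree_sum_le_of_forall_le _ _ fun i hi =>
    (natDegree_X_pow_le i).trans (Nat.le_sub_one_of_lt (Finset.mem_range.1 hi)), by simpa using h⟩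

theorem dg_pow {t : End F V} {k : ℕ} (h : (t - 1) ^ k = 0) : Dg t k :=
  ⟨(X - C 1) ^ k, pow_ne_zero _ (X_sub_C_ne_zero 1), by rw [natDegree_pow, natDegree_X_sub_C, mul_one], by simpa using h⟩

theorem exists_md [Fact p.Prime] {H H₀ : Subgroup G} [H.Normal] [H₀.Normal] (der : ⁅H, H⁆ ≤ H₀) (pw : ∀ x ∈ H, x ^ p ∈ H₀) :
    ∃ (V : Type u) (_ : AddCommGroup V) (_ : Module (ZMod p) V) (_ : Finite V) (f : G → V) (ρ : Representation (ZMod p) G V),
      (∀ x ∈ H, ∀ y ∈ H, f (x * y) = f x + f y) ∧ (∀ v, ∃ x ∈ H, f x = v) ∧ (∀ x ∈ H, f x = 0 ↔ x ∈ H₀) ∧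
      ∀ g, ∀ x ∈ H, f (g * x * g⁻¹) = ρ g (f x) := by
  classical
  let π := QuotientGroup.mk' H₀
  have e1 : ∀ x, π x = 1 ↔ x ∈ H₀ := fun x => QuotientGroup.eq_one_iff x
  have : (H.map π).Normal := Normal.map ‹_› π (QuotientGroup.mk'_surjective H₀)
  letI : CommGroup (H.map π) := { (inferInstance : Group (H.map π)) with
    mul_comm := by
      rintro ⟨_, x, hx, rfl⟩ ⟨_, y, hy, rfl⟩
      refine Subtype.ext (commutatorElement_eq_one_iff_mul_comm.1 ?_)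
      change ⁅π x, π y⁆ = 1
      rw [← map_commutatorElement, e1]; exact der (commutator_mem_commutator hx hy) }
  letI : Module (ZMod p) (Additive (H.map π)) := AddCommGroup.zmodModule (n := p) (by
    rintro ⟨_, x, hx, rfl⟩
    refine congrArg Additive.ofMul (Subtype.ext ?_)
    change π x ^ p = 1
    rw [← map_pow, e1]; exact pw x hx)
  let φ : G →* MulAut (H.map π) := MulAut.conjNormal.comp π
  have cH := fun g x (hx : x ∈ H) => ‹H.Normal›.conj_mem x hx g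
  refine ⟨Additive (H.map π), inferInstance, inferInstance, inferInstance,
    fun x => if hx : x ∈ H then .ofMul ⟨π x, x, hx, rfl⟩ else 0, zmodRep p (fun g => MonoidHom.toAdditive (φ g).toMonoidHom)
      (fun v => by simp) (fun a b v => by simp), fun x hx y hy => ?_, ?_, fun x hx => ?_, fun g x hx => ?_⟩
  · simp only [dif_pos hx, dif_pos hy, dif_pos (mul_mem hx hy)]; rfl
  · rintro ⟨_, x, hx, rfl⟩
    exact ⟨x, hx, dif_pos hx⟩
  · simp only [dif_pos hx]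
    exact Subtype.ext_iff.trans (e1 x)
  · simp only [dif_pos hx, dif_pos (cH g x hx)]; rfl

theorem pCore_quot_pPrimePCore [Fact p.Prime] : pCore p (G ⧸ pPrimePCore p G) = ⊥ := by
  set π := QuotientGroup.mk' (pPrimePCore p G)
  have : (pCore p (G ⧸ pPrimePCore p G)).comap π ≤ pPrimePCore p G := CfsgH1.le_pPrimePCore (by
    rintro ⟨_, g, hg, rfl⟩
    obtain ⟨k, hk⟩ := CfsgH1.isPGroup_pCore p _ ⟨π g, hg⟩
    have e : g ^ p ^ k ∈ pPrimePCore p G := (QuotientGroup.eq_one_iff (g ^ p ^ k)).1 (congrArg Subtype.val hk)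
    obtain ⟨j, hj⟩ := CfsgH1.isPGroup_pCore p _ ⟨_, e⟩
    exact ⟨k + j, Subtype.ext (by simpa [pow_add, pow_mul] using congrArg Subtype.val hj)⟩)
  rw [eq_bot_iff, ← map_comap_eq_self_of_surjective (QuotientGroup.mk'_surjective _) (pCore p _), le_bot_iff, map_mk'_eq_bot_iff]
  exact this

/-- The faithful action of `G / O_{p',p}(G)` on the Frattini quotient of `O_{p',p}(G) / O_{p'}(G)`. -/
theorem exists_lin [Fact p.Prime] (h : IsPSolvable p G) : ∃ (V : Type u) (_ : AddCommGroup V) (_ : Module (ZMod p) V) (_ : Finite V)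
    (f : G → V) (ρ : Representation (ZMod p) (G ⧸ pPrimePCore p G) V), Function.Injective ρ ∧ f 1 = 0 ∧
      (∀ x ∈ pPrimePCore p G, ∀ y ∈ pPrimePCore p G, f (x * y) = f x + f y) ∧
      (∀ S, IsSylowIn p S ⊤ → ∀ v, ∃ x ∈ S ⊓ pPrimePCore p G, f x = v) ∧
      ∀ g : G, ∀ x ∈ pPrimePCore p G, f (g * x * g⁻¹) = ρ g (f x) := by
  set π := QuotientGroup.mk' (pPrimeCore p G)
  set P := pCore p (G ⧸ pPrimeCore p G)
  have hP := CfsgH1.isPGroup_pCore p (G ⧸ pPrimeCore p G)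
  obtain ⟨V, _, _, _, f, ρ, a, b, c, d⟩ := exists_md (p := p) (H := pPrimePCore p G) (H₀ := ((frattini P).map P.subtype).comap π)
    (map_le_iff_le_comap.1 (by
      rw [Subgroup.map_commutator, map_pPrimePCore]
      exact (map_subtype_commutator _).ge.trans (map_mono (commutator_le_frattini hP))))
    fun x hx => ⟨_, pow_mem_frattini hP ⟨π x, hx⟩, by simp⟩
  have k : MonoidHom.ker ρ = pPrimePCore p G := by
    refine le_antisymm (CfsgH1.le_pPrimePCore (pg_of_res_le hP ((res_le_cent_of_comm_le_frattini hP le_normalizer_of_normal ?_).trans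
      (IsPSolvable.centralizer_pCore_le (IsPSolvable.quotient h _) (pPrimeCore_quotient_pPrimeCore p G))))) fun g hg => LinearMap.ext fun v => ?_
    · refine (commutator_mono (map_pPrimePCore p G).ge le_rfl).trans ?_
      rw [← Subgroup.map_commutator, map_le_iff_le_comap, commutator_le]
      intro x hx g hg
      have n := (pPrimePCore_normal p G).conj_mem _ (inv_mem hx) g
      rw [show ⁅x, g⁆ = x * (g * x⁻¹ * g⁻¹) by simp only [commutatorElement_def, mul_assoc], ← c _ (mul_mem hx n), a _ hx _ n,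
        d _ _ (inv_mem hx), MonoidHom.mem_ker.1 hg, End.one_apply, ← a _ hx _ (inv_mem hx), mul_inv_cancel, c _ (one_mem _)]
      exact one_mem _
    · obtain ⟨x, hx, rfl⟩ := b v
      rw [← d g x hx, a _ (mul_mem hg hx) _ (inv_mem hg), a _ hg _ hx, add_right_comm, ← a _ hg _ (inv_mem hg), mul_inv_cancel,
        (c _ (one_mem _)).2 (one_mem _), zero_add, End.one_apply]
  refine ⟨V, _, _, inferInstance, f, QuotientGroup.lift _ ρ k.ge, ?_, (c _ (one_mem _)).2 (one_mem _), a, fun S hS v => ?_, d⟩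
  · intro x y e
    obtain ⟨x, rfl⟩ := QuotientGroup.mk_surjective x
    obtain ⟨y, rfl⟩ := QuotientGroup.mk_surjective y
    refine QuotientGroup.eq.2 (k.le (MonoidHom.mem_ker.2 ?_))
    rw [map_mul, ← show ρ x = ρ y from e, ← map_mul, inv_mul_cancel, map_one]
  · obtain ⟨x, hx, rfl⟩ := b v
    obtain ⟨T, rfl⟩ := hS.of_top
    obtain ⟨s, hs, o, ho, rfl⟩ := mem_sup_of_normal_right.1 (pPrimePCore_le_sylow_sup T hx)
    have o1 := pPrimeCore_le_pPrimePCore ho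
    have s1 := (mul_mem_cancel_right o1).1 hx
    refine ⟨s, ⟨hs, s1⟩, ?_⟩
    rw [a _ s1 _ o1, (c o o1).2 (mem_comap.2 ((show π o = 1 from (QuotientGroup.eq_one_iff o).2 ho) ▸ one_mem _)), add_zero]

end CfsgH9
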