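import Cfsg.Agent.H2.PGroup

/-! Linear algebra for groups with three automorphism orbits. -/

set_option autoImplicit false
set_option linter.unusedSectionVars false

namespace CfsgH9.AO

open Polynomial

section
variable {p q : ℕ} [hp : Fact p.Prime] [hq : Fact q.Prime] {V : Type*} [AddCommGroup V] [Module (ZMod p) V]

theorem map_aeval {T S : Module.End (ZMod p) V} (Ψ : V →+ V) (h : ∀ x, Ψ (T x) = S (Ψ x)) (a : (ZMod p)[X]) (x : V) :
    Ψ (aeval T a x) = aeval S a (Ψ x) := by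
  have pw : ∀ (n : ℕ) x, Ψ ((T ^ n) x) = (S ^ n) (Ψ x) := fun n => by
    induction n with
    | zero => simp
    | succ n ih => intro x; rw [pow_succ, pow_succ, Module.End.mul_apply, Module.End.mul_apply, ih, h]
  induction a using Polynomial.induction_on' with
  | add a b ha hb => simp [ha, hb]
  | monomial n c => simp [aeval_monomial, ZMod.map_smul, pw]

theorem prim_root [Finite V] {T : Module.End (ZMod p) V} (hT : T ^ q = 1) (h1 : T ≠ 1)
    (htr : ∀ v w : V, v ≠ 0 → w ≠ 0 → ∃ Ψ : V ≃+ V, Ψ v = w ∧ ∃ j : ℕ, ∀ x, Ψ (T x) = (T ^ j) (Ψ x))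
    (hi : ∀ i : ℕ, ¬ q ∣ i → ∃ Φ : V ≃+ V, ∀ x, Φ (T x) = (T ^ i) (Φ x)) : orderOf (p : ZMod q) = q - 1 := by
  set C : V → Set V := fun v => {x | ∃ a : (ZMod p)[X], aeval T a v = x} with hC
  have le : ∀ v w, v ≠ 0 → w ≠ 0 → (C v).ncard ≤ (C w).ncard := fun v w hv hw => by
    obtain ⟨Ψ, rfl, j, h⟩ := htr v w hv hw
    refine Set.ncard_le_ncard_of_injOn Ψ ?_ Ψ.injective.injOn
    rintro _ ⟨a, rfl⟩
    exact ⟨a.comp (X ^ j), by rw [aeval_comp, map_pow, aeval_X]; exact (map_aeval Ψ.toAddMonoidHom h a v).symm⟩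
  have eq : ∀ u v, u ≠ 0 → u ∈ C v → C u = C v := by
    rintro _ v hu ⟨b, rfl⟩
    refine Set.eq_of_subset_of_ncard_le ?_ (le _ _ (fun e => hu (by simp [e])) hu)
    rintro _ ⟨a, rfl⟩
    exact ⟨a * b, by simp⟩
  have self : ∀ v, v ∈ C v := fun v => ⟨1, by simp⟩
  have dom : ∀ (a : (ZMod p)[X]) v, v ≠ 0 → aeval T a v = 0 → aeval T a = 0 := fun a v hv h => by
    ext w
    by_contra hw
    have hw' : aeval T a w ≠ 0 := hw
    have e1 := eq _ w hw' ⟨a, rfl⟩
    have e2 := eq _ (v + w) hw' ⟨a, by simp [h]⟩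
    obtain ⟨b, hb⟩ : v + w ∈ C w := e1 ▸ e2 ▸ self _
    have e3 := eq v w hv ⟨b - 1, by simp [hb]⟩
    obtain ⟨c, rfl⟩ : w ∈ C v := e3 ▸ self w
    exact hw' (by rw [← Module.End.mul_apply, ← map_mul, mul_comm, map_mul, Module.End.mul_apply, h, map_zero])
  have : Module.Finite (ZMod p) V := Module.Finite.of_finite
  have hint : IsIntegral (ZMod p) T := Algebra.IsIntegral.isIntegral T
  have : Nontrivial (Module.End (ZMod p) V) := ⟨_, _, h1⟩
  have pr : Prime (minpoly (ZMod p) T) := ⟨minpoly.ne_zero hint, minpoly.not_isUnit _ _, fun a b h => by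
    simp only [minpoly.dvd_iff, map_mul] at h ⊢
    refine or_iff_not_imp_left.2 fun ha => LinearMap.ext fun w => by_contra fun hw => ha (dom a _ hw ?_)
    rw [← Module.End.mul_apply, h, LinearMap.zero_apply]⟩
  set f := minpoly (ZMod p) T
  have : Fact (Irreducible f) := ⟨pr.irreducible⟩
  have : Module.Finite (ZMod p) (AdjoinRoot f) := (minpoly.monic hint).finite_adjoinRoot
  have : Finite (AdjoinRoot f) := Module.finite_of_finite (ZMod p)
  have z : ∀ a : (ZMod p)[X], aeval (AdjoinRoot.root f) a = 0 ↔ aeval T a = 0 := fun a => by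
    rw [AdjoinRoot.aeval_eq, AdjoinRoot.mk_eq_zero, minpoly.dvd_iff]
  have αq : AdjoinRoot.root f ^ q = 1 := by
    have := (z (X ^ q - 1)).2 (by simp [hT])
    rwa [map_sub, map_pow, aeval_X, map_one, sub_eq_zero] at this
  have oα : orderOf (AdjoinRoot.root f) = q := orderOf_eq_prime αq fun e => h1 (by
    have := (z (X - 1)).1 (by rw [map_sub, aeval_X, map_one, e, sub_self])
    rwa [map_sub, aeval_X, map_one, sub_eq_zero] at this)
  have key : ∀ u : ZMod q, u ≠ 0 → ∃ k : ℕ, (p : ZMod q) ^ k = u := fun u hu => by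
    obtain ⟨Φ, h⟩ := hi u.val (by rwa [← ZMod.natCast_eq_zero_iff, ZMod.natCast_zmod_val])
    have h0 : aeval (T ^ u.val) f = 0 := LinearMap.ext fun x => by
      obtain ⟨x, rfl⟩ := Φ.surjective x
      exact (map_aeval Φ.toAddMonoidHom h f x).symm.trans (by simp [f])
    have h2 : aeval (AdjoinRoot.root f ^ u.val) f = 0 := by
      have := (z (f.comp (X ^ u.val))).2 (by rwa [aeval_comp, map_pow, aeval_X])
      rwa [aeval_comp, map_pow, aeval_X] at this
    let σ : AdjoinRoot f →ₐ[ZMod p] AdjoinRoot f := AdjoinRoot.liftAlgHom f (Algebra.ofId _ _) _ h2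
    obtain ⟨k, hk⟩ := FiniteField.exists_forall_apply_eq_pow (ZMod p) p (AdjoinRoot f)
      (AlgEquiv.ofBijective σ (Finite.injective_iff_bijective.1 σ.toRingHom.injective))
    have := hk (AdjoinRoot.root f)
    rw [AlgEquiv.ofBijective_apply, show σ _ = _ from AdjoinRoot.liftAlgHom_root ..,
      (isOfFinOrder_iff_pow_eq_one.2 ⟨q, hq.out.pos, αq⟩).pow_eq_pow_iff_modEq, oα, Nat.card_zmod,
      ← ZMod.natCast_eq_natCast_iff, ZMod.natCast_zmod_val] at this
    exact ⟨k, by rw [this]; simp⟩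
  by_cases p0 : (p : ZMod q) = 0
  · have pq : q = p := (Nat.prime_dvd_prime_iff_eq hq.out hp.out).1 ((ZMod.natCast_eq_zero_iff _ _).1 p0)
    subst pq
    have : (AdjoinRoot.root f - 1) ^ q = 0 := by
      have : CharP (AdjoinRoot f) q := charP_of_injective_algebraMap (algebraMap (ZMod q) _).injective q
      rw [sub_pow_char, αq, one_pow, sub_self]
    have e := sub_eq_zero.1 (pow_eq_zero_iff hq.out.ne_zero |>.1 this)
    rw [e, orderOf_one] at oα
    exact absurd oα hq.out.one_lt.ne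
  have t : Subgroup.zpowers (Units.mk0 _ p0) = ⊤ := (Subgroup.eq_top_iff' _).2 fun u => by
    obtain ⟨k, hk⟩ := key u u.ne_zero
    exact ⟨k, Units.ext (by simpa using hk)⟩
  have := Nat.card_zpowers (Units.mk0 _ p0)
  rw [t, Subgroup.card_top, Nat.card_units, Nat.card_zmod, ← orderOf_units] at this
  exact this.symm

theorem exists_equiv {K W : Type*} [Field K] [AddCommGroup W] [Module K W] [Finite W] {v w : W} (hv : v ≠ 0) (hw : w ≠ 0) :
    ∃ Ψ : W ≃ₗ[K] W, Ψ v = w := by
  obtain ⟨f, h1, h2⟩ : ∃ f : Module.Dual K W, f v ≠ 0 ∧ f w ≠ 0 := by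
    obtain ⟨f, hf⟩ := not_forall.1 (mt (Module.forall_dual_apply_eq_zero_iff K v).1 hv)
    obtain ⟨g, hg⟩ := not_forall.1 (mt (Module.forall_dual_apply_eq_zero_iff K w).1 hw)
    by_cases a : f w = 0
    · by_cases b : g v = 0
      · exact ⟨f + g, by simpa [b], by simpa [a]⟩
      · exact ⟨g, b, hg⟩
    · exact ⟨f, hf, a⟩
  refine ⟨LinearEquiv.ofBijective (LinearMap.id + ((f v)⁻¹ • f).smulRight (w - v))
    (Finite.injective_iff_bijective.1 ((injective_iff_map_eq_zero _).2 fun x hx => ?_)), by simp [h1]⟩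
  have hx' : x + ((f v)⁻¹ * f x) • (w - v) = 0 := hx
  have := congrArg f hx'
  rw [map_add, map_smul, map_sub, map_zero, smul_eq_mul] at this
  have e : f x = 0 := by
    field_simp at this
    exact (mul_eq_zero.1 (by linear_combination this : f x * f w = 0)).resolve_right h2
  simpa [e] using hx'

theorem of_prim_root [Finite V] {T : Module.End (ZMod p) V} (hT : T ^ q = 1) (h1 : ∀ x, T x = x → x = 0) (hpq : p ≠ q)
    (ho : orderOf (p : ZMod q) = q - 1) :
    (∀ v w : V, v ≠ 0 → w ≠ 0 → ∃ Ψ : V ≃+ V, Ψ v = w ∧ ∀ x, Ψ (T x) = T (Ψ x)) ∧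
      ∃ Φ : V ≃+ V, ∀ x, Φ (T x) = (T ^ p) (Φ x) := by
  set f := cyclotomic q (ZMod p)
  have nd : ¬ p ∣ q := fun h => hpq ((Nat.prime_dvd_prime_iff_eq hp.out hq.out).1 h)
  have : Fact (Irreducible f) := ⟨ZMod.irreducible_of_dvd_cyclotomic_of_natDegree nd dvd_rfl (by
    rw [natDegree_cyclotomic, Nat.totient_prime hq.out, ← ho, ← orderOf_units, ZMod.coe_unitOfCoprime])⟩
  have h0 : aeval T f = 0 := LinearMap.ext fun x => h1 _ (by
    have := congrArg (aeval T) (cyclotomic_prime_mul_X_sub_one (ZMod p) q)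
    rw [mul_comm, map_mul, map_sub, map_sub, map_pow, aeval_X, map_one, hT, sub_self] at this
    simpa [sub_eq_zero] using LinearMap.congr_fun this x)
  let ρ : AdjoinRoot f →+* Module.End (ZMod p) V := Ideal.Quotient.lift _ (aeval T).toRingHom fun a ha => by
    obtain ⟨b, rfl⟩ := Ideal.mem_span_singleton'.1 ha
    simp [h0]
  letI : Module (AdjoinRoot f) V := Module.compHom V ρ
  have sm : ∀ x : V, AdjoinRoot.root f • x = T x := fun x => LinearMap.congr_fun (aeval_X T) x
  have sm' : ∀ (n : ℕ) (x : V), AdjoinRoot.root f ^ n • x = (T ^ n) x := fun n x => by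
    change ρ _ x = _
    rw [map_pow]
    exact congrArg (fun S : Module.End (ZMod p) V => (S ^ n) x) (aeval_X T)
  refine ⟨fun v w hv hw => ?_, ?_⟩
  · obtain ⟨Ψ, h⟩ := exists_equiv (K := AdjoinRoot f) hv hw
    exact ⟨Ψ.toAddEquiv, h, fun x => by rw [← sm, ← sm]; exact Ψ.map_smul _ _⟩
  have : Module.Finite (AdjoinRoot f) V := Module.Finite.of_finite
  have : CharP (AdjoinRoot f) p := charP_of_injective_algebraMap (algebraMap (ZMod p) _).injective p
  have : Module.Finite (ZMod p) (AdjoinRoot f) := (cyclotomic.monic q _).finite_adjoinRoot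
  have : Finite (AdjoinRoot f) := Module.finite_of_finite (ZMod p)
  let e := (Module.finBasis (AdjoinRoot f) V).equivFun
  refine ⟨e.toAddEquiv.trans ((AddEquiv.piCongrRight fun _ => (frobeniusEquiv (AdjoinRoot f) p).toAddEquiv).trans
    e.symm.toAddEquiv), fun x => ?_⟩
  rw [← sm, ← sm']
  change e.symm (fun i => (e (AdjoinRoot.root f • x) i) ^ p) = _ • e.symm (fun i => (e x i) ^ p)
  rw [← map_smul, map_smul]
  exact congrArg _ (funext fun i => mul_pow _ _ _)

end

open Subgroup Cfsg CfsgH2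
open scoped IsMulCommutative

variable {G : Type*} [Group G] [Finite G] {p q : ℕ} [hp : Fact p.Prime] [hq : Fact q.Prime]

theorem exists_rho (P : Subgroup G) [P.Normal] [IsMulCommutative P] [Module (ZMod p) (Additive P)] :
    ∃ ρ : G →* Module.End (ZMod p) (Additive P), ∀ g x, ((ρ g x).toMul : G) = g * x.toMul * g⁻¹ :=
  ⟨{ toFun := fun g => (MonoidHom.toAdditive (MulAut.conjNormal g : MulAut P).toMonoidHom).toZModLinearMap p
     map_one' := by ext x; simp
     map_mul' := fun a b => by ext x; simp }, fun _ _ => rfl⟩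

theorem exists_aut {P : Subgroup G} [P.Normal] {y : G} (hy : orderOf y = q) (hc : P.IsComplement' (zpowers y))
    (Ψ : P ≃* P) {j : ℕ} (hj : ¬ q ∣ j) (h : ∀ x : P, (Ψ (MulAut.conjNormal y x) : G) = y ^ j * Ψ x * (y ^ j)⁻¹) :
    ∃ φ : MulAut G, (∀ x : P, φ x = Ψ x) ∧ φ y = y ^ j := by
  have h' : ∀ (k : ℕ) (x : P), (Ψ (MulAut.conjNormal (y ^ k) x) : G) = (y ^ k) ^ j * Ψ x * ((y ^ k) ^ j)⁻¹ := fun k => by
    induction k with
    | zero => simp
    | succ k ih =>
      intro x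
      rw [pow_succ', map_mul, MulAut.mul_apply, h, ih, (Commute.self_pow y k).mul_pow]
      group
  let f : G →* G := (SemidirectProduct.lift (P.subtype.comp Ψ.toMonoidHom) ((zpowers y).subtype.comp (powMonoidHom j))
    fun ⟨g, hg⟩ => by
      obtain ⟨k, rfl⟩ := mem_powers_iff_mem_zpowers.2 hg
      exact MonoidHom.ext fun x => h' k x).comp (SemidirectProduct.mulEquivSubgroup hc).symm.toMonoidHom
  have f1 : ∀ x : P, f x = Ψ x := fun x => by
    have : (SemidirectProduct.mulEquivSubgroup hc).symm x = SemidirectProduct.inl x :=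
      (MulEquiv.symm_apply_eq _).2 (by simp)
    simp [f, this]
  have f2 : f y = y ^ j := by
    have : (SemidirectProduct.mulEquivSubgroup hc).symm y = SemidirectProduct.inr ⟨y, mem_zpowers y⟩ :=
      (MulEquiv.symm_apply_eq _).2 (by simp)
    simp [f, this]
  have : f.range = ⊤ := by
    rw [eq_top_iff, ← hc.sup_eq_top]
    refine sup_le (fun x hx => ⟨Ψ.symm ⟨x, hx⟩, by rw [f1]; simp⟩) (zpowers_le.2 ?_)
    obtain ⟨k, hk⟩ := exists_pow_eq_self_of_coprime (x := y) (n := j)
      (hy ▸ ((Nat.Prime.coprime_iff_not_dvd hq.out).2 hj).symm)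
    exact ⟨y ^ k, by rw [map_pow, f2, hk]⟩
  exact ⟨MulEquiv.ofBijective f (Finite.surjective_iff_bijective.1 (MonoidHom.range_eq_top.1 this)), f1, f2⟩

end CfsgH9.AO
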