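import Cfsg.Agent.H9.AO1
import Cfsg.Agent.H4.Ord2
import Cfsg.Agent.H3.Burnside
import Cfsg.Agent.H1.Generation
import Cfsg.Agent.H2.PGroup2

/-! Groups with three automorphism orbits. -/

set_option autoImplicit false
set_option linter.unusedSectionVars false

namespace CfsgH9.AO

open Subgroup Cfsg CfsgH2
open scoped IsMulCommutative

variable {G : Type*} [Group G] [Finite G] {p q : ℕ} [hp : Fact p.Prime] [hq : Fact q.Prime]

theorem index_pow (H : ∀ g : G, g = 1 ∨ orderOf g = p ∨ orderOf g = q) (P : Sylow p G) :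
    ∃ b, (P : Subgroup G).index = q ^ b :=
  ⟨_, Nat.eq_prime_pow_of_unique_prime_dvd index_ne_zero_of_finite fun {r} hr h => by
    have : Fact r.Prime := ⟨hr⟩
    obtain ⟨g, hg⟩ := exists_prime_orderOf_dvd_card' r (h.trans (P : Subgroup G).index_dvd_card)
    rcases H g with rfl | e | e
    · exact absurd (orderOf_one.symm.trans hg) hr.one_lt.ne
    · exact absurd ((hg.symm.trans e) ▸ h) P.not_dvd_index
    · exact hg ▸ e⟩

theorem exists_mul_pow {P : Subgroup G} {y : G} (hc : P.IsComplement' (zpowers y)) (g : G) :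
    ∃ u ∈ P, ∃ j : ℕ, g = u * y ^ j := by
  obtain ⟨⟨u, z, hz⟩, rfl⟩ := hc.2 g
  obtain ⟨j, rfl⟩ := mem_powers_iff_mem_zpowers.2 hz
  exact ⟨u, u.2, j, rfl⟩

theorem fwd (hpq : p ≠ q) (H : ∀ g : G, g = 1 ∨ orderOf g = p ∨ orderOf g = q)
    (tr : ∀ g h : G, orderOf g = orderOf h → ∃ φ : MulAut G, φ g = h) {y : G} (hy : orderOf y = q)
    {D : Subgroup G} [D.Characteristic] [hD : IsMulCommutative D] {v : G} (hv : v ∈ D) (ov : orderOf v = p) :
    ∃ n, 1 ≤ n ∧ Nat.card G = p ^ n * q ∧ (∀ P : Sylow p G, (P : Subgroup G).Normal ∧ IsElementaryAbelian p (P : Subgroup G)) ∧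
      orderOf (p : ZMod q) = q - 1 ∧ ∀ x y : G, orderOf x = q → orderOf y = p → x * y * x⁻¹ ≠ y := by
  have p1 := hp.out.one_lt
  have q1 := hq.out.one_lt
  have co : q.Coprime p := (Nat.coprime_primes hq.out hp.out).2 hpq.symm
  have nc : ∀ x y : G, orderOf x = q → orderOf y = p → x * y * x⁻¹ ≠ y := fun x y hx hy e => by
    have := (show Commute x y from mul_inv_eq_iff_eq_mul.1 e).orderOf_mul_eq_mul_orderOf_of_coprime (hx ▸ hy ▸ co)
    rw [hx, hy] at this
    rcases H (x * y) with k | k | k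
    · rw [k, orderOf_one] at this; nlinarith
    · nlinarith
    · nlinarith
  have m1 : ∀ x, orderOf x = p → x ∈ D := fun x hx => by
    obtain ⟨φ, rfl⟩ := tr v x (ov.trans hx.symm)
    exact characteristic_iff_le_comap.1 inferInstance φ hv
  have m2 : ∀ x ∈ D, x ≠ 1 → orderOf x = p := fun x hx h1 => ((H x).resolve_left h1).resolve_right fun e =>
    nc x v e ov (by rw [mul_comm_of_isMulCommutative hD hx hv, mul_inv_cancel_right])
  have ex : ∀ x ∈ D, x ^ p = 1 := fun x hx => (eq_or_ne x 1).elim (fun e => by simp [e]) fun e =>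
    m2 x hx e ▸ pow_orderOf_eq_one x
  have pD : IsPGroup p D := fun x => ⟨1, Subtype.ext (by simpa using ex x x.2)⟩
  have sy : ∀ P : Sylow p G, D = P := fun P => P.3 pD fun x hx => by
    rcases H x with rfl | e | e
    · exact one_mem _
    · exact m1 x e
    · obtain ⟨k, hk⟩ := exists_orderOf_eq_pow P.2 hx
      exact absurd ((Nat.Prime.eq_one_of_pow (hk ▸ e ▸ hq.out)) ▸ hk.symm.trans e) (by simpa using hpq)
  obtain ⟨P⟩ : Nonempty (Sylow p G) := inferInstance
  obtain ⟨b, hb⟩ := index_pow H P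
  obtain ⟨n, hn⟩ := IsPGroup.iff_card.1 pD
  have cG := D.card_mul_index
  rw [hn, sy P, hb] at cG
  have D0 : D ≠ ⊥ := fun e => p1.ne (by rw [← ov, mem_bot.1 (e.le hv), orderOf_one])
  have b1 : b = 1 := by
    have : b ≠ 0 := fun e => by
      have := orderOf_dvd_natCard y
      rw [hy, ← cG, e, pow_zero, mul_one] at this
      exact q1.ne' (co.eq_one_of_dvd (hq.out.dvd_of_dvd_pow this))
    by_contra h
    obtain ⟨A, hA⟩ := Sylow.exists_subgroup_card_pow_prime (G := G) q (n := 2)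
      (cG ▸ (pow_dvd_pow q (by omega)).mul_left _)
    have := isMulCommutative_of_card_le_sq (IsPGroup.of_card hA) hA.le
    have qa : ∀ a ∈ A, a ≠ 1 → orderOf a = q := fun a ha h1 => ((H a).resolve_left h1).resolve_left fun e => by
      have := (Subgroup.orderOf_dvd_natCard A ha)
      rw [e, hA] at this
      exact p1.ne' (co.symm.eq_one_of_dvd (hp.out.dvd_of_dvd_pow this))
    obtain ⟨a, rfl⟩ := isCyclic_iff_zpowers.1 (CfsgH1.isCyclic_of_fpf (A := A) (K := D) le_normalizer_of_normal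
      (by rw [hA, hn]; exact co.pow _ _) D0 fun a ha h1 => (eq_bot_iff_forall _).2 fun x hx => by_contra fun k =>
        nc a x (qa a ha h1) (m2 x hx.1 k) (by rw [← mem_centralizer_singleton_iff.1 hx.2, mul_inv_cancel_right]))
    rw [Nat.card_zpowers] at hA
    have := qa a (mem_zpowers a) fun e => by rw [e, orderOf_one] at hA; nlinarith
    nlinarith
  rw [b1, pow_one] at cG
  refine ⟨n, Nat.pos_of_ne_zero fun e => D0 (card_eq_one.1 (by rw [hn, e, pow_zero])), cG.symm,
    fun P => sy P ▸ ⟨inferInstance, hD, ex⟩, ?_, nc⟩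
  have hc : D.IsComplement' (zpowers y) := isComplement'_of_coprime (by rw [hn, Nat.card_zpowers, hy, cG])
    (by rw [hn, Nat.card_zpowers, hy]; exact co.symm.pow_left _)
  have : Module (ZMod p) (Additive D) := AddCommGroup.zmodModule fun x => Subtype.ext (ex _ x.toMul.2)
  obtain ⟨ρ, hρ⟩ := exists_rho (p := p) D
  have k : ∀ (φ : MulAut G) (u : G) (j : ℕ), u ∈ D → φ y = u * y ^ j → ∀ x, (MulAut.characteristic D φ).toAdditive (ρ y x) =
      (ρ y ^ j) ((MulAut.characteristic D φ).toAdditive x) := fun φ u j hu e x => by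
    refine Additive.toMul.injective (Subtype.ext ?_)
    have := mul_comm_of_isMulCommutative hD hu (ρ (y ^ j) ((MulAut.characteristic D φ).toAdditive x)).toMul.2
    rw [← map_pow]
    refine Eq.trans ?_ (mul_inv_eq_iff_eq_mul.2 this)
    change φ ((ρ y x).toMul : G) = _
    rw [hρ, hρ, map_mul, map_mul, map_inv, e]
    change _ = u * (y ^ j * φ _ * _) * _
    group
  refine prim_root (T := ρ y) (by rw [← map_pow, ← hy, pow_orderOf_eq_one, map_one])
    (fun e => nc y v hy ov (by simpa [e] using (hρ y (Additive.ofMul ⟨v, hv⟩)).symm)) (fun a b ha hb => ?_) fun i hi => ?_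
  · obtain ⟨φ, h⟩ := tr a.toMul b.toMul ((m2 _ a.toMul.2 fun e => ha (Subtype.ext e)).trans
      (m2 _ b.toMul.2 fun e => hb (Subtype.ext e)).symm)
    obtain ⟨u, hu, j, e⟩ := exists_mul_pow hc (φ y)
    exact ⟨_, Subtype.ext h, j, k φ u j hu e⟩
  · obtain ⟨φ, h⟩ := tr y (y ^ i) (Nat.Coprime.orderOf_pow (hy ▸ (Nat.Prime.coprime_iff_not_dvd hq.out).2 hi)).symm
    exact ⟨_, k φ 1 i (one_mem _) (by rw [h, one_mul])⟩

theorem bwd (hpq : p ≠ q) {n : ℕ} (hG : Nat.card G = p ^ n * q) {P : Sylow p G} [(P : Subgroup G).Normal]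
    (ea : IsElementaryAbelian p (P : Subgroup G)) (ho : orderOf (p : ZMod q) = q - 1)
    (nc : ∀ x y : G, orderOf x = q → orderOf y = p → x * y * x⁻¹ ≠ y) {v y : G} (hv : orderOf v = p) (hy : orderOf y = q)
    (g : G) : g = 1 ∨ (∃ φ : MulAut G, φ v = g) ∨ ∃ φ : MulAut G, φ y = g := by
  have co : q.Coprime p := (Nat.coprime_primes hq.out hp.out).2 hpq.symm
  have nd : ¬ q ∣ p := (Nat.Prime.coprime_iff_not_dvd hq.out).1 co
  have := ea.1
  have cP : Nat.card P = p ^ n := by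
    rw [P.card_eq_multiplicity, hG, Nat.factorization_mul (pow_ne_zero _ hp.out.ne_zero) hq.out.ne_zero,
      hp.out.factorization_pow, hq.out.factorization]
    simp [hpq]
  have hc : (P : Subgroup G).IsComplement' (zpowers y) := isComplement'_of_coprime (by rw [cP, Nat.card_zpowers, hy, hG])
    (by rw [cP, Nat.card_zpowers, hy]; exact co.symm.pow_left _)
  have fp : ∀ x, orderOf x = q → ∀ k ∈ P, x * k = k * x → k = 1 := fun x hx k hk e => by_contra fun h =>
    nc x k hx (orderOf_eq_prime (ea.2 k hk) h) (by rw [e, mul_inv_cancel_right])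
  have : Module (ZMod p) (Additive P) := AddCommGroup.zmodModule fun x => Subtype.ext (ea.2 _ x.toMul.2)
  obtain ⟨ρ, hρ⟩ := exists_rho (p := p) (P : Subgroup G)
  obtain ⟨h1, Φ, h2⟩ := of_prim_root (T := ρ y) (by rw [← map_pow, ← hy, pow_orderOf_eq_one, map_one])
    (fun x hx => Subtype.ext (fp y hy _ x.toMul.2 (mul_inv_eq_iff_eq_mul.1
      ((hρ y x).symm.trans (congrArg (fun z : Additive P => (z.toMul : G)) hx))))) hpq ho
  have k : ∀ (Ψ : Additive P ≃+ Additive P) (j : ℕ), ¬ q ∣ j → (∀ x, Ψ (ρ y x) = (ρ y ^ j) (Ψ x)) →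
      ∃ φ : MulAut G, (∀ x : P, φ x = (Ψ (.ofMul x)).toMul) ∧ φ y = y ^ j := fun Ψ j hj h =>
    exists_aut hy hc (AddEquiv.toMultiplicative Ψ) hj fun x => by
      have := h (.ofMul x)
      rw [← map_pow, show ρ y (.ofMul x) = .ofMul (MulAut.conjNormal y x) from Subtype.ext (hρ y _)] at this
      exact (congrArg (fun z : Additive P => (z.toMul : G)) this).trans (hρ _ _)
  have vP : v ∈ P := (IsSylowIn.of_sylow_top P).le_of_le_normalizer (isPGroup_zpowers_of_orderOf (k := 1) (by simpa using hv))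
    le_top le_normalizer_of_normal (mem_zpowers v)
  obtain ⟨u, hu, i, rfl⟩ := exists_mul_pow hc g
  by_cases hi : q ∣ i
  · rw [orderOf_dvd_iff_pow_eq_one.1 (hy ▸ hi), mul_one]
    refine (eq_or_ne u 1).imp_right fun h => Or.inl ?_
    obtain ⟨Ψ, e, h⟩ := h1 (.ofMul ⟨v, vP⟩) (.ofMul ⟨u, hu⟩)
      (fun e => hp.out.one_lt.ne (by rw [← hv, show v = 1 from congrArg Subtype.val e, orderOf_one]))
      fun e => h (congrArg Subtype.val e)
    obtain ⟨φ, h3, -⟩ := k Ψ 1 (by simpa using hq.out.one_lt.ne') (by simpa using h)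
    exact ⟨φ, (h3 ⟨v, vP⟩).trans (by rw [e]; rfl)⟩
  refine Or.inr (Or.inr ?_)
  obtain ⟨φ, -, h3⟩ := k Φ p nd h2
  have h4 : ∀ m : ℕ, (φ ^ m) y = y ^ p ^ m := fun m => by
    induction m with
    | zero => simp
    | succ m ih => rw [pow_succ', MulAut.mul_apply, ih, map_pow, h3, ← pow_mul, pow_succ']
  have p0 : (p : ZMod q) ≠ 0 := by rwa [Ne, ZMod.natCast_eq_zero_iff]
  have t : zpowers (Units.mk0 _ p0) = ⊤ := eq_top_of_card_eq _ (by
    rw [Nat.card_zpowers, ← orderOf_units, Units.val_mk0, ho, Nat.card_units, Nat.card_zmod])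
  obtain ⟨m, hm⟩ := mem_powers_iff_mem_zpowers.2 ((eq_top_iff' _).1 t
    (Units.mk0 (i : ZMod q) (by rwa [Ne, ZMod.natCast_eq_zero_iff])))
  have hm' : ((p ^ m : ℕ) : ZMod q) = i := by simpa using congrArg Units.val hm
  obtain ⟨x, -, e⟩ := CfsgH4.exists_conj_of_fpf (fp (y ^ i)
    ((Nat.Coprime.orderOf_pow (hy ▸ (Nat.Prime.coprime_iff_not_dvd hq.out).2 hi)).trans hy)) hu
  refine ⟨MulAut.conj x * φ ^ m, ?_⟩
  rw [MulAut.mul_apply, h4, e, MulAut.conj_apply,
    pow_eq_pow_iff_modEq.2 (hy ▸ (ZMod.natCast_eq_natCast_iff _ _ _).1 hm')]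

omit hp hq in
theorem three_iff (a b : G) (ha : orderOf a = p) (hb : orderOf b = q) (p1 : p ≠ 1) (q1 : q ≠ 1) (hpq : p ≠ q) :
    Nat.card (MulAction.orbitRel.Quotient (MulAut G) G) = 3 ↔
      ∀ g : G, g = 1 ∨ (∃ φ : MulAut G, φ a = g) ∨ ∃ φ : MulAut G, φ b = g := by
  have ne : ∀ x y : G, orderOf x ≠ orderOf y →
      (Quotient.mk _ x : MulAction.orbitRel.Quotient (MulAut G) G) ≠ Quotient.mk _ y := fun x y h e => by
    obtain ⟨φ, rfl⟩ := (Quotient.exact e : x ∈ MulAction.orbit (MulAut G) y)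
    exact h (MulEquiv.orderOf_eq φ y)
  have c : ({Quotient.mk _ 1, Quotient.mk _ a, Quotient.mk _ b} : Set (MulAction.orbitRel.Quotient (MulAut G) G)).ncard = 3 :=
    Set.ncard_eq_three.2 ⟨_, _, _, ne _ _ (by rw [orderOf_one, ha]; exact p1.symm),
      ne _ _ (by rw [orderOf_one, hb]; exact q1.symm), ne _ _ (by rwa [ha, hb]), rfl⟩
  rw [← Set.ncard_univ]
  refine ⟨fun h g => ?_, fun h => ?_⟩
  · have : (Quotient.mk _ g : MulAction.orbitRel.Quotient (MulAut G) G) ∈ _ :=
      (Set.eq_of_subset_of_ncard_le (Set.subset_univ _) (h.trans c.symm).le).symm ▸ Set.mem_univ _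
    rcases this with e | e | e
    · obtain ⟨φ, rfl⟩ := (Quotient.exact e : g ∈ MulAction.orbit (MulAut G) 1)
      exact Or.inl (map_one φ)
    · exact Or.inr (Or.inl (Quotient.exact e))
    · exact Or.inr (Or.inr (Quotient.exact e))
  · rw [← c]
    refine congrArg _ (Set.eq_univ_of_forall fun x => ?_).symm
    obtain ⟨g, rfl⟩ := Quotient.exists_rep x
    rcases h g with rfl | e | e
    · exact Or.inl rfl
    · exact Or.inr (Or.inl (Quotient.sound e))
    · exact Or.inr (Or.inr (Quotient.sound e))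

end CfsgH9.AO
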