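import Cfsg.Agent.H2.PGroup3

/-! A relative form of Alperin's lemma on `Ω(C(A))`. -/

set_option autoImplicit false
set_option linter.unusedSectionVars false

namespace CfsgH9

open Subgroup Cfsg CfsgH2
open scoped commutatorElement

variable {G : Type*} [Group G] [Finite G] {p : ℕ} [hp : Fact p.Prime]

theorem alperin_rel {W V A : Subgroup G} (hW : IsPGroup p W) (hVW : V ≤ W) (hWV : W ≤ normalizer (V : Set G)) {n : ℕ} (hn : p ^ n ≠ 2)
    (hAV : A ≤ V) (hAn' : W ≤ normalizer (A : Set G)) (hA : IsMulCommutative A)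
    (hAe : ∀ a ∈ A, a ^ p ^ n = 1)
    (hmax : ∀ B : Subgroup G, B ≤ V → W ≤ normalizer (B : Set G) → IsMulCommutative B →
      (∀ b ∈ B, b ^ p ^ n = 1) → A ≤ B → B = A)
    {x : G} (hxV : x ∈ V) (hx : x ∈ centralizer (A : Set G)) (hxn : x ^ p ^ n = 1) : x ∈ A := by
  rcases eq_or_ne n 0 with rfl | hn0
  · rw [pow_zero, pow_one] at hxn; rw [hxn]; exact one_mem _
  have hV := hW.to_le hVW
  have hAn := hVW.trans hAn'
  obtain ⟨D, hAD, hDV, hDn', hD, hDC⟩ := exists_scn hW hVW hWV hAV hAn' hA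
  have hDn := hVW.trans hDn'
  have hΩ : ∀ d ∈ D, d ^ p ^ n = 1 → d ∈ A := by
    intro d hd h
    have := hmax (CfsgH1.omegaOfComm D (p ^ n)) ((CfsgH1.omegaOfComm_le _ _).trans hDV)
      (hDn'.trans (CfsgH1.normalizer_le_normalizer_omegaOfComm _ _))
      (isMulCommutative_of_le hD (CfsgH1.omegaOfComm_le _ _))
      (fun b hb => (CfsgH1.mem_omegaOfComm.1 hb).2)
      (fun a ha => CfsgH1.mem_omegaOfComm.2 ⟨hAD ha, hAe a ha⟩)
    rw [← this]; exact CfsgH1.mem_omegaOfComm.2 ⟨hd, h⟩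
  have hΩ1 : ∀ d ∈ D, d ^ p = 1 → d ∈ A := fun d hd h =>
    hΩ d hd (pow_eq_one_of_dvd' h (dvd_pow_self p hn0))
  have hΩ2 : p = 2 → ∀ d ∈ D, d ^ 4 = 1 → d ∈ A := by
    rintro rfl d hd h
    refine hΩ d hd (pow_eq_one_of_dvd' h ?_)
    have : 2 ≤ n := by
      by_contra hlt
      have : n = 1 := by omega
      subst this; simp at hn
    exact pow_dvd_pow 2 this
  have cD : ∀ a ∈ D, ∀ b ∈ D, Commute a b := fun a ha b hb => mul_comm_of_isMulCommutative hD ha hb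
  have cA : ∀ y ∈ centralizer (A : Set G), ∀ a ∈ A, Commute a y := fun y hy a ha => hy a ha
  have memD : ∀ y ∈ V, ∀ d ∈ D, d⁻¹ * (y * d * y⁻¹) ∈ D := fun y hy d hd =>
    mul_mem (inv_mem hd) (conj_mem_of_mem_normalizer (hDn hy) hd)
  have powD : ∀ y ∈ V, ∀ d ∈ D, ∀ k : ℕ,
      (d⁻¹ * (y * d * y⁻¹)) ^ k = (d ^ k)⁻¹ * (y * d ^ k * y⁻¹) := by
    intro y hy d hd k
    rw [(cD _ (inv_mem hd) _ (conj_mem_of_mem_normalizer (hDn hy) hd)).mul_pow, conj_pow, inv_pow]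
  -- step 1
  have step1 : ∀ y ∈ V, y ∈ centralizer (A : Set G) → y ^ p ∈ A → ∀ m : ℕ, ∀ d ∈ D,
      d ^ p ^ m = 1 → (d⁻¹ * (y * d * y⁻¹)) ^ p = 1 := by
    intro y hyV hy hyp m
    induction m with
    | zero => intro d _ h; rw [pow_zero, pow_one] at h; simp [h]
    | succ m ih =>
      intro d hd h
      have ha := memD y hyV d hd
      have h1 := ih (d ^ p) (pow_mem hd p) (by rw [← pow_mul, ← pow_succ', h])
      rw [← powD y hyV d hd] at h1
      set a := d⁻¹ * (y * d * y⁻¹) with ha'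
      have hap : a ^ p ∈ A := hΩ1 _ (pow_mem ha p) h1
      have hb := memD y hyV a ha
      have hbp : (a⁻¹ * (y * a * y⁻¹)) ^ p = 1 := by
        rw [powD y hyV a ha, ← (cA y hy _ hap).eq]; group
      refine alperin_aux (x := y) (d := d) (b := a⁻¹ * (y * a * y⁻¹)) (by rw [ha']; group)
        (by group) (cA y hy _ (hΩ1 _ hb hbp)) (cD _ hb _ ha) hbp (cD _ (hAD hyp) _ hd) ?_
      intro h2 h4
      rw [← (cA y hy _ (hΩ2 h2 a ha h4)).eq]; group
  have step1' : ∀ y ∈ V, y ∈ centralizer (A : Set G) → y ^ p ∈ A → ∀ d ∈ D,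
      (d⁻¹ * (y * d * y⁻¹)) ^ p = 1 ∧ d⁻¹ * (y * d * y⁻¹) ∈ A := by
    intro y hyV hy hyp d hd
    obtain ⟨m, hm⟩ := hV ⟨d, hDV hd⟩
    have := step1 y hyV hy hyp m d hd (congrArg Subtype.val hm)
    exact ⟨this, hΩ1 _ (memD y hyV d hd) this⟩
  -- step 2
  have step2 : ∀ y ∈ V, y ∈ centralizer (A : Set G) → y ^ p ∈ A →
      ∀ z ∈ V, z ∈ centralizer (A : Set G) → z ^ p ∈ A →
      (z⁻¹ * (y * z * y⁻¹)) ^ p = 1 ∧ z⁻¹ * (y * z * y⁻¹) ∈ A := by
    intro y hyV hy hyp z hzV hz hzp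
    have hXD : ∀ w ∈ V, w ∈ centralizer (A : Set G) → w ^ p ∈ A → ⁅zpowers w, D⁆ ≤ A := by
      intro w hwV hw hwp
      refine commutator_zpowers_le (hAn hwV) fun c hc => ?_
      rw [(cD _ (conj_mem_of_mem_normalizer (hDn hwV) hc) _ (inv_mem hc)).eq]
      exact (step1' w hwV hw hwp c hc).2
    set X := zpowers y ⊔ zpowers z with hX
    have hXV : X ≤ V := sup_le (zpowers_le.2 hyV) (zpowers_le.2 hzV)
    have hXC : X ≤ centralizer (A : Set G) := sup_le (zpowers_le.2 hy) (zpowers_le.2 hz)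
    have h1 : ⁅X, D⁆ ≤ A := commutator_sup_le (zpowers_le.2 (hAn hyV)) (zpowers_le.2 (hAn hzV))
      (hXD y hyV hy hyp) (hXD z hzV hz hzp)
    have h2 : ⁅⁅X, D⁆, X⁆ = ⊥ :=
      commutator_eq_bot_of_le_centralizer (h1.trans (le_centralizer_iff.1 hXC))
    have h3 : ⁅X, X⁆ ≤ D := le_trans (le_inf ((commutator_le_left_of_normalizer le_normalizer).trans
      hXV) (le_centralizer_of_commutator_eq_bot
        (three_subgroups_bot h2 (by rwa [commutator_comm D X])))) hDC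
    have hyX : y ∈ X := mem_sup_left (mem_zpowers y)
    have hzX : z ∈ X := mem_sup_right (mem_zpowers z)
    have hc : z⁻¹ * (y * z * y⁻¹) ∈ D := by
      have := h3 (inv_mul_inv_mul_mem_commutator hzX (inv_mem hyX))
      simpa [mul_assoc] using this
    set a := z⁻¹ * (y * z * y⁻¹) with ha
    obtain ⟨hb1, hb2⟩ := step1' y hyV hy hyp a hc
    have : a ^ p = 1 := by
      refine alperin_aux (x := y) (d := z) (b := a⁻¹ * (y * a * y⁻¹)) (by rw [ha]; group)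
        (by group) (cA y hy _ hb2) (cD _ (hAD hb2) _ hc) hb1 (cA z hz _ hyp) ?_
      intro h2 h4
      rw [← (cA y hy _ (hΩ2 h2 a hc h4)).eq]; group
    exact ⟨this, hΩ1 a hc this⟩
  -- the subgroup
  let C : Subgroup G :=
    { carrier := {y | y ∈ V ∧ y ∈ centralizer (A : Set G) ∧ y ^ p ∈ A ∧ y ^ p ^ n = 1}
      one_mem' := ⟨one_mem _, one_mem _, by simp, by simp⟩
      inv_mem' := by
        rintro y ⟨h1, h2, h3, h4⟩
        exact ⟨inv_mem h1, inv_mem h2, by rw [inv_pow]; exact inv_mem h3, by simp [h4]⟩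
      mul_mem' := by
        rintro y z ⟨h1, h2, h3, h4⟩ ⟨h5, h6, h7, h8⟩
        obtain ⟨c1, c2⟩ := step2 y⁻¹ (inv_mem h1) (inv_mem h2) (by rw [inv_pow]; exact inv_mem h3)
          z h5 h6 h7
        set c := z⁻¹ * (y⁻¹ * z * y⁻¹⁻¹) with hc
        have e : z * y = y * z * c := by rw [hc]; group
        have f := mul_pow_class_two e (cA y h2 c c2) (cA z h6 c c2)
        refine ⟨mul_mem h1 h5, mul_mem h2 h6, ?_, ?_⟩
        · rw [f]; exact mul_mem (mul_mem h3 h7) (pow_mem c2 _)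
        · rw [f, h4, h8, pow_eq_one_of_dvd' c1 (dvd_choose_two_of_pow hn0 hn)]; simp }
  have hCn : W ≤ normalizer (C : Set G) := by
    intro g hg
    refine mem_normalizer_of_conj_mem fun y ⟨h1, h2, h3, h4⟩ => ⟨conj_mem_of_mem_normalizer (hWV hg) h1,
      conj_mem_of_mem_normalizer (le_normalizer_centralizer' hAn' hg) h2, ?_, ?_⟩
    · rw [conj_pow]; exact conj_mem_of_mem_normalizer (hAn' hg) h3
    · rw [conj_pow, h4]; group
  have hCA : C ≤ A := by
    by_contra hne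
    obtain ⟨w, ⟨h1, h2, h3, h4⟩, hwA, -, hw⟩ := exists_central_mod (N := C) hW (fun y hy => hVW hy.1) hCn hne
    apply hwA
    have hcomm := isMulCommutative_sup_zpowers hA h2
    rw [← hmax (A ⊔ zpowers w) (sup_le hAV (zpowers_le.2 h1)) (le_normalizer_sup_zpowers hAn' hw)
      hcomm ?_ le_sup_left]
    · exact mem_sup_right (mem_zpowers w)
    · intro b hb
      obtain ⟨m, hm, k, rfl⟩ := (mem_sup_zpowers (hAn h1)).1 hb
      rw [((cA w h2 m hm).zpow_right k).mul_pow, hAe m hm, one_mul, ← zpow_natCast, ← zpow_mul,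
        mul_comm, zpow_mul, zpow_natCast, h4, one_zpow]
  by_contra hxA
  obtain ⟨j, h1, h2⟩ := exists_pow_not_mem hxA (k := n) (by rw [hxn]; exact one_mem _)
  exact h1 (hCA ⟨pow_mem hxV _, pow_mem hx _, h2, by rw [← pow_mul, mul_comm, pow_mul, hxn, one_pow]⟩)

end CfsgH9
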