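import Cfsg.Agent.H2.Mix2
import Cfsg.Agent.H1.Solv

/-! Groups in which subgroups of equal order are conjugate. -/

set_option autoImplicit false
set_option linter.unusedSectionVars false

namespace CfsgH9

open Subgroup Cfsg CfsgH1 CfsgH2 CfsgFT
open scoped commutatorElement

variable {G : Type*} [Group G] [Finite G] {p : ℕ} [hp : Fact p.Prime]

theorem exists_orderOf_pow {x : G} {k n : ℕ} (h : orderOf x = p ^ n) (l : k ≤ n) : ∃ y ∈ zpowers x, orderOf y = p ^ k :=
  ⟨x ^ p ^ (n - k), npow_mem_zpowers _ _, by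
    rw [orderOf_pow' _ (pow_ne_zero _ hp.out.ne_zero), h, Nat.gcd_eq_right (pow_dvd_pow _ (Nat.sub_le _ _)),
      Nat.pow_div (Nat.sub_le _ _) hp.out.pos, Nat.sub_sub_self l]⟩

theorem cyclic_conj {A : Subgroup G} (g : G) (h : IsCyclic A) : IsCyclic (A.map (MulAut.conj g).toMonoidHom) := isCyclic_map' h _

theorem exp_or_cyc {P : Subgroup G} (hP : IsPGroup p P) (h : ∀ A B : Subgroup G, IsMulCommutative A → IsMulCommutative B →
    Nat.card A = p ^ 2 → Nat.card B = p ^ 2 → IsCyclic A → IsCyclic B) :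
    (∀ x ∈ P, x ^ p = 1) ∨ IsCyclic P ∨ (p = 2 ∧ ∃ n : ℕ, Nonempty (P ≃* QuaternionGroup (2 ^ n))) := by
  by_cases e : ∀ x ∈ P, x ^ p = 1
  · exact .inl e
  push Not at e
  obtain ⟨x, hx, e⟩ := e
  obtain ⟨n, hn⟩ := (IsPGroup.iff_orderOf.1 hP) ⟨x, hx⟩
  rw [orderOf_mk] at hn
  obtain ⟨y, -, hy⟩ := exists_orderOf_pow hn (k := 2) (by
    by_contra l
    exact e (orderOf_dvd_iff_pow_eq_one.1 (hn ▸ (pow_dvd_pow p (by omega : n ≤ 1)).trans (pow_one p).dvd)))
  refine .inr (cyc_or_quat_of_ab hP fun A hA => ?_)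
  obtain ⟨k, hk⟩ := (hP.to_subgroup A).exists_card_eq
  rcases k with _ | _ | k
  · have := (Nat.card_eq_one_iff_unique.1 hk).1; infer_instance
  · exact isCyclic_of_prime_card (hk.trans (pow_one p))
  exfalso
  have hA' := ea_map hA P.subtype
  obtain ⟨E, a, -, b⟩ := exists_normal_card' (V := A.map P.subtype) (k := 2) (ea_isPGroup hA') le_rfl le_normalizer
    (by rw [card_map_of_injective P.subtype_injective, hk]; exact Nat.pow_le_pow_right hp.out.pos (by omega))
  have := card_le_of_cyclic_ea (ea_mono hA' a) (h (zpowers y) E inferInstance (ea_mono hA' a).1 ((Nat.card_zpowers y).trans hy) b inferInstance)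
  rw [b] at this
  have := hp.out.one_lt
  nlinarith

theorem quat_small {n : ℕ} (h : ∀ A B : Subgroup (QuaternionGroup (2 ^ n)), Nat.card A = 8 → Nat.card B = 8 → IsCyclic A → IsCyclic B) :
    n ≤ 1 := by
  by_contra l
  have := Fact.mk Nat.prime_two
  obtain ⟨y, -, hy⟩ := exists_orderOf_pow (p := 2) (k := 3) (n := n + 1) (x := (QuaternionGroup.a 1 : QuaternionGroup (2 ^ n)))
    (by rw [QuaternionGroup.orderOf_a_one, pow_succ']) (by omega)
  obtain ⟨K, a, b⟩ := Sylow.exists_subgroup_card_pow_succ (p := 2) (n := 2) (H := zpowers (QuaternionGroup.xa 0 : QuaternionGroup (2 ^ n)))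
    (by rw [Nat.card_eq_fintype_card, QuaternionGroup.card]; obtain ⟨m, rfl⟩ : ∃ m, n = m + 1 := ⟨n - 1, by omega⟩
        exact ⟨2 ^ m, by ring⟩) (by rw [Nat.card_zpowers, QuaternionGroup.orderOf_xa]; rfl)
  obtain ⟨g, hg⟩ := isCyclic_iff_zpowers.1 (h (zpowers y) K ((Nat.card_zpowers y).trans hy) a inferInstance)
  rw [← hg, Nat.card_zpowers] at a
  have := b (mem_zpowers _)
  rw [← hg] at this
  obtain ⟨k, hk⟩ := mem_powers_iff_mem_zpowers.2 this
  rcases g with i | i
  · have : ∀ k : ℕ, ∃ j, (QuaternionGroup.a i : QuaternionGroup (2 ^ n)) ^ k = .a j := fun k => by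
      induction k with
      | zero => exact ⟨0, rfl⟩
      | succ k ih => obtain ⟨j, hj⟩ := ih; exact ⟨_, by rw [pow_succ, hj, QuaternionGroup.a_mul_a]⟩
    obtain ⟨j, hj⟩ := this k
    exact QuaternionGroup.noConfusion rfl (heq_of_eq (hj.symm.trans hk))
  · rw [QuaternionGroup.orderOf_xa] at a; omega

/-- A nonabelian group of exponent `p` contains a nonabelian subgroup of order `p ^ 3`. -/
theorem exists_cube {P : Subgroup G} (he : ∀ x ∈ P, x ^ p = 1) (hn : ¬ P ≤ C(P)) :
    ∃ K ≤ P, Nat.card K = p ^ 3 ∧ ¬ IsMulCommutative K := by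
  have hP : IsPGroup p P := fun x => ⟨1, Subtype.ext (by simpa using he x x.2)⟩
  obtain ⟨z, hz, z1, -, z2⟩ := exists_central_mod (M := C(P)) hP le_rfl le_normalizer hn
  obtain ⟨x, hx, e⟩ : ∃ x ∈ P, x * z ≠ z * x := by
    by_contra! e; exact z1 e
  set c := x * z * x⁻¹ * z⁻¹ with hc
  have cP : c ∈ P := mul_mem (mul_mem (mul_mem hx hz) (inv_mem hx)) (inv_mem hz)
  have c1 : c ≠ 1 := fun h => e (by rw [← one_mul (z * x), ← h, hc]; group)
  have cc : P ≤ C(zpowers c) := cent_symm (zpowers_le.2 (z2 x hx))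
  have k1 : Nat.card (zpowers c) = p := (Nat.card_zpowers c).trans (orderOf_eq_prime (he c cP) c1)
  have k2 := card_sup_zpowers (p := p) (le_norm_of_cent cc hz) (fun h => z1 (zpowers_le.2 (z2 x hx) h)) (he z hz ▸ one_mem _)
  have ab : IsMulCommutative ↥(zpowers c ⊔ zpowers z) := isMulCommutative_sup_zpowers inferInstance (cc hz)
  have k3 := card_sup_zpowers (p := p) (M := zpowers c ⊔ zpowers z) (x := x) (le_normalizer_sup_zpowers (V := zpowers x)
    (le_norm_of_cent ((zpowers_le.2 hx).trans cc)) (fun g hg => ?_) (mem_zpowers x))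
    (fun h => e (mul_comm_of_isMulCommutative ab h (mem_sup_right (mem_zpowers z)))) (he x hx ▸ one_mem _)
  · refine ⟨_, sup_le (sup_le (zpowers_le.2 cP) (zpowers_le.2 hz)) (zpowers_le.2 hx), by rw [k3, k2, k1]; ring, fun h => e
      (mul_comm_of_isMulCommutative h (mem_sup_right (mem_zpowers x)) (mem_sup_left (mem_sup_right (mem_zpowers z))))⟩
  · obtain ⟨k, rfl⟩ := mem_powers_iff_mem_zpowers.2 hg
    induction k with
    | zero => simp
    | succ k ih =>
      have h1 := CfsgH2.conj_mem_of_mem_normalizer (le_norm_of_cent cc hx) (ih (npow_mem_zpowers x k))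
      convert mul_mem h1 (mem_zpowers c) using 1
      simp only [hc]; group

theorem exists_ab_cube {P : Subgroup G} (hP : IsPGroup p P) (h : p ^ 4 ≤ Nat.card P) :
    ∃ K ≤ P, Nat.card K = p ^ 3 ∧ IsMulCommutative K := by
  obtain ⟨A, -, ⟨a, b, c⟩, hm⟩ := exists_maximal_subgroup (Φ := fun A : Subgroup G => A ≤ P ∧ P ≤ N(A) ∧ IsMulCommutative A)
    (A := ⊥) ⟨bot_le, le_normalizer_of_normal, inferInstance⟩
  have hC : P ⊓ C(A) ≤ A := by
    by_contra h
    obtain ⟨x, ⟨x1, x2⟩, x3, -, d⟩ := exists_central_mod hP inf_le_left (le_normalizer_inf' le_normalizer (le_normalizer_centralizer' b)) h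
    exact x3 ((hm (A ⊔ zpowers x) ⟨sup_le a (zpowers_le.2 x1), le_normalizer_sup_zpowers b d,
      isMulCommutative_sup_zpowers c x2⟩ le_sup_left).le (mem_sup_right (mem_zpowers x)))
  obtain ⟨k, hk⟩ := (hP.to_le a).exists_card_eq
  have l := (Nat.pow_le_pow_iff_right hp.out.one_lt).1 (h.trans (card_le_of_scn hP a b hC hk))
  have : 3 ≤ k := by
    by_contra e
    have : k ≤ 2 := by omega
    interval_cases k <;> simp at l
  obtain ⟨E, e1, -, e2⟩ := exists_normal_card' (V := A) (k := 3) (hP.to_le a) le_rfl le_normalizer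
    (hk ▸ Nat.pow_le_pow_right hp.out.pos this)
  exact ⟨E, e1.trans a, e2, isMulCommutative_of_le c e1⟩

theorem ea_two_of_exp {P : Subgroup G} (h : ∀ x ∈ P, x ^ 2 = 1) : IsElementaryAbelian 2 P :=
  ⟨isMulCommutative_of_forall fun a ha b hb => by
    have h1 := h _ (mul_mem ha hb)
    have h2 := h a ha
    have h3 := h b hb
    rw [pow_two] at h1 h2 h3
    calc a * b = a * (a * b * (a * b)) * b := by rw [h1, mul_one]
      _ = (a * a) * (b * a) * (b * b) := by group
      _ = b * a := by rw [h2, h3, one_mul, mul_one], h⟩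

theorem sylow_beq (hC : ∀ H K : Subgroup G, IsPGroup p H → IsPGroup p K → Nat.card H = Nat.card K →
    ∃ g : G, K = H.map (MulAut.conj g).toMonoidHom) {P : Subgroup G} (hP : IsPGroup p P) :
    IsCyclic P ∨ IsElementaryAbelian p P ∨ (p = 2 ∧ Nonempty (P ≃* QuaternionGroup 2)) ∨
      (p ≠ 2 ∧ ¬ IsMulCommutative P ∧ Nat.card P = p ^ 3 ∧ ∀ x ∈ P, x ^ p = 1) := by
  have H : ∀ (k : ℕ) (A B : Subgroup G), Nat.card A = p ^ k → Nat.card B = p ^ k → (IsCyclic A → IsCyclic B) ∧
      (IsMulCommutative A → IsMulCommutative B) := fun k A B a b => by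
    obtain ⟨g, rfl⟩ := hC A B (.of_card a) (.of_card b) (a.trans b.symm)
    exact ⟨cyclic_conj g, fun _ => inferInstance⟩
  rcases exp_or_cyc hP fun A B _ _ a b => (H 2 A B a b).1 with h | h | ⟨rfl, n, ⟨e⟩⟩
  · by_cases hc : P ≤ C(P)
    · exact .inr (.inl ⟨isMulCommutative_iff_le_centralizer.2 hc, h⟩)
    refine .inr (.inr (.inr ⟨fun e => hc (isMulCommutative_iff_le_centralizer.1 (ea_two_of_exp (e ▸ h)).1),
      mt isMulCommutative_iff_le_centralizer.1 hc, ?_, h⟩))
    obtain ⟨K, a, b, c⟩ := exists_cube h hc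
    obtain ⟨k, hk⟩ := hP.exists_card_eq
    have l := (Nat.pow_le_pow_iff_right hp.out.one_lt).1 (b ▸ hk ▸ card_le_of_le a)
    rcases l.eq_or_lt with rfl | l
    · exact hk
    obtain ⟨L, -, d, f⟩ := exists_ab_cube hP (hk ▸ Nat.pow_le_pow_right hp.out.pos l)
    exact (c ((H 3 L K d b).2 f)).elim
  · exact .inl h
  · have i : Function.Injective (P.subtype.comp e.symm.toMonoidHom) := P.subtype_injective.comp e.symm.injective
    have := quat_small (n := n) fun A B a b c => (MulEquiv.isCyclic (B.equivMapOfInjective _ i)).2 ((H 3 _ _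
      ((card_map_of_injective i).trans a) ((card_map_of_injective i).trans b)).1 (isCyclic_map' c _))
    interval_cases n
    · exact .inl ((MulEquiv.isCyclic e).2 QuaternionGroup.quaternionGroup_one_isCyclic)
    · exact .inr (.inr (.inl ⟨rfl, ⟨e⟩⟩))

/-- If subgroups of order `p` are conjugate, a normal subgroup of order divisible by `p` contains all of them. -/
theorem mem_of_conj_p (hC : ∀ H K : Subgroup G, Nat.card H = p → Nat.card K = p →
    ∃ g : G, K = H.map (MulAut.conj g).toMonoidHom) {H : Subgroup G} [H.Normal] (h : p ∣ Nat.card H) {x : G} (hx : x ^ p = 1) :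
    x ∈ H := by
  by_cases x1 : x = 1
  · exact x1 ▸ one_mem H
  obtain ⟨y, hy, o⟩ := exists_orderOf_eq_prime hp.out h
  obtain ⟨g, e⟩ := hC (zpowers y) (zpowers x) ((Nat.card_zpowers y).trans o) ((Nat.card_zpowers x).trans (orderOf_eq_prime hx x1))
  obtain ⟨z, hz, rfl⟩ := e.le (mem_zpowers x)
  exact Normal.conj_mem ‹_› z (zpowers_le.2 hy hz) g

end CfsgH9
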