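import Cfsg.Agent.H9.Beq

/-! Quotients of groups whose abelian subgroups of equal order are conjugate. -/

set_option autoImplicit false
set_option linter.unusedSectionVars false

namespace CfsgH9

open Subgroup Cfsg CfsgH1 CfsgH2 CfsgFT
open scoped commutatorElement

universe u

def AbC (G : Type*) [Group G] : Prop := ∀ A B : Subgroup G, IsMulCommutative A → IsMulCommutative B → Nat.card A = Nat.card B →
  ∃ g : G, B = A.map (MulAut.conj g).toMonoidHom

variable {G : Type u} [Group G] [Finite G] {p : ℕ} [hp : Fact p.Prime]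

theorem AbC.mem (h : AbC G) {H : Subgroup G} [H.Normal] (d : p ∣ Nat.card H) {x : G} (hx : x ^ p = 1) : x ∈ H :=
  mem_of_conj_p (fun A B a b => h A B (isCyclic_of_prime_card a).isMulCommutative (isCyclic_of_prime_card b).isMulCommutative
    (a.trans b.symm)) d hx

theorem AbC.quat (h : AbC G) (hs : Group.IsSolvable G) {P : Subgroup G} (hP : IsSylowIn 2 P ⊤) {n : ℕ}
    (e : P ≃* QuaternionGroup (2 ^ n)) : Nat.card P ≤ 8 := by
  have c : Nat.card P = 4 * 2 ^ n := by rw [Nat.card_congr e.toEquiv, Nat.card_eq_fintype_card, QuaternionGroup.card]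
  by_contra l
  obtain ⟨m, rfl⟩ : ∃ m, n = m + 2 := ⟨n - 2, by
    by_contra k
    have : n ≤ 1 := by omega
    interval_cases n <;> omega⟩
  let π := QuotientGroup.mk' (pPrimeCore 2 G)
  let f := π.comp (P.subtype.comp e.symm.toMonoidHom)
  have i0 : Function.Injective (P.subtype.comp e.symm.toMonoidHom) := P.subtype_injective.comp e.symm.injective
  have i : Function.Injective f := (injective_iff_map_eq_one f).2 fun x hx => i0 (by
    rw [map_one]
    exact (disjoint_of_isPGroup_of_coprime hP.pgroup (coprime_card_pPrimeCore 2 G)).le_bot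
      ⟨(e.symm x).2, (QuotientGroup.eq_one_iff _).1 hx⟩)
  have r : f.range = P.map π := by
    rw [MonoidHom.range_comp, MonoidHom.range_comp, MonoidHom.range_eq_top.2 e.symm.surjective, ← MonoidHom.range_eq_map, range_subtype]
  set U := pCore 2 (G ⧸ pPrimeCore 2 G)
  have cU : C(U) ≤ U := IsPSolvable.centralizer_pCore_le isPSolvable_of_isSolvable (pPrimeCore_quotient_pPrimeCore 2 G)
  have hS := hP.map π
  rw [map_top_of_surjective _ (QuotientGroup.mk'_surjective _), ← r] at hS
  have UP : U ≤ f.range := hS.le_of_normalizer (CfsgH1.isPGroup_pCore _ _) le_top le_normalizer_of_normal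
  have o4 : ∀ x y, orderOf x = 4 → orderOf y = 4 → ∃ g, f y ∈ cj g (zpowers (f x)) := fun x y a b => by
    obtain ⟨g, k⟩ := h (zpowers ((P.subtype.comp e.symm.toMonoidHom) x)) (zpowers ((P.subtype.comp e.symm.toMonoidHom) y))
      inferInstance inferInstance (by rw [Nat.card_zpowers, Nat.card_zpowers, orderOf_injective _ i0, orderOf_injective _ i0, a, b])
    obtain ⟨z, hz, k⟩ := k.le (mem_zpowers _)
    refine ⟨π g, π z, ?_, ?_⟩
    · rw [show f x = π _ from rfl, ← MonoidHom.map_zpowers]; exact mem_map_of_mem _ hz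
    · rw [show f y = π _ from rfl, ← k]; simp
  obtain ⟨w, hw, ow⟩ := exists_orderOf_pow (p := 2) (k := 3) (n := m + 3) (x := (QuaternionGroup.a 1 : QuaternionGroup (2 ^ (m + 2))))
    (by rw [QuaternionGroup.orderOf_a_one]; ring) (by omega)
  have ow2 : orderOf (w ^ 2) = 4 := by rw [orderOf_pow' _ two_ne_zero, ow]; rfl
  have sq : ∀ x : QuaternionGroup (2 ^ (m + 2)), ∃ j, x ^ 2 = .a j := fun x => by
    rcases x with j | j
    exacts [⟨_, by rw [pow_two, QuaternionGroup.a_mul_a]⟩, ⟨_, QuaternionGroup.xa_sq j⟩]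
  have h4 : ∃ x, f x ∈ U ∧ orderOf x = 4 := by
    by_contra! k
    have : f (.xa 0) ∈ C(U) := fun u hu => by
      obtain ⟨x, rfl⟩ := UP hu
      rw [← map_mul, ← map_mul]; congr 1
      rcases x with j | j
      · have : (QuaternionGroup.a j : QuaternionGroup (2 ^ (m + 2))) ^ 2 = 1 := by
          by_contra k2
          obtain ⟨t, ht⟩ := IsPGroup.iff_orderOf.1 (IsPGroup.of_card (p := 2) (n := m + 4) (G := QuaternionGroup (2 ^ (m + 2))) (by
            rw [Nat.card_eq_fintype_card, QuaternionGroup.card]; ring)) (.a j)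
          obtain ⟨y, y1, y2⟩ := exists_orderOf_pow ht (k := 2) (by
            by_contra l
            exact k2 (orderOf_dvd_iff_pow_eq_one.1 (ht ▸ (pow_dvd_pow 2 (by omega : t ≤ 1)))))
          exact k y (zpowers_le.2 (show QuaternionGroup.a j ∈ U.comap f from hu) y1) y2
        rw [pow_two, QuaternionGroup.a_mul_a, QuaternionGroup.one_def, QuaternionGroup.a.injEq] at this
        rw [QuaternionGroup.a_mul_xa, QuaternionGroup.xa_mul_a]
        congr 1; linear_combination -this
      · exact (k _ hu (QuaternionGroup.orderOf_xa j)).elim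
    exact k _ (cU this) (QuaternionGroup.orderOf_xa 0)
  obtain ⟨x, x1, x2⟩ := h4
  have all : ∀ j, f (.xa j) ∈ U := fun j => by
    obtain ⟨g, k⟩ := o4 x _ x2 (QuaternionGroup.orderOf_xa j)
    exact cj_le_of_norm (le_normalizer_of_normal (mem_top g)) (zpowers_le.2 x1) k
  have PU : f.range ≤ U := by
    rintro _ ⟨j | j, rfl⟩
    · have := mul_mem (inv_mem (all 0)) (all j)
      rwa [← map_inv, ← map_mul, show (QuaternionGroup.xa j : QuaternionGroup (2 ^ (m + 2))) = .xa 0 * .a j by simp,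
        inv_mul_cancel_left] at this
    · exact all j
  obtain ⟨g, z, ⟨k, rfl⟩, hz⟩ := o4 _ (.xa 0) ow2 (QuaternionGroup.orderOf_xa 0)
  obtain ⟨y, hy⟩ := UP (Normal.conj_mem inferInstance _ (PU ⟨w ^ k, rfl⟩) g)
  obtain ⟨j, hj⟩ := sq y
  have : f (y ^ 2) = f (.xa 0) := by
    rw [← hz, map_pow, hy, map_pow, map_zpow]
    simp only [MulEquiv.coe_toMonoidHom, MulAut.conj_apply, conj_pow]
    congr 2; group
  exact QuaternionGroup.noConfusion rfl (heq_of_eq (hj.symm.trans (i this)))

theorem AbC.quot_ea (h : AbC G) (hs : p ≠ 2 ∨ Group.IsSolvable G) {G' : Type u} [Group G'] (f : G →* G') (hf : Function.Surjective f)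
    (hM : IsElementaryAbelian p f.ker) (h0 : f.ker ≠ ⊥) : AbC G' := by
  have hMp := ea_isPGroup hM
  have dec : ∀ A : Subgroup G', IsMulCommutative A → ∃ P K, IsSylowIn p P (A.comap f) ∧ Hall {p}ᶜ K (A.comap f) ∧ f.ker ≤ P ∧
      ⁅A.comap f, A.comap f⁆ ≤ f.ker ∧ A.comap f ≤ N(P) ∧ IsMulCommutative K ∧ P.map f ⊔ K.map f = A := fun A a => by
    obtain ⟨P, hP⟩ := IsSylowIn.exists_sylowIn p (A.comap f)
    have l := hP.le_of_normalizer hMp (ker_le_comap f A) le_normalizer_of_normal
    have d : ⁅A.comap f, A.comap f⁆ ≤ f.ker := by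
      rw [← Subgroup.map_eq_bot_iff, Subgroup.map_commutator, map_comap_eq_self_of_surjective hf]; exact comm_eq_bot (comm_iff.1 a)
    have n := le_norm_of_der_le (d.trans l) hP.le
    obtain ⟨K, hK⟩ := hP.hall.exists_compl n
    refine ⟨P, K, hP, hK, l, d, n, comm_iff.2 (cent_of_comm_eq_bot (le_bot_iff.1 ((le_inf
      ((commutator_mono hK.le hK.le).trans (d.trans l)) (der_le K)).trans (hP.hall.inf_eq hK).le))), ?_⟩
    rw [← Subgroup.map_sup, hP.hall.sup_eq hK, map_comap_eq_self_of_surjective hf]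
  intro A B a b c
  obtain ⟨P, K, p1, k1, l1, d1, n1, a1, e1⟩ := dec A a
  obtain ⟨Q, L, p2, k2, l2, d2, n2, a2, e2⟩ := dec B b
  have cc : Nat.card (A.comap f) = Nat.card (B.comap f) := by rw [card_comap_of_surjective f hf, card_comap_of_surjective f hf, c]
  have cP : Nat.card P = Nat.card Q := by rw [p1.card_eq, p2.card_eq, cc]
  have cK : Nat.card K = Nat.card L := Nat.eq_of_mul_eq_mul_left (Nat.card_pos (α := P)) (by
    rw [p1.hall.card_mul k1, cc, cP, p2.hall.card_mul k2])
  have fin : ∀ g, cj g P = Q → cj g K = L → ∃ g : G', B = A.map (MulAut.conj g).toMonoidHom := fun g u v =>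
    ⟨f g, by rw [← e1, ← e2, ← u, ← v, map_cj, map_cj, ← cj_sup]; rfl⟩
  have ab : IsMulCommutative (A.comap f) → IsMulCommutative (B.comap f) → ∃ g : G', B = A.map (MulAut.conj g).toMonoidHom := fun u v => by
    obtain ⟨g, e⟩ := h _ _ u v cc
    refine ⟨f g, ?_⟩
    rw [← map_comap_eq_self_of_surjective hf B, e]
    exact (map_cj _ _ _).trans (by rw [map_comap_eq_self_of_surjective hf]; rfl)
  obtain ⟨g, hg⟩ := h K L a1 a2 cK
  by_cases e : P = f.ker
  · refine fin g ?_ hg.symm
    rw [e, cj_eq_of_norm (le_normalizer_of_normal (mem_top g))]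
    exact CfsgH1.eq_of_le_of_card_le l2 (by rw [← cP, e])
  have e' : Q ≠ f.ker := fun k => e (CfsgH1.eq_of_le_of_card_le l1 (by rw [cP, k])).symm
  have H : ∀ S, IsSylowIn p S ⊤ → _ := fun S hS => exp_or_cyc hS.pgroup fun A B a b c d e => by
    obtain ⟨g, rfl⟩ := h A B a b (c.trans d.symm)
    exact cyclic_conj g e
  have coP : ∀ {P K : Subgroup G} {X}, IsSylowIn p P X → Hall {p}ᶜ K X → (Nat.card K).Coprime (Nat.card P) := fun a b =>
    (coprime_pgroup_p' a.pgroup b.isPi).symm
  have sup : ∀ {P K : Subgroup G} {X}, IsSylowIn p P X → Hall {p}ᶜ K X → P ≤ C(P) → P ≤ C(K) → IsMulCommutative K →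
      IsMulCommutative X := fun a b c d e => a.hall.sup_eq b ▸ isMulCommutative_sup (comm_iff.2 c) e (cent_symm d)
  obtain ⟨S, hS, PS⟩ := IsSylowIn.exists_le p1.pgroup (le_top (a := P))
  obtain ⟨T, hT, QT⟩ := IsSylowIn.exists_le p2.pgroup (le_top (a := Q))
  obtain ⟨u, -, hu⟩ := hS.exists_cj_eq hT
  rcases H S hS with k | k | ⟨rfl, n, ⟨k⟩⟩
  · exact (e (le_antisymm (fun x hx => h.mem (dvd_card_of_isPGroup hMp h0) (k x (PS hx))) l1)).elim
  · have cy : ∀ {P K : Subgroup G} {X}, IsSylowIn p P X → Hall {p}ᶜ K X → f.ker ≤ P → ⁅X, X⁆ ≤ f.ker → X ≤ N(P) →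
        IsMulCommutative K → IsCyclic P → P ≠ f.ker → IsMulCommutative X := fun {P K X} a b c d e i j m => by
      refine sup a b (comm_of_cyclic j) (cent_of_comm_eq_bot ?_) i
      by_contra t
      have n := b.le.trans e
      refine inf_ne_bot_of_cyclic a.pgroup j (comm_le_left n) (inf_le_left (b := C(K))) t (fun t => m (le_antisymm ?_ c))
        (le_bot_iff.1 ((inf_le_inf_left _ inf_le_right).trans (coprime_comm_inf_cent (comm_of_cyclic j) n (coP a b)).le))
      haveI := a.pgroup.isNilpotent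
      exact (comm_eq_of_inf_cent_eq_bot n (coP a b) inferInstance t).ge.trans ((commutator_mono a.le b.le).trans d)
    exact ab (cy p1 k1 l1 d1 n1 a1 (CfsgFT.isCyclic_of_le' k PS) e) (cy p2 k2 l2 d2 n2 a2 (CfsgFT.isCyclic_of_le' (hu ▸ isCyclic_cj k u) QT) e')
  have c8 := h.quat (hs.resolve_left (not_not.2 rfl)) hS k
  obtain ⟨a0, b0, i1, i2⟩ := exists_idx2_of_quaternion k
  have ui := i1.uniqInv (pow_ne_zero n two_ne_zero) i2
  have cen : ∀ X : Subgroup G, f.ker ≤ C(X) := fun X x hx y _ => by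
    by_cases x1 : x = 1
    · simp [x1]
    have hy := f.normal_ker.conj_mem x hx y
    rw [← mul_inv_eq_iff_eq_mul]
    exact ui _ (PS (l1 hy)) _ (PS (l1 hx)) (orderOf_eq_prime (hM.2 _ hy) (by simpa using x1)) (orderOf_eq_prime (hM.2 _ hx) x1)
  have c1 : P ≤ C(K) := le_centralizer_of_commutator_le (coprime_of_le_right (coP p1 k1) l1)
    ((commutator_mono p1.le k1.le).trans d1) (cen K)
  have c2 : Q ≤ C(L) := le_centralizer_of_commutator_le (coprime_of_le_right (coP p2 k2) l2)
    ((commutator_mono p2.le k2.le).trans d2) (cen L)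
  by_cases c4 : Nat.card P = Nat.card S
  · have s1 := ((hS.of_card_le p1.pgroup le_top c4.ge).cj_of_mem_normalizer (le_norm_top ⊤ (mem_top g))).mono
      ((show cj g K = L from hg.symm) ▸ cj_le_cent_cj c1 g) le_top
    have s2 := (hS.of_card_le p2.pgroup le_top (c4.ge.trans cP.le)).mono c2 le_top
    obtain ⟨c, hc, v⟩ := s1.exists_cj_eq s2
    exact fin (c * g) (by rw [← cj_cj, v]) (by rw [← cj_cj, show cj g K = L from hg.symm, cj_eq_of_cent hc])
  · have sm : ∀ {P : Subgroup G}, IsPGroup 2 P → Nat.card P < 8 → P ≤ C(P) := fun {P} a b => by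
      obtain ⟨j, hj⟩ := a.exists_card_eq
      have : j < 3 := (Nat.pow_lt_pow_iff_right one_lt_two).1 (hj ▸ b)
      refine comm_iff.1 ?_
      interval_cases j
      · have := (Nat.card_eq_one_iff_unique.1 hj).1; infer_instance
      · exact (isCyclic_of_prime_card hj).isMulCommutative
      · exact IsPGroup.isMulCommutative_of_card_eq_prime_sq hj
    have := (lt_of_le_of_ne (card_le_of_le PS) c4).trans_le c8
    exact ab (sup p1 k1 (sm p1.pgroup this) c1 a1) (sup p2 k2 (sm p2.pgroup (cP ▸ this)) c2 a2)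

theorem AbC.quot (n : ℕ) : ∀ {G : Type u} [Group G] [Finite G] {G' : Type u} [Group G'] (f : G →* G'), Function.Surjective f →
    Nat.card G = n → AbC G → Group.IsSolvable f.ker → (Odd (Nat.card f.ker) ∨ Group.IsSolvable G) → AbC G' := by
  induction n using Nat.strong_induction_on with | _ n ih => ?_
  intro G _ _ G' _ f hf hn h hs ho
  by_cases h0 : f.ker = ⊥
  · intro A B a b c
    have i := (MonoidHom.ker_eq_bot_iff f).1 h0
    obtain ⟨g, e⟩ := h (A.comap f) (B.comap f) (comap_injective_isMulCommutative _ i) (comap_injective_isMulCommutative _ i)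
      (by rw [card_comap_of_surjective f hf, card_comap_of_surjective f hf, c])
    refine ⟨f g, ?_⟩
    rw [← map_comap_eq_self_of_surjective hf B, e]
    exact (map_cj _ _ _).trans (by rw [map_comap_eq_self_of_surjective hf]; rfl)
  obtain ⟨M, p, hp, _, m1, m2, m3, m4, m5, -⟩ := exists_minNormal_elementary f.ker hs h0
  haveI := Fact.mk hp
  have k := QuotientGroup.ker_lift M f m2
  refine ih _ (hn ▸ card_quotient_lt m1) (QuotientGroup.lift M f m2) (QuotientGroup.lift_surjective_of_surjective _ _ hf _) rfl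
    (h.quot_ea (p := p) (ho.imp_left fun o e => ?_) _ (QuotientGroup.mk'_surjective M) (by rw [QuotientGroup.ker_mk']; exact ⟨m3, m5⟩)
    (by rwa [QuotientGroup.ker_mk'])) (k ▸ isSolvable_map hs _) (ho.imp (fun o => k ▸ o.of_dvd_nat (card_map_dvd _ _)) fun (_ : Group.IsSolvable G) => inferInstance)
  exact Nat.not_even_iff_odd.2 o (even_iff_two_dvd.2 ((e ▸ dvd_card_of_isPGroup m4 m1).trans (card_dvd_of_le m2)))

end CfsgH9
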