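import Cfsg.Agent.H5.FieldQ
import Cfsg.Prelude.Def_Classical

set_option autoImplicit false
set_option linter.unusedSectionVars false

namespace Cfsg.Agent.H9.CI

open Matrix

variable {F : Type*} [Field F] (σ : F →+* F)

def B (u v : Fin 3 → F) : F := u 0 * σ (v 0) + u 1 * σ (v 1) + u 2 * σ (v 2)

def RR (v : Fin 3 → F) : Matrix (Fin 3) (Fin 3) F := (2 / B σ v v) • vecMulVec v (fun i => σ (v i)) - 1

theorem RR_mulVec (v u : Fin 3 → F) : RR σ v *ᵥ u = (2 / B σ v v * B σ u v) • v - u := by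
  ext i
  simp only [RR, sub_mulVec, smul_mulVec, one_mulVec, Pi.sub_apply, Pi.smul_apply, smul_eq_mul]
  simp only [mulVec, dotProduct, vecMulVec_apply, Fin.sum_univ_three, B]
  ring

theorem B_sub (a : F) (v u w : Fin 3 → F) : B σ (a • v - u) w = a * B σ v w - B σ u w := by
  simp only [B, Pi.sub_apply, Pi.smul_apply, smul_eq_mul]; ring

theorem B_sub' (a : F) (v u w : Fin 3 → F) : B σ w (a • v - u) = σ a * B σ w v - B σ w u := by
  simp only [B, Pi.sub_apply, Pi.smul_apply, smul_eq_mul, map_sub, map_mul]; ring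

theorem B_smul (a b : F) (v w : Fin 3 → F) : B σ (a • v) (b • w) = a * σ b * B σ v w := by
  simp only [B, Pi.smul_apply, smul_eq_mul, map_mul]; ring

variable {σ}

theorem B_conj (hσ : ∀ a, σ (σ a) = a) (u v : Fin 3 → F) : σ (B σ u v) = B σ v u := by
  simp only [B, map_add, map_mul, hσ]; ring

theorem RR_det {v : Fin 3 → F} (hv : B σ v v ≠ 0) : (RR σ v).det = 1 := by
  have h : 2 / B σ v v * B σ v v = 2 := div_mul_cancel₀ _ hv
  rw [det_fin_three, RR]
  generalize 2 / B σ v v = c at h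
  simp [vecMulVec_apply]
  unfold B at h
  linear_combination h

theorem RR_B (hσ : ∀ a, σ (σ a) = a) {v : Fin 3 → F} (hv : B σ v v ≠ 0) (u w : Fin 3 → F) :
    B σ (RR σ v *ᵥ u) (RR σ v *ᵥ w) = B σ u w := by
  rw [RR_mulVec, RR_mulVec, B_sub, B_sub', B_sub', map_mul, map_div₀, B_conj hσ, B_conj hσ, map_ofNat]
  field_simp; ring

theorem mext {A C : Matrix (Fin 3) (Fin 3) F} (h : ∀ u, A *ᵥ u = C *ᵥ u) : A = C :=
  Matrix.toLin'.injective (LinearMap.ext h)

theorem RR_sq {v : Fin 3 → F} (hv : B σ v v ≠ 0) : RR σ v * RR σ v = 1 := mext fun u => by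
  rw [← mulVec_mulVec, RR_mulVec, RR_mulVec, B_sub, one_mulVec]
  have : 2 / B σ v v * (2 / B σ v v * B σ u v * B σ v v - B σ u v) = 2 / B σ v v * B σ u v := by
    field_simp; ring
  rw [this, sub_sub_cancel]

theorem RR_self {v : Fin 3 → F} (hv : B σ v v ≠ 0) : RR σ v *ᵥ v = v := by
  rw [RR_mulVec, div_mul_cancel₀ _ hv, two_smul, add_sub_cancel_right]

theorem RR_ne (h2 : (2 : F) ≠ 0) {v : Fin 3 → F} (hv : B σ v v ≠ 0) : RR σ v ≠ 1 := fun h => by
  have := congrArg trace h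
  have h' : 2 / B σ v v * B σ v v = 2 := div_mul_cancel₀ _ hv
  rw [trace_fin_three, trace_fin_three, RR] at this
  generalize 2 / B σ v v = c at h' this
  simp [vecMulVec_apply] at this
  unfold B at h'
  exact mul_ne_zero h2 h2 (by linear_combination h' - this)

theorem RR_fix (h2 : (2 : F) ≠ 0) {v y : Fin 3 → F} (h : RR σ v *ᵥ y = y) : ∃ c : F, y = c • v := by
  rw [RR_mulVec, sub_eq_iff_eq_add, ← two_smul F] at h
  exact ⟨_, by rw [← inv_smul_smul₀ h2 y, ← h, smul_smul]⟩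

theorem RR_eq_iff (h2 : (2 : F) ≠ 0) {a b : Fin 3 → F} (hb : B σ b b ≠ 0) :
    RR σ a = RR σ b ↔ ∃ c : F, b = c • a := by
  refine ⟨fun h => RR_fix h2 (by rw [h, RR_self hb]), ?_⟩
  rintro ⟨c, rfl⟩
  rw [B_smul] at hb
  have h1 := left_ne_zero_of_mul (left_ne_zero_of_mul hb)
  have h3 := right_ne_zero_of_mul (left_ne_zero_of_mul hb)
  have h4 := right_ne_zero_of_mul hb
  ext i j
  simp only [RR, B_smul, Matrix.sub_apply, Matrix.smul_apply, vecMulVec_apply, Pi.smul_apply,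
    smul_eq_mul, map_mul]
  field_simp

theorem RR_comm_iff (hσ : ∀ a, σ (σ a) = a) (h2 : (2 : F) ≠ 0) {a b : Fin 3 → F} (ha : B σ a a ≠ 0)
    (hb : B σ b b ≠ 0) :
    RR σ a * RR σ b = RR σ b * RR σ a ↔ B σ a b = 0 ∨ ∃ c : F, b = c • a := by
  constructor
  · intro h
    have h1 : RR σ a *ᵥ (RR σ b *ᵥ a) = RR σ b *ᵥ a := by
      rw [mulVec_mulVec, h, ← mulVec_mulVec, RR_self ha]
    obtain ⟨c, hc⟩ := RR_fix h2 h1
    rw [or_iff_not_imp_left]
    intro h0
    have h3 : 2 / B σ b b * B σ a b ≠ 0 := mul_ne_zero (div_ne_zero h2 hb) h0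
    rw [RR_mulVec, sub_eq_iff_eq_add] at hc
    exact ⟨(2 / B σ b b * B σ a b)⁻¹ * (c + 1), by
      rw [← smul_smul, add_smul, one_smul, ← hc, inv_smul_smul₀ h3]⟩
  · rintro (h | h)
    · have h' : B σ b a = 0 := by rw [← B_conj hσ, h, map_zero]
      refine mext fun u => ?_
      simp only [← mulVec_mulVec, RR_mulVec, B_sub, h, h']
      module
    · rw [(RR_eq_iff h2 hb).2 h]

theorem inv_eq_RR (h2 : (2 : F) ≠ 0) {x : Matrix (Fin 3) (Fin 3) F} (hd : x.det = 1) (hx : x * x = 1)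
    (h1 : x ≠ 1) (hh : ∀ i j, σ (x i j) = x j i) : ∃ v, B σ v v ≠ 0 ∧ x = RR σ v := by
  have ha : adjugate x = x := by
    rw [← mul_one (adjugate x), ← hx, ← mul_assoc, adjugate_mul, hd, one_smul, one_mul]
  have hch : adjugate x = x * x - x.trace • x + (adjugate x).trace • (1 : Matrix (Fin 3) (Fin 3) F) := by
    ext i j
    fin_cases i <;> fin_cases j <;>
      simp [adjugate_fin_three, mul_apply, Fin.sum_univ_three, trace_fin_three] <;> ring
  have ht : 1 + x.trace = 0 := by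
    by_contra h0
    rw [ha, hx] at hch
    refine h1 (smul_right_injective _ h0 ?_)
    simp only [add_smul, one_smul]
    linear_combination (norm := module) hch
  rw [trace_fin_three] at ht
  have e := fun i j => congrFun (congrFun ha i) j
  have e00 := e 0 0; have e01 := e 0 1; have e02 := e 0 2
  have e10 := e 1 0; have e11 := e 1 1; have e12 := e 1 2
  have e20 := e 2 0; have e21 := e 2 1; have e22 := e 2 2
  simp [adjugate_fin_three] at e00 e01 e02 e10 e11 e12 e20 e21 e22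
  have hm : ∀ k i j, (1 + x : Matrix _ _ F) i k * (1 + x : Matrix _ _ F) k j =
      (1 + x : Matrix _ _ F) i j * (1 + x : Matrix _ _ F) k k := by
    intro k i j
    fin_cases k <;> fin_cases i <;> fin_cases j <;> simp <;>
      first
      | ring1
      | linear_combination e01 | linear_combination e02 | linear_combination e10
      | linear_combination e12 | linear_combination e20 | linear_combination e21
      | linear_combination -e00 - ht | linear_combination -e11 - ht | linear_combination -e22 - ht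
  have hh' : ∀ i j, σ ((1 + x : Matrix (Fin 3) (Fin 3) F) i j) = (1 + x : Matrix _ _ F) j i := fun i j => by
    by_cases h : i = j
    · subst h; simp [hh]
    · simp [hh, h, Ne.symm h]
  have htr : (1 + x : Matrix (Fin 3) (Fin 3) F) 0 0 + (1 + x : Matrix (Fin 3) (Fin 3) F) 1 1 +
      (1 + x : Matrix (Fin 3) (Fin 3) F) 2 2 = 2 := by
    simp; linear_combination ht
  obtain ⟨k, hk⟩ : ∃ k, (1 + x : Matrix (Fin 3) (Fin 3) F) k k ≠ 0 := by
    by_contra hc
    push Not at hc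
    rw [hc, hc, hc] at htr
    exact h2 (by linear_combination -htr)
  have hx' : x = (1 + x) - 1 := by abel
  generalize (1 + x : Matrix (Fin 3) (Fin 3) F) = M at *
  have hB : B σ (fun i => M i k) (fun i => M i k) = 2 * M k k := by
    simp only [B, hh']; rw [hm k 0 0, hm k 1 1, hm k 2 2, ← htr]; ring
  refine ⟨fun i => M i k, by rw [hB]; exact mul_ne_zero h2 hk, ?_⟩
  rw [hx', RR, hB]
  congr 1
  ext i j
  simp only [Matrix.smul_apply, vecMulVec_apply, smul_eq_mul, hh']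
  rw [hm k i j]
  field_simp

theorem three (hσ : ∀ a, σ (σ a) = a) (h2 : (2 : F) ≠ 0) {a : Fin 3 → F} (ha : B σ a a ≠ 0) :
    B σ ![0, σ (a 2), -σ (a 1)] ![0, σ (a 2), -σ (a 1)] ≠ 0 ∨
    B σ ![σ (a 1), -σ (a 0), 0] ![σ (a 1), -σ (a 0), 0] ≠ 0 ∨
    B σ ![σ (a 2), 0, -σ (a 0)] ![σ (a 2), 0, -σ (a 0)] ≠ 0 := by
  by_contra hc
  push Not at hc
  obtain ⟨h1, h3, h4⟩ := hc
  simp [B, hσ] at h1 h3 h4
  refine mul_ne_zero h2 ha ?_
  unfold B
  linear_combination h1 + h3 + h4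

theorem frame [Finite F] (hσ : ∀ a, σ (σ a) = a) (h2 : (2 : F) ≠ 0)
    (hn : ∀ a, σ a = a → ∃ c : F, c * σ c = a) {w : Fin 3 → F} (hw : B σ w w ≠ 0) :
    ∃ L : (Fin 3 → F) ≃ₗ[F] (Fin 3 → F), (∀ a b, B σ (L a) (L b) = B σ a b) ∧
      ∃ c : F, L ![1, 0, 0] = c • w := by
  have unit : ∀ v, B σ v v ≠ 0 → ∃ c : F, B σ (c • v) (c • v) = 1 := fun v hv => by
    obtain ⟨c, hc⟩ := hn (B σ v v)⁻¹ (by rw [map_inv₀, B_conj hσ])
    exact ⟨c, by rw [B_smul, hc, inv_mul_cancel₀ hv]⟩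
  obtain ⟨u, hu, hwu⟩ : ∃ u, B σ u u ≠ 0 ∧ B σ w u = 0 := by
    rcases three hσ h2 hw with h | h | h <;> exact ⟨_, h, by simp [B, hσ]; ring⟩
  obtain ⟨c, hc⟩ := unit w hw
  obtain ⟨c', hc'⟩ := unit u hu
  have h3 : B σ (c • w) (c' • u) = 0 := by rw [B_smul, hwu, mul_zero]
  have h4 : B σ (c' • u) (c • w) = 0 := by rw [← B_conj hσ, h3, map_zero]
  generalize hw' : c • w = w' at *
  generalize c' • u = u' at *
  let z : Fin 3 → F := ![σ (w' 1 * u' 2 - w' 2 * u' 1), σ (w' 2 * u' 0 - w' 0 * u' 2),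
    σ (w' 0 * u' 1 - w' 1 * u' 0)]
  let L0 : (Fin 3 → F) →ₗ[F] (Fin 3 → F) := Matrix.toLin' (of fun i => ![w' i, u' i, z i])
  have hL : ∀ a b, B σ (L0 a) (L0 b) = B σ a b := fun a b => by
    simp [L0, z, B, mulVec, dotProduct, Fin.sum_univ_three, hσ]
    unfold B at hc hc' h3 h4
    linear_combination (a 0 * σ (b 0) + a 2 * σ (b 2) * (u' 0 * σ (u' 0) + u' 1 * σ (u' 1) + u' 2 * σ (u' 2))) * hc +
      (a 1 * σ (b 1) + a 2 * σ (b 2)) * hc' +
      (a 0 * σ (b 1) - a 2 * σ (b 2) * (u' 0 * σ (w' 0) + u' 1 * σ (w' 1) + u' 2 * σ (w' 2))) * h3 +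
      a 1 * σ (b 0) * h4
  have hinj : Function.Injective L0 := by
    rw [injective_iff_map_eq_zero]
    intro a ha
    have e0 := hL a ![1, 0, 0]; have e1 := hL a ![0, 1, 0]; have e2 := hL a ![0, 0, 1]
    rw [ha] at e0 e1 e2
    simp [B] at e0 e1 e2
    ext i; fin_cases i
    · exact e0.symm
    · exact e1.symm
    · exact e2.symm
  refine ⟨LinearEquiv.ofBijective L0 ⟨hinj, Finite.injective_iff_surjective.1 hinj⟩, hL, c, ?_⟩
  rw [hw']
  ext i
  change L0 ![1, 0, 0] i = _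
  simp [L0, mulVec, dotProduct, Fin.sum_univ_three]

end Cfsg.Agent.H9.CI
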