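import Cfsg.Agent.H9.CI1

set_option autoImplicit false
set_option linter.unusedSectionVars false

namespace Cfsg.Agent.H9.CI

open Matrix CfsgH5

variable {F : Type*} [Field F] [Fintype F] {q : ℕ} (hF : Fintype.card F = q ^ 2)

theorem herm (u v : Fin 3 → F) : Cfsg.hermForm 3 F q u v = B (frobQ hF) u v := by
  simp [Cfsg.hermForm, B, Fin.sum_univ_three, frobQ_apply]

def rho (v : Fin 3 → F) (hv : B (frobQ hF) v v ≠ 0) : Cfsg.SU 3 F q :=
  ⟨⟨RR (frobQ hF) v, RR_det hv⟩, fun u w => by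
    rw [herm hF, herm hF]; exact RR_B (frobQ_invol hF) hv u w⟩

theorem sext {x y : Cfsg.SU 3 F q} : x = y ↔ x.1.1 = y.1.1 :=
  ⟨fun h => h ▸ rfl, fun h => Subtype.ext (Subtype.ext h)⟩

theorem rho_surj (h2 : (2 : F) ≠ 0) (x : Cfsg.SU 3 F q) (h1 : x ≠ 1) (hx : x * x = 1) :
    ∃ v hv, x = rho hF v hv := by
  have hx' : x.1.1 * x.1.1 = 1 := sext.1 hx
  have hB : ∀ u v, B (frobQ hF) (x.1.1 *ᵥ u) (x.1.1 *ᵥ v) = B (frobQ hF) u v := fun u v => by
    rw [← herm hF, ← herm hF]; exact x.2 u v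
  obtain ⟨v, hv, h⟩ := inv_eq_RR (σ := frobQ hF) h2 x.1.2 hx' (fun h => h1 (sext.2 h)) (fun i j => by
    have := hB (Pi.single i 1) (x.1.1 *ᵥ Pi.single j 1)
    rw [mulVec_mulVec, hx', one_mulVec] at this
    fin_cases i <;> fin_cases j <;> simpa [B] using this.symm)
  exact ⟨v, hv, sext.2 h⟩

theorem card_pairs {s : F} (hs : frobQ hF s = s) :
    Nat.card {p : F × F // p.1 * frobQ hF p.1 + p.2 * frobQ hF p.2 = s} +
      Nat.card {c : F // c * frobQ hF c = s} * q = q ^ 2 * (q + 1) := by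
  classical
  have h0 : Nat.card {c : F // c * frobQ hF c = 0} = 1 := by
    rw [Nat.card_eq_one_iff_exists]
    exact ⟨⟨0, by simp⟩, fun ⟨c, hc⟩ => Subtype.ext (by simpa using hc)⟩
  rw [Nat.card_congr (Equiv.subtypeProdEquivSigmaSubtype
    (fun b c : F => b * frobQ hF b + c * frobQ hF c = s)), Nat.card_sigma, Nat.subtype_card
    (Finset.univ.filter fun c : F => c * frobQ hF c = s) (by simp), Finset.card_filter, Finset.sum_mul,
    ← Finset.sum_add_distrib, ← hF, ← Finset.card_univ, ← smul_eq_mul, ← Finset.sum_const]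
  refine Finset.sum_congr rfl fun b _ => ?_
  simp only [← eq_sub_iff_add_eq']
  split_ifs with h
  · rw [h, sub_self, h0]; ring
  · rw [card_norm_fiber hF (sub_ne_zero.2 (Ne.symm h))
      (by rw [map_sub, map_mul, hs, frobQ_invol, mul_comm])]; ring

theorem card_not {α : Type*} [Finite α] (p : α → Prop) :
    Nat.card {x // p x} + Nat.card {x // ¬ p x} = Nat.card α := by
  classical
  rw [← Nat.card_sum]; exact Nat.card_congr (Equiv.sumCompl p)

theorem card_or {α : Type*} [Finite α] (p r : α → Prop) (h : ∀ x, p x → ¬ r x) :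
    Nat.card {x // p x ∨ r x} = Nat.card {x // p x} + Nat.card {x // r x} := by
  classical
  rw [← Nat.card_sum]
  exact Nat.card_congr (subtypeOrEquiv p r (Pi.disjoint_iff.2 fun x => by
    simpa [disjoint_iff, Prop.bot_eq_false] using h x))

include hF in
theorem main (hq : Odd q) (t : ↥(Cfsg.SU 3 F q)) (ht : t ≠ 1) (ht2 : t * t = 1) :
    Nat.card {x : ↥(Cfsg.SU 3 F q) // x ≠ 1 ∧ x * x = 1 ∧ x ≠ t ∧ Commute t x} = q * (q - 1) ∧
    Nat.card {x : ↥(Cfsg.SU 3 F q) // x ≠ 1 ∧ x * x = 1 ∧ ¬ Commute t x ∧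
        ∃ y : ↥(Cfsg.SU 3 F q), y ≠ 1 ∧ y * y = 1 ∧ Commute t y ∧ Commute y x} = q * (q - 2) * (q ^ 2 - 1) ∧
    Nat.card {x : ↥(Cfsg.SU 3 F q) // x ≠ 1 ∧ x * x = 1 ∧ ¬ Commute t x ∧
        ∀ y : ↥(Cfsg.SU 3 F q), y ≠ 1 → y * y = 1 → ¬ (Commute t y ∧ Commute y x)} = (q + 1) * (q ^ 2 - 1) ∧
    ∀ x : ↥(Cfsg.SU 3 F q), x ≠ 1 → x * x = 1 →
      ∃ y z : ↥(Cfsg.SU 3 F q), y ≠ 1 ∧ y * y = 1 ∧ z ≠ 1 ∧ z * z = 1 ∧
        Commute t y ∧ Commute y z ∧ Commute z x := by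
  have h2 : (2 : F) ≠ 0 := fun h => by
    have h3 := FiniteField.even_card_of_char_two (F := F) (by
      apply CharP.ringChar_of_prime_eq_zero Nat.prime_two; exact_mod_cast h)
    rw [hF] at h3
    exact (Nat.not_even_iff_odd.2 (hq.pow (n := 2))) (Nat.even_iff.2 h3)
  have hσ := frobQ_invol hF
  obtain ⟨w, hw, rfl⟩ := rho_surj hF h2 t ht ht2
  obtain ⟨L, hL, c0, hc0⟩ := frame hσ h2 (fun a => exists_norm hF) hw
  let r : ∀ a : Fin 3 → F, B (frobQ hF) a a ≠ 0 → Cfsg.SU 3 F q := fun a ha =>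
    rho hF (L a) (by rw [hL]; exact ha)
  have hprop : ∀ a b : Fin 3 → F, (∃ c : F, L b = c • L a) ↔ ∃ c : F, b = c • a := fun a b => by
    simp only [← map_smul, L.injective.eq_iff]
  have r1 : ∀ a ha, r a ha ≠ 1 := fun a ha h => RR_ne h2 (by rw [hL]; exact ha) (sext.1 h)
  have r2 : ∀ a ha, r a ha * r a ha = 1 := fun a ha => sext.2 (RR_sq (by rw [hL]; exact ha))
  have r3 : ∀ x : Cfsg.SU 3 F q, x ≠ 1 → x * x = 1 → ∃ a ha, x = r a ha := fun x h1 hx => by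
    obtain ⟨v, hv, rfl⟩ := rho_surj hF h2 x h1 hx
    obtain ⟨a, rfl⟩ := L.surjective v
    exact ⟨a, by rwa [hL] at hv, rfl⟩
  have r4 : ∀ a ha b hb, r a ha = r b hb ↔ ∃ c : F, b = c • a := fun a ha b hb => by
    rw [sext, ← hprop]; exact RR_eq_iff h2 (by rw [hL]; exact hb)
  have r5 : ∀ a ha b hb, Commute (r a ha) (r b hb) ↔ B (frobQ hF) a b = 0 ∨ ∃ c : F, b = c • a :=
    fun a ha b hb => by
      rw [Commute, SemiconjBy, sext, ← hprop, ← hL a b]
      exact RR_comm_iff hσ h2 (by rw [hL]; exact ha) (by rw [hL]; exact hb)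
  have he : B (frobQ hF) ![1, 0, 0] ![1, 0, 0] ≠ 0 := by simp [B]
  have ht' : rho hF w hw = r _ he := sext.2 ((RR_eq_iff h2 (by rw [hL]; exact he)).2 ⟨c0, hc0⟩)
  rw [ht']
  clear_value r
  clear ht' hc0 ht ht2 hw w hL hprop L
  have c1 : ∀ a ha, Commute (r _ he) (r a ha) ↔ a 0 = 0 ∨ (a 1 = 0 ∧ a 2 = 0) := fun a ha => by
    rw [r5]
    refine or_congr (by simp [B]) ⟨?_, fun h => ⟨a 0, ?_⟩⟩
    · rintro ⟨c, rfl⟩; simp
    · ext i; fin_cases i <;> simp [h.1, h.2]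
  have c2 : ∀ a ha, ¬ Commute (r _ he) (r a ha) →
      ((∃ y : ↥(Cfsg.SU 3 F q), y ≠ 1 ∧ y * y = 1 ∧ Commute (r _ he) y ∧ Commute y (r a ha)) ↔
        a 1 * frobQ hF (a 1) + a 2 * frobQ hF (a 2) ≠ 0) := fun a ha hc => by
    constructor
    · rintro ⟨y, hy1, hy2, hy3, hy4⟩ h0
      obtain ⟨u, hu, rfl⟩ := r3 y hy1 hy2
      rcases (r5 _ _ _ _).1 hy4 with h4 | h4
      swap
      · exact hc (((r4 _ hu _ ha).2 h4) ▸ hy3)
      rcases (r5 _ _ _ _).1 hy3 with h3 | h3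
      swap
      · exact hc (((r4 _ he _ hu).2 h3) ▸ hy4)
      have hu0 : u 0 = 0 := by simpa [B] using h3
      have h5 := congrArg (frobQ hF) h4
      rw [B_conj hσ, map_zero] at h5
      rw [c1, not_or, not_and_or] at hc
      simp only [B, hu0, zero_mul, zero_add, map_zero, mul_zero] at h4 h5 hu
      rcases hc.2 with h6 | h6
      · refine mul_ne_zero (mul_ne_zero h6 ((map_ne_zero (frobQ hF)).2 h6)) hu ?_
        linear_combination (u 2 * frobQ hF (u 2)) * h0 + (a 1 * frobQ hF (u 1)) * h4 -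
          (u 2 * frobQ hF (a 2)) * h5
      · refine mul_ne_zero (mul_ne_zero h6 ((map_ne_zero (frobQ hF)).2 h6)) hu ?_
        linear_combination (u 1 * frobQ hF (u 1)) * h0 + (a 2 * frobQ hF (u 2)) * h4 -
          (u 1 * frobQ hF (a 1)) * h5
    · intro h
      have hu : B (frobQ hF) ![0, frobQ hF (a 2), -frobQ hF (a 1)] ![0, frobQ hF (a 2), -frobQ hF (a 1)] ≠ 0 := by
        simp only [B]; simp [hσ]; intro h'; exact h (by linear_combination h')
      exact ⟨r _ hu, r1 _ _, r2 _ _, (c1 _ _).2 (Or.inl rfl),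
        (r5 _ _ _ _).2 (Or.inl (by simp [B]; ring))⟩
  have cnt : ∀ (P : F × F → Prop) (Φ : Cfsg.SU 3 F q → Prop)
      (hP : ∀ p, P p → B (frobQ hF) ![1, p.1, p.2] ![1, p.1, p.2] ≠ 0),
      (∀ p hp, ¬ Commute (r _ he) (r ![1, p.1, p.2] hp) ∧ Φ (r ![1, p.1, p.2] hp) ↔ P p) →
      Nat.card {x : Cfsg.SU 3 F q // x ≠ 1 ∧ x * x = 1 ∧ ¬ Commute (r _ he) x ∧ Φ x} =
        Nat.card {p // P p} := by
    intro P Φ hP h
    symm
    refine Nat.card_congr (Equiv.ofBijective (fun p => ⟨r _ (hP p.1 p.2), r1 _ _, r2 _ _,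
      (h _ _).2 p.2⟩) ⟨?_, ?_⟩)
    · intro p p' hh
      obtain ⟨c, hc⟩ := (r4 _ _ _ _).1 (congrArg Subtype.val hh)
      have e0 := congrFun hc 0; have e1 := congrFun hc 1; have e2 := congrFun hc 2
      simp at e0 e1 e2
      rw [← e0, one_mul] at e1 e2
      exact Subtype.ext (Prod.ext e1.symm e2.symm)
    · rintro ⟨x, h1, hx, h3⟩
      obtain ⟨a, ha, rfl⟩ := r3 x h1 hx
      have ha0 : a 0 ≠ 0 := fun h0 => h3.1 ((c1 _ _).2 (Or.inl h0))
      have hs : ![1, a 1 / a 0, a 2 / a 0] = (a 0)⁻¹ • a := by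
        ext i; fin_cases i <;> simp [ha0, div_eq_inv_mul]
      have hb : B (frobQ hF) ![1, a 1 / a 0, a 2 / a 0] ![1, a 1 / a 0, a 2 / a 0] ≠ 0 := by
        rw [hs, B_smul]
        exact mul_ne_zero (mul_ne_zero (inv_ne_zero ha0) ((map_ne_zero _).2 (inv_ne_zero ha0))) ha
      have he' : r a ha = r _ hb := (r4 _ _ _ _).2 ⟨_, hs⟩
      exact ⟨⟨(a 1 / a 0, a 2 / a 0), (h (a 1 / a 0, a 2 / a 0) hb).1 (he' ▸ h3)⟩, Subtype.ext he'.symm⟩
  have k0 : Nat.card {c : F // c * frobQ hF c = 0} = 1 := by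
    rw [Nat.card_eq_one_iff_exists]
    exact ⟨⟨0, by simp⟩, fun ⟨c, hc⟩ => Subtype.ext (by simpa using hc)⟩
  have k1 := card_norm_fiber hF (a := -1) (by simp) (by simp)
  have n0 := card_pairs hF (s := 0) (by simp)
  have n1 := card_pairs hF (s := -1) (by simp)
  rw [k0] at n0
  rw [k1] at n1
  have hq2 : 2 ≤ q := by
    have := Fintype.one_lt_card (α := F)
    rw [hF] at this
    by_contra h
    interval_cases q <;> omega
  obtain ⟨m, rfl⟩ := Nat.exists_eq_add_of_le' hq2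
  have hsq : (m + 2) ^ 2 - 1 = m ^ 2 + 4 * m + 3 := Nat.sub_eq_of_eq_add (by ring)
  refine ⟨?_, ?_, ?_, ?_⟩
  · have hb : ∀ c : {c : F // ¬ c * frobQ hF c = -1}, B (frobQ hF) ![0, 1, c.1] ![0, 1, c.1] ≠ 0 :=
      fun c h => c.2 (by simp [B] at h; linear_combination h)
    have hb' : B (frobQ hF) ![0, 0, 1] ![0, 0, 1] ≠ 0 := by simp [B]
    have hne : ∀ a ha, a 0 = 0 → r a ha ≠ r _ he := fun a ha h0 h => by
      obtain ⟨c, hc⟩ := (r4 _ _ _ _).1 h
      simpa [h0] using congrFun hc 0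
    have := Nat.card_congr (Equiv.ofBijective (β := {x : Cfsg.SU 3 F (m + 2) //
        x ≠ 1 ∧ x * x = 1 ∧ x ≠ r _ he ∧ Commute (r _ he) x})
      (fun o : Option {c : F // ¬ c * frobQ hF c = -1} => o.elim
        ⟨r _ hb', r1 _ _, r2 _ _, hne _ _ rfl, (c1 _ _).2 (Or.inl rfl)⟩
        fun c => ⟨r _ (hb c), r1 _ _, r2 _ _, hne _ _ rfl, (c1 _ _).2 (Or.inl rfl)⟩) ⟨?_, ?_⟩)
    · have h3 := card_not (fun c : F => c * frobQ hF c = -1)
      rw [k1, Nat.card_eq_fintype_card (α := F), hF] at h3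
      rw [← this, Finite.card_option, show m + 2 - 1 = m + 1 from rfl]
      zify at h3 ⊢; linear_combination h3
    · rintro (_ | c) (_ | c') hh
      · rfl
      · obtain ⟨k, hk⟩ := (r4 _ hb' _ (hb c')).1 (congrArg Subtype.val hh)
        simpa using congrFun hk 1
      · obtain ⟨k, hk⟩ := (r4 _ hb' _ (hb c)).1 (congrArg Subtype.val hh).symm
        simpa using congrFun hk 1
      · obtain ⟨k, hk⟩ := (r4 _ (hb c) _ (hb c')).1 (congrArg Subtype.val hh)
        have e1 := congrFun hk 1; have e2 := congrFun hk 2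
        simp at e1 e2
        rw [← e1, one_mul] at e2
        exact congrArg some (Subtype.ext e2.symm)
    · rintro ⟨x, h1, hx, h3, h4⟩
      obtain ⟨a, ha, rfl⟩ := r3 x h1 hx
      have ha0 : a 0 = 0 := by
        rcases (r5 _ _ _ _).1 h4 with h | h
        · simpa [B] using h
        · exact absurd ((r4 _ he _ ha).2 h).symm h3
      by_cases ha1 : a 1 = 0
      · refine ⟨none, Subtype.ext ((r4 _ hb' _ ha).2 ⟨a 2, ?_⟩)⟩
        ext i; fin_cases i <;> simp [ha0, ha1]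
      · have hs : a = a 1 • ![0, 1, a 2 / a 1] := by
          ext i; fin_cases i <;> simp [ha0, mul_div_cancel₀ _ ha1]
        have hc : ¬ a 2 / a 1 * frobQ hF (a 2 / a 1) = -1 := fun h => ha (by
          rw [hs, B_smul]; refine mul_eq_zero_of_right _ ?_; simp only [B]; simp [-map_div₀, h])
        exact ⟨some ⟨_, hc⟩, Subtype.ext ((r4 _ (hb ⟨_, hc⟩) _ ha).2 ⟨_, hs⟩)⟩
  · rw [cnt (fun p => ¬ (p.1 * frobQ hF p.1 + p.2 * frobQ hF p.2 = 0 ∨
      p.1 * frobQ hF p.1 + p.2 * frobQ hF p.2 = -1)) _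
      (fun p hp h => hp (Or.inr (by simp [B] at h; linear_combination h))) ?_]
    · have h3 := card_not (fun p : F × F => p.1 * frobQ hF p.1 + p.2 * frobQ hF p.2 = 0 ∨
        p.1 * frobQ hF p.1 + p.2 * frobQ hF p.2 = -1)
      rw [card_or _ _ (fun p h h' => by rw [h] at h'; simp at h'), Nat.card_prod,
        Nat.card_eq_fintype_card (α := F), hF] at h3
      rw [hsq, Nat.add_sub_cancel]
      zify at h3 n0 n1 ⊢; linear_combination h3 - n0 - n1
    · intro p hp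
      constructor
      · rintro ⟨h1, h3⟩ (h | h)
        · exact (c2 _ _ h1).1 h3 h
        · exact hp (by simp [B]; linear_combination h)
      · intro h
        have h1 : ¬ Commute (r _ he) (r ![1, p.1, p.2] hp) := by
          rw [c1]; rintro (h' | h')
          · simp at h'
          · simp at h'; exact h (Or.inl (by simp [h'.1, h'.2]))
        exact ⟨h1, (c2 _ _ h1).2 fun h' => h (Or.inl h')⟩
  · rw [cnt (fun p => ¬ p = 0 ∧ p.1 * frobQ hF p.1 + p.2 * frobQ hF p.2 = 0) _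
      (fun p hp h => by simp [B, add_assoc, hp.2] at h) ?_]
    · have h3 := card_or (fun p : F × F => p = 0)
        (fun p => ¬ p = 0 ∧ p.1 * frobQ hF p.1 + p.2 * frobQ hF p.2 = 0) (fun p h h' => h'.1 h)
      rw [Nat.card_congr (Equiv.subtypeEquivRight (q := fun p : F × F =>
        p.1 * frobQ hF p.1 + p.2 * frobQ hF p.2 = 0) fun p => by
          by_cases h : p = 0 <;> simp [h]), show Nat.card {p : F × F // p = 0} = 1 from
          Nat.card_eq_one_iff_exists.2 ⟨⟨0, rfl⟩, fun x => Subtype.ext x.2⟩] at h3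
      rw [hsq]
      zify at h3 n0 ⊢; linear_combination n0 - h3
    · intro p hp
      have h0 : ¬ Commute (r _ he) (r ![1, p.1, p.2] hp) ↔ ¬ p = 0 := by
        rw [c1]; simp [Prod.ext_iff]
      rw [← h0]
      refine and_congr_right fun h1 => ?_
      have := (c2 _ _ h1).not
      rw [not_not] at this
      refine Iff.trans ?_ this
      push Not; rfl
  · intro x h1 hx
    obtain ⟨a, ha, rfl⟩ := r3 x h1 hx
    rcases three hσ h2 ha with h | h | h
    · exact ⟨r _ h, r _ h, r1 _ _, r2 _ _, r1 _ _, r2 _ _, (c1 _ _).2 (Or.inl rfl), Commute.refl _,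
        (r5 _ _ _ _).2 (Or.inl (by simp [B]; ring))⟩
    · exact ⟨r ![0, 0, 1] (by simp [B]), r _ h, r1 _ _, r2 _ _, r1 _ _, r2 _ _, (c1 _ _).2 (Or.inl rfl),
        (r5 _ _ _ _).2 (Or.inl (by simp [B])), (r5 _ _ _ _).2 (Or.inl (by simp [B]; ring))⟩
    · exact ⟨r ![0, 1, 0] (by simp [B]), r _ h, r1 _ _, r2 _ _, r1 _ _, r2 _ _, (c1 _ _).2 (Or.inl rfl),
        (r5 _ _ _ _).2 (Or.inl (by simp [B])), (r5 _ _ _ _).2 (Or.inl (by simp [B]; ring))⟩

end Cfsg.Agent.H9.CI
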