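import Cfsg.Agent.H2.CSize
import Cfsg.Agent.H1.Frob
import Cfsg.Agent.H1.Fact

set_option autoImplicit false
set_option linter.unusedSectionVars false
open Cfsg Subgroup CfsgH1 CfsgH2 CfsgFT
open scoped commutatorElement

/-! More on conjugacy class sizes. -/
namespace CfsgH9
variable {G : Type*} [Group G] [Finite G] {p : ℕ}

theorem le_of_forall_conj {H C : Subgroup G}
    (h : ∀ g ∈ C, ∃ x ∈ C, x * g * x⁻¹ ∈ H) : C ≤ H := by
  rw [← subgroupOf_eq_top]
  apply eq_top_of_forall_conj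
  intro g
  obtain ⟨x, hx, e⟩ := h g g.2
  exact ⟨⟨x, hx⟩⁻¹, by simpa [mem_subgroupOf] using e⟩

theorem pcls_split [hp : Fact p.Prime] {C P : Subgroup G}
    (h : ∀ y ∈ C, (orderOf y).Coprime p → ¬ p ∣ (C1(y)).relIndex C) (hP : IsSylowIn p P C) :
    resIn p C ≤ C(P) ∧ C ≤ N(P) ∧ ¬ p ∣ Nat.card (resIn p C) := by
  have key : ∀ a y : G, a ∈ C → y ∈ C → (∃ k, orderOf a = p ^ k) → (orderOf y).Coprime p → Commute a y →
      ∃ x ∈ C, x * a * x⁻¹ ∈ P ∧ x * y * x⁻¹ ∈ C(P) := by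
    intro a y ha hy ⟨k, hk⟩ ho hc
    obtain ⟨S, hS, haS⟩ := IsSylowIn.exists_le (H := C1(y) ⊓ C) (isPGroup_zpowers_of_orderOf hk)
      (zpowers_le.2 ⟨mem_cent1.2 hc.eq.symm, ha⟩)
    have hS' := hS.trans_of_not_dvd inf_le_right (by rw [inf_relIndex_right]; exact h y hy ho)
    obtain ⟨x, hx, e⟩ := hS'.exists_cj_eq hP
    refine ⟨x, hx, e ▸ conj_mem_cj x (haS (mem_zpowers a)), ?_⟩
    rw [← e, ← cj_centralizer]
    apply conj_mem_cj
    rw [mem_centralizer_iff]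
    exact fun s hs => (mem_cent1.1 (hS.1 hs).1).symm
  have h2 : C ≤ N(P) := by
    apply le_of_forall_conj
    intro g hg
    obtain ⟨a, b, ha, hb, ho, ho', e⟩ := exists_p_part (p := p) g
    obtain ⟨x, hx, h1, h2⟩ := key a b (zpowers_le.2 hg ha) (zpowers_le.2 hg hb) ho ho'
      (by obtain ⟨i, rfl⟩ := ha; obtain ⟨j, rfl⟩ := hb; exact Commute.zpow_zpow_self g i j)
    refine ⟨x, hx, ?_⟩
    have : x * g * x⁻¹ = (x * a * x⁻¹) * (x * b * x⁻¹) := by rw [e]; group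
    rw [this]
    exact mul_mem (le_normalizer h1) (centralizer_le_normalizer _ h2)
  have h1 : resIn p C ≤ C(P) := by
    rw [resIn_le_iff]
    intro y hy ho
    obtain ⟨x, hx, -, h3⟩ := key 1 y (one_mem _) hy ⟨0, by simp⟩ ho (Commute.one_left _)
    have := CfsgH2.conj_mem_of_mem_normalizer' (CfsgH2.normalizer_le_normalizer_centralizer P (h2 hx)) h3
    simpa [mul_assoc] using this
  refine ⟨h1, h2, ?_⟩
  have h3 : resIn p C ≤ C ⊓ C(P) := le_inf (resIn_le _) h1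
  rw [← resIn_eq_of_le_of_le h3 inf_le_left, ← hasNPC_subgroup_iff]
  have h4 := hP.inf_of_normalizer' (N := C ⊓ C(P)) inf_le_left
    (le_normalizer_inf' le_normalizer (le_normalizer_centralizer' h2))
  refine burnside_hasNPC h4 ?_
  exact inf_le_left.trans (inf_le_right.trans (centralizer_le (inf_le_left : P ⊓ _ ≤ P)))

theorem mem_pCore_of_index [hp : Fact p.Prime] {x : G} {k a : ℕ} (ho : orderOf x = p ^ k)
    (hx : (C1(x)).index = p ^ a) : x ∈ pCore p G := by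
  obtain ⟨S, hS, hxS⟩ := IsSylowIn.exists_le (H := ⊤) (isPGroup_zpowers_of_orderOf ho) le_top
  refine CfsgH1.le_pCore (N := normalClosure {x}) (hS.2.to_le ?_) (subset_normalClosure rfl)
  rw [normalClosure, closure_le]
  intro y hy
  obtain ⟨z, hz, hc⟩ := Group.mem_conjugatesOfSet_iff.1 hy
  rw [Set.mem_singleton_iff.1 hz] at hc
  obtain ⟨g, rfl⟩ := isConj_iff.1 hc
  obtain ⟨u, hu, c, hc2, rfl⟩ := Fac.of_coprime (A := S) (B := C1(x)) (L := ⊤) le_top le_top (by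
    rw [relIndex_top_right (H := C1(x)), hx]
    exact ((hp.out.coprime_iff_not_dvd.2 hS.3).symm.pow_right _)) g (mem_top g)
  have : u * c * x * (u * c)⁻¹ = u * x * u⁻¹ := by rw [mul_assoc u, ← mem_cent1.1 hc2]; group
  rw [this]
  exact S.mul_mem (S.mul_mem hu (hxS (mem_zpowers x))) (S.inv_mem hu)

theorem index_mul_of_coprime {x y : G} (h : Commute x y) (hc : (orderOf x).Coprime (orderOf y)) :
    (C1(x * y)).index = (C1(y)).relIndex C1(x) * (C1(x)).index := by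
  rw [cent1_mul_of_coprime h hc, ← relIndex_mul_index (inf_le_left : C1(x) ⊓ C1(y) ≤ C1(x)),
    inf_relIndex_left]

end CfsgH9
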