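import Cfsg.Agent.H7.Le2
import Cfsg.Prelude.Def_Spor_Conway

set_option autoImplicit false

namespace Cfsg.Agent.H9.Co13

open Matrix Cfsg CfsgH7

abbrev K := ZMod 13

noncomputable def MM (g : Co0) : Matrix GolayPt GolayPt K :=
  of fun i j => 5 * ((((g • e8 j : LL) : V24) i : ℤ) : K)

theorem act (g : Co0) (v : LL) (i : GolayPt) :
    ((((g • v : LL) : V24) i : ℤ) : K) = ∑ j, MM g i j * (((v : V24) j : ℤ) : K) := by
  have h := congrArg (fun x : ℤ => (x : K)) (congrFun (eight_smul g v) i)
  simp only [mvY, Pi.smul_apply, smul_eq_mul, Finset.sum_apply] at h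
  push_cast at h
  calc _ = 5 * (8 * ((((g • v : LL) : V24) i : ℤ) : K)) := by
        rw [← mul_assoc, show (5 * 8 : K) = 1 by decide, one_mul]
    _ = _ := by
        rw [h, Finset.mul_sum]
        exact Finset.sum_congr rfl fun j _ => by simp only [MM, of_apply]; ring

theorem MM_mul (g h : Co0) : MM (g * h) = MM g * MM h := by
  ext i j
  rw [mul_apply, MM, of_apply, mul_smul, act, Finset.mul_sum]
  exact Finset.sum_congr rfl fun k _ => by simp only [MM, of_apply]; ring

theorem MM_one : MM 1 = 1 := by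
  ext i j
  rw [MM, of_apply, one_smul]
  by_cases h : i = j
  · subst h; simp [e8]; decide
  · simp [e8, h]

theorem MM_inj {g : Co0} (h : MM g = 1) : g = 1 := by
  refine co_ext8 fun j => Subtype.ext ?_
  rw [one_smul]
  have h1 := co_dot g (e8 j) (e8 j)
  have h2 : dotInt ((e8 j : LL) : V24) ((e8 j : LL) : V24) = 64 := by
    simp [dotInt, e8, Pi.single_apply]
  rw [h2] at h1
  generalize hY : ((g • e8 j : LL) : V24) = Y at h1
  have h3 : ∀ i, (5 * ((Y i : ℤ) : K)) = (1 : Matrix GolayPt GolayPt K) i j := fun i => by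
    rw [← h, ← hY]; rfl
  have hb : ∀ i, Y i * Y i ≤ 64 := fun i => by
    rw [← h1]
    exact Finset.single_le_sum (f := fun i => Y i * Y i) (fun k _ => mul_self_nonneg _) (Finset.mem_univ i)
  have hz : ∀ i, i ≠ j → Y i = 0 := fun i hi => by
    have h4 := h3 i
    rw [one_apply_ne hi] at h4
    have h5 : ((5 * Y i : ℤ) : K) = 0 := by push_cast; exact h4
    rw [ZMod.intCast_zmod_eq_zero_iff_dvd] at h5
    have h6 : Y i ≤ 8 := by nlinarith [hb i]
    have h7 : -8 ≤ Y i := by nlinarith [hb i]
    omega
  have h4 := h3 j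
  rw [one_apply_eq] at h4
  have h5 : ((5 * Y j - 1 : ℤ) : K) = 0 := by push_cast; rw [h4, sub_self]
  rw [ZMod.intCast_zmod_eq_zero_iff_dvd] at h5
  rw [dotInt, Finset.sum_eq_single j (fun i _ hi => by rw [hz i hi, mul_zero]) (by simp)] at h1
  have h6 : Y j = 8 := by
    rcases mul_self_eq_mul_self_iff.1 (h1.trans (show (64 : ℤ) = 8 * 8 by norm_num)) with h | h <;> omega
  funext i
  by_cases hi : i = j
  · subst hi; simp [e8, h6]
  · simp [e8, hi, hz i hi]

def EE : Matrix GolayPt (ZMod 23) K :=
  of fun i t => if i = some t then 1 else if i = none ∧ t = 0 then -1 else 0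

theorem mul_EE {ι : Type} (X : Matrix ι GolayPt K) (i : ι) (t : ZMod 23) :
    (X * EE) i t = X i (some t) - if t = 0 then X i none else 0 := by
  rw [mul_apply, Fintype.sum_option, Finset.sum_eq_single t (fun s _ hs => by simp [EE, hs]) (by simp)]
  by_cases h : t = 0 <;> simp [EE, h]; ring

theorem EE_mul (X : Matrix GolayPt (ZMod 23) K) (h : ∀ t, X none t + X (some 0) t = 0) :
    EE * X.submatrix some id = X := by
  ext i t
  rw [mul_apply]
  rcases i with _ | s
  · rw [Finset.sum_eq_single 0 (fun s _ hs => by simp [EE, hs]) (by simp)]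
    simp [EE]; linear_combination -h t
  · rw [Finset.sum_eq_single s (fun r _ hs => by simp [EE, Ne.symm hs]) (by simp)]
    simp [EE]

theorem sumU (f : GolayPt → K) : ∑ j, f j * ((Spor.vecU j : ℤ) : K) = 4 * (f none + f (some 0)) := by
  rw [Fintype.sum_option, Finset.sum_eq_single 0 (fun s _ hs => by simp [Spor.vecU, hs]) (by simp)]
  simp [Spor.vecU]; ring

theorem four {a b : K} (h : 4 * a = 4 * b) : a = b := by
  calc a = 10 * (4 * a) := by rw [← mul_assoc, show (10 * 4 : K) = 1 by decide, one_mul]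
    _ = b := by rw [h, ← mul_assoc, show (10 * 4 : K) = 1 by decide, one_mul]

theorem col {g : Co0} (hg : g • Spor.leechU = Spor.leechU) (i : GolayPt) :
    MM g i none + MM g i (some 0) = (1 : Matrix GolayPt GolayPt K) i none +
      (1 : Matrix GolayPt GolayPt K) i (some 0) := by
  have h1 := act g Spor.leechU i
  have h2 := act 1 Spor.leechU i
  rw [hg] at h1
  rw [one_smul, h1, MM_one] at h2
  exact four ((sumU _).symm.trans (h2.trans (sumU _)))

theorem row {g : Co0} (hg : g • Spor.leechU = Spor.leechU) (j : GolayPt) :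
    MM g none j + MM g (some 0) j = (1 : Matrix GolayPt GolayPt K) none j +
      (1 : Matrix GolayPt GolayPt K) (some 0) j := by
  have h1 := congrArg (fun x : ℤ => (x : K)) (co_dot g (e8 j) Spor.leechU)
  rw [hg] at h1
  simp only [dotInt] at h1
  push_cast at h1
  have h2 := four ((sumU _).symm.trans (h1.trans (sumU _)))
  rw [← MM_one]
  simp only [MM, of_apply, one_smul]
  rw [← mul_add, h2, mul_add]

theorem rel {g : Co0} (hg : g • Spor.leechU = Spor.leechU) (t : ZMod 23) :
    (MM g * EE) none t + (MM g * EE) (some 0) t = 0 := by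
  rw [mul_EE, mul_EE]
  have h1 := row hg (some t)
  have h2 := row hg none
  by_cases h : t = 0
  · subst h
    simp at h1 h2 ⊢
    linear_combination h1 - h2
  · simp [one_apply, h, Ne.symm h] at h1 ⊢
    exact h1

def toC (g : Spor.Co2) : Co0 := ⟨g.1, g.2.1⟩

theorem toC_fix (g : Spor.Co2) : toC g • Spor.leechU = Spor.leechU := g.2.2

noncomputable def AA : Spor.Co2 →* Matrix (ZMod 23) (ZMod 23) K where
  toFun g := (MM (toC g) * EE).submatrix some id
  map_one' := by
    rw [show toC 1 = 1 from rfl, MM_one, Matrix.one_mul]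
    ext s t; simp [EE, one_apply]
  map_mul' g h := by
    rw [show toC (g * h) = toC g * toC h from rfl, MM_mul, Matrix.mul_assoc]
    conv_lhs => rw [← EE_mul _ (rel (toC_fix h)), ← Matrix.mul_assoc]
    rfl

theorem AA_inj : Function.Injective AA := by
  rw [injective_iff_map_eq_one]
  intro g hg
  have h1 := EE_mul _ (rel (toC_fix g))
  rw [show (MM (toC g) * EE).submatrix some id = 1 from hg, Matrix.mul_one] at h1
  have h2 : ∀ i t, MM (toC g) i (some t) - (if t = 0 then MM (toC g) i none else 0) =
      (1 : Matrix GolayPt GolayPt K) i (some t) -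
        if t = 0 then (1 : Matrix GolayPt GolayPt K) i none else 0 := fun i t => by
    rw [← mul_EE, ← mul_EE, ← h1, Matrix.one_mul]
  have h3 : MM (toC g) = 1 := by
    ext i j
    have h4 := h2 i 0
    have h5 := col (toC_fix g) i
    rw [if_pos rfl, if_pos rfl] at h4
    rcases j with _ | t
    · exact four (by linear_combination 2 * h5 - 2 * h4)
    · by_cases h : t = 0
      · subst h; exact four (by linear_combination 2 * h5 + 2 * h4)
      · simpa [h] using h2 i t
  exact Subtype.ext (congrArg (fun x : Co0 => x.1) (MM_inj h3))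

theorem gen {G M N : Type*} [Group G] [Monoid M] [Monoid N] (f : G →* M) (hf : Function.Injective f)
    (e : M ≃* N) : ∃ φ : G →* Nˣ, Function.Injective φ :=
  ⟨(e.toMonoidHom.comp f).toHomUnits, fun _ _ h => hf (e.injective (congrArg Units.val h))⟩

theorem main : ∃ f : ↥Cfsg.Spor.Co2 →* GL (Fin 23) (ZMod 13), Function.Injective f :=
  gen AA AA_inj (Matrix.reindexAlgEquiv K K (ZMod.finEquiv 23).symm.toEquiv).toMulEquiv

end Cfsg.Agent.H9.Co13
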