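import Mathlib

/-! Critical groups for a product spectrum. -/

set_option autoImplicit false
open scoped commutatorElement

namespace CfsgH9.Crit

/-- Affine maps with multiplier an `r`-th root of unity. -/
@[ext] structure Af (K : Type) [Field K] (r : ℕ) where
  a : rootsOfUnity r K
  b : K

variable {K : Type} [Field K] {r : ℕ}

instance : Mul (Af K r) := ⟨fun x y => ⟨x.a * y.a, (x.a.1 : K) * y.b + x.b⟩⟩
instance : One (Af K r) := ⟨⟨1, 0⟩⟩
instance : Inv (Af K r) := ⟨fun x => ⟨x.a⁻¹, -((x.a⁻¹.1 : K) * x.b)⟩⟩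

theorem mul_a (x y : Af K r) : (x * y).a = x.a * y.a := rfl
theorem mul_b (x y : Af K r) : (x * y).b = (x.a.1 : K) * y.b + x.b := rfl
theorem one_a : (1 : Af K r).a = 1 := rfl
theorem one_b : (1 : Af K r).b = 0 := rfl

instance : Group (Af K r) := Group.ofLeftAxioms
  (fun x y z => Af.ext (mul_assoc _ _ _) (by simp only [mul_a, mul_b]; push_cast; ring))
  (fun x => Af.ext (one_mul _) (by simp [mul_b, one_a, one_b]))
  (fun x => Af.ext (inv_mul_cancel _) (add_neg_cancel _))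

instance [Finite K] : Finite (Af K r) :=
  Finite.of_injective (fun x : Af K r => (x.a, x.b)) fun _ _ e =>
    Af.ext (congrArg Prod.fst e) (congrArg Prod.snd e)

/-- The multiplier. -/
def mu : Af K r →* rootsOfUnity r K := MonoidHom.mk' Af.a mul_a

theorem pow_b (x : Af K r) (n : ℕ) :
    (x ^ n).b = (∑ i ∈ Finset.range n, (x.a.1 : K) ^ i) * x.b := by
  induction n with
  | zero => simp [one_b]
  | succ n ih =>
    have : (x ^ n).a = x.a ^ n := map_pow mu x n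
    rw [pow_succ, mul_b, ih, this, Finset.sum_range_succ]
    push_cast
    ring

theorem pow_q {q : ℕ} [CharP K q] {x : Af K r} (h : mu x = 1) : x ^ q = 1 := by
  refine Af.ext ((map_pow mu x q).trans (by rw [h, one_pow]; rfl)) ?_
  rw [pow_b, show x.a = 1 from h]
  simp [one_b]

theorem mu_pow (x : Af K r) : mu (x ^ r) = 1 := by
  rw [map_pow]
  exact Subtype.ext (mu x).2

theorem pow_r {x : Af K r} (h : mu x ≠ 1) : x ^ r = 1 := by
  refine Af.ext (mu_pow x) ?_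
  have h1 : (x.a.1 : K) - 1 ≠ 0 := fun e => h (Subtype.ext (Units.ext (sub_eq_zero.1 e)))
  have h2 := geom_sum_mul (x.a.1 : K) r
  rw [show (x.a.1 : K) ^ r = 1 from (mem_rootsOfUnity' _ _).1 x.a.2, sub_self] at h2
  rw [pow_b, (mul_eq_zero.1 h2).resolve_right h1, zero_mul, one_b]

theorem exists_F {q r : ℕ} (hq : q.Prime) (hr : r.Prime) (ne : q ≠ r) :
    ∃ (F : Type) (_ : Group F) (_ : Finite F), (∀ x : F, x ^ q = 1 ∨ x ^ r = 1) ∧
      (∃ x : F, orderOf x = q) ∧ (∃ x : F, orderOf x = r) ∧ ∀ x y : F, ⁅x ^ r, y⁆ ^ q = 1 := by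
  haveI := Fact.mk hq
  haveI := Fact.mk hr
  let K := GaloisField q (r - 1)
  refine ⟨Af K r, inferInstance, inferInstance, fun x => ?_, ⟨⟨1, 1⟩, orderOf_eq_prime (pow_q rfl)
    fun e => one_ne_zero (congrArg Af.b e)⟩, ?_, fun x y => pow_q (by
      rw [map_commutatorElement, mu_pow, commutatorElement_one_left])⟩
  · by_cases h : mu x = 1
    · exact Or.inl (pow_q h)
    · exact Or.inr (pow_r h)
  obtain ⟨z, hz⟩ := exists_prime_orderOf_dvd_card' (G := Kˣ) r (by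
    rw [Nat.card_units, GaloisField.card q (r - 1) (Nat.sub_ne_zero_of_lt hr.one_lt)]
    exact (Nat.modEq_iff_dvd' (Nat.one_le_pow _ _ hq.pos)).1 (Nat.ModEq.pow_card_sub_one_eq_one hr
      ((Nat.coprime_primes hq hr).2 ne)).symm)
  have hz' : z ∈ rootsOfUnity r K := (mem_rootsOfUnity _ _).2 (orderOf_dvd_iff_pow_eq_one.1 hz.dvd)
  have h : mu (⟨⟨z, hz'⟩, 0⟩ : Af K r) ≠ 1 := fun e => by
    obtain rfl : z = 1 := congrArg Subtype.val e
    exact hr.one_lt.ne' (hz.symm.trans orderOf_one)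
  exact ⟨_, orderOf_eq_prime (pow_r h) fun e => h (by rw [e, map_one])⟩

/-- A law forcing the `q`-elements to generate commutators of order dividing `q`. -/
def Law (q : ℕ) (G : Type) [Group G] : Prop :=
  ∃ M : ℕ, M.Coprime q ∧ ∀ x y : G, ⁅x ^ M, y⁆ ^ q = 1

theorem Law.surj {q : ℕ} {G G' : Type} [Group G] [Group G'] (h : Law q G) (f : G →* G')
    (hf : Function.Surjective f) : Law q G' := by
  obtain ⟨M, h1, h2⟩ := h
  refine ⟨M, h1, fun x y => ?_⟩
  obtain ⟨x, rfl⟩ := hf x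
  obtain ⟨y, rfl⟩ := hf y
  rw [← map_pow, ← map_commutatorElement, ← map_pow, h2, map_one]

theorem Law.sub {q : ℕ} {G : Type} [Group G] (h : Law q G) (H : Subgroup G) : Law q H := by
  obtain ⟨M, h1, h2⟩ := h
  exact ⟨M, h1, fun x y => Subtype.ext (h2 x y)⟩

theorem Law.comm {q : ℕ} {G : Type} [Group G] (h : Law q G) {x : G} (hx : orderOf x = q) (y : G) :
    ⁅x, y⁆ ^ q = 1 := by
  obtain ⟨M, h1, h2⟩ := h
  obtain ⟨m, e⟩ := exists_pow_eq_self_of_coprime (x := x) (n := M) (hx ▸ h1)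
  rw [← e, ← pow_mul, mul_comm, pow_mul]
  exact h2 _ _

variable {s : ℕ} {p : Fin s → Fin 2 → ℕ}

/-- The spectrum. -/
def Om (p : Fin s → Fin 2 → ℕ) : Set ℕ :=
  {m : ℕ | ∃ c : Fin s → ℕ, (∀ j, c j = 1 ∨ c j = p j 0 ∨ c j = p j 1) ∧ m = ∏ j, c j}

theorem opt {j : Fin s} {c : ℕ} : (c = 1 ∨ c = p j 0 ∨ c = p j 1) ↔ c = 1 ∨ ∃ i, c = p j i := by
  simp [Fin.exists_fin_two]

theorem mem_Om (j : Fin s) (i : Fin 2) : p j i ∈ Om p := by
  refine ⟨Pi.mulSingle j (p j i), fun k => opt.2 ?_, by simp⟩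
  by_cases e : k = j
  · subst e; exact Or.inr ⟨i, by simp⟩
  · exact Or.inl (Pi.mulSingle_eq_of_ne e _)

theorem not_mem_Om (hp : ∀ j i, (p j i).Prime)
    (hinj : ∀ j i j' i', p j i = p j' i' → j = j' ∧ i = i') {j : Fin s} {i i' : Fin 2}
    (ne : i ≠ i') : p j i * p j i' ∉ Om p := by
  rintro ⟨c, h1, h2⟩
  have : ∀ i, p j i ∣ ∏ j, c j → c j = p j i := fun i h => by
    obtain ⟨k, -, hk⟩ := ((hp j i).prime.dvd_finset_prod_iff _).1 h
    rcases opt.1 (h1 k) with e | ⟨l, e⟩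
    · exact absurd (Nat.dvd_one.1 (e ▸ hk)) (hp j i).one_lt.ne'
    · have := (Nat.prime_dvd_prime_iff_eq (hp j i) (hp k l)).1 (e ▸ hk)
      obtain ⟨rfl, rfl⟩ := hinj _ _ _ _ this
      exact e
  exact ne (hinj _ _ _ _ ((this i (h2 ▸ dvd_mul_right _ _)).symm.trans
    (this i' (h2 ▸ dvd_mul_left _ _)))).2

theorem exists_G (hp : ∀ j i, (p j i).Prime)
    (hinj : ∀ j i j' i', p j i = p j' i' → j = j' ∧ i = i') (ε : Fin s → Fin 2) :
    ∃ (G : Type) (_ : Group G) (_ : Finite G), Set.range (orderOf : G → ℕ) = Om p ∧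
      ∀ j, Law (p j (ε j)) G := by
  have rv : ∀ i : Fin 2, i ≠ i.rev := by decide
  have al : ∀ i l : Fin 2, l = i ∨ l = i.rev := by decide
  choose F gF fF h1 h2 h3 h4 using fun j => exists_F (hp j (ε j)) (hp j (ε j).rev)
    fun e => rv _ (hinj _ _ _ _ e).2
  have cop : ∀ j i j' i', (j ≠ j' ∨ i ≠ i') → (p j i).Coprime (p j' i') := fun j i j' i' h =>
    (Nat.coprime_primes (hp _ _) (hp _ _)).2 fun e => by
      obtain ⟨rfl, rfl⟩ := hinj _ _ _ _ e
      simp at h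
  have od : ∀ j (x : F j), orderOf x = 1 ∨ ∃ i, orderOf x = p j i := fun j x => by
    rcases h1 j x with e | e
    · exact ((Nat.dvd_prime (hp _ _)).1 (orderOf_dvd_of_pow_eq_one e)).imp_right fun e => ⟨_, e⟩
    · exact ((Nat.dvd_prime (hp _ _)).1 (orderOf_dvd_of_pow_eq_one e)).imp_right fun e => ⟨_, e⟩
  have op : ∀ x : ∀ j, F j, orderOf x = ∏ j, orderOf (x j) := fun x => by
    rw [Pi.orderOf, Finset.lcm_eq_prod]
    intro j _ j' _ ne
    show (orderOf (x j)).Coprime (orderOf (x j'))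
    rcases od j (x j) with e | ⟨i, e⟩
    · simp [e]
    rcases od j' (x j') with e' | ⟨i', e'⟩
    · simp [e']
    rw [e, e']
    exact cop _ _ _ _ (Or.inl ne)
  refine ⟨∀ j, F j, inferInstance, inferInstance, Set.ext fun m => ⟨?_, ?_⟩, fun j => ?_⟩
  · rintro ⟨x, rfl⟩
    exact ⟨_, fun j => opt.2 (od j (x j)), op x⟩
  · rintro ⟨c, hc, rfl⟩
    have : ∀ j, ∃ x : F j, orderOf x = c j := fun j => by
      rcases opt.1 (hc j) with e | ⟨i, e⟩
      · exact ⟨1, by simp [e]⟩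
      · rcases al (ε j) i with rfl | rfl
        · exact e ▸ h2 j
        · exact e ▸ h3 j
    choose x hx using this
    exact ⟨x, by simp [op, hx]⟩
  · refine ⟨(∏ k ∈ Finset.univ.erase j, p k (ε k) * p k (ε k).rev) * p j (ε j).rev,
      Nat.Coprime.mul_left (Nat.Coprime.prod_left fun k hk => Nat.Coprime.mul_left
        (cop _ _ _ _ (Or.inl (Finset.ne_of_mem_erase hk)))
        (cop _ _ _ _ (Or.inl (Finset.ne_of_mem_erase hk))))
        (cop _ _ _ _ (Or.inr (rv _).symm)), fun x y => funext fun k => ?_⟩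
    show ⁅x k ^ _, y k⁆ ^ _ = 1
    by_cases e : k = j
    · subst e
      rw [pow_mul]
      exact h4 _ _ _
    · obtain ⟨c, hc⟩ := Finset.dvd_prod_of_mem (fun k => p k (ε k) * p k (ε k).rev)
        (Finset.mem_erase.2 ⟨e, Finset.mem_univ k⟩)
      have : x k ^ (p k (ε k) * p k (ε k).rev) = 1 := by
        rcases h1 k (x k) with e | e
        · rw [pow_mul, e, one_pow]
        · rw [mul_comm, pow_mul, e, one_pow]
      rw [hc, mul_assoc, pow_mul, this, one_pow, commutatorElement_one_left, one_pow]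

theorem exists_crit (hp : ∀ j i, (p j i).Prime)
    (hinj : ∀ j i j' i', p j i = p j' i' → j = j' ∧ i = i') (ε : Fin s → Fin 2) :
    ∃ (G : Type) (_ : Group G) (_ : Fintype G), (∀ j, Law (p j (ε j)) G) ∧
      Set.range (orderOf : G → ℕ) = Om p ∧ ∀ (H : Subgroup G) (N : Subgroup H) [N.Normal],
        (H ≠ ⊤ ∨ N ≠ ⊥) → Set.range (orderOf : (H ⧸ N) → ℕ) ≠ Om p := by
  classical
  have ex : ∃ n, ∃ (G : Type) (_ : Group G) (_ : Finite G), Nat.card G = n ∧
      Set.range (orderOf : G → ℕ) = Om p ∧ ∀ j, Law (p j (ε j)) G := by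
    obtain ⟨G, _, _, h⟩ := exists_G hp hinj ε
    exact ⟨_, G, _, ‹_›, rfl, h⟩
  obtain ⟨G, _, _, h0, h1, h2⟩ := Nat.find_spec ex
  refine ⟨G, _, Fintype.ofFinite G, h2, h1, fun H N _ h e => Nat.find_min ex (m := Nat.card (H ⧸ N))
    ?_ ⟨_, _, inferInstance, rfl, e, fun j => ((h2 j).sub H).surj _ (QuotientGroup.mk'_surjective N)⟩⟩
  rw [← h0]
  have a1 := Subgroup.card_eq_card_quotient_mul_card_subgroup N
  rcases h with h | h
  · refine lt_of_le_of_lt (Nat.le_of_dvd Nat.card_pos ⟨_, a1⟩) (lt_of_le_of_ne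
      H.card_le_card_group fun e => h (Subgroup.eq_top_of_card_eq _ e))
  · refine lt_of_lt_of_le ?_ H.card_le_card_group
    rw [a1]
    exact lt_mul_of_one_lt_right Nat.card_pos ((Subgroup.one_lt_card_iff_ne_bot N).2 h)

theorem main (hp : ∀ j i, (p j i).Prime)
    (hinj : ∀ j i j' i', p j i = p j' i' → j = j' ∧ i = i') :
    ∃ (G : Fin (2 ^ s) → Type) (_ : ∀ a, Group (G a)) (_ : ∀ a, Fintype (G a)),
      (∀ a b, a ≠ b → ¬ Nonempty (G a ≃* G b)) ∧
      ∀ a, Set.range (orderOf : (G a) → ℕ) = Om p ∧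
      ∀ (H : Subgroup (G a)) (N : Subgroup ↥H) [N.Normal], (H ≠ ⊤ ∨ N ≠ ⊥) →
        Set.range (orderOf : (↥H ⧸ N) → ℕ) ≠ Om p := by
  choose G gG fG h1 h2 using fun a : Fin (2 ^ s) => exists_crit hp hinj (finFunctionFinEquiv.symm a)
  refine ⟨G, gG, fG, fun a b ne ⟨e⟩ => ?_, h2⟩
  obtain ⟨j, hj⟩ := Function.ne_iff.1 (finFunctionFinEquiv.symm.injective.ne ne)
  have l1 := (h1 a j).surj e.toMonoidHom e.surjective
  obtain ⟨x, hx⟩ : _ ∈ Set.range _ := (h2 b).1 ▸ mem_Om (p := p) j (finFunctionFinEquiv.symm a j)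
  obtain ⟨y, hy⟩ : _ ∈ Set.range _ := (h2 b).1 ▸ mem_Om (p := p) j (finFunctionFinEquiv.symm b j)
  have cop := (Nat.coprime_primes (hp j _) (hp j _)).2 fun e => hj (hinj _ _ _ _ e).2
  have c1 := l1.comm hx y
  have c2 := (h1 b j).comm hy x
  rw [← commutatorElement_inv, inv_pow, inv_eq_one] at c2
  have c : Commute x y := commutatorElement_eq_one_iff_commute.1 (orderOf_eq_one_iff.1
    (Nat.eq_one_of_dvd_coprimes cop (orderOf_dvd_of_pow_eq_one c1) (orderOf_dvd_of_pow_eq_one c2)))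
  refine not_mem_Om hp hinj (j := j) hj ?_
  rw [← (h2 b).1]
  refine ⟨x * y, ?_⟩
  rw [c.orderOf_mul_eq_mul_orderOf_of_coprime (by rw [hx, hy]; exact cop), hx, hy]

end CfsgH9.Crit
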