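import Mathlib

/-! Derived length of linear `p`-groups: upper bounds. -/

set_option autoImplicit false
set_option linter.unusedSectionVars false

namespace CfsgH9

open Module

universe u v

theorem ds_add_le {G : Type*} [Group G] {H : Subgroup G} {j : ℕ} (h : derivedSeries G j ≤ H) (k : ℕ) :
    derivedSeries G (j + k) ≤ (derivedSeries H k).map H.subtype := by
  induction k with
  | zero => simpa [← MonoidHom.range_eq_map] using h
  | succ k ih =>
    rw [← add_assoc, derivedSeries_succ, derivedSeries_succ, Subgroup.map_commutator]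
    exact Subgroup.commutator_mono ih ih

theorem ds_succ_le {G : Type*} [Group G] {H : Subgroup G} (h : commutator G ≤ H) (k : ℕ) :
    derivedSeries G (k + 1) ≤ (derivedSeries H k).map H.subtype := by
  rw [add_comm]; exact ds_add_le (j := 1) h k

section
variable {F : Type*} [Field F] {P : Type*} [Group P] {V : Type*} [AddCommGroup V] [Module F V]

theorem rep_inj (ρ : Representation F P V) (g : P) : Function.Injective (ρ g) :=
  Function.LeftInverse.injective (g := ρ g⁻¹) fun v => by
    rw [← Module.End.mul_apply, ← map_mul, inv_mul_cancel, map_one]; rfl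

theorem two_step (ρ : Representation F P V) {U : Submodule F V} (hU : ∀ g, U ≤ U.comap (ρ g)) {g h : P}
    (h1 : ρ.subrepresentation U hU g = 1) (h2 : ρ.quotient U hU h = 1) : (ρ g - 1) * (ρ h - 1) = 0 := by
  ext v
  have a : ρ h v - v ∈ U := by
    rw [← Submodule.Quotient.eq]; exact LinearMap.congr_fun h2 (U.mkQ v)
  have b := congrArg Subtype.val (LinearMap.congr_fun h1 ⟨_, a⟩)
  exact sub_eq_zero.2 b

variable {p : ℕ} [hp : Fact p.Prime]

theorem eq_one_of_sq (hF : (p : F) ≠ 0) (hP : IsPGroup p P) (ρ : Representation F P V) {g : P}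
    (h : (ρ g - 1) * (ρ g - 1) = 0) : ρ g = 1 := by
  obtain ⟨k, hk⟩ := hP g
  have h1 : ∀ m : ℕ, ρ g ^ m = 1 + (m : F) • (ρ g - 1) := by
    intro m
    induction m with
    | zero => simp
    | succ m ih =>
      have : ρ g = 1 + (ρ g - 1) := by abel
      rw [pow_succ, ih]
      generalize ρ g - 1 = N at *
      rw [this, add_mul, mul_add, mul_add, smul_mul_assoc, smul_mul_assoc, h]
      simp [add_smul]; abel
  have h2 := h1 (p ^ k)
  rw [← map_pow, hk, map_one, left_eq_add, smul_eq_zero, Nat.cast_pow] at h2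
  exact sub_eq_zero.1 (h2.resolve_left (pow_ne_zero _ hF))

end

/-- reduction to irreducible modules -/
theorem red_irr {F : Type*} [Field F] {P : Type*} [Group P] {p : ℕ} [Fact p.Prime] (hF : (p : F) ≠ 0)
    (hP : IsPGroup p P) (g : P) (n : ℕ)
    (H : ∀ (V : Type v) [AddCommGroup V] [Module F V] [FiniteDimensional F V] [Nontrivial V]
      (ρ : Representation F P V), finrank F V ≤ n →
      (∀ U : Submodule F V, (∀ g, U ≤ U.comap (ρ g)) → U = ⊥ ∨ U = ⊤) → ρ g = 1) :
    ∀ (m : ℕ) (V : Type v) [AddCommGroup V] [Module F V] [FiniteDimensional F V] (ρ : Representation F P V),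
      finrank F V = m → m ≤ n → ρ g = 1 := by
  intro m
  induction m using Nat.strong_induction_on with
  | _ m ih =>
    intro V _ _ _ ρ hm hn
    rcases subsingleton_or_nontrivial V with hV | hV
    · exact Subsingleton.elim _ _
    by_cases hi : ∀ U : Submodule F V, (∀ g, U ≤ U.comap (ρ g)) → U = ⊥ ∨ U = ⊤
    · exact H V ρ (hm ▸ hn) hi
    push Not at hi
    obtain ⟨U, hU, h0, h1⟩ := hi
    have a := Submodule.finrank_lt h1
    have b := U.finrank_quotient_add_finrank
    have c : finrank F U ≠ 0 := fun e => h0 (Submodule.finrank_eq_zero.1 e)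
    exact eq_one_of_sq hF hP ρ (two_step ρ hU (ih _ (by omega) U _ rfl (by omega))
      (ih _ (by omega) (V ⧸ U) _ rfl (by omega)))

theorem exists_z2 {P M : Type*} [Group P] [Finite P] [Monoid M] {p : ℕ} [Fact p.Prime] (hP : IsPGroup p P)
    (ρ : P →* M) (h : ¬ ∀ a b, ρ (a * b) = ρ (b * a)) : ∃ a b, ρ (a * b) ≠ ρ (b * a) ∧
      ∀ g x, ρ (a * g * a⁻¹ * g⁻¹ * x) = ρ (x * (a * g * a⁻¹ * g⁻¹)) := by
  let Q := P ⧸ ρ.ker
  have hQ : IsPGroup p Q := hP.to_quotient _
  have he : ∀ a b : P, (a : Q) = b ↔ ρ a = ρ b := fun a b => by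
    rw [QuotientGroup.eq, MonoidHom.mem_ker]
    refine ⟨fun e => ?_, fun e => ?_⟩
    · rw [← mul_inv_cancel_left a b, map_mul, e, mul_one]
    · rw [map_mul, ← e, ← map_mul, inv_mul_cancel, map_one]
  have hZ : Subgroup.center Q ≠ ⊤ := fun e => h fun a b => (he _ _).1
    (Subgroup.mem_center_iff.1 (show (b : Q) ∈ Subgroup.center Q from e ▸ Subgroup.mem_top _) (a : Q))
  have : Nontrivial (Q ⧸ Subgroup.center Q) := QuotientGroup.nontrivial_iff.2 hZ
  have := (hQ.to_quotient (Subgroup.center Q)).center_nontrivial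
  obtain ⟨⟨z, hz⟩, hz1⟩ := exists_ne (1 : Subgroup.center (Q ⧸ Subgroup.center Q))
  obtain ⟨z, rfl⟩ := QuotientGroup.mk_surjective z
  obtain ⟨a, rfl⟩ := QuotientGroup.mk_surjective z
  have h1 : (a : Q) ∉ Subgroup.center Q := fun e => hz1 (Subtype.ext ((QuotientGroup.eq_one_iff _).2 e))
  rw [Subgroup.mem_center_iff] at h1
  push Not at h1
  obtain ⟨b, hb⟩ := h1
  obtain ⟨b, rfl⟩ := QuotientGroup.mk_surjective b
  refine ⟨a, b, fun e => hb ((he _ _).2 e).symm, fun g x => (he _ _).1 ?_⟩
  have h2 : ((a * g * a⁻¹ * g⁻¹ : P) : Q) ∈ Subgroup.center Q := by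
    rw [← QuotientGroup.eq_one_iff]
    have := Subgroup.mem_center_iff.1 hz ((g : Q) : Q ⧸ Subgroup.center Q)
    simp only [QuotientGroup.mk_mul, QuotientGroup.mk_inv, ← this]
    group
  exact (Subgroup.mem_center_iff.1 h2 x).symm

theorem lin_bound {F : Type u} [Field F] [IsAlgClosed F] {p : ℕ} [hp : Fact p.Prime] (hF : (p : F) ≠ 0) (k : ℕ) :
    ∀ (P : Type v) [Group P] [Finite P], IsPGroup p P → ∀ (V : Type u) [AddCommGroup V] [Module F V]
      [FiniteDimensional F V] (ρ : Representation F P V), finrank F V < p ^ k →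
      ∀ g ∈ derivedSeries P k, ρ g = 1 := by
  induction k with
  | zero =>
    intro P _ _ _ V _ _ _ ρ h g _
    have : Subsingleton V := finrank_zero_iff.1 (by simpa using h)
    exact Subsingleton.elim _ _
  | succ k ih =>
    intro P _ _ hP V _ _ _ ρ h g hg
    refine red_irr hF hP g (finrank F V) ?_ _ V ρ rfl le_rfl
    intro W _ _ _ _ σ hW hi
    by_cases hc : ∀ a b, σ (a * b) = σ (b * a)
    · have h1 : commutator P ≤ σ.ker := by
        rw [commutator_def, Subgroup.commutator_le]
        intro a _ b _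
        rw [MonoidHom.mem_ker, commutatorElement_def, mul_assoc, mul_assoc, hc]
        rw [show b * (a⁻¹ * b⁻¹) * a = b * (a⁻¹ * b⁻¹ * a) by group, hc]
        rw [show a⁻¹ * b⁻¹ * a * b = a⁻¹ * (b⁻¹ * a * b) by group, map_mul, hc _ b, ← map_mul]
        simp
      exact h1 (derivedSeries_antitone P (Nat.le_add_left 1 k) hg)
    obtain ⟨a, b, hab, hz⟩ := exists_z2 hP σ hc
    have hs : ∀ x, ∃ c : F, σ a * σ x = c • (σ x * σ a) := by
      intro x
      obtain ⟨c, hc⟩ := Module.End.exists_eigenvalue (σ (a * x * a⁻¹ * x⁻¹))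
      have h1 := (hi (Module.End.eigenspace (σ (a * x * a⁻¹ * x⁻¹)) c) fun y v hv => by
        rw [Submodule.mem_comap, Module.End.mem_eigenspace_iff] at *
        rw [← Module.End.mul_apply, ← map_mul, hz, map_mul, Module.End.mul_apply, hv, map_smul]).resolve_left hc
      refine ⟨c, LinearMap.ext fun v => ?_⟩
      have h2 := Module.End.mem_eigenspace_iff.1 (h1 ▸ Submodule.mem_top (x := (σ x * σ a) v))
      rw [LinearMap.smul_apply, ← h2, ← Module.End.mul_apply, ← map_mul, ← map_mul, ← map_mul]
      congr 2; group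
    choose c hc using hs
    have hne : ∀ x, σ x * σ a ≠ 0 := fun x e => by
      obtain ⟨v, hv⟩ := exists_ne (0 : W)
      rw [← map_mul] at e
      exact hv (rep_inj σ _ (by rw [e, map_zero]; rfl))
    let l : P →* F :=
      { toFun := c
        map_one' := smul_left_injective F (hne 1) (by simp only [← hc]; simp)
        map_mul' := fun x y => smul_left_injective F (hne (x * y)) (by
          simp only [← hc]
          rw [map_mul, ← mul_assoc, hc, smul_mul_assoc, mul_assoc, hc, mul_smul_comm, smul_smul, mul_assoc]) }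
    have hE : ∀ x μ v, v ∈ Module.End.eigenspace (σ a) μ → σ x v ∈ Module.End.eigenspace (σ a) (l x * μ) := by
      intro x μ v hv
      rw [Module.End.mem_eigenspace_iff] at *
      rw [← Module.End.mul_apply, hc, LinearMap.smul_apply, Module.End.mul_apply, hv, map_smul, smul_smul]
      rfl
    have hb : l b ≠ 1 := fun e => hab (by
      have := hc b
      rw [show c b = 1 from e, one_smul] at this
      rw [map_mul, map_mul, this])
    have ho : p ≤ orderOf (l b) := by
      obtain ⟨m, hm⟩ := hP b
      have h1 : orderOf (l b) ∣ p ^ m := orderOf_dvd_of_pow_eq_one (by rw [← map_pow, hm, map_one])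
      obtain ⟨j, -, hj⟩ := (Nat.dvd_prime_pow hp.out).1 h1
      rcases j with _ | j
      · exact absurd (orderOf_eq_one_iff.1 (by simpa using hj)) hb
      · rw [hj]; exact Nat.le_of_dvd (Nat.pos_of_ne_zero (pow_ne_zero _ hp.out.ne_zero)) (dvd_pow_self _ (by simp))
    have hdim : ∀ μ, finrank F (Module.End.eigenspace (σ a) μ) < p ^ k := by
      intro μ
      by_cases h0 : μ = 0
      · have : Module.End.eigenspace (σ a) μ = ⊥ := by
          rw [h0, Module.End.eigenspace_zero, LinearMap.ker_eq_bot]; exact rep_inj σ a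
        rw [this, finrank_bot]; exact pow_pos hp.out.pos _
      have inj : Function.Injective fun i : Fin p => l (b ^ (i : ℕ)) * μ := fun i j e => by
        simp only [map_pow] at e
        exact Fin.ext (pow_injOn_Iio_orderOf (lt_of_lt_of_le i.2 ho) (lt_of_lt_of_le j.2 ho)
          (mul_right_cancel₀ h0 e))
      have h1 := LinearMap.finrank_le_finrank_of_injective
        ((Module.End.eigenspaces_iSupIndep (σ a)).comp inj).dfinsupp_lsum_injective
      have h2 : ∀ i : Fin p, finrank F (Module.End.eigenspace (σ a) μ) ≤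
          finrank F (Module.End.eigenspace (σ a) (l (b ^ (i : ℕ)) * μ)) := fun i =>
        LinearMap.finrank_le_finrank_of_injective (f := (σ (b ^ (i : ℕ))).restrict (hE _ μ))
          fun x y e => Subtype.ext (rep_inj σ _ (congrArg Subtype.val e))
      have h3 := Finset.sum_le_sum (s := Finset.univ) fun i _ => h2 i
      have h4 := Module.finrank_directSum (R := F)
        (fun i : Fin p => Module.End.eigenspace (σ a) (l (b ^ (i : ℕ)) * μ))
      rw [Finset.sum_const, Finset.card_univ, Fintype.card_fin, smul_eq_mul, ← h4] at h3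
      have h5 : p * finrank F (Module.End.eigenspace (σ a) μ) < p * p ^ k := by
        rw [← pow_succ']; exact lt_of_le_of_lt (h3.trans (le_trans h1 hW)) h
      exact lt_of_mul_lt_mul_left h5 (Nat.zero_le _)
    have hC : commutator P ≤ l.ker := by
      have := Abelianization.commutator_subset_ker l.toHomUnits
      rwa [MonoidHom.ker_toHomUnits] at this
    obtain ⟨x, hx, rfl⟩ := ds_succ_le hC k hg
    have hT : ⨆ μ, Module.End.eigenspace (σ a) μ = ⊤ := by
      refine (hi _ fun y => iSup_le fun μ v hv => Submodule.mem_iSup_of_mem _ (hE y μ v hv)).resolve_left ?_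
      obtain ⟨μ, hμ⟩ := Module.End.exists_eigenvalue (σ a)
      exact fun e => hμ (le_bot_iff.1 (e ▸ le_iSup (fun μ => Module.End.eigenspace (σ a) μ) μ))
    have hK : ⨆ μ, Module.End.eigenspace (σ a) μ ≤ LinearMap.eqLocus (σ (l.ker.subtype x)) 1 := iSup_le fun μ v hv => by
      have := ih l.ker (hP.to_subgroup _) _ (Representation.subrepresentation (σ.comp l.ker.subtype)
        (Module.End.eigenspace (σ a) μ) fun y w hw => by
          have := hE y μ w hw
          rwa [MonoidHom.mem_ker.1 y.2, one_mul] at this) (hdim μ) x hx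
      exact congrArg Subtype.val (LinearMap.congr_fun this ⟨v, hv⟩)
    exact LinearMap.ext fun v => hK (hT ▸ Submodule.mem_top)

theorem mat_bound {F : Type*} [Field F] {p : ℕ} [hp : Fact p.Prime] (hF : (p : F) ≠ 0) {k : ℕ} {P : Type*} [Group P]
    [Finite P] (hP : IsPGroup p P) {ι : Type} [Fintype ι] [DecidableEq ι] (ρ : P →* Matrix ι ι F)
    (h : Fintype.card ι < p ^ k) {g : P} (hg : g ∈ derivedSeries P k) : ρ g = 1 := by
  let K := AlgebraicClosure F
  let φ : Matrix ι ι F →+* Matrix ι ι K := (algebraMap F K).mapMatrix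
  have h1 := lin_bound (F := K) (p := p) (by simpa using (map_ne_zero (algebraMap F K)).2 hF) k P hP (ι → K)
    ((Matrix.toLinAlgEquiv' : Matrix ι ι K ≃ₐ[K] _).toMonoidHom.comp (φ.toMonoidHom.comp ρ)) (by simpa using h) g hg
  have h2 : φ (ρ g) = 1 := (Matrix.toLinAlgEquiv' : Matrix ι ι K ≃ₐ[K] _).injective (h1.trans (map_one _).symm)
  exact Matrix.map_injective (algebraMap F K).injective (h2.trans (map_one φ).symm)

theorem lin_bound' {F : Type*} [Field F] {p : ℕ} [hp : Fact p.Prime] (hF : (p : F) ≠ 0) {k : ℕ} {P : Type*} [Group P]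
    [Finite P] (hP : IsPGroup p P) {V : Type*} [AddCommGroup V] [Module F V] [FiniteDimensional F V]
    (ρ : Representation F P V) (h : finrank F V < p ^ k) {g : P} (hg : g ∈ derivedSeries P k) : ρ g = 1 := by
  let e := LinearMap.toMatrixAlgEquiv (finBasis F V)
  have := mat_bound hF hP (e.toMonoidHom.comp ρ) (by simpa using h) hg
  exact e.injective (this.trans (map_one e).symm)

theorem div_le_of_tower {F K V : Type*} [Field F] [Fintype F] [Field K] [Algebra F K] [Finite K] [AddCommGroup V]
    [Module F V] [Module K V] [IsScalarTower F K V] {p : ℕ} [hp : Fact p.Prime] {z : K} (h1 : z ≠ 1)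
    (h2 : z ^ p = 1) : finrank K V ≤ finrank F V / orderOf (Fintype.card F : ZMod p) := by
  have := Fintype.ofFinite K
  have h0 : z ≠ 0 := fun e => by simp [e, hp.out.ne_zero] at h2
  have h3 : p ∣ Fintype.card K - 1 := by
    rw [← orderOf_eq_prime h2 h1]; exact orderOf_dvd_of_pow_eq_one (FiniteField.pow_card_sub_one_eq_one z h0)
  have h4 : orderOf (Fintype.card F : ZMod p) ∣ finrank F K := orderOf_dvd_of_pow_eq_one (by
    rw [← Nat.cast_pow, ← Module.card_eq_pow_finrank, ← Nat.sub_add_cancel (Fintype.card_pos (α := K)), Nat.cast_add,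
      (ZMod.natCast_eq_zero_iff _ _).2 h3, zero_add, Nat.cast_one])
  have h5 : 0 < finrank F K := finrank_pos
  rw [Nat.le_div_iff_mul_le (Nat.pos_of_dvd_of_pos h4 h5), ← finrank_mul_finrank F K V, mul_comm]
  exact Nat.mul_le_mul_right _ (Nat.le_of_dvd h5 h4)

theorem fin_bound {F : Type*} [Field F] [Fintype F] {p : ℕ} [hp : Fact p.Prime] (hF : ¬ p ∣ Fintype.card F) {k : ℕ}
    {P : Type*} [Group P] [Finite P] (hP : IsPGroup p P) {V : Type*} [AddCommGroup V] [Module F V]
    [FiniteDimensional F V] (ρ : Representation F P V)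
    (h : finrank F V / orderOf (Fintype.card F : ZMod p) < p ^ k) {g : P} (hg : g ∈ derivedSeries P k) :
    ρ g = 1 := by
  have hF' : (p : F) ≠ 0 := fun e => hF ((prime_dvd_char_iff_dvd_card p).1 (by
    rw [CharP.ringChar_of_prime_eq_zero hp.out e]))
  refine red_irr hF' hP g (finrank F V) ?_ _ V ρ rfl le_rfl
  intro W _ _ _ _ σ hW hi
  by_contra hne
  have : Finite W := Module.finite_of_finite F
  have : Finite (Module.End F W) := Finite.of_injective _ DFunLike.coe_injective
  let K := Subalgebra.centralizer F (Set.range σ)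
  have hK : ∀ x : K, ∀ g, σ g * x = x * σ g := fun x g => x.2 _ ⟨g, rfl⟩
  have : NoZeroDivisors K := ⟨fun {x y} e => by
    rcases hi (LinearMap.ker (x : Module.End F W)) (fun g v hv => by
      rw [Submodule.mem_comap, LinearMap.mem_ker] at *
      rw [← Module.End.mul_apply, ← hK, Module.End.mul_apply, hv, map_zero]) with h1 | h1
    · exact Or.inr (Subtype.ext (LinearMap.ext fun v => LinearMap.ker_eq_bot.1 h1
        ((LinearMap.congr_fun (congrArg Subtype.val e) v).trans (map_zero _).symm)))
    · exact Or.inl (Subtype.ext (LinearMap.ker_eq_top.1 h1))⟩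
  have : IsDomain K := NoZeroDivisors.to_isDomain K
  obtain ⟨z, hz1, hz2⟩ : ∃ z : K, z ≠ 1 ∧ z ^ p = 1 := by
    have hQ : IsPGroup p σ.toHomUnits.range := hP.of_surjective _ σ.toHomUnits.rangeRestrict_surjective
    have : Nontrivial σ.toHomUnits.range := ⟨⟨⟨_, g, rfl⟩, 1, fun e => hne
      (congrArg (fun x : σ.toHomUnits.range => ((x : (Module.End F W)ˣ) : Module.End F W)) e)⟩⟩
    have := hQ.center_nontrivial
    obtain ⟨n, hn, hc⟩ := (hQ.to_subgroup (Subgroup.center _)).nontrivial_iff_card.1 inferInstance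
    obtain ⟨y, hy⟩ := exists_prime_orderOf_dvd_card' (G := Subgroup.center σ.toHomUnits.range) p
      (hc ▸ dvd_pow_self p hn.ne')
    refine ⟨⟨((y : σ.toHomUnits.range) : (Module.End F W)ˣ), ?_⟩, fun e => ?_, Subtype.ext ?_⟩
    · rintro _ ⟨x, rfl⟩
      exact congrArg (fun x : σ.toHomUnits.range => ((x : (Module.End F W)ˣ) : Module.End F W))
        (Subgroup.mem_center_iff.1 y.2 ⟨_, x, rfl⟩)
    · have : y = 1 := Subtype.ext (Subtype.ext (Units.ext (congrArg Subtype.val e)))
      rw [this, orderOf_one] at hy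
      exact hp.out.one_lt.ne hy
    · have := congrArg (fun x : Subgroup.center σ.toHomUnits.range =>
        (((x : σ.toHomUnits.range) : (Module.End F W)ˣ) : Module.End F W)) (hy ▸ pow_orderOf_eq_one y)
      simpa using this
  letI : Field K := (Finite.isDomain_to_isField K).toField
  have h1 := div_le_of_tower (F := F) (V := W) hz1 hz2
  have : FiniteDimensional K W := Module.Finite.of_finite
  let τ : Representation K P W :=
    { toFun := fun x => ⟨(σ x).toAddHom, fun c v => LinearMap.congr_fun (hK c x) v⟩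
      map_one' := LinearMap.ext fun v => LinearMap.congr_fun (map_one σ) v
      map_mul' := fun x y => LinearMap.ext fun v => LinearMap.congr_fun (map_mul σ x y) v }
  have h2 := lin_bound' (F := K) (by simpa using (map_ne_zero (algebraMap F K)).2 hF') hP τ
    (lt_of_le_of_lt (h1.trans (Nat.div_le_div_right hW)) h) hg
  exact hne (LinearMap.ext fun v => LinearMap.congr_fun h2 v)

section
variable {F : Type*} [Field F] {p : ℕ} [hp : Fact p.Prime] [CharP F p] {P : Type*} [Group P] [Finite P]

theorem fixed_vec {V : Type*} [AddCommGroup V] [Module F V] [Nontrivial V] (hG : IsPGroup p P)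
    (ρ : Representation F P V) : ∃ v, v ≠ 0 ∧ ∀ g, ρ g v = v := by
  obtain ⟨w, hw0⟩ := exists_ne (0 : V)
  let A := Submodule.span ℤ (Set.range fun g => ρ g w)
  have hp0 : ∀ v : V, p • v = 0 := fun v => by
    rw [← Nat.cast_smul_eq_nsmul F, CharP.cast_eq_zero, zero_smul]
  haveI : Module.Finite ℤ A := Module.Finite.span_of_finite ℤ (Set.finite_range _)
  haveI : Finite A := Module.finite_of_fg_torsion A fun x =>
    ⟨⟨p, mem_nonZeroDivisors_of_ne_zero (by exact_mod_cast hp.out.ne_zero)⟩, Subtype.ext (by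
      simpa using hp0 x)⟩
  have hA : ∀ g, ∀ v ∈ A, ρ g v ∈ A := fun g v hv => by
    induction hv using Submodule.span_induction with
    | mem x hx =>
      obtain ⟨u, rfl⟩ := hx
      exact Submodule.subset_span ⟨g * u, by simp⟩
    | zero => simp
    | add x y _ _ h1 h2 => rw [map_add]; exact A.add_mem h1 h2
    | smul a x _ h1 => rw [map_zsmul]; exact A.smul_mem a h1
  letI : MulAction P A :=
    { smul := fun g v => ⟨ρ g v, hA g v v.2⟩
      one_smul := fun v => Subtype.ext (by change ρ 1 v = v; simp)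
      mul_smul := fun g u v => Subtype.ext (by change ρ (g * u) v = ρ g (ρ u v); simp) }
  have hwA : w ∈ A := Submodule.subset_span ⟨1, by simp⟩
  obtain ⟨v, h1, h2⟩ := hG.exists_fixed_point_of_prime_dvd_card_of_fixed_point A (a := 0) (by
    have : addOrderOf (⟨w, hwA⟩ : A) = p := addOrderOf_eq_prime (Subtype.ext (hp0 w))
      fun h => hw0 (congrArg Subtype.val h)
    exact this ▸ addOrderOf_dvd_natCard _) fun g => Subtype.ext (map_zero (ρ g))
  exact ⟨v, fun h => h2 (Subtype.ext h.symm), fun g => congrArg Subtype.val (h1 g)⟩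

theorem exists_inv_dim {V : Type*} [AddCommGroup V] [Module F V] [FiniteDimensional F V] (hG : IsPGroup p P)
    (ρ : Representation F P V) (m : ℕ) (hm : m ≤ finrank F V) :
    ∃ U : Submodule F V, (∀ g, U ≤ U.comap (ρ g)) ∧ finrank F U = m := by
  induction m with
  | zero => exact ⟨⊥, fun _ => bot_le, finrank_bot F V⟩
  | succ m ih =>
    obtain ⟨U, hU, rfl⟩ := ih (by omega)
    have := U.finrank_quotient_add_finrank
    have : Nontrivial (V ⧸ U) := finrank_pos_iff.1 (show 0 < finrank F (V ⧸ U) by omega)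
    obtain ⟨v, h0, hv⟩ := fixed_vec hG (ρ.quotient U hU)
    obtain ⟨v, rfl⟩ := U.mkQ_surjective v
    have h1 : v ∉ U := fun e => h0 ((Submodule.Quotient.mk_eq_zero U).2 e)
    refine ⟨U ⊔ F ∙ v, fun g => sup_le ((hU g).trans (Submodule.comap_mono le_sup_left)) ?_,
      Submodule.finrank_sup_span_singleton h1⟩
    rw [Submodule.span_singleton_le_iff_mem, Submodule.mem_comap, ← sub_add_cancel (ρ g v) v]
    exact add_mem (Submodule.mem_sup_left ((Submodule.Quotient.eq U).1 (hv g)))
      (Submodule.mem_sup_right (Submodule.mem_span_singleton_self v))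

theorem unip_bound (hG : IsPGroup p P) (k : ℕ) : ∀ (V : Type v) [AddCommGroup V] [Module F V] [FiniteDimensional F V]
    (ρ : Representation F P V), finrank F V ≤ 2 ^ k → derivedSeries P k ≤ ρ.ker := by
  induction k with
  | zero =>
    intro V _ _ _ ρ h g _
    rcases subsingleton_or_nontrivial V with hV | hV
    · exact Subsingleton.elim _ _
    obtain ⟨v, h0, hv⟩ := fixed_vec hG ρ
    refine LinearMap.ext fun w => ?_
    obtain ⟨c, rfl⟩ := exists_smul_eq_of_finrank_eq_one (le_antisymm h finrank_pos) h0 w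
    rw [map_smul, hv]; rfl
  | succ k ih =>
    intro V _ _ _ ρ h
    obtain ⟨U, hU, hd⟩ := exists_inv_dim hG ρ (finrank F V / 2) (by omega)
    have := U.finrank_quotient_add_finrank
    have h1 := ih U (ρ.subrepresentation U hU) (by omega)
    have h2 := ih (V ⧸ U) (ρ.quotient U hU) (by omega)
    rw [derivedSeries_succ, Subgroup.commutator_le]
    intro a ha b hb
    have e1 := two_step ρ hU (h1 ha) (h2 hb)
    have e2 := two_step ρ hU (h1 hb) (h2 ha)
    have e3 : ρ a * ρ b = ρ b * ρ a := by
      have : ρ a * ρ b - ρ b * ρ a = (ρ a - 1) * (ρ b - 1) - (ρ b - 1) * (ρ a - 1) := by noncomm_ring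
      rw [← sub_eq_zero, this, e1, e2, sub_zero]
    rw [MonoidHom.mem_ker, commutatorElement_def, map_mul, map_mul, map_mul, e3, ← map_mul, ← map_mul, ← map_mul]
    simp

end

end CfsgH9
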