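import Cfsg.Agent.H9.DLen
import Cfsg.Agent.H2.PGroup

/-! Derived length of Sylow subgroups: wreath products and monomial groups. -/

set_option autoImplicit false
set_option linter.unusedSectionVars false

namespace CfsgH9

open Subgroup RegularWreathProduct
open scoped commutatorElement

universe u

theorem map_ds_le {G : Type*} [Group G] {H : Subgroup G} {j : ℕ} (h : H ≤ derivedSeries G j) (k : ℕ) :
    (derivedSeries H k).map H.subtype ≤ derivedSeries G (j + k) := by
  induction k with
  | zero => simpa [← MonoidHom.range_eq_map] using h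
  | succ k ih =>
    rw [← add_assoc, derivedSeries_succ, derivedSeries_succ, Subgroup.map_commutator]
    exact Subgroup.commutator_mono ih ih

theorem ds_ne_bot_of_inj {G H : Type*} [Group G] [Group H] (f : G →* H) (hf : Function.Injective f) {j : ℕ}
    (h : derivedSeries G j ≠ ⊥) : derivedSeries H j ≠ ⊥ := fun e =>
  h ((map_eq_bot_iff_of_injective _ hf).1 (le_bot_iff.1 (e ▸ map_derivedSeries_le_derivedSeries f j)))

theorem sylow_ds_ne_bot {G W : Type*} [Group G] [Finite G] [Group W] {p : ℕ} [Fact p.Prime] (hW : IsPGroup p W)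
    (f : W →* G) (hf : Function.Injective f) {j : ℕ} (h : derivedSeries W j ≠ ⊥) (P : Sylow p G) :
    derivedSeries (P : Subgroup G) j ≠ ⊥ := by
  obtain ⟨Q, hQ⟩ := (hW.of_surjective _ f.rangeRestrict_surjective).exists_le_sylow
  refine ds_ne_bot_of_inj ((Q.equiv P).toMonoidHom.comp (f.codRestrict _ fun x => hQ ⟨x, rfl⟩)) ?_ h
  exact (Q.equiv P).injective.comp fun x y e => hf (congrArg Subtype.val e)

theorem wreath_ds {D Q : Type*} [Group D] [Group Q] [Nontrivial Q] {j : ℕ} (h : derivedSeries D j ≠ ⊥) :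
    derivedSeries (D ≀ᵣ Q) (j + 1) ≠ ⊥ := by
  classical
  let K : Subgroup (D ≀ᵣ Q) := commutator _ ⊓ rightHom.ker
  let π : K →* D := MonoidHom.mk' (fun w => w.1.left 1) fun a b => by
    have : a.1.right = 1 := a.2.2
    simp [this]
  have hπ : Function.Surjective π := fun d => by
    obtain ⟨q, hq⟩ := exists_ne (1 : Q)
    refine ⟨⟨⁅(⟨Pi.mulSingle 1 d, 1⟩ : D ≀ᵣ Q), (inl q : D ≀ᵣ Q)⁆, commutator_mem_commutator (mem_top _) (mem_top _), ?_⟩, ?_⟩
    · show _ = _; simp [commutatorElement_def]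
    · simp [π, commutatorElement_def, hq]
  intro e
  have h1 := map_ds_le (j := 1) (show K ≤ derivedSeries _ 1 from inf_le_left) j
  rw [add_comm, e, le_bot_iff, map_eq_bot_iff_of_injective _ K.subtype_injective] at h1
  exact h (by rw [← map_derivedSeries_eq hπ, h1, Subgroup.map_bot])

theorem ds_le_of_index {p : ℕ} [hp : Fact p.Prime] (k : ℕ) : ∀ (P : Type u) [Group P] [Finite P], IsPGroup p P →
    ∀ S : Subgroup P, S.index < p ^ (k + 1) → derivedSeries P k ≤ S := by
  induction k with
  | zero =>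
    intro P _ _ hP S h
    obtain ⟨m, hm⟩ := hP.index S
    rw [hm, pow_lt_pow_iff_right₀ hp.out.one_lt, Nat.lt_one_iff] at h
    rw [(index_eq_one (H := S)).1 (by rw [hm, h, pow_zero])]; exact le_top
  | succ k ih =>
    intro P _ _ hP S h
    rcases eq_top_or_exists_le_coatom S with rfl | ⟨M, hM, hS⟩
    · exact le_top
    obtain ⟨hn, hi⟩ := CfsgH2.coatom_normal_index hP hM
    have hc : commutator P ≤ M := by
      have : IsCyclic (P ⧸ M) := isCyclic_of_prime_card hi
      exact Normal.quotient_commutative_iff_commutator_le.1 IsCyclic.isMulCommutative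
    have h1 := relIndex_mul_index hS
    have h2 := ih M (hP.to_subgroup M) (S.subgroupOf M) (lt_of_mul_lt_mul_right (a := p) (by
      rw [← pow_succ]; rw [hi] at h1; exact h1.trans_lt h) (Nat.zero_le _))
    exact (ds_succ_le hc k).trans (map_le_iff_le_comap.2 h2)

/-- `W` is a `p`-subgroup of derived length `> j` of the wreath product of `H` by `Sym X`. -/
def Mono (p : ℕ) (H : Type u) [Group H] (X : Type) (j : ℕ) : Prop :=
  ∃ (W : Type u) (_ : Group W) (_ : Finite W), IsPGroup p W ∧ derivedSeries W j ≠ ⊥ ∧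
    ∃ (σ : W →* Equiv.Perm X) (c : W → X → H), (∀ x y i, c (x * y) i = c x (σ y i) * c y i) ∧
      ∀ w, σ w = 1 → (∀ i, c w i = 1) → w = 1

variable {p : ℕ} [hp : Fact p.Prime] {H : Type u} [Group H] {X Y : Type} {j : ℕ}

theorem Mono.base [Finite H] (hH : IsPGroup p H) (h : derivedSeries H j ≠ ⊥) : Mono p H Unit j :=
  ⟨H, _, inferInstance, hH, h, 1, fun w _ => w, fun _ _ _ => rfl, fun _ _ e => e ()⟩

theorem Mono.step [Nonempty X] (h : Mono p H X j) : Mono p H (X × Multiplicative (ZMod p)) (j + 1) := by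
  obtain ⟨W, _, _, h1, h2, σ, c, h3, h4⟩ := h
  letI := MulAction.compHom X σ
  refine ⟨W ≀ᵣ Multiplicative (ZMod p), _, inferInstance, ?_, wreath_ds h2, toPerm W _ X,
    fun w z => c (w.left (w.right * z.2)) z.1, fun x y i => ?_, fun w a b => ?_⟩
  · obtain ⟨m, hm⟩ := IsPGroup.iff_card.1 h1
    exact IsPGroup.of_card (n := m * p + 1) (by simp [RegularWreathProduct.card, hm, pow_succ, pow_mul])
  · show c ((x * y).left ((x * y).right * i.2)) i.1 =
      c (x.left (x.right * (y.right * i.2))) (σ (y.left (y.right * i.2)) i.1) * _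
    rw [← h3]; simp [mul_assoc]
  · have e : ∀ x q, (σ (w.left (w.right * q)) x, w.right * q) = (x, q) := fun x q =>
      Equiv.congr_fun a (x, q)
    obtain ⟨x⟩ := ‹Nonempty X›
    have r : w.right = 1 := by simpa using congrArg Prod.snd (e x 1)
    refine RegularWreathProduct.ext (funext fun q => h4 _ (Equiv.ext fun y => ?_) fun y => ?_) r
    · simpa [r] using congrArg Prod.fst (e y q)
    · simpa [r] using b (y, q)

theorem Mono.ext (h : Mono p H X j) (e : X ↪ Y) : Mono p H Y j := by
  classical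
  obtain ⟨W, _, _, h1, h2, σ, c, h3, h4⟩ := h
  refine ⟨W, _, inferInstance, h1, h2, (Equiv.Perm.viaEmbeddingHom e).comp σ,
    fun w => Function.extend e (c w) 1, fun x y i => ?_, fun w a b => h4 w
      (Equiv.Perm.viaEmbeddingHom_injective e (a.trans (map_one _).symm)) fun i => ?_⟩
  · by_cases hi : i ∈ Set.range e
    · obtain ⟨i, rfl⟩ := hi
      simp [Equiv.Perm.viaEmbeddingHom_apply, Equiv.Perm.viaEmbedding_apply, e.injective.extend_apply, h3]
    · simp [Equiv.Perm.viaEmbeddingHom_apply, Equiv.Perm.viaEmbedding_apply_of_notMem _ _ _ hi,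
        Function.extend_apply' _ _ _ hi]
  · simpa [e.injective.extend_apply] using b (e i)

theorem Mono.fin [Finite H] (hH : IsPGroup p H) (h : derivedSeries H j ≠ ⊥) (k : ℕ) :
    ∀ m, p ^ k ≤ m → Mono p H (Fin m) (j + k) := by
  induction k with
  | zero => exact fun m hm => (Mono.base hH h).ext (Function.Embedding.nonempty_of_card_le (by simpa using hm)).some
  | succ k ih =>
    intro m hm
    have : Nonempty (Fin (p ^ k)) := ⟨⟨0, pow_pos hp.out.pos k⟩⟩
    exact (ih _ le_rfl).step.ext (Function.Embedding.nonempty_of_card_le (by simpa [pow_succ] using hm)).some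

theorem Mono.perm (h : Mono p H X j) : ∃ (W : Type u) (_ : Group W), IsPGroup p W ∧ derivedSeries W j ≠ ⊥ ∧
    ∃ f : W →* Equiv.Perm (X × H), Function.Injective f := by
  obtain ⟨W, _, _, h1, h2, σ, c, h3, h4⟩ := h
  have c1 : ∀ i, c 1 i = 1 := fun i => by simpa using h3 1 1 i
  letI : MulAction W (X × H) :=
    { smul := fun w z => (σ w z.1, c w z.1 * z.2)
      one_smul := fun z => by show (_, _) = z; simp [c1]
      mul_smul := fun x y z => by show (_, _) = (σ x (σ y z.1), c x (σ y z.1) * (c y z.1 * z.2)); simp [h3, mul_assoc] }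
  refine ⟨W, _, h1, h2, MulAction.toPermHom W _, (injective_iff_map_eq_one _).2 fun w a => ?_⟩
  have e : ∀ x, (σ w x, c w x * 1) = (x, 1) := fun x => Equiv.congr_fun a (x, 1)
  exact h4 w (Equiv.ext fun x => congrArg Prod.fst (e x)) fun x => by simpa using congrArg Prod.snd (e x)

open Matrix in
theorem Mono.mat [Fintype X] [DecidableEq X] (h : Mono p H X j) {F ι : Type*} [Field F] [Fintype ι] [DecidableEq ι]
    [Nonempty ι] (ρ : H →* Matrix ι ι F) (hρ : Function.Injective ρ) (J : Matrix ι ι F)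
    (hJ : ∀ x, ρ x * J * (ρ x)ᵀ = J) : ∃ (W : Type u) (_ : Group W), IsPGroup p W ∧ derivedSeries W j ≠ ⊥ ∧
    ∃ f : W →* Matrix (ι × X) (ι × X) F, Function.Injective f ∧
      ∀ w, f w * blockDiagonal (fun _ => J) * (f w)ᵀ = blockDiagonal fun _ => J := by
  obtain ⟨W, _, _, h1, h2, σ, c, h3, h4⟩ := h
  have c1 : ∀ i, c 1 i = 1 := fun i => by simpa using h3 1 1 i
  let M : W → Matrix (ι × X) (ι × X) F := fun w => of fun a b => if a.2 = σ w b.2 then ρ (c w b.2) a.1 b.1 else 0
  refine ⟨W, _, h1, h2, ⟨⟨M, ?_⟩, fun x y => ?_⟩, (injective_iff_map_eq_one _).2 fun w a => ?_, fun w => ?_⟩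
  · ext ⟨a, i⟩ ⟨b, k⟩
    simp [M, c1, one_apply, and_comm, ite_and]
  · ext ⟨a, i⟩ ⟨b, k⟩
    simp [M, mul_apply, Fintype.sum_prod_type, h3, Finset.sum_ite_irrel]
  · have e : ∀ i s t, ρ (c w i) s t = if (s, σ w i) = (t, i) then 1 else 0 := fun i s t => by
      have := congrFun (congrFun a (s, σ w i)) (t, i)
      simpa [M, one_apply] using this
    have e1 : ∀ i, σ w i = i := fun i => by
      by_contra hn
      have : ρ (c w i) = 0 := by ext s t; simp [e, hn]
      have h5 := congrArg (· * ρ (c w i)⁻¹) this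
      simp [← map_mul] at h5
    exact h4 w (Equiv.ext e1) fun i => hρ (by ext s t; simp [e, e1, one_apply])
  · ext ⟨a, i⟩ ⟨b, k⟩
    obtain ⟨i, rfl⟩ := (σ w).surjective i
    obtain ⟨k, rfl⟩ := (σ w).surjective k
    have := congrFun (congrFun (hJ (c w i)) a) b
    simp only [mul_apply, transpose_apply] at this
    by_cases hik : i = k
    · subst hik
      simp [M, mul_apply, Fintype.sum_prod_type, blockDiagonal_apply, ← this]
    · simp [M, mul_apply, Fintype.sum_prod_type, blockDiagonal_apply, hik]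

end CfsgH9
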