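import Cfsg.Agent.H5.El3
import Cfsg.Agent.H5.As5

/-! Elements of prime order of `PSL_n(q)` conjugate into a geometric subgroup: the general reductions. -/

open Module Polynomial CfsgH5

namespace CfsgH9.EG

universe u

variable {F : Type u} [Field F] {V : Type*} [AddCommGroup V] [Module F V]
  {H : Subgroup (V ≃ₗ[F] V)} {g h y : V ≃ₗ[F] V} {r : ℕ} {M N : Multiset Fˣ}

/-- every element of order `r` modulo scalars is `SL`-conjugate into `H` -/
def EL (r : ℕ) (H : Subgroup (V ≃ₗ[F] V)) : Prop :=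
  ∀ g ∈ slSub F V, PE r g → ∃ k ∈ slSub F V, k⁻¹ * g * k ∈ H

/-- `g` is similar to an element of `H` -/
def SI (H : Subgroup (V ≃ₗ[F] V)) (g : V ≃ₗ[F] V) : Prop := ∃ h ∈ H, Sim (g : End F V) (h : End F V)

/-- the centralizer of `g` has all determinants -/
def FD (g : V ≃ₗ[F] V) : Prop := ∀ c : Fˣ, ∃ D, D * g = g * D ∧ LinearEquiv.det D = c

/-- `H` contains the scalars -/
def Sc (H : Subgroup (V ≃ₗ[F] V)) : Prop := ∀ c, scE V c ∈ H

/-- `g` is diagonalizable with eigenvalues `M` -/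
def DG (g : V ≃ₗ[F] V) (M : Multiset Fˣ) : Prop := Pr (g : End F V) (M.map fun a => X - C a.1)

/-- `g` has an eigenspace of codimension `k` -/
def RK (g : V ≃ₗ[F] V) (k : ℕ) : Prop :=
  ∃ c : F, finrank F (LinearMap.ker (aeval (g : End F V) (X - C c))) + k = finrank F V

section Mat
variable {ι : Type} [Fintype ι] [DecidableEq ι] (K : Subgroup (GL ι F))

/-- a matrix group as a group of linear automorphisms -/
noncomputable def lin : Subgroup ((ι → F) ≃ₗ[F] (ι → F)) := K.comap (glEquiv ι F).symm.toMonoidHom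

variable {K} in
theorem mem_lin {x : GL ι F} : glEquiv ι F x ∈ lin K ↔ x ∈ K := by simp [lin]

theorem lin_comap : (lin K).comap (glEquiv ι F).toMonoidHom = K := Subgroup.ext fun _ => mem_lin

theorem el_sl [Nonempty ι] : (∀ x : Matrix.SpecialLinearGroup ι F, (∃ z : F, ((x ^ r : Matrix.SpecialLinearGroup ι F) :
      Matrix ι ι F) = z • (1 : Matrix ι ι F)) → (∀ z : F, (x : Matrix ι ι F) ≠ z • (1 : Matrix ι ι F)) →
      ∃ P : Matrix.SpecialLinearGroup ι F, P⁻¹ * x * P ∈ K.comap Matrix.SpecialLinearGroup.toGL) ↔ EL r (lin K) :=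
  sl_forall (fun g => ∃ k ∈ slSub F _, k⁻¹ * g * k ∈ lin K) fun x =>
    ⟨fun ⟨P, h⟩ => ⟨_, slHom_mem P, by rw [← map_inv, ← map_mul, ← map_mul]; exact mem_lin.2 h⟩, fun ⟨k, hk, h⟩ => by
      obtain ⟨P, rfl⟩ := exists_slHom hk
      rw [← map_inv, ← map_mul, ← map_mul] at h
      exact ⟨P, mem_lin.1 h⟩⟩

theorem el_gl [Nonempty ι] : (∀ x ∈ Cfsg.Geo.specialLinear ι F, (∃ z : F, ((x ^ r : GL ι F) :
      Matrix ι ι F) = z • (1 : Matrix ι ι F)) → (∀ z : F, (x : Matrix ι ι F) ≠ z • (1 : Matrix ι ι F)) →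
      ∃ g ∈ Cfsg.Geo.specialLinear ι F, g⁻¹ * x * g ∈ K) ↔ EL r (lin K) :=
  pe_forall (glEquiv ι F).toMonoidHom (↑) (fun _ _ => rfl) (Q := (· ∈ Cfsg.Geo.specialLinear ι F))
    (fun g => by
      rw [specialLinear_eq]
      exact ⟨fun h => ⟨(glEquiv ι F).symm g, by simpa using h, by simp⟩, by rintro ⟨x, h, rfl⟩; exact h⟩)
    (fun g => ∃ k ∈ slSub F _, k⁻¹ * g * k ∈ lin K) fun x _ => by
      rw [specialLinear_eq]
      refine ⟨fun ⟨P, h1, h⟩ => ⟨_, h1, by rw [← map_inv, ← map_mul, ← map_mul]; exact mem_lin.2 h⟩, fun ⟨k, hk, h⟩ => ?_⟩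
      obtain ⟨P, rfl⟩ := (glEquiv ι F).surjective k
      exact ⟨P, hk, mem_lin.1 (by simpa using h)⟩

theorem idx_sl : (K.comap (Matrix.SpecialLinearGroup.toGL : Matrix.SpecialLinearGroup ι F →* GL ι F)).index =
    (lin K).relIndex (slSub F _) := by
  rw [← range_slHom, ← Subgroup.index_comap, slHom, ← Subgroup.comap_comap, lin_comap]

theorem idx_gl : K.relIndex (Cfsg.Geo.specialLinear ι F) = (lin K).relIndex (slSub F _) := by
  rw [specialLinear_eq, ← lin_comap K, Subgroup.relIndex_comap, lin_comap,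
    Subgroup.map_comap_eq_self_of_surjective (glEquiv ι F).surjective]

end Mat

theorem SI.of_mem (h : g ∈ H) : SI H g := ⟨g, h, .refl _⟩

theorem SI.of_sim (h1 : SI H h) (h2 : Sim (g : End F V) (h : End F V)) : SI H g :=
  h1.imp fun _ h => ⟨h.1, h2.trans h.2⟩

theorem sim_smul (e : Sim (g : End F V) (h : End F V)) (c : Fˣ) :
    Sim ((scE V c * g : V ≃ₗ[F] V) : End F V) ((scE V c * h : V ≃ₗ[F] V) : End F V) :=
  e.imp fun φ e v => by simpa using congrArg (c.1 • ·) (e v)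

theorem SI.smul (hS : Sc H) (h : SI H g) (c : Fˣ) : SI H (scE V c * g) :=
  h.elim fun _ h => ⟨_, mul_mem (hS c) h.1, sim_smul h.2 c⟩

theorem SI.of_smul (hS : Sc H) {c : Fˣ} (h : SI H (scE V c * g)) : SI H g := by
  simpa [← mul_assoc, ← map_mul] using h.smul hS c⁻¹

theorem FD.smul (h : FD g) (c : Fˣ) : FD (scE V c * g) := fun d => (h d).imp fun D h =>
  ⟨by rw [← mul_assoc, ← scE_comm, mul_assoc, h.1, mul_assoc], h.2⟩

theorem cs_smul (hS : Sc H) (c : Fˣ) (g : V ≃ₗ[F] V) (h : ∃ k ∈ slSub F V, k⁻¹ * (scE V c * g) * k ∈ H) :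
    ∃ k ∈ slSub F V, k⁻¹ * g * k ∈ H := h.imp fun k h => ⟨h.1, by
  rw [← mul_assoc, ← scE_comm, mul_assoc, mul_assoc, mul_mem_cancel_left (hS c), ← mul_assoc] at h; exact h.2⟩

variable [FiniteDimensional F V]

theorem si_of_cs (h : ∃ k ∈ slSub F V, k⁻¹ * g * k ∈ H) : SI H g :=
  h.elim fun k h => ⟨_, h.2, conj_iff_sim.1 ⟨k⁻¹, by rw [inv_inv]⟩⟩

theorem SI.cs (h : SI H g) (hF : FD g) : ∃ k ∈ slSub F V, k⁻¹ * g * k ∈ H := by
  obtain ⟨h, hh, e⟩ := h
  obtain ⟨k, rfl⟩ := conj_iff_sim.2 e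
  obtain ⟨D, h1, h2⟩ := hF (LinearEquiv.det k)
  refine ⟨D * k⁻¹, by simp [slSub, MonoidHom.mem_ker, h2], ?_⟩
  rwa [mul_inv_rev, inv_inv, mul_assoc k, mul_assoc k, ← mul_assoc _ D, mul_assoc D⁻¹, ← h1, inv_mul_cancel_left, ← mul_assoc]

theorem EL.si (h : EL r H) (hS : Sc H) (hy : PE r y) {c : Fˣ} (hc : scE V c * y ∈ slSub F V) : SI H y :=
  (si_of_cs (h _ hc (hy.smul c))).of_smul hS

theorem EL.si' (h : EL r H) (hy : PE r y) (hc : y ∈ slSub F V) : SI H y := si_of_cs (h _ hc hy)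

theorem sim_pow (e : Sim (g : End F V) (h : End F V)) (h1 : g ^ r = 1) : h ^ r = 1 := by
  obtain ⟨k, rfl⟩ := conj_iff_sim.2 e; rw [conj_pow, h1, mul_one, mul_inv_cancel]

theorem RK.sim {k : ℕ} (h1 : RK g k) (e : Sim (g : End F V) (h : End F V)) : RK h k := h1.imp fun c h1 => by
  rwa [(pr_ed _).finrank_ker (monic_ed _), ← sim_iff_ed.1 e, ← (pr_ed _).finrank_ker (monic_ed _)]

theorem fd_of_pr {a : F[X]} {t : Multiset F[X]} (h : Pr (g : End F V) (a ::ₘ t)) (hs : ∀ b ∈ a ::ₘ t, b.Monic)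
    (he : ∀ c : Fˣ, ∃ d : F, d ^ a.natDegree = c) : FD g := fun c => by
  obtain ⟨d, e⟩ := he c
  have ha := hs a (Multiset.mem_cons_self _ _)
  have e1 : Algebra.norm F (algebraMap F (AdjoinRoot a) d) = c := by
    have := ha.finite_adjoinRoot
    rw [Algebra.norm_algebraMap, (AdjoinRoot.powerBasis' ha).finrank, ← e]; rfl
  obtain ⟨D, h1, h2⟩ := h.exists_cent hs (c := algebraMap F _ d) (e1 ▸ c.ne_zero)
  exact ⟨D, LinearEquiv.ext h1, Units.ext (by rw [LinearEquiv.coe_det, h2, e1])⟩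

theorem fd_unip (h : IsNilpotent ((g : End F V) - 1)) {e : ℕ} (he : e ∈ jt (g : End F V))
    (h1 : ∀ c : Fˣ, ∃ d : F, d ^ e = c) : FD g := by
  obtain ⟨t, ht⟩ := Multiset.exists_cons_of_mem he
  have := ed_eq_jt h
  rw [ht, Multiset.map_cons] at this
  exact fd_of_pr (this ▸ pr_ed _) (this ▸ monic_ed _) (by rwa [natDegree_X_sub_one_pow])

theorem exists_mem_jt (h0 : finrank F V ≠ 0) (f : End F V) : ∃ e, e ∈ jt f :=
  Multiset.exists_mem_of_ne_zero fun e => h0 (by rw [← jt_sum f, e]; rfl)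

theorem monic_lin : ∀ a ∈ M.map fun a => (X - C a.1 : F[X]), a.Monic := by
  simp only [Multiset.forall_mem_map_iff]; exact fun _ _ => monic_X_sub_C _

theorem DG.ed (h : DG g M) : ed (g : End F V) = M.map fun a => X - C a.1 := Pr.ed_eq h (by
  simp only [Multiset.forall_mem_map_iff]; exact fun _ _ => pp_of_irr (monic_X_sub_C _) (irreducible_X_sub_C _))

theorem dg0_lin : dg0 (M.map fun a => (X - C a.1 : F[X])) = M.card := by
  rw [dg0_const (i := 1) (by simp), one_mul, Multiset.card_map]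

theorem DG.card (h : DG g M) : M.card = finrank F V := by rw [Pr.finrank h monic_lin, dg0_lin]

theorem exists_dg (h : M.card = finrank F V) : ∃ g : V ≃ₗ[F] V, DG g M :=
  exists_equiv_pr monic_lin (dg0_lin.trans h) (by simp)

theorem DG.sim (h1 : DG g M) (e : Sim (g : End F V) (h : End F V)) : DG h M := Pr.of_sim h1 e

theorem lin_inj : Function.Injective fun a : Fˣ => (X - C a.1 : F[X]) := fun a b h => Units.ext (by simpa using h)

theorem DG.unique (h1 : DG g M) (h2 : DG g N) : M = N := Multiset.map_injective lin_inj (h1.ed.symm.trans h2.ed)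

theorem DG.det (h : DG g M) : LinearEquiv.det g = M.prod := Units.ext (by
  rw [LinearEquiv.coe_det, LinearMap.det_eq_sign_charpoly_coeff, Pr.charpoly h monic_lin, ← h.card, coeff_zero_eq_eval_zero,
    eval_multiset_prod, Multiset.map_map, ← Units.coeHom_apply, map_multiset_prod, ← Multiset.prod_replicate,
    ← Multiset.map_const', ← Multiset.prod_map_mul]
  simp; rfl)

theorem DG.mem_sl (h : DG g M) : g ∈ slSub F V ↔ M.prod = 1 := by rw [← h.det]; rfl

theorem DG.pow_iff (h : DG g M) : g ^ r = 1 ↔ ∀ a ∈ M, a ^ r = 1 := by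
  simp [pow_eq_one_iff_ed, h.ed, dvd_iff_isRoot, sub_eq_zero, Units.ext_iff]

omit [FiniteDimensional F V] in
theorem DG.smul (h : DG g M) (c : Fˣ) : DG (scE V c * g) (M.map (c * ·)) := by
  simpa [DG, Function.comp_def] using Pr.smul_lin (f' := (scE V c * g : V ≃ₗ[F] V)) h c.ne_zero fun _ => rfl

theorem DG.scE (c : Fˣ) : DG (scE V c) (.replicate (finrank F V) c) := by
  simpa [DG] using pr_smul (f := (CfsgH5.scE V c : End F V)) c.1 fun _ => rfl

theorem DG.pe (h : DG g M) (h1 : ∀ a ∈ M, a ^ r = 1) {a b : Fˣ} (ha : a ∈ M) (hb : b ∈ M) (n : a ≠ b) : PE r g :=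
  ⟨⟨1, by rw [map_one, h.pow_iff.2 h1]⟩, fun l e => by
    rw [h.unique (e ▸ DG.scE l)] at ha hb
    exact n ((Multiset.eq_of_mem_replicate ha).trans (Multiset.eq_of_mem_replicate hb).symm)⟩

theorem DG.rk (h : DG g M) {c : Fˣ} {k : ℕ} {N : Multiset Fˣ} (e : M = N + .replicate k c) (hc : c ∉ N) : RK g N.card := ⟨c, by
  rw [Pr.finrank_ker h monic_lin, ← h.card, e]
  simp only [Multiset.map_add, Multiset.map_replicate, dg0_add, dg0_rep, Multiset.card_add, Multiset.card_replicate]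
  have := deg_gcd_pow (monic_X_sub_C c.1) 1 1
  rw [pow_one] at this
  rw [dg0_const (i := 0), this]
  · simp [add_comm]
  · simp only [Multiset.forall_mem_map_iff]
    exact fun a ha => deg_gcd_cop (isCoprime_X_sub_C_of_isUnit_sub (sub_ne_zero.2 fun e => hc ((Units.ext e : a = c) ▸ ha)).isUnit)⟩

theorem DG.ss (h : DG g M) : SS (g : End F V) := Pr.ss h monic_lin (by simp [irreducible_X_sub_C])

theorem exists_map_of_forall {α β : Type*} {f : α → β} {s : Multiset β} (h : ∀ b ∈ s, ∃ a, f a = b) : ∃ t : Multiset α, t.map f = s := by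
  induction s using Multiset.induction_on with
  | empty => exact ⟨0, rfl⟩
  | cons b s ih =>
    obtain ⟨a, rfl⟩ := h b (by simp)
    obtain ⟨t, rfl⟩ := ih fun b hb => h b (by simp [hb])
    exact ⟨a ::ₘ t, by simp⟩

variable [Fintype F]

theorem FD.ss (h : SS (g : End F V)) (h0 : finrank F V ≠ 0) : FD g := fun c =>
  (h.exists_det h0 c.ne_zero).imp fun _ h => ⟨LinearEquiv.ext h.1, Units.ext (by rw [LinearEquiv.coe_det, h.2])⟩

theorem cast_ne_of_dvd (hd : r ∣ Fintype.card F - 1) : (r : F) ≠ 0 := fun e => by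
  obtain ⟨k, hk⟩ := hd
  have := congrArg (Nat.cast (R := F)) hk
  simp [Nat.cast_sub Fintype.card_pos, e] at this

theorem exists_dg_pow (hr : r.Prime) (hd : r ∣ Fintype.card F - 1) (h : y ^ r = 1) : ∃ M, DG y M := by
  obtain ⟨m, e, h1⟩ := exists_cy hr (cast_ne_of_dvd hd) h
  obtain ⟨M, hM⟩ := exists_map_of_forall (f := fun a : Fˣ => (X - C a.1 : F[X])) (s := ed (y : End F V)) fun a ha => by
    obtain ⟨c, rfl⟩ := eq_sub_C (monic_ed _ a ha) (by
      rcases Multiset.mem_add.1 (h1.eq ▸ ha) with h | h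
      · rw [h1.deg hr (cast_ne_of_dvd hd) a h, ord_eq_one_iff Fintype.card_pos]; exact hd
      · rw [Multiset.eq_of_mem_replicate h, natDegree_X_sub_one])
    exact ⟨Units.mk0 c (by simpa using coeff_ed_ne y _ ha), rfl⟩
  exact ⟨M, by rw [DG, hM]; exact pr_ed _⟩

theorem el_of (hr : r.Prime) (h0 : (r : F) ≠ 0) (hn : finrank F V ≠ 0) (hS : Sc H)
    (h1 : ∀ y c, y ^ r = 1 → scE V c * y ∈ slSub F V → PE r y → SI H y)
    (h2 : ∀ g ∈ slSub F V, ∀ l : Fˣ, (∀ c : F, c ^ r ≠ l) → g ^ r = scE V l → ∀ k, finrank F V = k * r →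
      ed (g : End F V) = .replicate k (X ^ r - C l.1) → PE r g → SI H g) : EL r H := fun g hg h => by
  obtain ⟨l, e⟩ := h.1
  refine SI.cs ?_ (.ss (ss_of_sqfree (sqfree_sub_C h0 l) (aeval_of_pow e)) hn)
  rcases pow_cases hr e with ⟨c, h3⟩ | ⟨h3, k, h4, h5⟩
  · exact (h1 _ c⁻¹ h3 (by simpa [← mul_assoc, ← map_mul] using hg) (h.smul c)).of_smul hS
  · exact h2 g hg l h3 e k h5 h4 h

theorem el_unip (p : ℕ) [hp : Fact p.Prime] [CharP F p] (hS : Sc H) :
    EL p H ↔ ∀ g, g ^ p = 1 → g ≠ 1 → ∃ k ∈ slSub F V, k⁻¹ * g * k ∈ H :=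
  pe_red hp.1 (not_dvd_card_sub p) _ (cs_smul hS)

theorem exists_root_p (p : ℕ) [Fact p.Prime] [CharP F p] (c : F) : ∃ d : F, d ^ p = c := surjective_frobenius F p c

theorem el_two [CharP F 2] (hn : finrank F V ≠ 0) (hS : Sc H) (h : ∀ g, g ^ 2 = 1 → g ≠ 1 → SI H g) : EL 2 H :=
  (el_unip 2 hS).2 fun g h1 h2 => (h g h1 h2).cs (by
    obtain ⟨e, he⟩ := exists_mem_jt hn (g : End F V)
    have h3 := ((jt_prime 2 (nil_of_pow 2 h1)).1 ⟨h1, h2⟩).1 e he
    have h4 := jt_pos e he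
    refine fd_unip (nil_of_pow 2 h1) he fun c => ?_
    interval_cases e
    exacts [⟨c, pow_one _⟩, exists_root_p 2 c.1])

theorem pow_eq_one_of_val (hr : r.Prime) {n : ℕ} (hn : n ≠ 0) (h : padicValNat r (Fintype.card F - 1) ≤ padicValNat r n)
    {w : Fˣ} (hw : (w ^ n) ^ r = 1) : w ^ n = 1 := by
  have := Fact.mk hr
  have h1 : orderOf w ∣ Fintype.card F - 1 := by classical rw [← Fintype.card_units]; exact orderOf_dvd_card
  have h2 := orderOf_dvd_of_pow_eq_one ((pow_mul w n r).trans hw)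
  refine orderOf_dvd_iff_pow_eq_one.1 ((Nat.dvd_iff_prime_pow_dvd_dvd _ _).2 fun s k hs h3 => ?_)
  by_cases e : s = r
  · subst e
    exact (padicValNat_dvd_iff_le hn).2 (((padicValNat_dvd_iff_le (by have := Fintype.one_lt_card (α := F); omega)).1 (h3.trans h1)).trans h)
  · exact (((Nat.coprime_primes hs hr).2 e).pow_left k).dvd_of_dvd_mul_right (h3.trans h2)

theorem exists_pow_ne (hr : r.Prime) {n : ℕ} (hn : n ≠ 0) (h : padicValNat r n < padicValNat r (Fintype.card F - 1)) :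
    ∃ w : Fˣ, (w ^ n) ^ r = 1 ∧ w ^ n ≠ 1 := by
  have := Fact.mk hr
  obtain ⟨w, hw⟩ := exists_orderOf_field (F := F) (d := r ^ (padicValNat r n + 1))
    ((padicValNat_dvd_iff_le (by have := Fintype.one_lt_card (α := F); omega)).2 h)
  refine ⟨w, by rw [← pow_mul, ← orderOf_dvd_iff_pow_eq_one, hw, pow_succ]; exact mul_dvd_mul_right pow_padicValNat_dvd r, ?_⟩
  rw [Ne, ← orderOf_dvd_iff_pow_eq_one, hw]; exact pow_succ_padicValNat_not_dvd hn

/-- a reflection times a scalar -/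
theorem wit_refl (hr : r.Prime) (hn : 2 ≤ finrank F V) (h : padicValNat r (finrank F V) < padicValNat r (Fintype.card F - 1)) :
    ∃ (y : V ≃ₗ[F] V) (c w : Fˣ), scE V c * y ∈ slSub F V ∧ PE r y ∧ w ^ r = 1 ∧ w ≠ 1 ∧ DG y ({w} + .replicate (finrank F V - 1) 1) := by
  obtain ⟨w, h1, h2⟩ := exists_pow_ne hr (by omega) h
  obtain ⟨y, hy⟩ := exists_dg (V := V) (M := {w ^ finrank F V} + .replicate (finrank F V - 1) 1) (by simp; omega)
  refine ⟨y, w⁻¹, _, ?_, hy.pe (a := w ^ finrank F V) (b := 1) (by simp +contextual [h1, Multiset.mem_replicate]) (by simp)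
    (by simp [Multiset.mem_replicate]; omega) h2, h1, h2, hy⟩
  simp [slSub, MonoidHom.mem_ker, det_scE, hy.det]

/-- a unipotent element with one non-trivial Jordan block -/
theorem wit_unip (p : ℕ) [Fact p.Prime] [CharP F p] {e : ℕ} (h2 : 2 ≤ e) (he : e ≤ p) (hn : e ≤ finrank F V) :
    ∃ g : V ≃ₗ[F] V, g ^ p = 1 ∧ g ≠ 1 ∧ IsNilpotent ((g : End F V) - 1) ∧ jt (g : End F V) = {e} + .replicate (finrank F V - e) 1 ∧ RK g (e - 1) := by
  obtain ⟨g, h1, h3⟩ := exists_jt (V := V) (F := F) (m := {e} + .replicate (finrank F V - e) 1)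
    (by simp +contextual [Multiset.mem_replicate]; omega) (by simp; omega)
  have := (jt_prime p h1).2 ⟨by simp +contextual [h3, he, Multiset.mem_replicate, (Fact.out : p.Prime).one_le], fun h => by
    have : e ∈ jt (g : End F V) := by simp [h3]
    have := Multiset.eq_of_mem_replicate (h ▸ this); omega⟩
  refine ⟨g, this.1, this.2, h1, h3, 1, ?_⟩
  rw [show aeval (g : End F V) (X - C 1 : F[X]) = g - 1 by simp, finrank_ker_one h1, h3]; simp; omega

theorem not_el_rk (p : ℕ) [Fact p.Prime] [CharP F p] (hS : Sc H) (hn : 2 ≤ finrank F V) (h : ∀ h ∈ H, ¬ RK h 1) : ¬ EL p H := fun E => by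
  obtain ⟨g, h1, h2, -, -, h3⟩ := wit_unip (V := V) (F := F) p le_rfl (Fact.out : p.Prime).two_le hn
  obtain ⟨k, hk, e⟩ := si_of_cs ((el_unip p hS).1 E g h1 h2)
  exact h k hk (h3.sim e)

theorem not_el_refl (hr : r.Prime) (hS : Sc H) (hn : 2 ≤ finrank F V) (h : ∀ h ∈ H, ¬ RK h 1)
    (h1 : padicValNat r (finrank F V) < padicValNat r (Fintype.card F - 1)) : ¬ EL r H := fun E => by
  obtain ⟨y, c, w, h2, h3, -, h4, h5⟩ := wit_refl hr hn h1
  obtain ⟨k, hk, e⟩ := E.si hS h3 h2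
  exact h k hk ((h5.rk rfl (by simpa using h4.symm)).sim e)

end CfsgH9.EG
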