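import Cfsg.Agent.H9.EG1

/-! Symmetric eigenvalue multisets, similarities of forms, index arithmetic. -/

open Module Polynomial CfsgH5

namespace CfsgH9.EG

universe u

variable {F : Type u} [Field F] {V : Type*} [AddCommGroup V] [Module F V]
  {H : Subgroup (V ≃ₗ[F] V)} {g h y : V ≃ₗ[F] V} {r : ℕ} {M N : Multiset Fˣ}

theorem prod_chi {A C : Type*} [AddCommMonoid A] [CommMonoid C] (ψ : AddChar A C) (N : Multiset A) : (N.map ψ).prod = ψ N.sum := by
  induction N using Multiset.induction_on <;> simp [*, ψ.map_add_eq_mul]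

theorem exists_chi [Fintype F] [hr : Fact r.Prime] (hd : r ∣ Fintype.card F - 1) :
    ∃ ψ : AddChar (ZMod r) Fˣ, Function.Injective ψ ∧ ∀ a, a ^ r = 1 ↔ ∃ j, ψ j = a := by
  obtain ⟨w, hw⟩ := exists_orderOf_field (F := F) hd
  have h1 : w ^ r = 1 := hw ▸ pow_orderOf_eq_one w
  refine ⟨AddChar.zmodChar r h1, fun a b e => ZMod.val_injective r (pow_injOn_Iio_orderOf (hw ▸ a.val_lt) (hw ▸ b.val_lt) e),
    fun a => ⟨fun h => ?_, by rintro ⟨j, rfl⟩; rw [AddChar.zmodChar_apply, ← pow_mul, mul_comm, pow_mul, h1, one_pow]⟩⟩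
  obtain ⟨i, -, e⟩ := (IsPrimitiveRoot.coe_units_iff.2 (hw ▸ IsPrimitiveRoot.orderOf w)).eq_pow_of_pow_eq_one (ξ := a.1) (by rw [← Units.val_pow_eq_pow_val, h]; rfl)
  exact ⟨i, by rw [AddChar.zmodChar_apply']; exact_mod_cast e⟩

theorem w2 [hr : Fact r.Prime] (h2 : r ≠ 2) {n : ℕ} (hn : 3 ≤ n) (h6 : ¬ (n = 6 ∧ r = 3)) (h5 : ¬ ((r = 3 ∨ r = 5) ∧ n = r)) (t : ZMod r) :
    (({1, 1, -2} : Multiset (ZMod r)) + .replicate (n - 3) 0).map (t + ·) ≠ ({1, 1, -2} + .replicate (n - 3) 0 : Multiset (ZMod r)).map (- ·) := fun e => by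
  have c : ∀ x : ZMod r, ((if -t - x = 1 then 2 else 0) + (if -t - x = -2 then 1 else 0) + if -t - x = 0 then n - 3 else 0) =
      (if x = 1 then 2 else 0) + (if x = -2 then 1 else 0) + if x = 0 then n - 3 else 0 := fun x => by
    have := congrArg (Multiset.count (-x)) e
    rw [Multiset.count_map_eq_count' _ _ neg_injective, show -x = t + (-t - x) by ring, Multiset.count_map_eq_count' _ _ (add_right_injective t)] at this
    simp only [Multiset.insert_eq_cons, Multiset.count_add, Multiset.count_cons, Multiset.count_singleton, Multiset.count_replicate, @eq_comm _ (0 : ZMod r)] at this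
    split_ifs at this ⊢ <;> omega
  have z : ∀ k : ℕ, (k : ZMod r) = 0 → r ∣ k := fun k => (ZMod.natCast_eq_zero_iff k r).1
  have two : (2 : ZMod r) ≠ 0 := fun e => h2 ((Nat.prime_dvd_prime_iff_eq hr.1 Nat.prime_two).1 (z 2 e))
  have three : (3 : ZMod r) = 0 ↔ r = 3 := ⟨fun e => (Nat.prime_dvd_prime_iff_eq hr.1 Nat.prime_three).1 (z 3 e), by rintro rfl; rfl⟩
  have five : (5 : ZMod r) = 0 → r = 5 := fun e => (Nat.prime_dvd_prime_iff_eq hr.1 Nat.prime_five).1 (z 5 e)
  have c1 := c 1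
  have c2 := c (-2)
  have c0 := c 0
  clear e c
  by_cases h3 : r = 3
  · have n1 : (-2 : ZMod r) = 1 := by linear_combination -three.2 h3
    simp only [n1, one_ne_zero, zero_ne_one, if_true, if_false] at c1 c0
    by_cases a : -t - 1 = 1
    · have e1 : ¬ -t - 0 = 1 := fun e => one_ne_zero (α := ZMod r) (by linear_combination e - a)
      rw [if_neg e1, if_neg e1, if_neg fun e => two (by linear_combination e - a)] at c0
      omega
    · rw [if_neg a, if_neg a] at c1; split_ifs at c1 <;> omega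
  replace three := mt three.1 h3
  have n1 : (1 : ZMod r) ≠ -2 := fun e => three (by linear_combination e)
  have n2 : (-2 : ZMod r) ≠ 0 := neg_ne_zero.2 two
  simp only [n1, n1.symm, n2, one_ne_zero, if_true, if_false] at c1 c2
  by_cases a : -t - 1 = 1
  · rw [if_neg fun e => three (by linear_combination e - a), if_neg fun e => mul_ne_zero two three (by linear_combination e - a),
      if_neg fun e => mul_ne_zero two two (by linear_combination e - a)] at c2
    omega
  by_cases b : -t - 1 = 0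
  · rw [if_neg a, if_neg fun e => two (by linear_combination e - b), if_pos b] at c1
    rw [if_neg fun e => two (by linear_combination e - b), if_neg fun e => h5 ⟨.inr (five (by linear_combination e - b)), by
      rw [five (by linear_combination e - b)]; omega⟩, if_neg fun e => three (by linear_combination e - b)] at c2
    omega
  · rw [if_neg a, if_neg b] at c1; split_ifs at c1 <;> omega

theorem w5 (h : r = 3 ∨ r = 5) (N : Multiset (ZMod r)) (h1 : N.card = r) (h2 : N.sum = 0) :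
    ∃ t, (N.map (t + ·)).map (- ·) = N.map (t + ·) := by
  rcases h with rfl | rfl
  · obtain ⟨a, b, c, rfl⟩ := Multiset.card_eq_three.1 h1
    revert h2 a b c; decide +kernel
  · obtain ⟨a, ha⟩ := Multiset.card_pos_iff_exists_mem.1 (h1.ge.trans_lt' (by norm_num))
    obtain ⟨N, rfl⟩ := Multiset.exists_cons_of_mem ha
    have h3 : N.card = 4 := by simpa using h1
    obtain ⟨b, hb⟩ := Multiset.card_pos_iff_exists_mem.1 (h3.ge.trans_lt' (by norm_num))
    obtain ⟨N, rfl⟩ := Multiset.exists_cons_of_mem hb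
    have h4 : N.card = 3 := by simpa using h3
    obtain ⟨c, d, e, rfl⟩ := Multiset.card_eq_three.1 h4
    obtain rfl : a = -(b + (c + (d + e))) := eq_neg_of_add_eq_zero_left (by simpa using h2)
    clear h1 h2 h3 h4 ha hb; revert b c d e; decide +kernel

variable [FiniteDimensional F V] [Fintype F]

theorem exists_dz [Fact r.Prime] {ψ : AddChar (ZMod r) Fˣ} (h : ∀ a, a ^ r = 1 ↔ ∃ j, ψ j = a) (h1 : ∀ a ∈ M, a ^ r = 1) :
    ∃ N : Multiset (ZMod r), N.map ψ = M := exists_map_of_forall fun a ha => (h a).1 (h1 a ha)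

theorem el_sym [hr : Fact r.Prime] (h2 : r ≠ 2) (hd : r ∣ Fintype.card F - 1) (hn : 3 ≤ finrank F V) (h6 : ¬ (finrank F V = 6 ∧ r = 3))
    (hS : Sc H) (nec : ∀ h ∈ H, ∀ M, DG h M → (∀ a ∈ M, a ^ r = 1) → ∃ c, M.map (c * ·) = M.map (·⁻¹))
    (suf : Odd (finrank F V) → ∀ y M, DG y M → (∀ a ∈ M, a ^ r = 1) → M.map (·⁻¹) = M → SI H y) :
    EL r H ↔ (r = 3 ∨ r = 5) ∧ finrank F V = r ∧ padicValNat r (Fintype.card F - 1) = 1 := by
  obtain ⟨ψ, hψ, h1⟩ := exists_chi hd
  have v1 := one_le_padicValNat_of_dvd (by have := Fintype.one_lt_card (α := F); omega) hd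
  refine ⟨fun E => by_contra fun n => ?_, fun ⟨h3, h4, h5⟩ => el_of hr.1 (cast_ne_of_dvd hd) (by omega) hS (fun y c h6 h7 _ => ?_)
    fun g hg l h6 _ k h7 h8 h9 => absurd ((exists_irr_sl_iff hr.1 hd (by omega)).1 ⟨g, hg, h9, k, l, h6, h7, h8⟩) (by simp [h4, h5, h2])⟩
  · by_cases h5 : (r = 3 ∨ r = 5) ∧ finrank F V = r
    · obtain ⟨y, c, w, h3, h4, h7, h8, h9⟩ := wit_refl (V := V) (F := F) hr.1 (by omega) (by
        rw [h5.2, padicValNat_self]; exact lt_of_le_of_ne v1 fun e => n ⟨h5.1, h5.2, e.symm⟩)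
      obtain ⟨k, hk, e⟩ := E.si hS h4 h3
      obtain ⟨d, e⟩ := nec k hk _ (h9.sim e) (by simp +contextual [h7, Multiset.mem_replicate])
      classical
      have e1 := congrArg (Multiset.count 1) e
      have e2 := congrArg (Multiset.count w⁻¹) e
      have : w⁻¹ ≠ w := fun e => h8 (pow_eq_one_iff_of_coprime ((Nat.coprime_primes Nat.prime_two hr.1).2 h2.symm) |>.1
        ⟨by rw [sq]; exact inv_eq_iff_mul_eq_one.1 e, h7⟩)
      by_cases e3 : d = 1
      · simp [e3, this, Multiset.count_replicate, h8, h8.symm] at e2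
      · simp only [Multiset.map_add, Multiset.map_singleton, Multiset.map_replicate, Multiset.count_add, Multiset.count_replicate,
          Multiset.count_singleton, mul_one, inv_one, e3, if_true, if_false] at e1
        split_ifs at e1 <;> omega
    set N : Multiset (ZMod r) := {1, 1, -2} + .replicate (finrank F V - 3) 0 with hN
    obtain ⟨y, hy⟩ := exists_dg (V := V) (M := N.map ψ) (by simp [hN]; omega)
    have p : ∀ a ∈ N.map ψ, a ^ r = 1 := by simp only [Multiset.forall_mem_map_iff]; exact fun j _ => (h1 _).2 ⟨j, rfl⟩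
    obtain ⟨b, hb, e⟩ : ∃ b ∈ N, b ≠ 1 := by
      by_contra! H; exact w2 h2 hn h6 h5 (-2) (Multiset.map_congr rfl fun x hx => by rw [H x hx]; ring)
    obtain ⟨k, hk, e⟩ := E.si' (hy.pe p (Multiset.mem_map_of_mem _ hb) (Multiset.mem_map_of_mem _ (by simp [hN])) (hψ.ne e))
      (hy.mem_sl.2 (by rw [prod_chi, ← ψ.map_zero_eq_one]; congr 1; simp [hN]; ring))
    obtain ⟨d, e⟩ := nec k hk _ (hy.sim e) p
    obtain ⟨t, rfl⟩ := (h1 d).1 (by
      obtain ⟨a, ha, e1⟩ := Multiset.mem_map.1 (e ▸ Multiset.mem_map_of_mem (d * ·) (Multiset.mem_map_of_mem ψ hb))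
      have := congrArg (· ^ r) e1
      simpa [mul_pow, p a ha, p _ (Multiset.mem_map_of_mem ψ hb)] using this.symm)
    exact w2 h2 hn h6 h5 t (Multiset.map_injective hψ (by
      simpa only [Multiset.map_map, Function.comp_def, ψ.map_add_eq_mul, ψ.map_neg_eq_inv] using e))
  · obtain ⟨M, hM⟩ := exists_dg_pow hr.1 hd h6
    obtain ⟨N, rfl⟩ := exists_dz h1 (hM.pow_iff.1 h6)
    have := (hM.smul c).det.symm.trans h7
    rw [Multiset.prod_map_mul, Multiset.map_const', Multiset.prod_replicate, Multiset.map_id', hM.card, prod_chi] at this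
    have e := pow_eq_one_of_val hr.1 (n := finrank F V) (by omega) (by simp [h4, h5]) (w := c) (by
      rw [eq_inv_of_mul_eq_one_left this, inv_pow, (h1 _).2 ⟨_, rfl⟩, inv_one])
    rw [e, one_mul, ← ψ.map_zero_eq_one] at this
    obtain ⟨t, ht⟩ := w5 h3 N (by simpa [h4] using hM.card) (hψ this)
    refine (suf (h4 ▸ hr.1.odd_of_ne_two h2) _ _ (hM.smul (ψ t)) (by
      simp only [Multiset.forall_mem_map_iff, ← ψ.map_add_eq_mul]; exact fun j _ => (h1 _).2 ⟨_, rfl⟩) ?_).of_smul hS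
    simpa [ψ.map_add_eq_mul, ψ.map_neg_eq_inv, -neg_add_rev] using congrArg (Multiset.map ψ) ht

section Form
variable {T : FParam F} {S : Form T V}

omit [FiniteDimensional F V] [Fintype F] in
/-- `H` consists of similarities of `S` -/
def Sm (S : Form T V) (h : V ≃ₗ[F] V) (c : Fˣ) : Prop := ∀ u v, S.B (h u) (h v) = c * S.B u v

omit [Fintype F] in
theorem Sm.dg (hS : S.Nondeg) {c : Fˣ} (h1 : Sm S h c) (h2 : DG h M) :
    M.map (c⁻¹ * ·) = M.map fun a => (Units.map T.σ.toMonoidHom a)⁻¹ := by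
  have := (sd_iff_ed T.σσ).1 (hS.sd (g := h) (h := (scE V c⁻¹ * h : V ≃ₗ[F] V)) fun u v => by
    change S.B (c⁻¹.1 • h u) (h v) = _
    rw [S.smul_left, h1, Units.inv_mul_cancel_left])
  rw [(h2.smul _).ed, h2.ed] at this
  refine Multiset.map_injective lin_inj (this.trans ?_)
  rw [Multiset.map_map, Multiset.map_map]
  exact Multiset.map_congr rfl fun a _ => by simp [du_X_sub_C a.ne_zero]

omit [FiniteDimensional F V] [Fintype F] in
theorem Sm.pow {c : Fˣ} (h1 : Sm S h c) (k : ℕ) : Sm S (h ^ k) (c ^ k) := fun u v => by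
  induction k with
  | zero => simp
  | succ k ih => rw [pow_succ', pow_succ', LinearEquiv.mul_apply, LinearEquiv.mul_apply, h1, ih, Units.val_mul, mul_assoc]

omit [Fintype F] in
theorem Sm.unique (hS : S.Nondeg) (hn : finrank F V ≠ 0) {c d : Fˣ} (h1 : Sm S h c) (h2 : Sm S h d) : c = d := by
  have := nontrivial_of_finrank_pos (R := F) (M := V) (by omega)
  obtain ⟨x, hx⟩ := exists_ne (0 : V)
  obtain ⟨z, hz⟩ := hS.exists_ne hx
  exact Units.ext (mul_right_cancel₀ hz ((h1 _ _).symm.trans (h2 _ _)))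

theorem Sm.isom (hT : T.IsMax) (hS : S.Nondeg) (hn : finrank F V ≠ 0) {c : Fˣ} (h1 : Sm S h c) (hr : r.Prime)
    (hd : ¬ r ∣ Fintype.card F - 1) (h2 : h ^ r = 1) : h ∈ S.isom := (hT.mem_isom S).2 fun u v => by
  have : c ^ r = 1 := (h1.pow r).unique hS hn fun u v => by simp [h2]
  rw [h1, eq_one_of_pow hr hd (c := c.1) (by rw [← Units.val_pow_eq_pow_val, this]; rfl), one_mul]

theorem not_el_cy (hT : T.IsMax) (hS : S.Nondeg) (hH : ∀ h ∈ H, ∃ c, Sm S h c) (hr : r.Prime) (h0 : (r : F) ≠ 0)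
    (hd : ¬ r ∣ Fintype.card F - 1) (hi : orderOf (Fintype.card F : ZMod r) ≤ finrank F V) (h : ∀ a ∈ cyT F r, du T.σ a ≠ a) :
    ¬ EL r H := fun E => by
  obtain ⟨g, h1, h2, a, h3⟩ := exists_cy_sl (V := V) hr h0 hd one_pos (by rwa [mul_one])
  obtain ⟨k, hk, e⟩ := E.si' h2 h1
  obtain ⟨c, hc⟩ := hH k hk
  have := hS.ed1_du (hc.isom hT hS (by have := (ord_pos hr h0).1; omega) hr hd (sim_pow e h3.pow))
  rw [← (sim_iff_ed1 rfl).1 e, h3.ed1_eq hr h0] at this
  exact h a (h3.mem a (Multiset.mem_singleton_self a)) (by simpa using this)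

end Form

theorem idx_dvd {K : Subgroup (V ≃ₗ[F] V)} (h : r ∣ H.relIndex (slSub F V)) (hK : K ≤ H) {m : ℕ} (hn : finrank F V ≠ 0)
    (hm : ∀ k ∈ K, LinearEquiv.det k ^ m = 1) : r * Nat.card K * (Fintype.card F - 1) ∣ Nat.card (V ≃ₗ[F] V) * m := by
  classical
  have h1 := Form.card_eq_card_map_det_mul (⊤ : Subgroup (V ≃ₗ[F] V))
  rw [Subgroup.card_top, Subgroup.map_top_of_surjective _ (det_surj (by omega)), Subgroup.card_top, top_inf_eq, Nat.card_eq_fintype_card (α := Fˣ),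
    Fintype.card_units, ← (H.subgroupOf (slSub F V)).index_mul_card, ← Subgroup.inf_subgroupOf_right,
    Nat.card_congr (Subgroup.subgroupOfEquivOfLe inf_le_right).toEquiv, Subgroup.inf_subgroupOf_right] at h1
  have h2 : Nat.card (K.map LinearEquiv.det) ∣ m := by
    rw [← IsCyclic.exponent_eq_card]
    exact Monoid.exponent_dvd_of_forall_pow_eq_one (by rintro ⟨_, k, hk, rfl⟩; exact Subtype.ext (hm k hk))
  rw [Form.card_eq_card_map_det_mul K, h1, mul_comm (Nat.card _), ← mul_assoc, mul_right_comm, mul_comm _ (_ - 1)]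
  exact mul_dvd_mul (mul_dvd_mul_left _ (mul_dvd_mul h (Subgroup.card_dvd_of_le (inf_le_inf_right _ hK)))) h2

theorem idx_dvd' {K : Subgroup (V ≃ₗ[F] V)} (h : r ∣ H.relIndex (slSub F V)) (hK : K ≤ H) (hn : finrank F V ≠ 0) :
    r * Nat.card K ∣ Nat.card (V ≃ₗ[F] V) := by
  classical
  exact Nat.dvd_of_mul_dvd_mul_right (by have := Fintype.one_lt_card (α := F); omega)
    (idx_dvd h hK hn fun k _ => by rw [← Fintype.card_units]; exact pow_card_eq_one)

theorem card_gl : (Nat.card (V ≃ₗ[F] V) : ℤ) = (Fintype.card F : ℤ) ^ (finrank F V).choose 2 *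
    ∏ i ∈ Finset.range (finrank F V), ((Fintype.card F : ℤ) ^ (i + 1) - 1) := by
  rw [card_linearEquiv, Nat.card_eq_fintype_card, Fin.prod_univ_eq_prod_range fun i => Fintype.card F ^ finrank F V - Fintype.card F ^ i,
    Nat.cast_prod, ← Finset.prod_range_reflect fun i => (Fintype.card F : ℤ) ^ (i + 1) - 1, Nat.choose_two_right, ← Finset.sum_range_id,
    ← Finset.prod_pow_eq_pow_sum, ← Finset.prod_mul_distrib]
  refine Finset.prod_congr rfl fun i hi => ?_
  have := Finset.mem_range.1 hi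
  rw [Nat.cast_sub (Nat.pow_le_pow_right Fintype.card_pos this.le), mul_sub, ← pow_add, show i + (finrank F V - 1 - i + 1) = finrank F V by omega]
  simp

theorem ar0 {q A R x : ℤ} {b : ℕ} (hr : r.Prime) (hq : ¬ (r : ℤ) ∣ q) (hA : A ≠ 0) (h : r * (A * x) ∣ q ^ b * (A * R)) : (r : ℤ) ∣ R := by
  rw [mul_left_comm, mul_left_comm _ A, mul_dvd_mul_iff_left hA] at h
  have := Nat.prime_iff_prime_int.1 hr
  exact (this.dvd_or_dvd (dvd_of_mul_right_dvd h)).resolve_left fun h => hq (this.dvd_of_dvd_pow h)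

theorem ar_even (q : ℤ) (m : ℕ) : ∏ i ∈ Finset.range (2 * m), (q ^ (i + 1) - 1) =
    (∏ i ∈ Finset.range m, (q ^ (2 * (i + 1)) - 1)) * ∏ i ∈ Finset.range m, (q ^ (2 * i + 1) - 1) := by
  induction m with
  | zero => simp
  | succ m ih => simp only [mul_add, mul_one, Finset.prod_range_succ, ih, show 2 * m + 2 = 2 * m + 1 + 1 from rfl]; ring

omit [FiniteDimensional F V] in
theorem not_dvd_q (hr : r.Prime) (h0 : (r : F) ≠ 0) : ¬ (r : ℤ) ∣ Fintype.card F := fun h => by
  obtain ⟨p, _⟩ := CharP.exists F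
  obtain ⟨n, hp, hn⟩ := FiniteField.card F p
  exact h0 ((CharP.cast_eq_zero_iff F p r).2 ((Nat.prime_dvd_prime_iff_eq hr hp).1 (hr.dvd_of_dvd_pow (hn ▸ Int.natCast_dvd_natCast.1 h))).symm.dvd)

theorem pow_sub_ne {q j : ℕ} (hq : 1 < q) : (q : ℤ) ^ (j + 1) - 1 ≠ 0 :=
  sub_ne_zero.2 (one_lt_pow₀ (by exact_mod_cast hq) j.succ_ne_zero).ne'

theorem ord_dvd_int {q j : ℕ} : orderOf (q : ZMod r) ∣ j ↔ (r : ℤ) ∣ (q : ℤ) ^ j - 1 := by
  rw [orderOf_dvd_iff_pow_eq_one, ← ZMod.intCast_zmod_eq_zero_iff_dvd, ← sub_eq_zero]; simp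

theorem ar_geom {x : ℤ} {k : ℕ} (h : (r : ℤ) ∣ ∑ t ∈ Finset.range k, x ^ t) : (r : ℤ) ∣ x ^ k - 1 ∧ ((r : ℤ) ∣ x - 1 → r ∣ k) :=
  ⟨geom_sum_mul x k ▸ h.mul_right _, fun e => by
    rw [← ZMod.intCast_zmod_eq_zero_iff_dvd] at h e
    rw [← ZMod.natCast_eq_zero_iff]
    simpa [show (x : ZMod r) = 1 by simpa [sub_eq_zero] using e] using h⟩

end CfsgH9.EG
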