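import Cfsg.Agent.H9.EG2

/-! Similarity groups of forms. -/

open Module Polynomial CfsgH5

namespace CfsgH9.EG

universe u

variable {F : Type u} [Field F] {V W : Type*} [AddCommGroup V] [Module F V] [AddCommGroup W] [Module F W]
  {H : Subgroup (V ≃ₗ[F] V)} {g h y : V ≃ₗ[F] V} {r : ℕ} {M N : Multiset Fˣ} {T : FParam F} {S : Form T V}

/-- the group of similarities -/
def simH (S : Form T V) : Subgroup (V ≃ₗ[F] V) where
  carrier := {g | ∃ c, Sm S g c}
  mul_mem' := fun ⟨c, h⟩ ⟨d, h'⟩ => ⟨c * d, fun u v => by rw [LinearEquiv.mul_apply, LinearEquiv.mul_apply, h, h', Units.val_mul, mul_assoc]⟩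
  one_mem' := ⟨1, fun u v => by simp⟩
  inv_mem' := fun {a} ⟨c, h⟩ => ⟨c⁻¹, fun u v => by rw [Units.eq_inv_mul_iff_mul_eq, ← h]; simp [LinearEquiv.coe_inv]⟩

theorem sc_simH : Sc (simH S) := fun c => ⟨c * Units.map T.σ.toMonoidHom c, fun u v => by simp [S.smul_left]; ring⟩

theorem isom_le : S.isom ≤ simH S := fun _ h => ⟨1, fun u v => by simp [h.1]⟩

theorem lin_sim {ι : Type} [Fintype ι] [DecidableEq ι] (S : Form T (ι → F)) : lin (Cfsg.Geo.similarityGroup S.B) = simH S :=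
  Subgroup.ext fun g => by obtain ⟨x, rfl⟩ := (glEquiv ι F).surjective g; exact mem_lin

theorem sm_of_Q {S : Form (orthParam F) V} {c : Fˣ} (h : ∀ v, S.Q (g v) = c * S.Q v) : Sm S g c := fun u v => by
  have := S.Q_add (g u) (g v)
  rw [← map_add, h, h, h, S.Q_add] at this
  linear_combination -this

theorem lin_quad {ι : Type} [Fintype ι] [DecidableEq ι] {Q : (ι → F) → F} (hQ : Cfsg.Geo.IsNondegenerateQuadraticForm Q) (h2 : (2 : F) ≠ 0) :
    lin (Cfsg.Geo.quadSimilarityGroup Q) = simH (geoForm hQ) := Subgroup.ext fun g => by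
  obtain ⟨x, rfl⟩ := (glEquiv ι F).surjective g
  refine mem_lin.trans (exists_congr fun c => ⟨fun h => sm_of_Q (by simp only [geoForm_Q]; exact h), fun h v => mul_left_cancel₀ h2 ?_⟩)
  have := h v v
  rwa [Form.orth_self, Form.orth_self, geoForm_Q, geoForm_Q, mul_left_comm] at this

theorem si_of_conj (φ : W ≃ₗ[F] V) {f : End F W} (e : Sim (y : End F V) f) (hH : ∀ h : V ≃ₗ[F] V, (∀ w, h (φ w) = φ (f w)) → h ∈ H) :
    SI H y := by
  obtain ⟨ψ, e⟩ := e
  exact ⟨ψ.trans φ * y * (ψ.trans φ)⁻¹, hH _ fun w => by simpa [LinearEquiv.coe_inv] using e (ψ.symm w), ψ.trans φ,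
    fun v => by simp [LinearEquiv.coe_inv]⟩

/-- a block of two-dimensional maps -/
def blk {μ : Type*} (a b c : μ → F) : End F (μ ⊕ μ → F) where
  toFun x := Sum.elim (fun i => a i * x (.inl i) + b i * x (.inr i)) fun i => c i * x (.inl i) - a i * x (.inr i)
  map_add' x y := by ext (i | i) <;> simp <;> ring
  map_smul' x y := by ext (i | i) <;> simp <;> ring

theorem blk_sq {μ : Type*} {a b c : μ → F} {z : F} (h : ∀ i, a i ^ 2 + b i * c i = z) : aeval (blk a b c) (X ^ 2 - C z : F[X]) = 0 := by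
  ext1 x; ext (i | i) <;> simp [sq, blk, ← h i] <;> ring

theorem refl_fix {k : ℕ} (hk : 2 ≤ k) {d w w' : Fˣ} (e : ({w} : Multiset Fˣ) + .replicate k d = {w'} + .replicate k 1) : d = 1 := by
  classical
  have := congrArg (Multiset.count 1) e
  simp only [Multiset.count_add, Multiset.count_replicate, Multiset.count_singleton, if_true] at this
  split_ifs at this <;> first | assumption | omega

theorem two_rep {α : Type*} {s : Multiset α} {a b : α} (h : ∀ x ∈ s, x = a ∨ x = b) : ∃ k e, s = .replicate k a + .replicate e b := by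
  induction s using Multiset.induction_on with
  | empty => exact ⟨0, 0, rfl⟩
  | cons x s ih =>
    obtain ⟨k, e, rfl⟩ := ih fun x hx => h x (by simp [hx])
    rcases h x (by simp) with rfl | rfl
    exacts [⟨k + 1, e, by simp [Multiset.replicate_succ]⟩, ⟨k, e + 1, by simp [Multiset.replicate_succ]⟩]

theorem du_lin (σ : F →+* F) : (M.map fun a => (X - C a.1 : F[X])).map (du σ) =
    (M.map fun a => (Units.map σ.toMonoidHom a)⁻¹).map fun a => X - C a.1 := by
  rw [Multiset.map_map, Multiset.map_map]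
  exact Multiset.map_congr rfl fun a _ => by simp [du_X_sub_C a.ne_zero]

variable [FiniteDimensional F V]

theorem si_of_emb [FiniteDimensional F W] {S0 : Form T W} (h : Form.Emb S0 S) {g : W ≃ₗ[F] W} (hg : g ∈ S0.isom) {s : Multiset F[X]}
    (h1 : Pr (g : End F W) s) (hs : ∀ a ∈ s, a.Monic) {e : ℕ} (h2 : Pr (y : End F V) (s + .replicate e (X - 1))) : SI (simH S) y := by
  obtain ⟨k, hk, j, h3⟩ := h g hg s h1
  have m : ∀ e, ∀ a ∈ s + .replicate e (X - 1), a.Monic := fun e a ha => (Multiset.mem_add.1 ha).elim (hs a)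
    fun h => Multiset.eq_of_mem_replicate h ▸ monic_X_sub_C 1
  have := (h2.finrank (m _)).symm.trans (h3.finrank (m _))
  simp only [dg0_add, dg0_rep, natDegree_X_sub_one, mul_one, add_right_inj] at this
  exact ⟨k, isom_le hk, h2.sim (this ▸ h3)⟩

theorem sim_blk {μ : Type*} [Fintype μ] {a b c : μ → F} {l : Fˣ} (h : ∀ i, a i ^ 2 + b i * c i = l) (h1 : ∀ c : F, c ^ 2 ≠ l)
    (h2 : g ^ 2 = scE V l) (hd : finrank F V = Fintype.card μ * 2) : Sim (g : End F V) (blk a b c) :=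
  sim_of_irr (monic_X_pow_sub_C _ two_ne_zero) ((X_pow_sub_C_irreducible_iff_of_prime Nat.prime_two).2 h1) (aeval_of_pow h2) (blk_sq h)
    (by simp [hd, mul_two])

theorem orth_basis {S : Form (orthParam F) V} (hS : S.Nondeg) (h2 : (2 : F) ≠ 0) {ι : Type*} [Fintype ι] (h : Fintype.card ι = finrank F V) :
    ∃ (w : ι → Fˣ) (φ : (ι → F) ≃ₗ[F] V), ∀ x, S.Q (φ x) = ∑ i, w i * x i ^ 2 := by
  let _ := invertibleOfNonzero h2
  obtain ⟨w, ⟨e⟩⟩ := S.toQF.equivalent_weightedSumSquares_units_of_nondegenerate' fun x hx => hS.left fun y => by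
    have := hx y
    rw [QuadraticMap.associated_apply] at this
    rw [S.orth_B]; simpa [h2, QuadraticMap.polar, S.toQF_apply] using this
  let σ := Fintype.equivFinOfCardEq h
  refine ⟨w ∘ σ, (LinearEquiv.funCongrLeft F F σ).symm.trans e.symm.toLinearEquiv, fun x => ?_⟩
  rw [← S.toQF_apply, ← σ.symm.sum_comp]
  simpa [sq, Units.smul_def, LinearMap.funLeft_apply] using e.symm.map_app ((LinearEquiv.funCongrLeft F F σ).symm x)

theorem jt_two [CharP F 2] (h : g ^ 2 = 1) : ∃ k e, jt (g : End F V) = .replicate k 2 + .replicate e 1 := two_rep fun x hx => by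
  have := (pow_eq_zero_iff_jt (k := 2) (nil_of_pow 2 h)).1 ((pow_pp_eq_one (k := 1) 2).1 h) x hx
  have := jt_pos x hx; omega

variable [Fintype F]

theorem two_dvd (h2 : (2 : F) ≠ 0) : 2 ∣ Fintype.card F - 1 := (Nat.Odd.sub_odd (odd_card_of_two_ne_zero h2) odd_one).two_dvd

theorem exists_pm (h2 : (2 : F) ≠ 0) (h : y ^ 2 = 1) : ∃ k e, DG y (.replicate k (-1) + .replicate e 1) := by
  obtain ⟨M, hM⟩ := exists_dg_pow Nat.prime_two (two_dvd h2) h
  obtain ⟨k, e, rfl⟩ := two_rep (s := M) (a := -1) (b := 1) fun x hx => by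
    have : x.1 ^ 2 = 1 := by rw [← Units.val_pow_eq_pow_val, hM.pow_iff.1 h x hx]; rfl
    exact (sq_eq_one_iff.1 this).symm.imp Units.ext Units.ext
  exact ⟨k, e, hM⟩

theorem inv_even (h2 : (2 : F) ≠ 0) (hn : finrank F V ≠ 0) (hv : padicValNat 2 (Fintype.card F - 1) ≤ padicValNat 2 (finrank F V))
    (h : y ^ 2 = 1) {c : Fˣ} (hc : scE V c * y ∈ slSub F V) : ∃ k e, DG y (.replicate (2 * k) (-1) + .replicate e 1) := by
  obtain ⟨k, e, hM⟩ := exists_pm h2 h
  have : c ^ finrank F V * (-1) ^ k = 1 := by simpa [slSub, det_scE, hM.det] using hc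
  rw [pow_eq_one_of_val Nat.prime_two hn hv (w := c) (by
    rw [eq_inv_of_mul_eq_one_left this, inv_pow, ← pow_mul, mul_comm, pow_mul]; simp), one_mul,
    neg_one_pow_eq_one_iff_even fun e => h2 (by have : (-1 : F) = 1 := congrArg Units.val e; linear_combination -this)] at this
  obtain ⟨j, rfl⟩ := this.two_dvd
  exact ⟨j, e, hM⟩

theorem val_zero (p : ℕ) [Fact p.Prime] [CharP F p] : padicValNat p (Fintype.card F - 1) = 0 :=
  padicValNat.eq_zero_of_not_dvd (not_dvd_card_sub p)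

theorem orth_suf {S : Form (orthParam F) V} (hS : S.Nondeg) (hr : r.Prime) (h2 : r ≠ 2) (h0 : (r : F) ≠ 0) (hn : Odd (finrank F V))
    (h : y ^ r = 1) (h1 : (ed (y : End F V)).map (du (RingHom.id F)) = ed (y : End F V)) : SI (simH S) y := by
  have h3 := (pow_eq_one_iff_ed1 hr h0).1 h
  have h7 := fun a ha => mem_cyT.1 (h3 a ha)
  have h8 := fun a ha => cyT_coprime hr h2 h0 (h3 a ha)
  rw [ed_eq_ed1] at h1
  obtain ⟨S0, n0, g, hg, hp⟩ := exists_form_pr (orthParam F) (fun a ha => pp_of_irr (h7 a ha).2.1 (h7 a ha).1)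
    (fun a ha => cyT_coeff hr (h3 a ha)) (show _ = _ by simpa [orthParam] using h1) (.inr h8)
  exact si_of_emb (n0.odd_emb hS (n0.even_of_fpf hg fun v hv => hp.eq_zero (fun a ha => (h7 a ha).2.1) h8 v (by simp [sq, hv])) hn
    (by simpa using dg0_ed1_le _)) hg hp (fun a ha => (h7 a ha).2.1) (ed_eq_ed1 (y : End F V) ▸ pr_ed _)

theorem nec_sym (hS : S.Nondeg) (hσ : ∀ a : Fˣ, a ^ r = 1 → T.σ a = a) : ∀ h ∈ simH S, ∀ M, DG h M → (∀ a ∈ M, a ^ r = 1) →
    ∃ c, M.map (c * ·) = M.map (·⁻¹) := fun _ ⟨c, h⟩ _ h1 h2 =>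
  ⟨c⁻¹, (h.dg hS h1).trans (Multiset.map_congr rfl fun a ha => congrArg _ (Units.ext (hσ a (h2 a ha))))⟩

theorem odd_of_idx {S : Form T V} (hr : r.Prime) (h0 : (r : F) ≠ 0) (h : r ∣ (simH S).relIndex (slSub F V)) {m e : ℕ} (hn : finrank F V = 2 * m + e)
    (hn0 : finrank F V ≠ 0) {A R x : ℤ} (hK : (Nat.card S.isom : ℤ) = (∏ i ∈ Finset.range m, ((Fintype.card F : ℤ) ^ (2 * (i + 1)) - 1)) * A * x)
    (hA : A ≠ 0) (hR : ∏ i ∈ Finset.range e, ((Fintype.card F : ℤ) ^ (2 * m + i + 1) - 1) = A * R) :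
    (∃ j < m, orderOf (Fintype.card F : ZMod r) ∣ 2 * j + 1) ∨ (r : ℤ) ∣ R := by
  have := Int.natCast_dvd_natCast.2 (idx_dvd' h isom_le hn0)
  rw [Nat.cast_mul, hK, card_gl] at this
  nth_rw 2 [hn] at this
  rw [Finset.prod_range_add, ar_even, hR, mul_mul_mul_comm] at this
  have hp := Nat.prime_iff_prime_int.1 hr
  refine (hp.dvd_or_dvd (ar0 hr (not_dvd_q hr h0) (mul_ne_zero (Finset.prod_ne_zero_iff.2 fun i _ =>
    pow_sub_ne (j := 2 * i + 1) Fintype.one_lt_card) hA) this)).imp_left fun h => ?_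
  obtain ⟨j, h1, h2⟩ := (hp.dvd_finset_prod_iff _).1 h
  exact ⟨j, Finset.mem_range.1 h1, ord_dvd_int.2 h2⟩

theorem not_el_odd {S : Form T V} (hT : T.IsMax) (hσ : T.σ = RingHom.id F) (hS : S.Nondeg) (hr : r.Prime) (h2 : r ≠ 2) (h0 : (r : F) ≠ 0)
    (hd : ¬ r ∣ Fintype.card F - 1) {j : ℕ} (hj : 2 * j + 1 ≤ finrank F V) (h : orderOf (Fintype.card F : ZMod r) ∣ 2 * j + 1) :
    ¬ EL r (simH S) := by
  obtain ⟨p, _⟩ := CharP.exists F
  have := Fact.mk (CharP.char_is_prime F p)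
  exact not_el_cy hT hS (fun _ h => h) hr h0 hd ((Nat.le_of_dvd (by omega) h).trans hj) fun a ha => by
    rw [hσ, Ne, du_id_iff p (fun _ => rfl) hr h2 h0 ha, not_not]; exact (odd_two_mul_add_one j).of_dvd_nat h

end CfsgH9.EG
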