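import Cfsg.Agent.H9.EG3

/-! Extension-field subgroups. -/

open Module Polynomial CfsgH5

namespace CfsgH9.EG

universe u

variable {F : Type u} [Field F] {V : Type*} [AddCommGroup V] [Module F V]
  {H : Subgroup (V ≃ₗ[F] V)} {g h y : V ≃ₗ[F] V} {r : ℕ}

/-- `H` is the group of semilinear maps -/
def XH (L : Type u) [Field L] [Module L V] (H : Subgroup (V ≃ₗ[F] V)) : Prop :=
  ∀ g, g ∈ H ↔ ∃ τ : L → L, ∀ a v, g (a • v) = τ a • g v

open Matrix in
theorem exists_xh [Finite F] {ι : Type} [Fintype ι] [DecidableEq ι] [Nonempty ι] {k : ℕ} {K : Subalgebra F (Matrix ι ι F)}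
    (hK : Cfsg.Geo.IsFieldSubalgebra k K) : ∃ (L : Type u) (_ : Field L) (_ : Algebra F L) (_ : Finite L) (_ : Module L (ι → F))
      (_ : IsScalarTower F L (ι → F)), finrank F L = k ∧ XH L (lin (Cfsg.Geo.subalgebraNormalizer K)) := by
  obtain ⟨L, _, _, _, ψ, rfl, h⟩ := exists_field hK
  let _ : Module L (ι → F) := Module.compHom _ ψ.toRingHom
  have e : ∀ (a : L) (v : ι → F), a • v = ψ a *ᵥ v := fun _ _ => rfl
  refine ⟨L, inferInstance, inferInstance, inferInstance, inferInstance, ⟨fun c a v => by simp [e, smul_mulVec]⟩, h, fun g => ?_⟩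
  obtain ⟨x, rfl⟩ := (glEquiv ι F).surjective g
  refine mem_lin.trans ⟨fun h => ?_, fun ⟨τ, h⟩ => ?_⟩
  · choose τ hτ using fun a => (h (ψ a)).1 ⟨a, rfl⟩
    exact ⟨τ, fun a v => by simp [e, show ψ (τ a) = _ from hτ a, mul_assoc]⟩
  have e1 : ∀ a, x.1 * ψ a * (x⁻¹).1 = ψ (τ a) := fun a => by
    rw [Units.mul_inv_eq_iff_eq_mul]; exact mat_ext fun v => by simpa [e] using h a v
  have : Function.Surjective τ := Finite.injective_iff_surjective.1 fun a b h => ψ.injective ((cjA x).injective ((e1 a).trans (h ▸ (e1 b).symm)))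
  refine fun k => ⟨by rintro ⟨a, rfl⟩; exact ⟨_, (e1 a).symm⟩, fun ⟨b, hb⟩ => ?_⟩
  obtain ⟨a, rfl⟩ := this b
  exact ⟨a, (cjA x).injective ((e1 a).trans hb)⟩

variable {L : Type u} [Field L] [Algebra F L] [Module L V] [IsScalarTower F L V] (hH : XH L H)
include hH

theorem XH.sc : Sc H := fun c => (hH _).2 ⟨id, fun a v => (smul_comm a c.1 v).symm⟩

variable [FiniteDimensional F V]

theorem XH.rk (hk : (finrank F L).Prime) (hg : g ∈ H) {j : ℕ} (h : RK g j)
    (hj : 2 * j < finrank F V ∨ (finrank F V = finrank F L ∧ j + 2 ≤ finrank F V)) : finrank F L ∣ j := by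
  obtain ⟨τ, hτ⟩ := (hH g).1 hg
  obtain ⟨c, h⟩ := h
  have := Module.finite_of_finrank_pos hk.pos
  have := Module.Finite.of_restrictScalars_finite F L V
  have := Subalgebra.isSimpleOrder_of_finrank_prime F L hk
  set W := LinearMap.ker (aeval (g : End F V) (X - C c : F[X])) with hW
  have m : ∀ v, v ∈ W ↔ g v = c • v := fun v => by simp [hW, sub_eq_zero]
  obtain ⟨θ, u, h1, h2, h3, h4⟩ : ∃ θ : L, ∃ u ∈ W, θ ∉ (⊥ : Subalgebra F L) ∧ u ≠ 0 ∧ θ • u ∈ W := by
    rcases hj with hj | hj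
    · obtain ⟨θ, -, hθ⟩ := SetLike.exists_of_lt (bot_lt_top (α := Subalgebra F L))
      let e := DistribMulAction.toLinearEquiv F V (Units.mk0 θ fun e => hθ (e ▸ zero_mem _))
      obtain ⟨_, ⟨h1, u, h2, rfl⟩, h3⟩ := (Submodule.ne_bot_iff (W ⊓ W.map e.toLinearMap)).1 fun e1 => by
        have := Submodule.finrank_sup_add_finrank_inf_eq W (W.map e.toLinearMap)
        have := (W ⊔ W.map e.toLinearMap).finrank_le
        rw [e1, finrank_bot, LinearEquiv.finrank_map_eq] at *; omega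
      exact ⟨θ, u, h2, hθ, fun e => h3 (by simp [e]), h1⟩
    · obtain ⟨u, h1, h2⟩ := (Submodule.ne_bot_iff W).1 fun e => by rw [e, finrank_bot] at h; omega
      obtain ⟨v, h3, h4⟩ := SetLike.not_le_iff_exists.1 fun e : W ≤ F ∙ u => by
        have := Submodule.finrank_mono e
        rw [finrank_span_singleton h2] at this; omega
      obtain ⟨θ, rfl⟩ := (finrank_eq_one_iff_of_nonzero' (K := L) u h2).1 (by
        have := finrank_mul_finrank F L V
        rw [hj.1] at this; exact (Nat.mul_eq_left hk.ne_zero).1 this) v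
      exact ⟨θ, u, h1, fun ⟨t, e⟩ => h4 (Submodule.mem_span_singleton.2 ⟨t, by simp [← e]⟩), h2, h3⟩
  have c0 : c ≠ 0 := by rintro rfl; exact h3 (by simpa using (m u).1 h1)
  have e : τ θ = θ := smul_left_injective L (smul_ne_zero c0 h3) (by
    have := (m _).1 h4
    rwa [hτ, (m u).1 h1, smul_comm c] at this)
  let A : Subalgebra F L :=
    { carrier := {a | ∀ v ∈ W, a • v ∈ W}
      mul_mem' := fun ha hb v hv => by rw [mul_smul]; exact ha _ (hb v hv)
      add_mem' := fun ha hb v hv => by rw [add_smul]; exact add_mem (ha v hv) (hb v hv)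
      algebraMap_mem' := fun t v hv => by simpa using W.smul_mem t hv }
  have : A = ⊤ := (eq_bot_or_eq_top A).resolve_left fun e1 => h2 (e1.le fun v hv => by rw [m] at hv ⊢; rw [hτ, e, hv, smul_comm])
  let W' : Submodule L V := { W.toAddSubmonoid with smul_mem' := fun a v hv => this.ge (Algebra.mem_top (x := a)) v hv }
  have e1 : finrank F L * finrank L W' = finrank F W := finrank_mul_finrank F L W'
  exact (Nat.dvd_add_right ⟨_, e1.symm⟩).1 (h ▸ ⟨_, (finrank_mul_finrank F L V).symm⟩)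

theorem XH.rk1 (hk : (finrank F L).Prime) (hn : 2 < finrank F V) : ∀ h ∈ H, ¬ RK h 1 := fun _ hg h =>
  hk.one_lt.ne' (Nat.dvd_one.1 (hH.rk hk hg h (.inl hn)))

theorem XH.irr [Finite L] (hr : r.Prime) (hk : finrank F L = r) {l : Fˣ} (h1 : ∀ c : F, c ^ r ≠ l) (h2 : g ^ r = scE V l) : SI H g := by
  have i := (X_pow_sub_C_irreducible_iff_of_prime hr).2 h1
  have := Fact.mk i
  obtain ⟨φ⟩ := FiniteField.nonempty_algHom_of_finrank_dvd (F := F) (K := AdjoinRoot (X ^ r - C l.1)) (L := L) (by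
    rw [(AdjoinRoot.powerBasis i.ne_zero).finrank, hk]; simp)
  refine si_of_conj (.refl F V) (f := Algebra.lsmul F F V (φ (AdjoinRoot.root _))) (sim_of_irr (monic_X_pow_sub_C _ hr.ne_zero) i (aeval_of_pow h2)
    (by rw [aeval_algHom_apply, aeval_algHom_apply, AdjoinRoot.aeval_eq, AdjoinRoot.mk_self, map_zero, map_zero]) rfl)
    fun h hh => (hH h).2 ⟨id, fun a v => ?_⟩
  simp only [LinearEquiv.refl_apply, Algebra.lsmul_apply] at hh
  rw [hh, hh, smul_comm]; rfl

theorem XH.pm (hk : finrank F L = 2) {k e : ℕ} (h : DG y (.replicate (2 * k) (-1) + .replicate e 1)) : SI H y := by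
  have := Module.finite_of_finrank_pos (R := F) (M := L) (by omega)
  have := Module.Finite.of_restrictScalars_finite F L V
  have h1 := finrank_mul_finrank F L V
  have h2 := h.card
  simp only [Multiset.card_add, Multiset.card_replicate, hk] at h1 h2
  obtain ⟨φ⟩ := exists_split (F := L) (V := V) (a := k) (b := finrank L V - k) (by omega)
  have d : ∀ j, finrank F (Fin j → L) = 2 * j := fun j => by simp [finrank_pi_fintype, hk, mul_comm]
  have := Pr.prod (DG.scE (V := Fin k → L) (-1 : Fˣ)) (DG.scE (V := Fin (finrank L V - k) → L) (1 : Fˣ))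
  rw [d, d, show 2 * (finrank L V - k) = e by omega, ← Multiset.map_add] at this
  refine si_of_conj (φ.restrictScalars F) (Pr.sim h this) fun h hh => (hH h).2 ⟨id, fun a v => ?_⟩
  obtain ⟨v, rfl⟩ := φ.surjective v
  simp only [LinearEquiv.restrictScalars_apply] at hh
  rw [← map_smul, hh, hh, id, ← map_smul]; congr 1; ext <;> simp

theorem XH.frob [Fintype F] [Finite L] (hn : finrank F V = finrank F L) (h1 : 1 < finrank F L) :
    ∃ s ∈ H, s ^ finrank F L = 1 ∧ (∀ l, s ≠ scE V l) ∧ (s : End F V).charpoly = X ^ finrank F L - 1 := by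
  have := Module.Finite.of_restrictScalars_finite F L V
  obtain ⟨φ⟩ := FiniteDimensional.nonempty_linearEquiv_of_finrank_eq (R := L) (M := L) (M' := V) (by
    have := finrank_mul_finrank F L V
    rw [hn] at this; rw [finrank_self, (Nat.mul_eq_left (by omega)).1 this])
  let σ := FiniteField.frobeniusAlgEquivOfAlgebraic F L
  let s : V ≃ₗ[F] V := (φ.restrictScalars F).symm.trans (σ.toLinearEquiv.trans (φ.restrictScalars F))
  have e : ∀ a, s (φ a) = φ (σ a) := fun a => by simp [s]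
  have m := FiniteField.minpoly_frobeniusAlgHom F L
  have sm : Sim (FiniteField.frobeniusAlgHom F L).toLinearMap (s : End F V) := ⟨φ.restrictScalars F, fun a => (e a).symm⟩
  have a0 : ∀ q : F[X], aeval (s : End F V) q = 0 ↔ X ^ finrank F L - 1 ∣ q := fun q => by
    rw [aeval_eq_zero_iff_ed, ← sim_iff_ed.1 sm, ← aeval_eq_zero_iff_ed, ← m, minpoly.dvd_iff]
  have mo := monic_X_pow_sub_C (1 : F) (n := finrank F L) (by omega)
  refine ⟨s, (hH s).2 ⟨σ, fun a v => ?_⟩, pow_eq_one_iff_aeval.2 ((a0 _).2 dvd_rfl), fun l e => ?_,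
    eq_of_monic_of_dvd_of_natDegree_le mo (LinearMap.charpoly_monic _) ((a0 _).1 (LinearMap.aeval_self_charpoly _))
      (by rw [LinearMap.charpoly_natDegree, ← C_1, natDegree_X_pow_sub_C, hn])⟩
  · obtain ⟨v, rfl⟩ := φ.surjective v
    rw [← map_smul, e, e, ← map_smul, smul_eq_mul, map_mul, smul_eq_mul]
  · have := natDegree_le_of_dvd ((a0 (X - C l.1)).1 (by ext; simp [e])) (X_sub_C_ne_zero _)
    rw [← C_1, natDegree_X_pow_sub_C, natDegree_X_sub_C] at this; omega

omit hH in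
theorem cy_top [Fintype F] (hr : r.Prime) (h0 : (r : F) ≠ 0) (h2 : 2 < r) (hn : finrank F V = r) (hi : orderOf (Fintype.card F : ZMod r) = r - 1)
    (h : y ^ r = 1) (h1 : y ≠ 1) : ed (y : End F V) = (cyT F r).val + {X - 1} := by
  obtain ⟨m, e, h3⟩ := exists_cy hr h0 h
  have h4 := h3.dim hr h0
  have h5 := mt (h3.eq_one_iff hr h0).2 h1
  rw [hn, hi] at h4
  have h6 : m.card = 1 := by
    by_contra n
    have := Nat.mul_le_mul_left (r - 1) (show 2 ≤ m.card by omega); omega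
  obtain ⟨a, rfl⟩ := Multiset.card_eq_one.1 h6
  obtain ⟨b, hb⟩ := Finset.card_eq_one.1 (card_cyT hr h0 (t := 1) (by rw [one_mul, hi])).1
  have := h3.mem a (by simp)
  rw [hb, Finset.mem_singleton] at this
  rw [h3.eq, hb, this, show e = 1 by simp at h4; omega]; rfl

theorem XH.singer [Fintype F] [Finite L] (hr : r.Prime) (h0 : (r : F) ≠ 0) (h2 : 2 < r) (hn : finrank F V = r) (hk : finrank F L = r)
    (hi : orderOf (Fintype.card F : ZMod r) = r - 1) : EL r H := by
  obtain ⟨s, h3, h4, h5, -⟩ := hH.frob (hn.trans hk.symm) (by omega)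
  refine el_of hr h0 (by omega) hH.sc (fun y c h6 _ h7 => ⟨s, h3, sim_iff_ed.2 ?_⟩) fun g _ l h6 h7 _ _ _ _ => hH.irr hr hk h6 h7
  rw [cy_top hr h0 h2 hn hi h6 (by simpa using h7.2 1), cy_top hr h0 h2 hn hi (hk ▸ h4) (by simpa using h5 1)]

omit hH in
theorem sim_two [Fintype F] (hn : finrank F V = 2) (h1 : g ^ 2 = 1) (h2 : ∀ l, g ≠ scE V l) (h3 : h ^ 2 = 1) (h4 : ∀ l, h ≠ scE V l) :
    Sim (g : End F V) (h : End F V) := by
  by_cases e : (2 : F) = 0
  · have : CharP F 2 := CharTwo.of_one_ne_zero_of_two_eq_zero one_ne_zero e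
    have k : ∀ {g : V ≃ₗ[F] V}, g ^ 2 = 1 → (∀ l, g ≠ scE V l) → jt (g : End F V) = {2} := fun {g} h1 h2 => by
      obtain ⟨k, e, h⟩ := jt_two h1
      have h5 := ((jt_prime 2 (nil_of_pow 2 h1)).1 ⟨h1, by simpa using h2 1⟩).2
      have := jt_sum (g : End F V)
      simp only [h, hn, Multiset.sum_add, Multiset.sum_replicate, smul_eq_mul] at this h5 ⊢
      obtain ⟨rfl, rfl⟩ | ⟨rfl, rfl⟩ : (k = 0 ∧ e = 2) ∨ (k = 1 ∧ e = 0) := by omega
      exacts [(h5 rfl).elim, rfl]
    exact sim_of_jt (nil_of_pow 2 h1) (nil_of_pow 2 h3) ((k h1 h2).trans (k h3 h4).symm)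
  have k : ∀ {g : V ≃ₗ[F] V}, g ^ 2 = 1 → (∀ l, g ≠ scE V l) → DG g (.replicate 1 (-1) + .replicate 1 1) := fun {g} h1 h2 => by
    obtain ⟨k, e, h⟩ := exists_pm e h1
    have := h.card
    simp only [hn, Multiset.card_add, Multiset.card_replicate] at this
    obtain ⟨rfl, rfl⟩ | ⟨rfl, rfl⟩ | ⟨rfl, rfl⟩ : (k = 0 ∧ e = 2) ∨ (k = 2 ∧ e = 0) ∨ (k = 1 ∧ e = 1) := by omega
    exacts [(h2 1 (eq_scE_of_ed (by simp [h.ed]))).elim, (h2 (-1) (eq_scE_of_ed (by simp [h.ed]))).elim, h]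
  exact Pr.sim (k h1 h2) (k h3 h4)

end CfsgH9.EG
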