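import Cfsg.Agent.H9.EG4

/-! Elements of prime order of `PSL_n(q)` conjugate into a subfield subgroup. -/

open Module Polynomial CfsgH5

namespace CfsgH9.EG

universe u

variable {F : Type u} [Field F] {V : Type*} [AddCommGroup V] [Module F V]

theorem pr_of_surj [FiniteDimensional F V] {κ : Type} [Fintype κ] {f : End F V} (P : κ → F[X]) (hP : ∀ i, (P i).Monic)
    (π : (κ → F[X]) →ₗ[F] V) (h1 : Function.Surjective π) (h2 : ∀ a, π ((X : F[X]) • a) = f (π a))
    (h3 : ∀ a, (∀ i, P i ∣ a i) → π a = 0) (hd : finrank F V = dg0 (Finset.univ.val.map P)) : Pr f (Finset.univ.val.map P) := by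
  have := fun i => (hP i).finite_adjoinRoot
  let τ : (κ → F[X]) →ₗ[F] (∀ i, AdjoinRoot (P i)) := .pi fun i => (AdjoinRoot.mkₐ (P i)).toLinearMap ∘ₗ .proj i
  have t0 : ∀ a, τ a = 0 ↔ ∀ i, P i ∣ a i := fun a => by simp [τ, funext_iff]
  have t1 : Function.Surjective τ := fun w => by
    choose a ha using fun i => AdjoinRoot.mk_surjective (w i)
    exact ⟨a, funext ha⟩
  obtain ⟨σ, hσ⟩ := τ.exists_rightInverse_of_surjective (LinearMap.range_eq_top.2 t1)
  have e : ∀ a, (π ∘ₗ σ) (τ a) = π a := fun a => by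
    rw [← sub_eq_zero, LinearMap.comp_apply, ← map_sub]
    exact h3 _ ((t0 _).1 (by rw [map_sub, ← LinearMap.comp_apply, hσ]; simp))
  have t2 := (LinearMap.injective_iff_surjective_of_finrank_eq_finrank (f := π ∘ₗ σ) (by
    rw [hd, Module.finrank_pi_fintype, dg0, Multiset.map_map]
    exact Finset.sum_congr rfl fun i _ => (AdjoinRoot.powerBasis' (hP i)).finrank)).2 fun v => (h1 v).elim fun a ha => ⟨_, (e a).trans ha⟩
  exact pr_of P π h1 h2 fun a => ⟨fun h => (t0 a).1 (t2 (by rw [e, h, map_zero])), h3 a⟩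

variable {ι : Type} [Fintype ι] [DecidableEq ι] {K : Type u} [Field K] (φ : K →+* F)

/-- extension of scalars -/
noncomputable def rho : ((ι → K) ≃ₗ[K] (ι → K)) →* ((ι → F) ≃ₗ[F] (ι → F)) :=
  (glEquiv ι F).toMonoidHom.comp ((Matrix.GeneralLinearGroup.map φ).comp (glEquiv ι K).symm.toMonoidHom)

variable {g y : (ι → K) ≃ₗ[K] (ι → K)} {h : (ι → F) ≃ₗ[F] (ι → F)} {r : ℕ}

theorem rho_apply (g : (ι → K) ≃ₗ[K] (ι → K)) (v : ι → K) : rho φ g (φ ∘ v) = φ ∘ g v := by
  rw [← glEquiv_symm_mulVec g]; exact _root_.funext fun i => (RingHom.map_mulVec φ _ v i).symm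

theorem single_map (i : ι) : (Pi.single i 1 : ι → F) = φ ∘ (Pi.single i 1 : ι → K) := by
  ext j; simp [Pi.single_apply]

theorem rho_inj : Function.Injective (rho (ι := ι) φ) := (injective_iff_map_eq_one _).2 fun g e => LinearEquiv.ext fun v =>
  φ.injective.comp_left ((rho_apply φ g v).symm.trans (by rw [e]; rfl))

theorem rho_det (g : (ι → K) ≃ₗ[K] (ι → K)) : (LinearEquiv.det (rho φ g) : F) = φ (LinearEquiv.det g) := by
  obtain ⟨x, rfl⟩ := (glEquiv ι K).surjective g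
  simp only [rho, LinearEquiv.coe_det, MonoidHom.comp_apply, MulEquiv.coe_toMonoidHom, MulEquiv.symm_apply_apply, det_glEquiv]
  exact (φ.map_det _).symm

theorem rho_scE (c : Kˣ) : rho φ (scE (ι → K) c) = scE _ (Units.map φ.toMonoidHom c) := by
  refine LinearEquiv.toLinearMap_injective (LinearMap.pi_ext' fun i => LinearMap.ext_ring ?_)
  simp only [LinearMap.comp_apply, LinearMap.single_apply, LinearEquiv.coe_coe]
  rw [single_map φ, rho_apply]; ext j; simp [scE_apply]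

theorem rho_sc [Nonempty ι] {c : Fˣ} (h : rho φ g = scE _ c) : ∃ a, φ a = c := by
  obtain ⟨i⟩ := ‹Nonempty ι›
  have := congrFun (rho_apply φ g (Pi.single i 1)) i
  rw [h] at this
  exact ⟨_, by simpa [scE_apply] using this.symm⟩

theorem rho_aeval (q : K[X]) (v : ι → K) : aeval (rho φ g : End F (ι → F)) (q.map φ) (φ ∘ v) = φ ∘ aeval (g : End K (ι → K)) q v := by
  induction q using Polynomial.induction_on generalizing v with
  | C a => ext; simp
  | add p q hp hq => ext; simp [hp, hq]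
  | monomial n a ih => simpa [pow_succ, ← mul_assoc, rho_apply] using ih (g v)

theorem pr_map {s : Multiset K[X]} (h : Pr (g : End K (ι → K)) s) (hs : ∀ a ∈ s, a.Monic) :
    Pr (rho φ g : End F (ι → F)) (s.map (map φ)) := by
  have hd := h.finrank hs
  obtain ⟨κ, _, P, π, rfl, h1, h2, h3⟩ := h
  classical
  let π' : (κ → F[X]) →ₗ[F] (ι → F) := ∑ i, (LinearMap.applyₗ (φ ∘ π (Pi.single i 1))) ∘ₗ
    (aeval (rho φ g : End F (ι → F))).toLinearMap ∘ₗ .proj i
  have e : ∀ a, π' a = ∑ i, aeval (rho φ g : End F (ι → F)) (a i) (φ ∘ π (Pi.single i 1)) := fun a => by simp [π']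
  rw [Multiset.map_map]
  refine pr_of_surj _ (fun i => (hs _ (by simp)).map φ) π' (LinearMap.range_eq_top.1 (top_le_iff.1 fun v _ => ?_))
    (fun a => by simp [e]) (fun a ha => ?_) ?_
  · rw [pi_eq_sum_univ' v]
    refine sum_mem fun j _ => Submodule.smul_mem _ _ ?_
    obtain ⟨b, hb⟩ := h1 (Pi.single j 1)
    refine ⟨fun i => (b i).map φ, ?_⟩
    rw [single_map φ, ← hb, e]
    simp only [rho_aeval, ← pi_smul h2]
    conv_rhs => rw [pi_eq_sum_univ' b]
    ext; simp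
  · rw [e]
    refine Finset.sum_eq_zero fun i _ => ?_
    obtain ⟨c, hc⟩ := ha i
    rw [hc, mul_comm, map_mul, Module.End.mul_apply, Function.comp_apply, rho_aeval, ← pi_smul h2, (h3 _).2 fun j => ?_]
    · simp
    · by_cases e : j = i
      · simp [e]
      · simp [e]
  · simpa [dg0, natDegree_map] using hd

omit [DecidableEq ι] in
theorem fr_eq : finrank K (ι → K) = finrank F (ι → F) := by simp

theorem rho_jt (h : IsNilpotent ((g : End K (ι → K)) - 1)) :
    IsNilpotent ((rho φ g : End F (ι → F)) - 1) ∧ jt (rho φ g : End F (ι → F)) = jt (g : End K (ι → K)) := by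
  have := pr_map φ (pr_ed (g : End K (ι → K))) (monic_ed _)
  rw [ed_eq_jt h, Multiset.map_map] at this
  exact Pr.jt (by simpa [Function.comp_def] using this) jt_pos

theorem rho_charpoly : (rho φ g : End F (ι → F)).charpoly = (g : End K (ι → K)).charpoly.map φ := by
  rw [(pr_map φ (pr_ed _) (monic_ed _)).charpoly (by simpa using fun a h => (monic_ed _ a h).map φ), ← prod_ed,
    Polynomial.map_multiset_prod]

/-- the subfield group -/
def SF (H : Subgroup ((ι → F) ≃ₗ[F] (ι → F))) : Prop := ∀ h, h ∈ H ↔ ∃ c g, h = scE _ c * rho φ g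

theorem sf_lin (F₀ : Subfield F) : SF F₀.subtype (lin (Cfsg.Geo.subfieldSubgroup F₀ (1 : GL ι F))) := fun h => by
  obtain ⟨x, rfl⟩ := (glEquiv ι F).surjective h
  rw [mem_lin, Cfsg.Geo.subfieldSubgroup, map_one, Subgroup.mem_map_equiv, sup_comm, Subgroup.mem_sup_of_normal_left]
  constructor
  · rintro ⟨z, hz, _, ⟨a, rfl⟩, e⟩
    obtain ⟨c, hc⟩ := (Cfsg.Geo.mem_scalars_iff z).1 hz
    refine ⟨c, glEquiv ι _ a, LinearEquiv.ext fun v => ?_⟩
    rw [show x = _ from e.symm]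
    simp [rho, hc, scE_apply, Matrix.smul_mulVec]
  · rintro ⟨c, g, e⟩
    refine ⟨_, ⟨c, rfl⟩, _, ⟨(glEquiv ι _).symm g, rfl⟩, (glEquiv ι F).injective ((LinearEquiv.ext fun v => ?_).trans e.symm)⟩
    simp [rho, scE_apply, ← Matrix.smul_eq_diagonal_mul, Matrix.smul_mulVec]

theorem range_iff [Finite F] {x : F} : (∃ a, φ a = x) ↔ x ^ Nat.card K = x := by
  rw [Nat.card_congr φ.rangeRestrictFieldEquiv.toEquiv, ← mem_subfield_iff]; rfl

include φ in
theorem exists_frob [Finite F] : ∃ τ : F →+* F, ∀ x, τ x = x ^ Nat.card K := by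
  have := Finite.of_injective φ φ.injective
  have := Fintype.ofFinite K
  obtain ⟨p, hp⟩ := CharP.exists F
  have := Fact.mk (CharP.char_is_prime F p)
  have := (φ.charP_iff φ.injective p).2 hp
  obtain ⟨n, -, e⟩ := FiniteField.card K p
  exact ⟨iterateFrobenius F p n, fun x => by rw [iterateFrobenius_def, Nat.card_eq_fintype_card, e]⟩

theorem DG.charpoly [FiniteDimensional F V] {g : V ≃ₗ[F] V} {M : Multiset Fˣ} (h : DG g M) :
    (g : End F V).charpoly = (M.map fun a => X - C a.1).prod := Pr.charpoly h monic_lin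

theorem map_frob {τ : F →+* F} {m : ℕ} (h : ∀ x, τ x = x ^ m) (M : Multiset Fˣ) :
    (M.map fun a => (X - C a.1 : F[X])).prod.map τ = ((M.map (· ^ m)).map fun a => X - C a.1).prod := by
  simp [Polynomial.map_multiset_prod, h]

theorem det_sq [FiniteDimensional F V] {N E : End F V} (h : LinearMap.ker N = LinearMap.range N) (hc : E * N = N * E) :
    IsSquare (LinearMap.det E) := by
  have he : LinearMap.ker N ≤ (LinearMap.ker N).comap E := fun v hv => by
    simpa [LinearMap.mem_ker.1 hv] using (LinearMap.congr_fun hc v).symm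
  refine ⟨_, (E.det_eq_det_mul_det _ he).trans (congrArg _ ?_)⟩
  rw [← LinearMap.det_conj _ (N.quotKerEquivRange ≪≫ₗ .ofEq _ _ h.symm)]
  congr 1
  ext w
  obtain ⟨x, rfl⟩ := (N.quotKerEquivRange ≪≫ₗ .ofEq _ _ h.symm).surjective w
  obtain ⟨v, rfl⟩ := Submodule.Quotient.mk_surjective _ x
  simp only [LinearMap.comp_apply, LinearEquiv.coe_coe, LinearEquiv.symm_apply_apply]
  simpa using (LinearMap.congr_fun hc v).symm

theorem irr_lin {M : Multiset Fˣ} : ∀ a ∈ M.map fun a => (X - C a.1 : F[X]), Irreducible a := by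
  simp only [Multiset.forall_mem_map_iff]; exact fun _ _ => irreducible_X_sub_C _

theorem sub_sq [Fintype F] [Fintype K] (hq : Fintype.card F = Fintype.card K ^ 2) (h2 : 2 ∣ Fintype.card F - 1) (a : K) :
    ∃ c, c ^ 2 = φ a := by
  by_cases h0 : a = 0
  · exact ⟨0, by simp [h0]⟩
  obtain ⟨t, ht⟩ : Odd (Fintype.card K) := (Nat.odd_pow_iff two_ne_zero).1 (by
    have := Fintype.card_pos (α := F); rw [← hq, Nat.odd_iff]; omega)
  rw [pow_iff_field h2 (by simpa using h0), show (Fintype.card F - 1) / 2 = (Fintype.card K - 1) * (t + 1) by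
    rw [hq, ht, show (2 * t + 1) ^ 2 = 2 * (2 * t * (t + 1)) + 1 by ring]; simp, pow_mul, ← map_pow,
    FiniteField.pow_card_sub_one_eq_one _ h0, map_one, one_pow]

theorem odd_dec [Fintype F] [Fintype K] {k : ℕ} (hq : Fintype.card F = Fintype.card K ^ k) (h2 : 2 ∣ Fintype.card F - 1) (hk : Odd k)
    (c : Fˣ) : ∃ (a : Kˣ) (d : F), d ^ 2 * φ a = c := by
  have ho : Odd (Fintype.card K) := (Nat.odd_pow_iff hk.pos.ne').1 (by
    have := Fintype.card_pos (α := F); rw [← hq, Nat.odd_iff]; omega)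
  obtain ⟨t, ht⟩ : Odd (∑ i ∈ Finset.range k, Fintype.card K ^ i) := by
    rw [Finset.odd_sum_iff_odd_card_odd, Finset.filter_true_of_mem fun i _ => ho.pow, Finset.card_range]; exact hk
  obtain ⟨a, ha⟩ := (range_iff φ (x := c ^ (2 * t + 1))).2 (by
    have := Nat.geomSum_eq (Fintype.one_lt_card (α := K)) k
    have h3 := Nat.sub_one_dvd_pow_sub_one (Fintype.card K) k
    rw [Nat.card_eq_fintype_card, ← pow_mul, ← ht, ← Nat.sub_add_cancel (Fintype.card_pos (α := K)), mul_add, pow_add, Nat.sub_add_cancel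
      Fintype.card_pos, this, Nat.div_mul_cancel h3, ← hq, FiniteField.pow_card_sub_one_eq_one _ c.ne_zero, one_mul, Nat.succ_eq_add_one, zero_add, mul_one])
  exact ⟨Units.mk0 a (by rintro rfl; exact pow_ne_zero _ c.ne_zero (ha.symm.trans φ.map_zero)), (c ^ t)⁻¹, by simp [ha]; field_simp; ring⟩

theorem SI.cs' [FiniteDimensional F V] {H : Subgroup (V ≃ₗ[F] V)} {g : V ≃ₗ[F] V} (h : SI H g)
    (hF : ∀ c : Fˣ, ∃ D, D * g = g * D ∧ ∃ u ∈ H, LinearEquiv.det D * LinearEquiv.det u = c) : ∃ k ∈ slSub F V, k⁻¹ * g * k ∈ H := by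
  obtain ⟨h, hh, e⟩ := h
  obtain ⟨k, rfl⟩ := conj_iff_sim.2 e
  obtain ⟨D, h1, u, hu, h2⟩ := hF (LinearEquiv.det k)
  refine ⟨D * k⁻¹ * u, by simp [slSub, MonoidHom.mem_ker, ← h2], ?_⟩
  rw [show (D * k⁻¹ * u)⁻¹ * g * (D * k⁻¹ * u) = u⁻¹ * (k * (D⁻¹ * (g * D)) * k⁻¹) * u by group, ← h1, inv_mul_cancel_left]
  exact mul_mem (mul_mem (inv_mem hu) hh) hu

theorem ker_one [FiniteDimensional F V] {f : End F V} {m : Multiset F[X]} {e : ℕ} (h : Pr f (m + .replicate e (X - 1)))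
    (h1 : ∀ a ∈ m, a.Monic ∧ IsCoprime a (X - 1)) : finrank F (LinearMap.ker (aeval f (X - 1 : F[X]))) = e := by
  classical
  have := deg_gcd_pow (monic_X_sub_C (1 : F)) 1 1
  rw [h.finrank_ker fun a ha => (Multiset.mem_add.1 ha).elim (fun h => (h1 a h).1) fun h => Multiset.eq_of_mem_replicate h ▸ monic_X_sub_C 1,
    Multiset.map_add, dg0_add, Multiset.map_replicate, dg0_rep, dg0_const (i := 0) (by simpa using fun a ha => deg_gcd_cop (h1 a ha).2)]
  simp at this; simp [this]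

theorem cy_cop (hr : r.Prime) (h0 : (r : F) ≠ 0) {a : F[X]} (h : a ∣ cyclotomic r F) : IsCoprime a (X - 1) := by
  have := Fact.mk hr
  refine ((irreducible_X_sub_C (1 : F)).coprime_iff_not_dvd.2 fun e => h0 ?_).symm
  simpa using dvd_iff_isRoot.1 (e.trans h)

variable {φ} {H : Subgroup ((ι → F) ≃ₗ[F] (ι → F))} (hH : SF φ H)
include hH

theorem SF.sc : Sc H := fun c => (hH _).2 ⟨c, 1, by simp⟩

theorem SF.mem (g : (ι → K) ≃ₗ[K] (ι → K)) : rho φ g ∈ H := (hH _).2 ⟨1, g, by simp⟩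

theorem SF.unip (h1 : IsNilpotent ((h : End F (ι → F)) - 1)) : SI H h := by
  obtain ⟨g, h2, h3⟩ := exists_jt (F := K) (V := ι → K) jt_pos ((jt_sum (h : End F (ι → F))).trans fr_eq)
  exact ⟨_, hH.mem g, sim_of_jt h1 (rho_jt φ h2).1 (h3.symm.trans (rho_jt φ h2).2.symm)⟩

theorem SF.ss [Finite F] (h1 : SS (h : End F (ι → F))) (h2 : (h : End F (ι → F)).charpoly ∈ lifts φ) : SI H h := by
  obtain ⟨c, e, h3, h4⟩ := lifts_and_natDegree_eq_and_monic h2 (LinearMap.charpoly_monic _)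
  have := Finite.of_injective φ φ.injective
  obtain ⟨p, hp⟩ := CharP.exists F
  have := Fact.mk (CharP.char_is_prime F p)
  have := (φ.charP_iff φ.injective p).2 hp
  obtain ⟨g, h5, h6⟩ := exists_ss (V := ι → K) h4 (by rw [h3, LinearMap.charpoly_natDegree]; exact fr_eq)
    fun e0 => coeff_charpoly_ne h (by rw [← e, coeff_map, e0, map_zero])
  exact ⟨_, hH.mem g, h1.sim ((ss_iff_coprime p).2 (by rw [orderOf_injective _ (rho_inj φ)]; exact (ss_iff_coprime p).1 h5))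
    (by rw [rho_charpoly, h6, e])⟩

theorem SF.root [Fintype F] [Nonempty ι] (hr : r.Prime) (hd : ¬ r ∣ Fintype.card F - 1) (h1 : h ∈ H) (h2 : h ^ r = 1) :
    ∃ g, h = rho φ g ∧ g ^ r = 1 := by
  obtain ⟨c, g, rfl⟩ := (hH _).1 h1
  obtain ⟨τ, hτ⟩ := exists_frob φ
  have h3 : rho φ (g ^ r) = scE _ (c ^ r)⁻¹ := by rw [map_inv, map_pow, eq_inv_iff_mul_eq_one, ← scE_comm, ← scE_mul_pow, h2]
  have h4 := (range_iff φ).1 (rho_sc φ h3)
  obtain ⟨a, ha⟩ := (range_iff φ (x := c)).2 (by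
    rw [← hτ] at h4 ⊢
    rw [← div_eq_one_iff_eq c.ne_zero]
    exact eq_one_of_pow hr hd (by rw [div_pow, ← map_pow, div_eq_one_iff_eq (by simp)]; simpa using h4))
  have e : scE _ c * rho φ g = rho φ (scE _ (Units.mk0 a (by rintro rfl; simp [eq_comm] at ha)) * g) := by
    rw [map_mul, rho_scE]; congr 2; exact Units.ext ha.symm
  exact ⟨_, e, rho_inj φ (by rw [map_pow, ← e, h2, map_one])⟩

theorem SF.nec [Finite F] {M : Multiset Fˣ} (h1 : h ∈ H) (h2 : DG h M) : ∃ d, M.map (d * ·) = M.map (· ^ Nat.card K) := by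
  obtain ⟨c, g, rfl⟩ := (hH _).1 h1
  obtain ⟨τ, hτ⟩ := exists_frob φ
  have h3 := h2.smul c⁻¹
  rw [← mul_assoc, ← map_mul, inv_mul_cancel, map_one, one_mul] at h3
  have h4 := map_frob hτ (M.map (c⁻¹ * ·))
  rw [← h3.charpoly, rho_charpoly, Polynomial.map_map, show τ.comp φ = φ from RingHom.ext fun a => (hτ _).trans ((range_iff φ).1 ⟨a, rfl⟩),
    ← rho_charpoly, h3.charpoly] at h4
  have h5 := congrArg (Multiset.map (c ^ Nat.card K * ·)) (Multiset.map_injective lin_inj (irr_prod_inj monic_lin irr_lin monic_lin irr_lin h4))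
  exact ⟨c ^ Nat.card K * c⁻¹, by simpa [mul_pow, mul_assoc] using h5⟩

theorem SF.suf [Fintype F] {M : Multiset Fˣ} (h2 : DG h M) (h1 : M.map (· ^ Nat.card K) = M) : SI H h := by
  obtain ⟨τ, hτ⟩ := exists_frob φ
  refine hH.ss h2.ss ((lifts_iff_coeff_lifts _).2 fun i => (range_iff φ).2 ?_)
  rw [← hτ, ← coeff_map, h2.charpoly, map_frob hτ, h1]

theorem SF.idx [Fintype F] [Fintype K] {k : ℕ} (hq : Fintype.card F = Fintype.card K ^ k) (hr : r.Prime) (h0 : (r : F) ≠ 0) [Nonempty ι]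
    (h : r ∣ H.relIndex (slSub F _)) : ∃ j, 2 ≤ j ∧ j ≤ Fintype.card ι ∧ (r : ℤ) ∣ (Fintype.card F : ℤ) ^ j - 1 ∧
      ((r : ℤ) ∣ (Fintype.card K : ℤ) ^ j - 1 → r ∣ k) := by
  have h1 := idx_dvd (K := (rho φ).range) (m := Fintype.card K - 1) h (by rintro _ ⟨g, rfl⟩; exact hH.mem g) (by simp) (by
    rintro _ ⟨g, rfl⟩
    exact Units.ext (by rw [Units.val_pow_eq_pow_val, rho_det, ← map_pow, FiniteField.pow_card_sub_one_eq_one _ (Units.ne_zero _)]; simp))
  rw [← Nat.card_congr (MonoidHom.ofInjective (rho_inj φ)).toEquiv, ← Int.natCast_dvd_natCast] at h1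
  push_cast [Fintype.card_pos] at h1
  obtain ⟨m, hm⟩ := Nat.exists_eq_succ_of_ne_zero (Fintype.card_ne_zero (α := ι))
  have e : ∀ j, (Fintype.card F : ℤ) ^ j - 1 = ((Fintype.card K : ℤ) ^ j - 1) * ∑ t ∈ Finset.range k, ((Fintype.card K : ℤ) ^ j) ^ t :=
    fun j => by rw [mul_geom_sum, hq]; push_cast; ring
  have e1 := e 1
  rw [card_gl, card_gl] at h1
  simp only [finrank_fintype_fun_eq_card, hm, e, Finset.prod_mul_distrib] at h1
  rw [Finset.prod_range_succ' fun i => ∑ t ∈ _, _] at h1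
  have h2 := ar0 (A := (∏ i ∈ Finset.range m.succ, ((Fintype.card K : ℤ) ^ (i + 1) - 1)) * (Fintype.card F - 1))
    (R := ∏ i ∈ Finset.range m, ∑ t ∈ Finset.range k, ((Fintype.card K : ℤ) ^ (i + 1 + 1)) ^ t) (b := m.succ.choose 2)
    (x := (Fintype.card K : ℤ) ^ m.succ.choose 2) hr (not_dvd_q hr h0)
    (mul_ne_zero (Finset.prod_ne_zero_iff.2 fun i _ => pow_sub_ne Fintype.one_lt_card) (by simpa using pow_sub_ne (j := 0) (Fintype.one_lt_card (α := F))))
    (by convert h1 using 1; ring; rw [pow_one] at e1; rw [e1]; ring)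
  obtain ⟨i, hi, h3⟩ := (Nat.prime_iff_prime_int.1 hr).exists_mem_finset_dvd h2
  exact ⟨i + 2, by omega, by simp at hi; omega, by rw [e]; exact h3.mul_left _, (ar_geom h3).2⟩

theorem SF.not_cy [Fintype F] [Fintype K] [Nonempty ι] (hr : r.Prime) (h0 : (r : F) ≠ 0) (hd : ¬ r ∣ Fintype.card F - 1)
    (h1 : orderOf (Fintype.card F : ZMod r) ≤ Fintype.card ι) (h2 : orderOf (Fintype.card F : ZMod r) < orderOf (Fintype.card K : ZMod r)) :
    ¬ EL r H := fun E => by
  obtain ⟨g, h4, h5, a, h6⟩ := exists_cy_sl (V := ι → F) hr h0 hd one_pos (by simpa using h1)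
  obtain ⟨h, h7, e⟩ := E.si' h5 h4
  obtain ⟨y, rfl, h8⟩ := hH.root hr hd h7 (sim_pow e h6.pow)
  have h0' : (r : K) ≠ 0 := fun e => h0 (by simpa using congrArg φ e)
  obtain ⟨m, t, h9⟩ := exists_cy hr h0' h8
  have e1 := pr_map φ (pr_ed (y : End K (ι → K))) (monic_ed _)
  have e2 := (pr_ed (g : End F (ι → F))).of_sim e
  rw [h9.eq, Multiset.map_add, Multiset.map_replicate, Polynomial.map_sub, map_X, Polynomial.map_one] at e1
  rw [h6.eq] at e2
  have e3 := (ker_one e1 (by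
    simp only [Multiset.forall_mem_map_iff]
    exact fun b hb => ⟨(mem_cyT.1 (h9.mem b hb)).2.1.map φ, cy_cop hr h0 (map_cyclotomic r φ ▸ Polynomial.map_dvd φ (mem_cyT.1 (h9.mem b hb)).2.2)⟩)).symm.trans
    (ker_one e2 fun b hb => ⟨(mem_cyT.1 (h6.mem b hb)).2.1, cy_cop hr h0 (mem_cyT.1 (h6.mem b hb)).2.2⟩)
  have e4 := h9.dim hr h0'
  have := (ord_pos (F := F) hr h0).1
  simp only [finrank_fintype_fun_eq_card] at e3 e4
  rcases Nat.eq_zero_or_pos m.card with h | h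
  · rw [h] at e4; omega
  · have := Nat.le_mul_of_pos_right (orderOf (Fintype.card K : ZMod r)) h; omega

theorem SF.cy [Fintype F] [Fintype K] (hr : r.Prime) (h0 : (r : F) ≠ 0)
    (h2 : orderOf (Fintype.card F : ZMod r) = orderOf (Fintype.card K : ZMod r)) (h1 : h ^ r = 1) : SI H h := by
  obtain ⟨m, t, h3⟩ := exists_cy hr h0 h1
  have h0' : (r : K) ≠ 0 := fun e => h0 (by simpa using congrArg φ e)
  refine hH.ss (ss_of_pow h0 h1) (prod_ed (h : End F (ι → F)) ▸ multiset_prod_mem _ fun a ha => ?_)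
  rcases Multiset.mem_add.1 (h3.eq ▸ ha) with h | h
  · obtain ⟨h4, h5, h6⟩ := mem_cyT.1 (h3.mem a h)
    obtain ⟨s, s1, s2, s3⟩ := exists_factors (cyclotomic.monic r K)
    rw [← map_cyclotomic r φ, ← s3, Polynomial.map_multiset_prod] at h6
    obtain ⟨_, h7, h8⟩ := h4.prime.exists_mem_multiset_dvd h6
    obtain ⟨b, h9, rfl⟩ := Multiset.mem_map.1 h7
    exact ⟨b, (eq_of_monic_of_dvd_of_natDegree_le h5 ((s1 b h9).map φ) h8 (by
      rw [natDegree_map, h3.deg hr h0 a h, h2, (cyT_spec hr h0').1 b (mem_cyT.2 ⟨s2 b h9, s1 b h9, s3 ▸ Multiset.dvd_prod h9⟩)]) :)⟩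
  · exact ⟨X - 1, by simp [Multiset.eq_of_mem_replicate h]⟩

theorem SF.not_two [Fintype F] [Fintype K] [Nonempty ι] (hq : Fintype.card F = Fintype.card K ^ 2) (p : ℕ) [hp : Fact p.Prime] [CharP F p]
    (h2 : p ≠ 2) {m : ℕ} (hm : Fintype.card ι = m * 2) : ¬ EL p H := fun E => by
  have h0 := two_dvd (F := F) (by exact_mod_cast cast_ne_of_ne p Nat.prime_two h2.symm)
  have := (φ.charP_iff φ.injective p).2 ‹_›
  have m0 : m ≠ 0 := by rintro rfl; exact Fintype.card_ne_zero hm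
  obtain ⟨g, h3, h4⟩ := exists_jt (F := K) (V := ι → K) (m := .replicate m 2) (by simp +contextual [Multiset.mem_replicate]) (by simp [hm])
  have h5 := (jt_prime p h3).2 ⟨by simp +contextual [h4, Multiset.mem_replicate, hp.1.two_le], fun h => by
    have : 2 ∈ jt (g : End K (ι → K)) := by simp [h4, m0, Multiset.mem_replicate]
    have := Multiset.eq_of_mem_replicate (h ▸ this); omega⟩
  obtain ⟨l, h6, -⟩ := (exists_nonpow_iff (F := F) Nat.prime_two h0 (k := Fintype.card F - 1) (by have := Fintype.one_lt_card (α := F); omega)).2 le_rfl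
  obtain ⟨D, hD⟩ := det_surj (V := ι → F) (by simp [Fintype.card_pos]) (Units.mk0 l fun e => h6 0 (by simp [e]))
  obtain ⟨k, hk, h7⟩ := (el_unip p hH.sc).1 E (D * rho φ g * D⁻¹) (by rw [conj_pow, ← map_pow, h5.1]; simp)
    (by simpa using (map_ne_one_iff _ (rho_inj φ)).2 h5.2)
  obtain ⟨y, e, h8⟩ := hH.root hp.1 (not_dvd_card_sub p) h7 (by
    rw [show k⁻¹ * (D * rho φ g * D⁻¹) * k = (k⁻¹ * D) * rho φ g * (k⁻¹ * D)⁻¹ by group, conj_pow, ← map_pow, h5.1]; simp)
  obtain ⟨x, rfl⟩ := conj_iff_sim.2 (sim_of_jt h3 (nil_of_pow p h8) (by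
    rw [← (rho_jt φ h3).2, ← (rho_jt φ (nil_of_pow p h8)).2, ← e]
    exact (conj_iff_sim.1 ⟨k⁻¹ * D, by group⟩).jt))
  obtain ⟨h9, h10⟩ := rho_jt φ h3
  have e1 : (rho φ x)⁻¹ * k⁻¹ * D * rho φ g = rho φ g * ((rho φ x)⁻¹ * k⁻¹ * D) := by
    rw [map_mul, map_mul, map_inv] at e
    rw [show rho φ g * _ = (rho φ x)⁻¹ * (rho φ x * rho φ g * (rho φ x)⁻¹) * k⁻¹ * D by group, ← e]; group
  obtain ⟨c, hc⟩ := det_sq (N := (rho φ g : End F (ι → F)) - 1) (E := ((rho φ x)⁻¹ * k⁻¹ * D :)) (Submodule.eq_of_le_of_finrank_eq (by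
    rw [LinearMap.range_le_ker_iff, ← Module.End.mul_eq_comp, ← sq, pow_eq_zero_iff_jt h9, h10, h4]
    simp +contextual [Multiset.mem_replicate]) (by
    have := LinearMap.finrank_range_add_finrank_ker ((rho φ g : End F (ι → F)) - 1)
    rw [finrank_ker_one h9, h10, h4] at this ⊢; simp [hm] at this ⊢; omega)).symm
    (by rw [mul_sub, sub_mul, ← LinearEquiv.coe_toLinearMap_mul, e1]; simp)
  obtain ⟨d, hd⟩ := sub_sq φ hq h0 (LinearEquiv.det x : Kˣ)
  rw [← LinearEquiv.coe_det, map_mul, map_mul, map_inv, map_inv, hD, show LinearEquiv.det k = 1 from hk] at hc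
  refine h6 (c * d) ?_
  rw [mul_pow, hd, sq, ← hc, ← rho_det, ← Units.val_mul, mul_comm, ← mul_assoc, ← mul_assoc, mul_inv_cancel]; simp

end CfsgH9.EG
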