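import Cfsg.Agent.H9.EG5

/-! Elements of prime order of `PSL_n(q)` conjugate into the stabilizer of a tensor decomposition. -/

open Module Polynomial CfsgH5 Matrix Kronecker

namespace CfsgH9.EG

universe u

variable {F : Type u} [Field F] {V : Type*} [AddCommGroup V] [Module F V]
  {ι κ μ : Type} [Fintype ι] [DecidableEq ι] [Fintype κ] [DecidableEq κ] [Fintype μ] [DecidableEq μ]

theorem sim_frG (e : ι ≃ κ) (P : GL ι F) (x : GL κ F) :
    Sim (glEquiv κ F x : End F (κ → F)) (glEquiv ι F (frG e P x) : End F (ι → F)) :=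
  ⟨LinearEquiv.funCongrLeft F F e ≪≫ₗ glEquiv ι F P, fun v => (fr_mulVec e P x v).symm⟩

theorem tp_si {a b : ℕ} {e : ι ≃ Fin a × Fin b} {P : GL ι F} {g : (ι → F) ≃ₗ[F] (ι → F)} :
    SI (lin (Cfsg.Geo.tensorProductSubgroup a b e P)) g ↔ ∃ A : GL (Fin a) F, ∃ B : GL (Fin b) F,
      Sim (g : End F (ι → F)) (glEquiv _ F (kG A B) : End F (Fin a × Fin b → F)) := by
  refine ⟨fun ⟨h, h1, h2⟩ => ?_, fun ⟨A, B, h⟩ => ⟨_, mem_lin.2 (mem_tensorProductSubgroup.2 ⟨A, B, rfl⟩), h.trans (sim_frG e P _)⟩⟩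
  obtain ⟨x, rfl⟩ := (glEquiv ι F).surjective h
  obtain ⟨A, B, rfl⟩ := mem_tensorProductSubgroup.1 (mem_lin.1 h1)
  exact ⟨A, B, h2.trans (sim_frG e P _).symm⟩

theorem tp_sc {a b : ℕ} {e : ι ≃ Fin a × Fin b} {P : GL ι F} : Sc (lin (Cfsg.Geo.tensorProductSubgroup a b e P)) := fun c => by
  obtain ⟨h, h1, φ, h2⟩ := (tp_si (e := e) (P := P) (g := scE _ c)).2 ⟨scG _ c, 1, (LinearEquiv.funCongrLeft F F e).symm, fun v => by
    simp [scE_apply, kG_coe, scG_coe, smul_kronecker, smul_mulVec]⟩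
  rwa [show scE _ c = h from LinearEquiv.ext fun v => (φ.surjective v).elim fun w e => by simpa [← e, scE_apply] using h2 w]

theorem pr_one_kron {B : Matrix μ μ F} {s : Multiset F[X]} (h : Pr (toLin' B) s) :
    Pr (toLin' ((1 : Matrix κ κ F) ⊗ₖ B)) (Fintype.card κ • s) := by
  obtain ⟨τ, _, P, π, rfl, h1, h2, h3⟩ := h
  have := pr_of (f := toLin' ((1 : Matrix κ κ F) ⊗ₖ B)) (fun x : κ × τ => P x.2)
    (.pi fun x : κ × μ => .proj x.2 ∘ₗ π ∘ₗ LinearMap.funLeft F _ fun t => (x.1, t)) (fun v => by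
      choose a ha using fun i => h1 fun j => v (i, j)
      exact ⟨fun x => a x.1 x.2, funext fun x => congrFun (ha x.1) x.2⟩)
    (fun a => funext fun x => (congrFun (h2 fun t => a (x.1, t)) x.2).trans (by
      simp [mulVec, dotProduct, Fintype.sum_prod_type, one_apply, LinearMap.funLeft]; rfl))
    fun a => ⟨fun h x => (h3 fun t => a (x.1, t)).1 (funext fun j => congrFun h (x.1, j)) x.2,
      fun h => funext fun x => congrFun ((h3 fun t => a (x.1, t)).2 fun t => h (x.1, t)) x.2⟩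
  have e : ∀ {α : Type} [Fintype α] (f : α → F[X]), Finset.univ.val.map f = ∑ x, {f x} := fun f => by
    rw [Finset.sum, ← Multiset.sum_map_singleton (Multiset.map f _), Multiset.map_map]; rfl
  rw [e, Fintype.sum_prod_type] at this
  simpa [e] using this

theorem rk_kron {A : GL κ F} (B : GL μ F) (hA : ∀ c : F, (A : Matrix κ κ F) ≠ c • 1) [Nonempty κ] {j : ℕ}
    (h : RK (glEquiv _ F (kG A B)) j) : Fintype.card μ ≤ j := by
  obtain ⟨c, h⟩ := h
  obtain ⟨v, φ, h1, h2⟩ : ∃ v φ : κ → F, φ ⬝ᵥ v = 0 ∧ φ ⬝ᵥ (A : Matrix κ κ F) *ᵥ v ≠ 0 := by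
    by_contra! H
    obtain ⟨k⟩ := ‹Nonempty κ›
    have h0 : ∀ i j, i ≠ j → (A : Matrix κ κ F) i j = 0 := fun i j n => by simpa using H (Pi.single j 1) (Pi.single i 1) (by simp [n])
    refine hA (A k k) (Matrix.ext fun i j => ?_)
    by_cases e : i = j
    · subst e
      by_cases e : i = k
      · simp [e]
      have := H (Pi.single i 1 + Pi.single k 1) (Pi.single i 1 - Pi.single k 1) (by simp [e, Ne.symm e])
      simpa [mulVec_add, h0 _ _ e, h0 _ _ (Ne.symm e), ← sub_eq_add_neg, sub_eq_zero] using this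
    · simp [h0 _ _ e, e]
  let τ : (μ → F) →ₗ[F] (κ × μ → F) := .pi fun x => v x.1 • .proj x.2
  have key : ∀ w, aeval (glEquiv _ F (kG A B) : End F (κ × μ → F)) (X - C c) (τ w) = 0 → w = 0 := fun w e => by
    refine (glEquiv μ F B).map_eq_zero_iff.1 (funext fun j => mul_left_cancel₀ h2 ?_)
    have := fun i => congrFun e (i, j)
    have h4 : ∀ i, ((A : Matrix κ κ F) *ᵥ v) i * ((B : Matrix μ μ F) *ᵥ w) j = c * v i * w j := fun i => by
      simpa [τ, kG_coe, mulVec, dotProduct, Fintype.sum_prod_type, Finset.sum_mul_sum, sub_eq_zero, mul_mul_mul_comm, mul_assoc, mul_left_comm] using this i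
    simp only [glEquiv_apply, dotProduct, Finset.sum_mul, mul_assoc, h4, Pi.zero_apply, mul_zero]
    simpa [dotProduct, Finset.sum_mul, Finset.mul_sum, mul_assoc, mul_left_comm] using congrArg (c * · * w j) h1
  have := Submodule.finrank_add_finrank_le_of_disjoint (s := LinearMap.ker (aeval (glEquiv _ F (kG A B) : End F (κ × μ → F)) (X - C c)))
    (t := LinearMap.range τ) (Submodule.disjoint_def.2 (by rintro _ h1 ⟨w, rfl⟩; rw [key w h1, map_zero]))
  rw [LinearMap.finrank_range_of_inj ((injective_iff_map_eq_zero τ).2 fun w e => key w (by rw [e, map_zero])), finrank_fintype_fun_eq_card] at this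
  omega

theorem kG_pow (A : GL κ F) (B : GL μ F) (r : ℕ) : kG A B ^ r = kG (A ^ r) (B ^ r) := by
  induction r with
  | zero => exact Units.ext (by simp [kG_coe])
  | succ r ih => rw [pow_succ, ih, kG_mul, pow_succ, pow_succ]

theorem tp_nec {a b : ℕ} {e : ι ≃ Fin a × Fin b} {P : GL ι F} {g : (ι → F) ≃ₗ[F] (ι → F)} (ha : 0 < a) (hb : 0 < b)
    (h : SI (lin (Cfsg.Geo.tensorProductSubgroup a b e P)) g) : (∃ s, ed (g : End F (ι → F)) = a • s) ∨
      (∀ j, RK g j → b ≤ j) ∧ ∀ r, g ^ r = 1 → ∃ A : (Fin a → F) ≃ₗ[F] (Fin a → F), PE r A := by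
  obtain ⟨A, B, h⟩ := tp_si.1 h
  have : Nonempty (Fin a) := ⟨⟨0, ha⟩⟩
  by_cases hA : ∀ c : F, A.val ≠ c • 1
  · refine .inr ⟨fun j ⟨c, hj⟩ => by
      simpa using rk_kron B hA ⟨c, by
        rwa [(pr_ed _).finrank_ker (monic_ed _), ← sim_iff_ed.1 h, ← (pr_ed _).finrank_ker (monic_ed _), ← h.choose.finrank_eq]⟩, fun r hr => ?_⟩
    rw [pow_eq_one_iff_ed, sim_iff_ed.1 h, ← pow_eq_one_iff_ed, ← map_pow, map_eq_one_iff _ (glEquiv _ F).injective, kG_pow] at hr
    refine ⟨_, (pe_iff (glEquiv _ F).toMonoidHom Units.val (fun _ _ => rfl) (x := A)).2 ⟨⟨((B ^ r).val ⟨0, hb⟩ ⟨0, hb⟩)⁻¹, Matrix.ext fun i j => ?_⟩, hA⟩⟩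
    have h1 := fun i j => congrArg (·.val (i, ⟨0, hb⟩) (j, ⟨0, hb⟩)) hr
    simp only [kG_coe, kronecker_apply, Units.val_one] at h1
    rw [Matrix.smul_apply, smul_eq_mul, eq_inv_mul_iff_mul_eq₀ (right_ne_zero_of_mul (by rw [h1 i i]; simp)), mul_comm, h1]
    simp [one_apply]
  push Not at hA
  obtain ⟨c, hc⟩ := hA
  have := pr_one_kron (κ := Fin a) (pr_ed (toLin' (c • B.val)))
  rw [kronecker_smul, ← smul_kronecker, ← hc, Fintype.card_fin] at this
  exact .inl ⟨_, (this.of_sim h.symm).ed_eq fun x hx => pp_ed (Multiset.mem_of_mem_nsmul hx)⟩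

theorem not_count {α : Type*} {s t : Multiset α} {x : α} {a k : ℕ} (h : Multiset.replicate k x + t = a • s) (hx : x ∉ t) : a ∣ k := by
  classical
  exact ⟨s.count x, by simpa [Multiset.count_eq_zero.2 hx] using congrArg (Multiset.count x) h⟩

end CfsgH9.EG
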