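import Mathlib

/-! Normal bases for Galois actions on semilocal commutative rings. -/

set_option autoImplicit false
open scoped Pointwise

namespace CfsgH9.FF

theorem nb_field {G K : Type*} [Group G] [Fintype G] [Field K] [MulSemiringAction G K]
    [FaithfulSMul G K] :
    ∃ x : K, ∀ y : G → K, (∀ τ : G, ∑ σ, y σ * (σ⁻¹ • τ • x) = 0) → y = 0 := by
  let K₀ := FixedPoints.subfield G K
  let b := IsGalois.normalBasis K₀ K
  refine ⟨b 1, fun y hy => ?_⟩
  have li := (linearIndependent_toLinearMap K₀ K K).comp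
    (fun σ : G => MulSemiringAction.toAlgHom K₀ K σ⁻¹)
    (fun a c e => inv_injective ((FixedPoints.toAlgHom_bijective G K).injective e))
  refine funext (Fintype.linearIndependent_iff.1 li y (b.ext fun e => ?_))
  obtain ⟨τ, rfl⟩ := FixedPoints.toAlgAut_surjective G K e
  have h1 : b (MulSemiringAction.toAlgAut G K₀ K τ) = τ • b 1 := IsGalois.normalBasis_apply _
  rw [h1, LinearMap.zero_apply, ← hy τ, LinearMap.sum_apply]
  rfl

variable {H R : Type*} [Group H] [Fintype H] [DecidableEq H] [CommRing R] [MulSemiringAction H R]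

/-- The group matrix of an element. -/
def gm (H : Type*) {R : Type*} [Group H] [CommRing R] [MulSemiringAction H R] (θ : R) :
    Matrix H H R := Matrix.of fun h g => h⁻¹ • g • θ

theorem smul_det (t : H) (θ : R) : ∃ u : ℤˣ, t • (gm H θ).det = (u : ℤ) * (gm H θ).det := by
  refine ⟨Equiv.Perm.sign (Equiv.mulRight t⁻¹), ?_⟩
  rw [← Matrix.det_permute]
  have := RingHom.map_det (MulSemiringAction.toRingHom H R t) (gm H θ)
  rw [MulSemiringAction.toRingHom_apply] at this
  rw [this]
  congr 1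
  ext h g
  simp [gm, mul_smul]

theorem smul_det_mem {I : Ideal R} (t : H) (θ : R) (h : t • (gm H θ).det ∈ I) :
    (gm H θ).det ∈ I := by
  obtain ⟨u, hu⟩ := smul_det t θ
  rw [hu] at h
  rcases Int.units_eq_one_or u with rfl | rfl
  · simpa using h
  · simpa using h

theorem smul_max (t : H) (m : Ideal R) [m.IsMaximal] : (t • m).IsMaximal := by
  rw [Ideal.pointwise_smul_eq_comap]
  exact Ideal.comap_isMaximal_of_surjective _ (RingEquiv.surjective _)

theorem nb_local [Finite (MaximalSpectrum R)] (m : Ideal R) [hm : m.IsMaximal]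
    (hG : ∀ h : H, (∀ r : R, h • r - r ∈ m) → h = 1) : ∃ θ : R, (gm H θ).det ∉ m := by
  classical
  let S := MulAction.stabilizer H m
  letI : Field (R ⧸ m) := Ideal.Quotient.field m
  let f : S →* (R ⧸ m) ≃ₐ[ℤ ⧸ m.under ℤ] (R ⧸ m) := Ideal.Quotient.stabilizerHom m (m.under ℤ) H
  letI : MulSemiringAction S (R ⧸ m) := MulSemiringAction.compHom _ f
  have act : ∀ (s : S) (r : R), s • Ideal.Quotient.mk m r = Ideal.Quotient.mk m ((s : H) • r) :=
    fun s r => rfl
  haveI : FaithfulSMul S (R ⧸ m) := ⟨fun {a c} e => by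
    have : (a : H)⁻¹ * c = 1 := hG _ fun r => by
      rw [← Ideal.Quotient.eq, mul_smul]
      have := e (Ideal.Quotient.mk m r)
      rw [← show ((a⁻¹ : S) : H) = (a : H)⁻¹ from rfl, ← act, ← act, ← this, inv_smul_smul]
    exact Subtype.ext (inv_mul_eq_one.1 this)⟩
  obtain ⟨x, hx⟩ := nb_field (G := S) (K := R ⧸ m)
  obtain ⟨x, rfl⟩ := Ideal.Quotient.mk_surjective x
  obtain ⟨θ, hθ⟩ := Ideal.exists_forall_sub_mem_ideal
    (I := fun n : MaximalSpectrum R => n.asIdeal) (fun a c e =>
      Ideal.isCoprime_iff_sup_eq.2 (Ideal.IsMaximal.coprime_of_ne a.isMaximal c.isMaximal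
        fun q => e (MaximalSpectrum.ext q)))
    (fun n => if n.asIdeal = m then x else 0)
  have h1 : Ideal.Quotient.mk m θ = Ideal.Quotient.mk m x := by
    have := hθ ⟨m, hm⟩
    rw [if_pos rfl] at this
    exact Ideal.Quotient.eq.2 this
  have h2 : ∀ t : H, t ∉ S → Ideal.Quotient.mk m (t • θ) = 0 := fun t ht => by
    have := hθ ⟨t⁻¹ • m, smul_max _ m⟩
    rw [if_neg (fun e => ht (by simpa using S.inv_mem (show t⁻¹ ∈ S from e))), sub_zero] at this
    exact Ideal.Quotient.eq_zero_iff_mem.2 (Ideal.mem_inv_pointwise_smul_iff.1 this)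
  refine ⟨θ, fun hd => ?_⟩
  have h3 : ((gm H θ).map (Ideal.Quotient.mk m)).det = 0 := by
    rw [← RingHom.mapMatrix_apply, ← RingHom.map_det]
    exact Ideal.Quotient.eq_zero_iff_mem.2 hd
  obtain ⟨y, hy0, hy⟩ := Matrix.exists_vecMul_eq_zero_iff.2 h3
  refine hy0 (funext fun h₀ => ?_)
  have := hx (fun σ => y (h₀ * σ)) fun τ => by
    have e := congrFun hy (h₀ * τ)
    simp only [Matrix.vecMul, dotProduct, gm, Matrix.map_apply, Matrix.of_apply, Pi.zero_apply] at e
    rw [← e, ← Equiv.sum_comp (Equiv.mulLeft h₀)]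
    simp only [Equiv.coe_mulLeft]
    symm
    rw [← Finset.sum_subset (Finset.subset_univ (Finset.univ.filter (· ∈ S))) (fun a _ ha => by
      rw [smul_smul, h2, mul_zero]
      intro q
      refine ha (Finset.mem_filter.2 ⟨Finset.mem_univ _, ?_⟩)
      have q2 : (h₀ * a)⁻¹ * (h₀ * τ) = a⁻¹ * τ := by group
      rw [q2] at q
      simpa using S.inv_mem ((S.mul_mem_cancel_right τ.2).1 q)),
      Finset.sum_subtype _ (p := (· ∈ S)) (by simp)]
    refine Finset.sum_congr rfl fun σ _ => ?_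
    rw [← h1, act, act, smul_smul, smul_smul]
    congr 3
    simp
  simpa using congrFun this 1

theorem nb_ring [Finite (MaximalSpectrum R)]
    (hG : ∀ m : Ideal R, m.IsMaximal → ∀ h : H, (∀ r : R, h • r - r ∈ m) → h = 1) :
    ∃ θ : R, IsUnit (gm H θ).det := by
  classical
  let P : Ideal R → R → Prop := fun m θ => ∀ t : H, (gm H θ).det ∉ t • m
  have hP : ∀ (s : H) (m : Ideal R), P (s • m) = P m := fun s m => by
    refine funext fun θ => propext ⟨fun h t => ?_, fun h t => ?_⟩
    · have := h (t * s⁻¹)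
      rwa [smul_smul, inv_mul_cancel_right] at this
    · rw [smul_smul]; exact h _
  obtain ⟨θ, hθ⟩ := Ideal.exists_forall_sub_mem_ideal
    (I := fun n : MaximalSpectrum R => n.asIdeal) (fun a c e =>
      Ideal.isCoprime_iff_sup_eq.2 (Ideal.IsMaximal.coprime_of_ne a.isMaximal c.isMaximal
        fun q => e (MaximalSpectrum.ext q)))
    (fun n => Classical.epsilon (P n.asIdeal))
  refine ⟨θ, ?_⟩
  by_contra hu
  obtain ⟨m, hm, hle⟩ := exists_max_ideal_of_mem_nonunits hu
  have ex : ∃ θ, P m θ := by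
    obtain ⟨θ, h⟩ := nb_local m (hG m hm)
    exact ⟨θ, fun t e => h (smul_det_mem _ _ (Ideal.mem_pointwise_smul_iff_inv_smul_mem.1 e))⟩
  have h1 := Classical.epsilon_spec ex 1
  rw [one_smul] at h1
  refine h1 ?_
  have h2 : (gm H θ).map (Ideal.Quotient.mk m) =
      (gm H (Classical.epsilon (P m))).map (Ideal.Quotient.mk m) := by
    ext h g
    simp only [gm, Matrix.map_apply, Matrix.of_apply, smul_smul]
    rw [Ideal.Quotient.eq, ← smul_sub, ← Ideal.mem_inv_pointwise_smul_iff]
    have := hθ ⟨(h⁻¹ * g)⁻¹ • m, smul_max _ m⟩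
    rwa [hP] at this
  rw [← Ideal.Quotient.eq_zero_iff_mem, RingHom.map_det, RingHom.mapMatrix_apply, ← h2,
    ← RingHom.mapMatrix_apply, ← RingHom.map_det]
  exact Ideal.Quotient.eq_zero_iff_mem.2 hle

end CfsgH9.FF
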