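import Mathlib
import Cfsg.Agent.H9.FF1
import Cfsg.Agent.H9.DLen
import Cfsg.Agent.H1.Frob
import Cfsg.Agent.H1.Fitting

/-! Modules of Frobenius groups without kernel fixed points are free over the complement. -/

set_option autoImplicit false
open Cfsg Subgroup
open scoped commutatorElement

namespace CfsgH9.FF

variable {k V A : Type*} [Field k] [AddCommGroup V] [Module k V] [Group A]

theorem free_of_inj {H : Type*} [Group H] [Fintype H] [DecidableEq H] [FiniteDimensional k V]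
    (ρ : Representation k H V) (θ : Module.End k V)
    (inj : ∀ w : H → V, (∀ h : H, ∑ g, ρ h⁻¹ (ρ g (θ (ρ g⁻¹ (ρ h (w g))))) = 0) → w = 0) :
    ∃ W : Submodule k V, DirectSum.IsInternal (fun h : H => W.map (ρ h)) := by
  have mm : ∀ (a b : H) (v : V), ρ a (ρ b v) = ρ (a * b) v := fun a b v => by
    rw [map_mul]; rfl
  let Φ : (H → V) →ₗ[k] (H → V) := LinearMap.pi fun h =>
    ∑ g, (ρ (h⁻¹ * g) * θ * ρ (g⁻¹ * h)) ∘ₗ LinearMap.proj g
  have hΦ : ∀ w h, Φ w h = ∑ g, ρ (h⁻¹ * g) (θ (ρ (g⁻¹ * h) (w g))) := fun w h => by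
    simp only [Φ, LinearMap.pi_apply, LinearMap.sum_apply]; rfl
  have i1 : Function.Injective Φ := (injective_iff_map_eq_zero Φ).2 fun w hw => inj w fun h => by
    have := congrFun hw h
    rw [hΦ] at this
    simpa only [mm, Pi.zero_apply] using this
  have s1 : Function.Surjective Φ := LinearMap.injective_iff_surjective.1 i1
  refine ⟨(Representation.invariants ρ).map θ,
    (DirectSum.isInternal_submodule_iff_iSupIndep_and_iSup_eq_top _).2 ⟨?_, ?_⟩⟩
  · refine (iSupIndep_iff_finsetSum_eq_zero_imp_eq_zero _).2 fun s v hv h0 i hi => ?_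
    have : ∀ g, ∃ w, (∀ t, ρ t w = w) ∧ ρ g (θ w) = if g ∈ s then v g else 0 := fun g => by
      split_ifs with e
      · obtain ⟨_, ⟨w, hw, rfl⟩, q⟩ := hv g e
        exact ⟨w, hw, q⟩
      · exact ⟨0, by simp, by simp⟩
    choose w h1 h2 using this
    have h3 : w = 0 := inj w fun h => by
      simp only [h1, h2]
      rw [← map_sum, Finset.sum_ite_mem, Finset.univ_inter, h0, map_zero]
    have := h2 i
    rw [if_pos hi, h3] at this
    simpa using this.symm
  · refine eq_top_iff.2 fun v _ => ?_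
    obtain ⟨w, hw⟩ := s1 fun h => ρ h⁻¹ v
    have h1 : ∀ t g, ρ t (w g) = w g := fun t g => by
      have : Φ (fun g => ρ t (w g)) = Φ w := funext fun h => by
        have e := congrFun hw (h * t)
        rw [hw]
        rw [hΦ] at e ⊢
        have e2 := congrArg (ρ t) e
        rw [map_sum, mm] at e2
        simp only [mm] at e2 ⊢
        convert e2 using 4 <;> group
      exact congrFun (i1 this) g
    have e := congrFun hw 1
    rw [hΦ] at e
    simp only [h1, inv_one, one_mul, map_one, Module.End.one_apply] at e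
    rw [← e]
    exact Submodule.sum_mem _ fun g _ => Submodule.mem_iSup_of_mem g
      ⟨_, ⟨w g, fun t => h1 t g, rfl⟩, rfl⟩

/-- The centre of the commutant of `ρ F`. -/
def cen (ρ : Representation k A V) (F : Subgroup A) : Subalgebra k (Module.End k V) :=
  Subalgebra.centralizer k (ρ '' F) ⊓
    Subalgebra.centralizer k (Subalgebra.centralizer k (ρ '' (F : Set A)) : Set (Module.End k V))

theorem mem_cen {ρ : Representation k A V} {F : Subgroup A} {r : Module.End k V} :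
    r ∈ cen ρ F ↔ (∀ f ∈ F, ρ f * r = r * ρ f) ∧
      ∀ c, (∀ f ∈ F, ρ f * c = c * ρ f) → c * r = r * c := by
  simp [cen, Algebra.mem_inf, Subalgebra.mem_centralizer_iff, Set.mem_centralizer_iff]

instance (ρ : Representation k A V) (F : Subgroup A) : CommRing (cen ρ F) :=
  { (inferInstance : Ring (cen ρ F)) with
    mul_comm := fun a b => Subtype.ext ((mem_cen.1 b.2).2 a (mem_cen.1 a.2).1) }

theorem conj_comm {ρ : Representation k A V} {F : Subgroup A} [hF : F.Normal] (a : A)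
    {c : Module.End k V} (h : ∀ f ∈ F, ρ f * c = c * ρ f) :
    ∀ f ∈ F, ρ f * (ρ a * c * ρ a⁻¹) = (ρ a * c * ρ a⁻¹) * ρ f := fun f hf => by
  have := h _ (hF.conj_mem' f hf a)
  calc ρ f * (ρ a * c * ρ a⁻¹) = ρ a * (ρ (a⁻¹ * f * a) * c) * ρ a⁻¹ := by
        simp only [← mul_assoc, ← map_mul, mul_inv_cancel, one_mul]
    _ = _ := by
        rw [this]; simp only [mul_assoc, ← map_mul, mul_inv_cancel, mul_one]

theorem conj_mem_cen {ρ : Representation k A V} {F : Subgroup A} [hF : F.Normal] (a : A)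
    {r : Module.End k V} (h : r ∈ cen ρ F) : ρ a * r * ρ a⁻¹ ∈ cen ρ F := by
  refine mem_cen.2 ⟨conj_comm a (mem_cen.1 h).1, fun c hc => ?_⟩
  have := (mem_cen.1 h).2 _ (conj_comm a⁻¹ hc)
  rw [inv_inv] at this
  calc c * (ρ a * r * ρ a⁻¹) = ρ a * (ρ a⁻¹ * c * ρ a * r) * ρ a⁻¹ := by
        simp only [← mul_assoc, ← map_mul, mul_inv_cancel, map_one, one_mul]
    _ = _ := by
        rw [this]; simp only [mul_assoc, ← map_mul, mul_inv_cancel, map_one, mul_one]

/-- Conjugation action on the centre of the commutant. -/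
@[reducible] def cenAct (ρ : Representation k A V) (F : Subgroup A) [F.Normal] :
    MulSemiringAction A (cen ρ F) where
  smul a r := ⟨ρ a * r * ρ a⁻¹, conj_mem_cen a r.2⟩
  one_smul r := Subtype.ext (show ρ 1 * r * ρ 1⁻¹ = r by simp)
  mul_smul a b r := Subtype.ext (show ρ (a * b) * r * ρ (a * b)⁻¹ =
    ρ a * (ρ b * r * ρ b⁻¹) * ρ a⁻¹ by simp only [mul_inv_rev, map_mul, mul_assoc])
  smul_zero a := Subtype.ext (show ρ a * 0 * ρ a⁻¹ = 0 by simp)
  smul_add a r s := Subtype.ext (show ρ a * (r + s) * ρ a⁻¹ =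
    ρ a * r * ρ a⁻¹ + ρ a * s * ρ a⁻¹ by simp only [mul_add, add_mul])
  smul_one a := Subtype.ext (show ρ a * 1 * ρ a⁻¹ = 1 by
    rw [mul_one, ← map_mul, mul_inv_cancel, map_one])
  smul_mul a r s := Subtype.ext (show ρ a * (r * s) * ρ a⁻¹ =
    ρ a * r * ρ a⁻¹ * (ρ a * s * ρ a⁻¹) by
      simp only [mul_assoc]
      rw [← mul_assoc (ρ a⁻¹), ← map_mul, inv_mul_cancel, map_one, one_mul])

/-- The sum of `ρ` over a subgroup. -/
noncomputable def sm [Finite A] (ρ : Representation k A V) (Y : Subgroup A) : Module.End k V :=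
  ∑ᶠ y : Y, ρ y

theorem sm_mul [Finite A] (ρ : Representation k A V) {Y : Subgroup A} {y : A} (hy : y ∈ Y) :
    sm ρ Y * ρ y = sm ρ Y := by
  haveI := Fintype.ofFinite Y
  simp only [sm, finsum_eq_sum_of_fintype, Finset.sum_mul, ← map_mul]
  exact Equiv.sum_comp (Equiv.mulRight (⟨y, hy⟩ : Y)) fun z : Y => ρ z

theorem sm_comm [Finite A] (ρ : Representation k A V) {Y : Subgroup A} [Y.Normal] (a : A) :
    ρ a * sm ρ Y = sm ρ Y * ρ a := by
  haveI := Fintype.ofFinite Y
  simp only [sm, finsum_eq_sum_of_fintype, Finset.sum_mul, Finset.mul_sum, ← map_mul]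
  rw [← Equiv.sum_comp (MulAut.conjNormal (H := Y) a).toEquiv fun z : Y => ρ (z * a)]
  simp

theorem sm_sm [Finite A] (ρ : Representation k A V) {Y Z : Subgroup A} [Z.Normal] (h : Y ≤ Z) :
    sm ρ Y * sm ρ Z = (Nat.card Y : Module.End k V) * sm ρ Z := by
  haveI := Fintype.ofFinite Y
  nth_rewrite 1 [sm]
  rw [finsum_eq_sum_of_fintype, Finset.sum_mul,
    Finset.sum_congr rfl fun (y : Y) _ => (sm_comm ρ (y : A)).trans (sm_mul ρ (h y.2))]
  simp

theorem sm_mem [Finite A] (ρ : Representation k A V) {F Y : Subgroup A} [Y.Normal] (h : Y ≤ F)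
    {z : A} (hz : z ∈ F) (hc : ∀ f ∈ F, ⁅f, z⁆ ∈ Y) : sm ρ Y * ρ z ∈ cen ρ F := by
  refine mem_cen.2 ⟨fun f hf => ?_, fun c hc => ?_⟩
  · rw [← mul_assoc, sm_comm, mul_assoc, mul_assoc, ← map_mul, ← map_mul]
    nth_rewrite 2 [← sm_mul ρ (hc f hf)]
    rw [mul_assoc, ← map_mul, commutatorElement_def]
    congr 2
    group
  · haveI := Fintype.ofFinite Y
    simp only [sm, finsum_eq_sum_of_fintype, Finset.sum_mul, Finset.mul_sum, ← map_mul]
    exact Finset.sum_congr rfl fun y _ => (hc _ (F.mul_mem (h y.2) hz)).symm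

theorem gal_step [Finite A] (ρ : Representation k A V) {F Y Z : Subgroup A} [F.Normal] [Y.Normal]
    [hZ : Z.Normal] (h1 : Y ≤ Z) (h2 : Z ≤ F) (hc : ∀ z ∈ Z, ∀ f ∈ F, ⁅f, z⁆ ∈ Y)
    {K : Type*} [Field K] (φ : cen ρ F →+* K) (n0 : (Nat.card Y : K) ≠ 0) {h : A}
    (fpf : ∀ z ∈ Z, h * z * h⁻¹ = z → z = 1)
    (tr : ∀ r : cen ρ F, φ ⟨_, conj_mem_cen h r.2⟩ = φ r)
    (ih : ∀ r : cen ρ F, r.1 = sm ρ Y → φ r = Nat.card Y) :
    ∀ r : cen ρ F, r.1 = sm ρ Z → φ r = Nat.card Z := by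
  intro r hr
  haveI := Fintype.ofFinite Z
  let e : Z → cen ρ F := fun z => ⟨sm ρ Y * ρ z, sm_mem ρ (h1.trans h2) (h2 z.2) (hc _ z.2)⟩
  have e1 : φ (e 1) = Nat.card Y := ih _ (by simp [e])
  have em : ∀ a b, e a * e b = e 1 * e (a * b) := fun a b => Subtype.ext (by
    show sm ρ Y * ρ a * (sm ρ Y * ρ b) = sm ρ Y * ρ (1 : A) * (sm ρ Y * ρ (a * b : A))
    rw [map_one, mul_one, mul_assoc, ← mul_assoc (ρ a), sm_comm, map_mul]
    simp only [mul_assoc])
  let c : Z → Z := fun z => ⟨h * z * h⁻¹, hZ.conj_mem _ z.2 h⟩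
  have ec : ∀ z, φ (e (c z)) = φ (e z) := fun z => by
    rw [← tr (e z)]
    congr 1
    refine Subtype.ext ?_
    show sm ρ Y * ρ (h * z * h⁻¹) = ρ h * (sm ρ Y * ρ z) * ρ h⁻¹
    rw [← mul_assoc (ρ h), sm_comm, map_mul, map_mul]
    simp only [mul_assoc]
  have sj : Function.Surjective fun x : Z => x⁻¹ * c x :=
    Finite.injective_iff_surjective.1 fun a b q => by
      have q1 : (a : A)⁻¹ * (h * a * h⁻¹) = (b : A)⁻¹ * (h * b * h⁻¹) := congrArg Subtype.val q
      have := fpf ((a : A) * (b : A)⁻¹) (Z.mul_mem a.2 (Z.inv_mem b.2)) (by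
        calc h * ((a : A) * (b : A)⁻¹) * h⁻¹
            = a * ((a : A)⁻¹ * (h * a * h⁻¹)) * (h * b * h⁻¹)⁻¹ := by group
          _ = _ := by rw [q1]; group)
      exact Subtype.ext (mul_inv_eq_one.1 this)
  have ez : ∀ z, φ (e z) = Nat.card Y := fun z => by
    obtain ⟨x, rfl⟩ := sj z
    refine mul_left_cancel₀ n0 ?_
    conv_lhs => rw [← e1, ← map_mul, ← em, map_mul, ec, ← map_mul, em, inv_mul_cancel, map_mul, e1]
  have : ∑ z, e z = (Nat.card Y : cen ρ F) * r := Subtype.ext (by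
    rw [AddSubmonoidClass.coe_finset_sum, MulMemClass.coe_mul, SubringClass.coe_natCast, hr,
      ← sm_sm ρ h1]
    nth_rewrite 2 [sm]
    rw [finsum_eq_sum_of_fintype, Finset.mul_sum])
  have q := congrArg φ this
  rw [map_sum, map_mul, map_natCast] at q
  simp only [ez, Finset.sum_const, Finset.card_univ, nsmul_eq_mul] at q
  refine mul_left_cancel₀ n0 ?_
  rw [← q, mul_comm, Nat.card_eq_fintype_card (α := Z)]

theorem gal [Finite A] (ρ : Representation k A V) {F : Subgroup A} [F.Normal]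
    (hn : Group.IsNilpotent F) (n0 : (Nat.card F : k) ≠ 0)
    (hC : ∀ v : V, (∀ f ∈ F, ρ f v = v) → v = 0) {h : A}
    (fpf : ∀ z ∈ F, h * z * h⁻¹ = z → z = 1) {K : Type*} [Field K] (φ : cen ρ F →+* K)
    (tr : ∀ r : cen ρ F, φ ⟨_, conj_mem_cen h r.2⟩ = φ r) : False := by
  have nz : ∀ Y : Subgroup A, Y ≤ F → (Nat.card Y : K) ≠ 0 := fun Y hY q => by
    obtain ⟨c, hc⟩ := card_dvd_of_le hY
    have : (φ.comp (algebraMap k (cen ρ F))) (Nat.card F) = 0 := by
      rw [map_natCast, hc, Nat.cast_mul, q, zero_mul]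
    exact n0 ((map_eq_zero _).1 this)
  let Z : ℕ → Subgroup A := fun i => (Subgroup.upperCentralSeries F i).map F.subtype
  have zn : ∀ i, (Z i).Normal := fun i => ConjAct.normal_of_characteristic_of_normal
  have key : ∀ i, ∀ r : cen ρ F, r.1 = sm ρ (Z i) → φ r = Nat.card (Z i) := fun i => by
    induction i with
    | zero =>
      intro r hr
      have z0 : Z 0 = ⊥ := by simp [Z]
      rw [z0] at hr ⊢
      have : r = 1 := Subtype.ext (by
        rw [hr, sm, finsum_unique, Subsingleton.elim (default : (⊥ : Subgroup A)) 1]; simp)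
      simp [this]
    | succ i ih =>
      refine gal_step ρ (map_mono (Subgroup.upperCentralSeries_mono _ i.le_succ)) (map_subtype_le _) ?_ φ
        (nz _ (map_subtype_le _)) (fun z hz => fpf z (map_subtype_le _ hz)) tr ih
      rintro _ ⟨z, hz, rfl⟩ f hf
      have := (Subgroup.upperCentralSeries F i).inv_mem (Subgroup.mem_upperCentralSeries_succ_iff.1 hz ⟨f, hf⟩)
      refine ⟨_, this, ?_⟩
      simp [commutatorElement_def, mul_assoc]
  obtain ⟨n, e⟩ := hn.nilpotent
  have zt : Z n = F := by simp [Z, e, ← MonoidHom.range_eq_map]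
  have := key n 0 (by
    rw [zt]
    refine (LinearMap.ext fun v => hC _ fun f hf => ?_).symm
    rw [← Module.End.mul_apply, sm_comm, sm_mul ρ hf])
  rw [zt, map_zero] at this
  exact nz F le_rfl this.symm

theorem free_cop [Finite A] [FiniteDimensional k V] (ρ : Representation k A V) {F : Subgroup A}
    [F.Normal] (hn : Group.IsNilpotent F) (n0 : (Nat.card F : k) ≠ 0)
    (hC : ∀ v : V, (∀ f ∈ F, ρ f v = v) → v = 0) (H : Subgroup A) [DecidableEq H]
    (fpf : ∀ h ∈ H, h ≠ 1 → ∀ z ∈ F, h * z * h⁻¹ = z → z = 1) :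
    ∃ W : Submodule k V, DirectSum.IsInternal (fun h : H => W.map (ρ (h : A))) := by
  haveI := Fintype.ofFinite H
  letI := cenAct ρ F
  haveI : IsArtinianRing (cen ρ F) := IsArtinianRing.of_finite k _
  obtain ⟨θ, hθ⟩ := nb_ring (H := H) (R := cen ρ F) fun m hm h hh => by
    by_contra q
    letI : Field (cen ρ F ⧸ m) := Ideal.Quotient.field m
    exact gal ρ hn n0 hC (fpf h h.2 fun e => q (Subtype.ext e)) (Ideal.Quotient.mk m)
      fun r => Ideal.Quotient.eq.2 (hh r)
  refine free_of_inj (ρ.comp H.subtype) θ.1 fun w hw => funext fun a => ?_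
  have hm := Matrix.nonsing_inv_mul _ hθ
  set N := (gm H θ)⁻¹
  have h1 : ∀ h, ∑ g, (gm H θ h g).1 (w g) = 0 := fun h => by
    rw [← hw h]
    refine Finset.sum_congr rfl fun g _ => ?_
    show (ρ ((h⁻¹ : H) : A) * (ρ g * θ.1 * ρ (g : A)⁻¹) * ρ ((h⁻¹ : H) : A)⁻¹) (w g) = _
    simp
  have h2 : ∑ g, ((N * gm H θ) a g).1 (w g) = 0 := by
    simp only [Matrix.mul_apply, AddSubmonoidClass.coe_finset_sum, LinearMap.sum_apply,
      MulMemClass.coe_mul, Module.End.mul_apply]
    rw [Finset.sum_comm]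
    simp only [← map_sum, h1, map_zero, Finset.sum_const_zero]
  rw [hm, Finset.sum_eq_single a (fun b _ hb => by simp [Matrix.one_apply_ne hb.symm])
    (by simp)] at h2
  simpa using h2

theorem free_nil [Finite A] [FiniteDimensional k V] (ρ : Representation k A V) {F : Subgroup A}
    [F.Normal] (hn : Group.IsNilpotent F)
    (hC : ∀ v : V, (∀ f ∈ F, ρ f v = v) → v = 0) (H : Subgroup A) [DecidableEq H]
    (fpf : ∀ h ∈ H, h ≠ 1 → ∀ z ∈ F, h * z * h⁻¹ = z → z = 1) :
    ∃ W : Submodule k V, DirectSum.IsInternal (fun h : H => W.map (ρ (h : A))) := by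
  obtain ⟨p, hp⟩ := CharP.exists k
  rcases CharP.char_is_prime_or_zero k p with pp | rfl
  swap
  · haveI := CharP.charP_to_charZero k
    exact free_cop ρ hn (by exact_mod_cast Nat.card_pos.ne') hC H fpf
  haveI := Fact.mk pp
  let F₀ := (pPrimeCore p F).map F.subtype
  haveI : F₀.Normal := ConjAct.normal_of_characteristic_of_normal
  have le : F₀ ≤ F := map_subtype_le _
  refine free_cop ρ (F := F₀) (Group.nilpotent_of_mulEquiv (equivMapOfInjective _ _
    F.subtype_injective)) (fun q => ?_) (fun v hv => ?_) H fun h hh h1 z hz => fpf h hh h1 z (le hz)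
  · rw [CharP.cast_eq_zero_iff k p] at q
    exact pp.one_lt.ne' (Nat.eq_one_of_dvd_coprimes (CfsgH1.coprime_card_map_pPrimeCore F) q
      dvd_rfl)
  by_contra v0
  let U : Submodule k V := Representation.invariants (ρ.comp F₀.subtype)
  let P := pCore p F
  let σ : Representation k P V := (ρ.comp F.subtype).comp P.subtype
  have hU : ∀ g : P, U ≤ U.comap (σ g) := fun g u hu f => by
    have := hu ⟨_, Normal.conj_mem' inferInstance f.1 f.2 (g : F)⟩
    show ρ f (ρ (g : F) u) = ρ (g : F) u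
    conv_rhs => rw [← this]
    show _ = ρ (g : F) (ρ (((g : F) : A)⁻¹ * f * (g : F)) u)
    simp only [← Module.End.mul_apply, ← map_mul, ← mul_assoc, mul_inv_cancel, one_mul]
  haveI : Nontrivial U := ⟨⟨v, fun f => hv f f.2⟩, 0, fun e => v0 (congrArg Subtype.val e)⟩
  obtain ⟨u, u0, hu⟩ := fixed_vec (CfsgH1.isPGroup_pCore p F) (σ.subrepresentation U hU)
  refine u0 (Subtype.ext (hC _ fun f hf => ?_))
  have t : (⟨f, hf⟩ : F) ∈ P ⊔ pPrimeCore p F :=
    CfsgH1.fitting_le_pCore_sup_pPrimeCore p (CfsgH1.fitting_eq_top_iff.2 hn ▸ mem_top _)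
  obtain ⟨a, ha, b, hb, e⟩ := mem_sup_of_normal_right.1 t
  have e' : f = a * b := (congrArg Subtype.val e).symm
  have h1 : ρ b u.1 = u.1 := u.2 ⟨b, b, hb, rfl⟩
  have h2 : ρ a u.1 = u.1 := congrArg Subtype.val (hu ⟨a, ha⟩)
  rw [e', map_mul, Module.End.mul_apply, h1, h2]

end CfsgH9.FF
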