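import Cfsg.Agent.H9.TX2
import Cfsg.Agent.H5.Xf1

/-! Overgroups of field extension subgroups in the special linear group (degree below the dimension). -/

set_option autoImplicit false

namespace CfsgH9.FX
open Module CfsgH5 CfsgH5.Form CfsgH9.TX

variable {F K V : Type*} [Field F] [Field K] [Algebra F K]

theorem dens [Finite K] (hr : (finrank F K).Prime) {L : Subalgebra F (End F K)} (hL : ∀ c, LinearMap.mul F K c ∈ L) :
    L = ⊤ ∨ ∀ ρ ∈ L, ∀ k, ρ k = k * ρ 1 := by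
  let C : Subalgebra F K :=
    { carrier := {c | ∀ ρ ∈ L, ∀ k, ρ (c * k) = c * ρ k}
      mul_mem' := fun a b ρ h k => by rw [mul_assoc, a ρ h, b ρ h, mul_assoc]
      add_mem' := fun a b ρ h k => by rw [add_mul, map_add, a ρ h, b ρ h, add_mul]
      algebraMap_mem' := fun a ρ _ k => by simp [← Algebra.smul_def] }
  haveI := Subalgebra.isSimpleOrder_of_finrank_prime F K hr
  refine (eq_bot_or_eq_top C).imp (fun hC => eq_top_iff.2 fun f _ => ?_) fun hC ρ h k => by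
    simpa using (hC.ge trivial : k ∈ C) ρ h 1
  haveI : IsSimpleModule L K := isSimpleModule_iff_toSpanSingleton_surjective.2 ⟨inferInstance, fun x hx y =>
    ⟨⟨_, hL (y / x)⟩, div_mul_cancel₀ y hx⟩⟩
  haveI := Fintype.ofFinite K
  obtain ⟨r, e⟩ := jacobson_density (R := L) (M := K) ⟨f.toAddHom, fun e m => by
    have h1 : ∀ k, e k = e 1 * k := fun k =>
      (congrArg e (mul_one k).symm).trans ((e.map_smul ⟨_, hL k⟩ 1).trans (mul_comm k _))
    obtain ⟨a, ha⟩ := Algebra.mem_bot.1 (hC.le (fun ρ h k => by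
      rw [← h1, ← h1]; exact (e.map_smul ⟨ρ, h⟩ k).symm : e 1 ∈ C))
    change f (e m) = e (f m)
    rw [h1, h1 (f m), ← ha, ← Algebra.smul_def, ← Algebra.smul_def, map_smul]⟩ Finset.univ
  exact (LinearMap.ext fun m => (e m (Finset.mem_univ _)).symm : r.1 = f) ▸ r.2

variable [AddCommGroup V] [Module F V] [Module K V] [IsScalarTower F K V]

/-- the line map -/
def j (F K : Type*) {V : Type*} [Field F] [Field K] [Algebra F K] [AddCommGroup V] [Module F V] [Module K V]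
  [IsScalarTower F K V] (w : V) : K →ₗ[F] V := (LinearMap.toSpanSingleton K V w).restrictScalars F

@[simp] theorem j_apply (w : V) (k : K) : j F K w k = k • w := rfl

/-- a block map -/
def bk (w : V) (ρ : K →ₗ[F] K) (ψ : Dual K V) : V →ₗ[F] V := j F K w ∘ₗ ρ ∘ₗ ψ.restrictScalars F

@[simp] theorem bk_apply (w : V) (ρ : K →ₗ[F] K) (ψ : Dual K V) (y : V) : bk w ρ ψ y = ρ (ψ y) • w := rfl

variable [FiniteDimensional F V] [FiniteDimensional K V] [Finite F] [Finite K] {G : Subgroup (V ≃ₗ[F] V)}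
  {f : V →ₗ[F] V} {g : V ≃ₗ[F] V} {ψ χ : Dual K V} {v w : V} {r : K →ₗ[F] K}

omit [FiniteDimensional F V] [Finite F] [Finite K] in
theorem not_nm (h2 : 2 ≤ finrank F K) (hd : 3 ≤ finrank K V) [FiniteDimensional F V] : ∃ g ∈ slSub F V, ¬ Nm K g := by
  haveI := Module.finite_of_finrank_pos (R := F) (M := K) (by omega)
  obtain ⟨c, hc⟩ := exists_notMem_of_finrank_lt (H := Submodule.span F {(1 : K)})
    ((finrank_span_single_le _).trans_lt h2)
  obtain ⟨v, hv, -⟩ := exists_ker_two hd (0 : Dual K V) 0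
  obtain ⟨y, -, h1⟩ := exists_notMem_ker hd 0 v
  obtain ⟨χ, h3, h4⟩ := exists_dual_pair h1
  obtain ⟨ψ, h5, h6⟩ := exists_dual_pair (notMem_span_symm hv h1)
  obtain ⟨φ, h7⟩ := exists_dual_one (F := F) (one_ne_zero (α := K))
  refine ⟨_, tr_mem_sl (φ ∘ₗ χ.restrictScalars F) v, fun h => ?_⟩
  obtain ⟨d, e⟩ := h c
  have := e y
  rw [tr_apply (by simp [h4]), tr_apply (by simp [h4])] at this
  have h8 := congrArg ψ this
  simp [h3, h5, h6, h7] at h8
  exact hc (Submodule.mem_span_singleton.2 ⟨φ d, h8.symm⟩)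

variable (hd : 3 ≤ finrank K V) (hG : ∀ g ∈ slSub F V, Nm K g → g ∈ G)

omit [FiniteDimensional F V] [Finite F] [Finite K] in
include hd in
theorem d3' : 3 ≤ finrank K (Dual K V) := Subspace.dual_finrank_eq (K := K) (V := V) ▸ hd

include hG

omit [FiniteDimensional K V] [Finite K] in
theorem mem (h0 : ψ w = 0) : E G (bk w 1 ψ) :=
  have e : ∀ v, bk w (1 : K →ₗ[F] K) ψ (bk w (1 : K →ₗ[F] K) ψ v) = 0 := by simp [h0]
  let ⟨g, h1, h2⟩ := exists_sl e
  ⟨e, g, hG g h1 fun c => ⟨c, fun v => by simp [h2, mul_smul]⟩, h2⟩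

omit [FiniteDimensional K V] [Finite K] in
theorem move1 (h1 : E G f) (h2 : ψ w = 0) (h3 : ∀ y, ψ (f y) = 0) : E G (f ∘ₗ bk w 1 ψ) :=
  h1.comm (mem hG h2) (by simp [h3])

omit [FiniteDimensional K V] [Finite K] in
theorem move2 (h1 : E G f) (h2 : ψ w = 0) (h3 : ∀ u : K, f (u • w) = 0) : E G (bk w 1 ψ ∘ₗ f) :=
  (mem hG h2).comm h1 (by simp [h3])

/-- the level -/
def lev : Subalgebra F (End F K) where
  carrier := {r | ∀ ψ v, ψ v = 0 → E G (bk v r ψ)}
  add_mem' a b ψ v h1 := by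
    exact ((a ψ v h1).add (b ψ v h1) (by simp [h1]) (by simp [h1])).congr (by simp [add_smul])
  algebraMap_mem' c ψ v h1 := (mem hG (w := c • v) (ψ := ψ) (by simp [h1])).congr fun y => by
    simp [smul_comm c]
  mul_mem' {α β} a b ψ v h1 := by
    obtain ⟨w, h2, h3⟩ := exists_notMem_ker hd ψ v
    obtain ⟨χ, h4, h5⟩ := exists_dual_pair h3
    exact ((a χ v h5).comm (b ψ w h2) (by simp [h1])).congr (by simp [h4])

omit [Finite K] in
theorem mul_mem_lev (c : K) : LinearMap.mul F K c ∈ lev hd hG := fun ψ v h1 =>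
  (mem hG (w := c • v) (ψ := ψ) (by simp [h1])).congr fun y => by simp [smul_smul, mul_comm]

omit [Finite K] in
theorem mem_lev (hψ : ψ ≠ 0) (hv : v ≠ 0) (h0 : ψ v = 0) (h1 : E G (bk v r ψ)) : r ∈ lev hd hG := by
  have k1 : ∀ {ψ : Dual K V} {v}, v ≠ 0 → ψ v = 0 → E G (bk v r ψ) → ∀ w, ψ w = 0 → E G (bk w r ψ) := by
    intro ψ v hv h0 h1 w hw
    obtain ⟨u, h2, h3⟩ := exists_notMem_ker hd ψ v
    refine (mem_of_notMem_imp (U := LinearMap.ker ψ) (A := ⟨⟨⟨{w | ψ w = 0 ∧ E G (bk w r ψ)},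
      fun a b => ⟨by simp [a.1, b.1], (a.2.add b.2 (by simp [b.1]) (by simp [a.1])).congr
        (by simp)⟩⟩, ⟨by simp, E.zero.congr (by simp)⟩⟩, fun a => ⟨by simp [a.1], a.2.neg.congr (by simp)⟩⟩)
      h2 h3 (fun w a b => ⟨a, ?_⟩) hw).2
    obtain ⟨χ, h4, h5⟩ := exists_dual_pair (notMem_span_symm hv b)
    exact (move2 hG h1 h5 (by simp [show ψ w = 0 from a])).congr (by simp [h4])
  have k2 : ∀ {ψ : Dual K V} {v}, ψ ≠ 0 → ψ v = 0 → E G (bk v r ψ) → ∀ χ, χ v = 0 → E G (bk v r χ) := by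
    intro ψ v hv h0 h1 w hw
    obtain ⟨u, h2, h3⟩ := exists_notMem_ker (d3' hd) (Dual.eval K V v) ψ
    refine (mem_of_notMem_imp (U := LinearMap.ker (Dual.eval K V v))
      (A := ⟨⟨⟨{w | w v = 0 ∧ E G (bk v r w)},
      fun a b => ⟨by simp [a.1, b.1], (a.2.add b.2 (by simp [a.1]) (by simp [b.1])).congr
        (by simp [add_smul])⟩⟩, ⟨by simp, E.zero.congr (by simp)⟩⟩, fun a => ⟨by simp [a.1], a.2.neg.congr (by simp)⟩⟩)
      h2 h3 (fun w a b => ⟨a, ?_⟩) hw).2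
    obtain ⟨χ, h4, h5⟩ := exists_vec_pair (notMem_span_symm hv b)
    exact (move1 hG h1 h5 (by simp [show w v = 0 from a])).congr (by simp [h4])
  intro χ w h2
  obtain ⟨u, h3, h4, h5⟩ := exists_ker_two hd ψ χ
  exact k1 h3 h5 (k2 hψ h4 (k1 hv h0 h1 u h4) χ h5) w h2

theorem sl_le (hR : lev hd hG = ⊤) : slSub F V ≤ G := CfsgH5.sl_le fun θ v h0 => by
  by_cases hv : v = 0
  · simp [hv]
  have h4 : ∀ u, ∃ β : K, ∀ z, θ (z • u) = Algebra.trace F K (β * z) := fun u =>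
    trace_rep ⟨⟨fun z => θ (z • u), fun a b => by simp [add_smul]⟩, fun c a => by simp⟩
  choose β hβ using h4
  have ext : ∀ {a b : K}, (∀ z, Algebra.trace F K (a * z) = Algebra.trace F K (b * z)) → a = b := fun e =>
    sub_eq_zero.1 (trace_inj (F := F) fun z => by rw [sub_mul, map_sub, e, sub_self])
  let ψ : Dual K V := ⟨⟨β, fun a b => ext fun c => by simp [← hβ, add_mul]⟩, fun c a => ext fun d => by
    rw [← hβ, RingHom.id_apply, smul_eq_mul, mul_comm c, mul_assoc, ← hβ, mul_comm c, mul_smul]⟩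
  have h1 : ∀ y, Algebra.trace F K (ψ y) = θ y := fun y => by simpa [ψ] using (hβ y 1).symm
  clear_value ψ
  obtain ⟨w, h2, h3⟩ := exists_notMem_ker hd ψ v
  obtain ⟨χ, h4, h5⟩ := exists_dual_pair h3
  obtain ⟨φ, h6⟩ := exists_dual_one (F := F) (one_ne_zero (α := K))
  exact ((((hR.ge trivial : φ.smulRight 1 ∈ lev hd hG) χ v h5).comm
    ((hR.ge trivial : (Algebra.trace F K).smulRight 1 ∈ lev hd hG) ψ w h2)
      (by simp [h1, h0])).congr (by simp [h1, h4, h6])).tr h0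

variable (hR : ∀ ρ ∈ lev hd hG, ∀ k, ρ k = k * ρ 1)
include hR

omit [Finite K] in
theorem rat_vec (hψ : ψ ≠ 0) {y : K →ₗ[F] V} (h0 : ∀ u, ψ (y u) = 0) (h1 : E G (y ∘ₗ ψ.restrictScalars F)) (k : K) :
    y k = k • y 1 := sub_eq_zero.1 ((forall_dual_apply_eq_zero_iff K _).1 fun χ => by
  obtain ⟨v, a, b, c⟩ := exists_ker_two hd ψ χ
  simpa [sub_eq_zero] using hR (χ.restrictScalars F ∘ₗ y) (mem_lev hd hG hψ a b (move2 hG h1 c (by simp [b]))) k)

omit [Finite K] in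
theorem rat_dual (hv : v ≠ 0) {θ : V →ₗ[F] K} (h1 : E G (j F K v ∘ₗ θ)) :
    ∃ ψ : Dual K V, θ = ψ.restrictScalars F :=
  ⟨⟨θ.toAddHom, fun k w => by
    obtain ⟨ψ, a, b, c⟩ := exists_ker_two (d3' hd) (Dual.eval K V v) (Dual.eval K V w)
    simpa using hR (θ ∘ₗ j F K w) (mem_lev hd hG a hv b (move1 hG h1 c (by simp [show ψ v = 0 from b]))) k⟩, rfl⟩

theorem inc (hg : g ∈ G) (hv : v ≠ 0) (hψ : ψ ≠ 0) (h0 : ∀ u : K, ψ (g (u • v)) = 0) : Nm K g := by
  haveI := Module.finite_of_finite F (M := K)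
  obtain ⟨w, h1, χ, h2, u, h3⟩ : ∃ w, ψ w = 0 ∧ ∃ χ : Dual K V, χ v = 0 ∧ ∃ u : K, χ (g.symm (u • w)) ≠ 0 := by
    by_contra! h1
    obtain ⟨w, h2, h3, -⟩ := exists_ker_two hd ψ 0
    obtain ⟨w', h4, h5⟩ := exists_notMem_ker hd ψ w
    obtain ⟨φ, h6, h7⟩ := exists_dual_pair h5
    obtain ⟨χ, h8⟩ := exists_dual_one (F := K) hv
    have e : ∀ w, ψ w = 0 → ∀ u : K, g.symm (u • w) = χ (g.symm (u • w)) • v := fun w a u =>
      sub_eq_zero.1 ((forall_dual_apply_eq_zero_iff K _).1 fun χ' => by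
        simpa [mul_comm] using h1 w a (χ' - χ' v • χ) (by simp [h8]) u)
    obtain ⟨u', h9⟩ := LinearMap.injective_iff_surjective.1 ((injective_iff_map_eq_zero
      (χ.restrictScalars F ∘ₗ g.symm.toLinearMap ∘ₗ j F K w)).2 fun a b => by
        have := e w h3 a
        rw [show χ (g.symm (a • w)) = 0 from b] at this
        simpa [h2] using this) (χ (g.symm ((1 : K) • w')))
    have := congrArg φ (g.symm.injective ((e w h3 u').trans ((congrArg (· • v) h9).trans (e w' h4 1).symm)))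
    simp [h6, h7] at this
  have h4 := rat_vec hd hG hR hψ (y := g ∘ₗ j F K v ∘ₗ χ.restrictScalars F ∘ₗ g.symm ∘ₗ j F K w) (by simp [h0])
    (move1 hG ((mem hG h2).cj hg) h1 (by simp [h0]))
  generalize (g ∘ₗ j F K v ∘ₗ χ.restrictScalars F ∘ₗ g.symm ∘ₗ j F K w : K →ₗ[F] V) 1 = v' at h4
  replace h4 : ∀ u : K, g (χ (g.symm (u • w)) • v) = u • v' := h4
  have h5 : v' ≠ 0 := fun e => h3 (by simpa [e, hv] using h4 u)
  let c := LinearEquiv.ofInjectiveEndo (χ.restrictScalars F ∘ₗ g.symm.toLinearMap ∘ₗ j F K w)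
    ((injective_iff_map_eq_zero _).2 fun a b => by
      have := h4 a
      rw [show χ (g.symm (a • w)) = 0 from b] at this
      simpa [h5] using this.symm)
  replace h4 : ∀ u, g (c u • v) = u • v' := h4
  clear_value c
  refine fun k => ⟨c k / c 1, fun a => ?_⟩
  obtain ⟨χ, h6, h7, h8⟩ := exists_ker_two (d3' hd) (Dual.eval K V v) (Dual.eval K V a)
  replace h7 : χ v = 0 := h7
  replace h8 : χ a = 0 := h8
  obtain ⟨χ', h9⟩ := rat_dual hd hG hR h5 (θ := c.symm ∘ₗ χ.restrictScalars F ∘ₗ g.symm)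
    (((mem hG h7).cj hg).congr (by simp [← h4]))
  replace h9 : ∀ y, χ' y = c.symm (χ (g.symm y)) := fun y => (LinearMap.congr_fun h9 y).symm
  have := rat_vec hd hG hR (ψ := χ') (y := g ∘ₗ j F K ((c 1)⁻¹ • a) ∘ₗ c) (fun e => by
      obtain ⟨y, hy⟩ := exists_apply_one h6
      exact c.symm.map_ne_zero_iff.2 one_ne_zero (by simpa [e, hy] using (h9 (g y)).symm))
    (by simp [h9, h8]) (((mem hG (ψ := χ) (w := (c 1)⁻¹ • a) (by simp [h8])).cj hg).congr (by simp [h9])) k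
  simpa [smul_smul, div_eq_mul_inv] using this.symm

omit hR in
theorem main (hr : (finrank F K).Prime) (hl : finrank F K < finrank K V) (hg : g ∈ G) (hn : ¬ Nm K g) :
    slSub F V ≤ G := by
  haveI := Module.finite_of_finite F (M := K)
  have hd : 3 ≤ finrank K V := hr.two_le.trans_lt hl
  refine sl_le hd hG ((dens hr (mul_mem_lev hd hG)).resolve_right fun hR => hn ?_)
  obtain ⟨v, hv, -⟩ := exists_ker_two hd (0 : Dual K V) 0
  obtain ⟨ψ, h1, h2⟩ := exists_ker (F := K) (U := Fin (finrank F K) → K) (by simpa using hl)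
    (LinearMap.pi fun i => Dual.eval K V (g (finBasis F K i • v)))
  exact inc hd hG hR hg hv h1 (LinearMap.congr_fun ((finBasis F K).ext fun i => congrFun h2 i :
    ψ.restrictScalars F ∘ₗ g.toLinearMap ∘ₗ j F K v = 0))

end CfsgH9.FX

open Module Matrix CfsgH5 CfsgH5.Form Cfsg Cfsg.Geo in
theorem CfsgH9.FX.isMaximalIn_ext {F : Type*} [Field F] [Fintype F] {ι : Type} [Fintype ι] [DecidableEq ι] {r : ℕ}
    (hr : r.Prime) (hn : r * r < Fintype.card ι) {A : Subalgebra F (Matrix ι ι F)} (hA : IsFieldSubalgebra r A) :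
    IsMaximalIn (specialLinear ι F) (subalgebraNormalizer A ⊓ specialLinear ι F) := by
  haveI : Nonempty ι := Fintype.card_pos_iff.1 (by omega)
  obtain ⟨K, _, _, _, ψ, rfl, rfl⟩ := exists_field hA
  letI : Module K (ι → F) := Module.compHom _ ((toLinAlgEquiv' : Matrix ι ι F ≃ₐ[F] _).toAlgHom.comp ψ).toRingHom
  have hs : ∀ (c : K) (v : ι → F), c • v = ψ c *ᵥ v := fun _ _ => rfl
  haveI : IsScalarTower F K (ι → F) := ⟨fun a c v => by simp [hs, smul_mulVec]⟩
  haveI : FiniteDimensional K (ι → F) := Module.Finite.of_finite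
  have hl : finrank F K < finrank K (ι → F) :=
    lt_of_mul_lt_mul_left (a := finrank F K) (by simpa [finrank_mul_finrank] using hn) (Nat.zero_le _)
  refine isMaximalIn_gl specialLinear_eq (Nm K) (fun g => ⟨fun hg c => ?_, fun hg k => ?_⟩)
    (not_nm hr.two_le (hr.two_le.trans_lt hl)) fun H a _ g hg hn => main a hr hl hg hn
  · obtain ⟨d, e⟩ := (inv_mem hg (ψ c)).1 ⟨c, rfl⟩
    exact ⟨d, fun v => by simp [hs, show ψ d = _ from e, ← mul_assoc]⟩
  · choose f hf using hg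
    have h5 : ∀ c, g.1 * ψ (f c) * g⁻¹.1 = ψ c := fun c => by
      rw [Units.mul_inv_eq_iff_eq_mul]
      exact Matrix.ext_iff_mulVec.2 fun v => by simpa [hs] using (hf c v).symm
    refine ⟨fun ⟨c, e⟩ => ?_, fun ⟨c, e⟩ => ⟨f c, ?_⟩⟩
    · obtain ⟨c, rfl⟩ := Finite.injective_iff_surjective.1 (fun a b e => ψ.toRingHom.injective
        ((h5 a).symm.trans (e ▸ h5 b)) : Function.Injective f) c
      exact ⟨c, e ▸ (h5 c).symm⟩
    · exact (cjA g).injective ((h5 c).trans e)
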