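import Cfsg.Agent.H9.TX2
import Cfsg.Agent.H5.As5

/-! The concrete tensor decomposition. -/

set_option autoImplicit false

namespace CfsgH9.TX
open Module CfsgH5 Matrix Cfsg Cfsg.Geo

variable {F : Type*} [Field F] {ι : Type} [Fintype ι] [DecidableEq ι] {a b : ℕ} (e : ι ≃ Fin a × Fin b) (P : GL ι F)

/-- pure tensors in a frame -/
noncomputable def jT : (Fin b → F) →ₗ[F] (Fin a → F) →ₗ[F] (ι → F) :=
  (LinearMap.mk₂ F (fun w u => tv u w) (fun _ _ _ => tv_add_right ..) (fun _ _ _ => tv_smul_right ..)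
    (fun _ _ _ => tv_add_left ..) fun _ _ _ => tv_smul_left ..).compr₂ (frL e P).toLinearMap

/-- contractions in a frame -/
noncomputable def xT : Dual F (Fin b → F) →ₗ[F] (ι → F) →ₗ[F] (Fin a → F) :=
  LinearMap.mk₂ F (fun ψ m i => ψ fun k => (frL e P).symm m (i, k)) (fun _ _ _ => rfl) (fun _ _ _ => rfl)
    (fun ψ _ _ => funext fun _ => by rw [map_add]; exact ψ.map_add _ _)
    fun _ ψ _ => funext fun _ => by rw [map_smul]; exact ψ.map_smul _ _

theorem jT_apply (w : Fin b → F) (u : Fin a → F) : jT e P w u = frV e P (tv u w) := frL_apply ..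

theorem xT_jT (ψ : Dual F (Fin b → F)) (w : Fin b → F) (u : Fin a → F) : xT e P ψ (jT e P w u) = ψ w • u := by
  funext i
  change ψ (fun k => (frL e P).symm (frL e P (tv u w)) (i, k)) = _
  rw [LinearEquiv.symm_apply_apply]
  exact (ψ.map_smul (u i) w).trans (mul_comm _ _)

theorem jT_ind {S : Submodule F (ι → F)} (h : ∀ w u, jT e P w u ∈ S) (v : ι → F) : v ∈ S := by
  obtain ⟨y, rfl⟩ := (frL e P).surjective v
  rw [pi_eq_sum_univ' y, map_sum]
  refine sum_mem fun p _ => ?_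
  rw [map_smul]
  refine S.smul_mem _ ?_
  convert h (Pi.single p.2 1) (Pi.single p.1 1)
  rw [jT_apply, tv_single, frL_apply]

theorem ts (h1 : 2 ≤ a) (h2 : a < b) : TS (jT e P) (xT e P) := ⟨xT_jT e P, jT_ind e P, by simpa, by simpa⟩

theorem mem_iff (g : GL ι F) : g ∈ tensorProductSubgroup a b e P ↔ Rat (jT e P) (glEquiv ι F g) := by
  have key : ∀ (c : GL (Fin a) F) (B : GL (Fin b) F) w u, glEquiv ι F (frG e P (kG c B)) (jT e P w u) =
      jT e P (glEquiv _ F B w) (glEquiv _ F c u) := fun c B w u => by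
    rw [glEquiv_apply, frG_coe, jT_apply, fr_mulVec, jT_apply]
    exact congrArg _ (kron_mulVec_tv ..)
  rw [mem_tensorProductSubgroup]
  refine ⟨fun ⟨c, B, h⟩ => ⟨_, _, h ▸ key c B⟩, fun ⟨c, B, h⟩ => ?_⟩
  obtain ⟨c, rfl⟩ := (glEquiv _ F).surjective c
  obtain ⟨B, rfl⟩ := (glEquiv _ F).surjective B
  exact ⟨c, B, (glEquiv ι F).injective (LinearEquiv.ext (jT_ind e P
    (S := LinearMap.eqLocus (glEquiv ι F g).toLinearMap (glEquiv ι F (frG e P (kG c B))).toLinearMap)
    fun w u => (h w u).trans (key c B w u).symm))⟩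

end CfsgH9.TX
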