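import Cfsg.Agent.H9.FX1
import Cfsg.Agent.H9.TX3
import Cfsg.Agent.H9.MX4

/-! Maximal geometric subgroups of `SL_n(q)` for `n ≥ 12`. -/

set_option autoImplicit false

namespace CfsgH9.FX
open Module CfsgH5 CfsgH9.MX CfsgH9.TX Cfsg Cfsg.Geo

variable {F : Type*} [Field F] [Fintype F] {n : ℕ}

theorem max_dec {t m : ℕ} {D : Fin t → Submodule F (Fin n → F)} (hD : IsMDecomposition m D)
    (h1 : m = 1 → 5 ≤ Fintype.card F ∧ 12 ≤ t) (h2 : m = 2 → 3 ≤ Fintype.card F ∧ 3 ≤ t) :
    IsMaximalIn (specialLinear (Fin n) F) (decompositionStabilizer D ⊓ specialLinear (Fin n) F) := by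
  obtain ⟨p, p1, p2, p3⟩ := exists_proj hD.indep hD.iSup_eq_top
  have ht := hD.two_le
  have hm := hD.pos
  have hd : ∀ {N}, (∀ g ∈ slSub F (Fin n → F), g ∈ dstab D → g ∈ N) → DG D p m N := fun h =>
    ⟨hD.indep, hD.iSup_eq_top, hD.finrank_eq, hm, p1, p2, p3, fun g h1 h2 => h g h2 h1⟩
  refine isMaximalIn_gl specialLinear_eq (· ∈ dstab D) mem_decompositionStabilizer_iff
    ((hd (N := ⊤) fun _ _ _ => trivial).not_mem (i := ⟨0, by omega⟩) (j := ⟨1, by omega⟩) (by simp))
    fun N h3 _ g hg hn => ?_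
  by_cases h4 : m = 1
  · exact (hd h3).mono' h4 (h1 h4).1 (by simpa using (h1 h4).2) hg hn
  refine (hd h3).two (by omega) (fun h5 => ⟨by simpa using (h2 h5).2, ?_⟩) hg hn
  obtain ⟨c, h6, h7⟩ := gen_of_card_ne_two (F := F) (by have := (h2 h5).1; omega)
  exact ⟨.mk0 c h6, sub_ne_zero.2 h7⟩

theorem max_tensor {a b : ℕ} (h1 : 2 ≤ a) (h2 : a < b) (h3 : a = 2 → 3 ≤ Fintype.card F) (e : Fin n ≃ Fin a × Fin b)
    (P : GL (Fin n) F) : IsMaximalIn (specialLinear (Fin n) F) (tensorProductSubgroup a b e P ⊓ specialLinear (Fin n) F) := by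
  have h := ts e P h1 h2
  refine isMaximalIn_gl specialLinear_eq (Rat (jT e P)) (mem_iff e P) h.not_rat fun N h3' _ g hg hn =>
    h.main h3' ?_ hg hn
  by_cases h4 : a = 2
  · exact .inr (gen_of_card_ne_two (by have := h3 h4; omega))
  · exact .inl (by simp; omega)

theorem max_sub (W : Submodule F (Fin n → F)) (hW0 : W ≠ ⊥) (hW1 : W ≠ ⊤) :
    IsMaximalIn (specialLinear (Fin n) F) (subspaceStabilizer W ⊓ specialLinear (Fin n) F) := by
  rw [specialLinear_eq, subspaceStabilizer_eq, ← Subgroup.comap_inf]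
  exact isMaximalIn_comap _ (isMaximalIn_of inf_le_right (fun h => sl_not_le_stab hW0 hW1 (h.trans inf_le_left))
    fun N h1 h2 g hg hn => sl_le_of_parabolic h1 hg fun hh => hn ⟨hh, h2 hg⟩)

theorem max_quad (hn : 9 ≤ n) (hodd : Odd (Fintype.card F)) (Q : (Fin n → F) → F) (hQ : IsNondegenerateQuadraticForm Q) :
    IsMaximalIn (specialLinear (Fin n) F) (quadSimilarityGroup Q ⊓ specialLinear (Fin n) F) := by
  have h2 := two_ne_zero_of_odd hodd
  refine isMaximalIn_sim (Form.good_orth (geoForm_nondeg hQ) (by simp; omega)) (by simp; omega)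
    fun g => exists_congr fun c => ⟨fun h u v => ?_, fun h v => ?_⟩
  · rw [← polar_eq_B (geoForm_Q hQ)]
    simp only [QuadraticMap.polar, ← Matrix.mulVec_add, h]
    ring
  · have := h v v
    rw [Form.orth_self, Form.orth_self, geoForm_Q, geoForm_Q] at this
    exact mul_left_cancel₀ h2 (by linear_combination this)

theorem max_symp (hn : 9 ≤ n) (f : (Fin n → F) → (Fin n → F) → F) (hf : IsSymplecticForm f) :
    IsMaximalIn (specialLinear (Fin n) F) (similarityGroup f ⊓ specialLinear (Fin n) F) := by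
  let S := Form.ofAlt f hf.bilinear.add_left hf.bilinear.smul_left (fun x y => hf.skew y x)
    hf.alternating
  have hS : S.Nondeg := fun x hx => by
    by_contra h
    obtain ⟨y, hy⟩ := (hf.nondegenerate x h).1
    exact hy (hx y)
  exact isMaximalIn_sim (Form.good_sp hS) (by simp; omega) fun _ => Iff.rfl

theorem max_unit (hn : 9 ≤ n) (σ : F ≃+* F) (f : (Fin n → F) → (Fin n → F) → F) (hf : IsUnitaryForm σ f) :
    IsMaximalIn (specialLinear (Fin n) F) (similarityGroup f ⊓ specialLinear (Fin n) F) := by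
  have hne : ∃ a, (σ : F →+* F) a ≠ a := by
    by_contra h
    push Not at h
    exact hf.ne_refl (RingEquiv.ext h)
  let S := Form.ofHerm (σ : F →+* F) hf.involutive hne f hf.add_left hf.smul_left
    (fun x y => hf.herm y x)
  have hS : S.Nondeg := fun x hx => by
    by_contra h
    obtain ⟨y, hy⟩ := (hf.nondegenerate x h).1
    exact hy (hx y)
  exact isMaximalIn_sim (Form.good_unit hne hS (by simp; omega)) (by simp; omega) fun _ => Iff.rfl

end CfsgH9.FX
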