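import Cfsg.Agent.H9.FX1

/-! Overgroups of field extension subgroups: images of lines with maximal intersection. -/

set_option autoImplicit false

namespace CfsgH9.FX
open Module CfsgH5 CfsgH5.Form CfsgH9.TX

variable {F K V : Type*} [Field F] [Field K] [Algebra F K] [AddCommGroup V] [Module F V] [Module K V]
  [IsScalarTower F K V] [FiniteDimensional F V] [FiniteDimensional K V] [Finite F] [Finite K]
  {G : Subgroup (V ≃ₗ[F] V)} {g : V ≃ₗ[F] V} {ψ χ : Dual K V} {v w : V}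

omit [Algebra F K] [IsScalarTower F K V] [FiniteDimensional F V] [Finite F] in
theorem nm_of_lines (hd : 2 ≤ finrank K V) (H : ∀ v (k : K), ∃ k' : K, g (k • v) = k' • g v) : Nm K g := by
  choose α hα using H
  have h1 : ∀ {v}, v ≠ 0 → Function.Surjective (α v) := fun {v} hv => Finite.injective_iff_surjective.1 fun a b e =>
    smul_left_injective K hv (g.injective (by simp only [hα, e]))
  have h2 : ∀ {v u}, v ≠ 0 → u ∉ Submodule.span K {v} → ∀ k, α v k = α u k := fun {v u} hv hu k => by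
    obtain ⟨φ, a, b⟩ := exists_dual_pair (F := K) (x := g u) (y := g v) fun e => by
      obtain ⟨c, e⟩ := Submodule.mem_span_singleton.1 e
      obtain ⟨k, rfl⟩ := h1 hv c
      exact hu (Submodule.mem_span_singleton.2 ⟨k, g.injective ((hα v k).trans e)⟩)
    have e := hα (v + u) k
    rw [smul_add, map_add, map_add, hα, hα, smul_add] at e
    have e1 : α u k = α (v + u) k := by simpa [a, b] using congrArg φ e
    rw [e1, add_left_inj] at e
    exact (smul_left_injective K (g.map_ne_zero_iff.2 hv) e).trans e1.symm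
  haveI := Module.nontrivial_of_finrank_pos (R := K) (M := V) (by omega)
  obtain ⟨v₀, h0⟩ := exists_ne (0 : V)
  obtain ⟨u, hu⟩ := exists_notMem_of_finrank_lt (H := Submodule.span K {v₀}) ((finrank_span_single_le _).trans_lt hd)
  intro c
  obtain ⟨k, rfl⟩ := h1 h0 c
  refine ⟨k, fun v => ?_⟩
  by_cases hv : v = 0
  · simp [hv]
  rw [hα]
  congr 1
  by_cases e : v ∈ Submodule.span K {v₀}
  · exact (h2 h0 hu k).trans (h2 hv (fun e' => hu ((Submodule.span_singleton_le_iff_mem _ _).2 e e')) k).symm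
  · exact h2 h0 e k

/-- the part of a line mapped into the line -/
def A (K : Type*) [Field K] [Algebra F K] [Module K V] [IsScalarTower F K V] (w : V) (g : V ≃ₗ[F] V) : Submodule F K :=
  ((Submodule.span K {w}).restrictScalars F).comap (g.toLinearMap ∘ₗ j F K w)

omit [FiniteDimensional F V] [FiniteDimensional K V] [Finite F] [Finite K] in
theorem mem_A {k : K} : k ∈ A K w g ↔ ∃ c : K, c • w = g (k • w) := Submodule.mem_span_singleton

omit [FiniteDimensional F V] [FiniteDimensional K V] in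
theorem A_le (hw : w ≠ 0) (g : V ≃ₗ[F] V) : finrank F (A K w g) ≤ finrank F (A K w g⁻¹) := by
  haveI := Module.finite_of_finite F (M := K)
  obtain ⟨χ, h1⟩ := exists_dual_one (F := K) hw
  have h2 : ∀ k ∈ A K w g, (χ.restrictScalars F ∘ₗ g.toLinearMap ∘ₗ j F K w) k ∈ A K w g⁻¹ := fun k hk => by
    obtain ⟨c, e⟩ := mem_A.1 hk
    exact mem_A.2 ⟨k, by simp [← e, h1, g.eq_symm_apply]⟩
  refine LinearMap.finrank_le_finrank_of_injective (f := LinearMap.restrict _ h2)
    ((injective_iff_map_eq_zero _).2 fun k e => ?_)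
  obtain ⟨c, e'⟩ := mem_A.1 k.2
  have : c = 0 := by simpa [← e', h1] using congrArg Subtype.val e
  simpa [this, hw] using e'.symm

/-- an image of the line with maximal proper intersection -/
structure Mx (K : Type*) [Field K] [Algebra F K] [Module K V] [IsScalarTower F K V] (w : V)
    (G : Subgroup (V ≃ₗ[F] V)) (g : V ≃ₗ[F] V) : Prop where
  ne : w ≠ 0
  mem : g ∈ G
  top : A K w g ≠ ⊤
  bot : A K w g ≠ ⊥
  max : ∀ g' ∈ G, A K w g' ≠ ⊤ → finrank F (A K w g') ≤ finrank F (A K w g)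

omit [FiniteDimensional F V] [FiniteDimensional K V] in
theorem Mx.inv (h : Mx K w G g) : Mx K w G g⁻¹ := by
  haveI := Module.finite_of_finite F (M := K)
  have h1 := A_le (K := K) h.ne g
  have h2 := A_le (K := K) h.ne g⁻¹
  rw [inv_inv] at h2
  exact ⟨h.ne, inv_mem h.mem, fun e => h.top (Submodule.eq_top_of_finrank_eq (le_antisymm (Submodule.finrank_le _)
    (by rwa [e, finrank_top] at h2))), fun e => h.bot (Submodule.finrank_eq_zero.1 (by rwa [e, finrank_bot, Nat.le_zero] at h1)),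
    fun g' a b => (h.max g' a b).trans h1⟩

variable (hG : ∀ g ∈ slSub F V, Nm K g → g ∈ G)
include hG

omit [FiniteDimensional F V] [FiniteDimensional K V] [Finite F] [Finite K] in
theorem res_mem {s : V ≃ₗ[K] V} (h : Algebra.norm F (LinearMap.det (s : V →ₗ[K] V)) = 1) : QE.res F K V s ∈ G :=
  hG _ (mem_slSub.2 (LinearMap.det_restrictScalars.trans h)) fun c => ⟨c, fun v => (s.map_smul c v).symm⟩

omit [FiniteDimensional F V] [Finite F] [Finite K] in
theorem exists_move (hd : 2 ≤ finrank K V) (hv : v ≠ 0) (hw : w ≠ 0) : ∃ s : V ≃ₗ[K] V, QE.res F K V s ∈ G ∧ s v = w :=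
  let ⟨s, h1, h2⟩ := exists_sl_map_fam (F := K) (a := fun _ : Unit => v) (b := fun _ => w)
    (LinearIndependent.of_subsingleton () hv) (LinearIndependent.of_subsingleton () hw) (by simp; omega)
  ⟨s, res_mem hG (by rw [mem_slSub.1 h1, map_one]), h2 ()⟩

theorem exists_mx (hd : 2 ≤ finrank K V) (hw : w ≠ 0) (hg : g ∈ G) (hn : ¬ Nm K g) : ∃ g, Mx K w G g := by
  haveI := Module.finite_of_finite F (M := V)
  haveI := Module.finite_of_finite F (M := K)
  haveI : Finite (V ≃ₗ[F] V) := Finite.of_injective _ DFunLike.coe_injective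
  obtain ⟨v, k, h1⟩ : ∃ (v : V) (k : K), ∀ k' : K, g (k • v) ≠ k' • g v := by
    by_contra! e; exact hn (nm_of_lines hd e)
  have hv : v ≠ 0 := fun e => h1 0 (by simp [e])
  obtain ⟨s, a1, a2⟩ := exists_move hG hd hw hv
  obtain ⟨t, b1, b2⟩ := exists_move hG hd (g.map_ne_zero_iff.2 hv) hw
  have h2 : A K w (QE.res F K V t * g * QE.res F K V s) ≠ ⊤ := fun e =>
    let ⟨c, e⟩ := mem_A.1 (e.ge trivial : k ∈ _)
    h1 c (t.injective (by simpa [a2, b2] using e.symm))
  obtain ⟨x, ⟨c1, c2⟩, c3⟩ := Set.exists_max_image {g | g ∈ G ∧ A K w g ≠ ⊤} (fun g => finrank F (A K w g))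
    (Set.toFinite _) ⟨_, mul_mem (mul_mem b1 hg) a1, h2⟩
  refine ⟨x, hw, c1, c2, fun e => ?_, fun g a b => c3 g ⟨a, b⟩⟩
  have := c3 _ ⟨mul_mem (mul_mem b1 hg) a1, h2⟩
  rw [e, finrank_bot, Nat.le_zero, Submodule.finrank_eq_zero] at this
  simpa using this.le (mem_A.2 ⟨1, by simp [a2, b2]⟩ : (1 : K) ∈ _)

omit [FiniteDimensional K V] in
theorem Mx.step (h : Mx K w G g) (h0 : ψ w = 0) {k₀ : K} (h1 : k₀ ∉ A K w g) (h2 : ψ (g (k₀ • w)) ∈ A K w g⁻¹) (k : K) :
    ψ (g (k • w)) ∈ A K w g⁻¹ := by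
  haveI := Module.finite_of_finite F (M := K)
  obtain ⟨-, a, a1, a2⟩ := FX.mem hG h0
  have key : ∀ k, k ∈ A K w (g⁻¹ * a * g) ↔ ψ (g (k • w)) ∈ A K w g⁻¹ := fun k => by
    simp only [mem_A, LinearEquiv.mul_apply, a2, map_add, LinearEquiv.coe_inv, LinearEquiv.symm_apply_apply]
    exact ⟨fun ⟨c, e⟩ => ⟨c - k, by rw [sub_smul, e]; simp⟩, fun ⟨c, e⟩ => ⟨k + c, by rw [add_smul, e]; simp⟩⟩
  suffices e : A K w (g⁻¹ * a * g) = ⊤ from (key k).1 (e.ge trivial)
  by_contra e
  have h3 := h.max _ (mul_mem (mul_mem (inv_mem h.mem) a1) h.mem) e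
  have h4 := Submodule.finrank_mono (sup_le (a := A K w g) (fun k hk => (key k).2 (by
    obtain ⟨c, e⟩ := mem_A.1 hk
    simp [← e, h0])) ((Submodule.span_singleton_le_iff_mem _ _).2 ((key k₀).2 h2)))
  rw [finrank_sup_span_eq h1] at h4
  omega

theorem Mx.plane (h : Mx K w G g) (hr : (finrank F K).Prime) :
    ∃ k₀ : K, g (k₀ • w) ∉ Submodule.span K {w} ∧ ∀ k : K, ∃ (α : K) (c : F), g (k • w) = α • w + c • g (k₀ • w) := by
  obtain ⟨k₀, h1⟩ : ∃ k, k ∉ A K w g := by by_contra! e; exact h.top (eq_top_iff.2 fun k _ => e k)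
  obtain ⟨d, h2⟩ : ∃ k, k ∉ A K w g⁻¹ := by by_contra! e; exact h.inv.top (eq_top_iff.2 fun k _ => e k)
  obtain ⟨y, h3, h4⟩ := Submodule.exists_mem_ne_zero_of_ne_bot h.inv.bot
  refine ⟨k₀, h1, fun k => ?_⟩
  obtain ⟨α, β, e⟩ : ∃ α β : K, α • w + β • g (k₀ • w) = g (k • w) := Submodule.mem_span_pair.1 (by_contra fun e => by
    obtain ⟨ψ, a, b⟩ := exists_dual_sep _ e
    have b1 := b w (Submodule.subset_span (by simp))
    have b2 := b (g (k₀ • w)) (Submodule.subset_span (by simp))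
    exact h2 (by simpa [a] using h.step hG (ψ := d • ψ) (by simp [b1]) h1 (by simp [b2]) k))
  let C : Subalgebra F K :=
    { carrier := {c | ∀ k ∈ A K w g⁻¹, c * k ∈ A K w g⁻¹}
      mul_mem' := fun a b k h => by rw [mul_assoc]; exact a _ (b k h)
      add_mem' := fun a b k h => by rw [add_mul]; exact add_mem (a k h) (b k h)
      algebraMap_mem' := fun a k h => by rw [← Algebra.smul_def]; exact Submodule.smul_mem _ _ h }
  haveI := Subalgebra.isSimpleOrder_of_finrank_prime F K hr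
  obtain ⟨χ, a, b⟩ := exists_dual_pair (F := K) (x := g (k₀ • w)) (y := w) h1
  obtain ⟨c, rfl⟩ := Algebra.mem_bot.1 (((eq_bot_or_eq_top C).resolve_right fun hC => h2 (by
    simpa [h4] using (hC.ge trivial : d / y ∈ C) y h3)).le (fun k' hk => by
      simpa [← e, a, b, mul_comm] using h.step hG (ψ := k' • χ) (by simp [b]) h1 (by simpa [a]) k : β ∈ C))
  exact ⟨α, c, by simp [← e]⟩

theorem main3 (hr : (finrank F K).Prime) (hd : 3 ≤ finrank K V) (hg : g ∈ G) (hn : ¬ Nm K g) : slSub F V ≤ G := by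
  refine sl_le hd hG ((dens hr (mul_mem_lev hd hG)).resolve_right fun hR => ?_)
  obtain ⟨w, hw, -⟩ := exists_ker_two hd (0 : Dual K V) 0
  obtain ⟨x, h⟩ := exists_mx hG (by omega) hw hg hn
  obtain ⟨k₀, h1, h2⟩ := h.plane hG hr
  obtain ⟨ψ, h3, h4, h5⟩ := exists_ker_two (d3' hd) (Dual.eval K V w) (Dual.eval K V (x (k₀ • w)))
  have h6 := inc hd hG hR h.mem hw h3 fun k => by
    obtain ⟨α, c, e⟩ := h2 k
    simp [e, show ψ w = 0 from h4, show ψ (x (k₀ • w)) = 0 from h5]
  obtain ⟨y, h7, h8⟩ := Submodule.exists_mem_ne_zero_of_ne_bot h.bot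
  obtain ⟨c, e⟩ := mem_A.1 h7
  choose f hf using h6
  obtain ⟨d, h9⟩ := Finite.injective_iff_surjective.1 (fun a b e => smul_left_injective K (x.map_ne_zero_iff.2 hw)
    ((hf a w).trans (e ▸ (hf b w).symm)) : Function.Injective f) (k₀ / y)
  exact h1 (Submodule.mem_span_singleton.2 ⟨d * c, by rw [mul_smul, e, hf, smul_smul, h9, div_mul_cancel₀ _ h8]⟩)

end CfsgH9.FX
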