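import Cfsg.Agent.H9.FX3

/-! Overgroups of field extension subgroups: the two-dimensional case. -/

set_option autoImplicit false

namespace CfsgH9.FX
open Module CfsgH5 CfsgH5.Form CfsgH9.TX

variable {F K V : Type*} [Field F] [Field K] [Algebra F K] [Finite K]

/-- a sub-bimodule containing the multiplications -/
structure BM (L : AddSubgroup (End F K)) : Prop where
  one : 1 ∈ L
  left : ∀ k, ∀ l ∈ L, LinearMap.mul F K k * l ∈ L
  right : ∀ k, ∀ l ∈ L, l * LinearMap.mul F K k ∈ L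

namespace BM
variable {L : AddSubgroup (End F K)} (h : BM L) {φ ψ : Dual F K} {y z : K}
include h

omit h [Finite K] in
theorem cg {a b : End F K} (h : a ∈ L) (e : ∀ v, a v = b v) : b ∈ L := LinearMap.ext e ▸ h

theorem all (h1 : φ ≠ 0) (h2 : y ≠ 0) (h3 : φ.smulRight y ∈ L) (ψ : Dual F K) : ψ.smulRight 1 ∈ L := by
  obtain ⟨a, ha⟩ := trace_rep φ
  obtain ⟨b, hb⟩ := trace_rep ψ
  have : a ≠ 0 := fun e => h1 (LinearMap.ext fun z => by simp [ha, e])
  exact cg (h.left y⁻¹ _ (h.right (b / a) _ h3)) fun v => by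
    simp [ha, hb, h2, ← mul_assoc, mul_div_cancel₀ _ this]

theorem rank_one (h2 : 2 ≤ finrank F K) (hφ : φ ≠ 0) (hy : y ≠ 0)
    (hT : ∀ c : F, ∀ l ∈ L, (1 + c • φ.smulRight y) * l * (1 - c • ψ.smulRight z) ∈ L)
    (H : 3 ≤ finrank F K ∨ (∃ c : F, c ≠ 0 ∧ c ≠ 1) ∨ ∃ ρ ∈ L, ∃ k, ρ k ≠ k * ρ 1) (χ : Dual F K) :
    χ.smulRight 1 ∈ L := by
  haveI := Module.finite_of_finrank_pos (R := F) (M := K) (by omega)
  obtain ⟨a, ha⟩ := exists_apply_one hφ
  by_cases hz : z = 0 ∨ ψ = 0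
  · exact h.all hφ hy (cg (sub_mem (hT 1 1 h.one) h.one) fun v => by rcases hz with e | e <;> simp [e]) χ
  push Not at hz
  have k1 : ∀ ρ ∈ L, ∀ x, ρ x ≠ 0 → ∀ k, k ≠ 0 → ρ k = 0 → χ.smulRight 1 ∈ L := fun ρ h3 x h4 k h5 h6 => by
    have h7 := h.left (a / ρ x) _ (h.right (k / z) _ h3)
    refine h.all (φ := φ ∘ₗ (LinearMap.mul F K (a / ρ x) * (ρ * LinearMap.mul F K (k / z)))) (fun e => ?_) hy
      (cg (sub_mem (hT 1 _ h7) h7) fun v => by simp [mul_sub, hz.1, h6]) χ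
    have : k / z * (z / k * x) = x := by have := hz.1; field_simp
    simpa [this, h4, ha] using LinearMap.congr_fun e (z / k * x)
  rcases H with H | ⟨c, h3, h4⟩ | ⟨ρ, h3, k, h4⟩
  · obtain ⟨x, h3, h4⟩ := exists_ker (F := F) (U := F) (W := K) (by simp; omega) ψ
    have h5 := h.left (a / x) _ h.one
    obtain ⟨u, h6⟩ := exists_notMem_of_finrank_lt (H := Submodule.span F {y, a / x * z})
      ((finrank_span_pair_le _ _).trans_lt H)
    have h7 := sub_mem (hT 1 _ h5) h5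
    by_contra hn
    obtain ⟨v, rfl⟩ := LinearMap.injective_iff_surjective.1 ((injective_iff_map_eq_zero _).2 fun k h8 =>
      by_contra fun h9 => hn (k1 _ h7 x (by simp [h3, h4, ha, hy]) k h9 h8)) u
    exact h6 (Submodule.mem_span_pair.2 ⟨φ (a / x * v) - ψ v * φ (a / x * z), -ψ v, by simp [mul_sub]; module⟩)
  · have h5 := h.left (a / z) _ h.one
    refine h.all (y := (c * (c - 1)) • y) hz.2 (by simp [h3, hy, sub_eq_zero, h4]) (cg (sub_mem (h.left (algebraMap F K c) _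
      (sub_mem (hT 1 _ h5) h5)) (sub_mem (hT c _ h5) h5)) fun v => ?_) χ
    simp [mul_sub, hz.1, ha, ← Algebra.smul_def]
    module
  · exact k1 _ (sub_mem h3 (h.left (ρ 1) _ h.one)) k (by simpa [sub_eq_zero, mul_comm] using h4) 1 one_ne_zero (by simp)

end BM

variable [AddCommGroup V] [Module F V] [Module K V] [IsScalarTower F K V] [FiniteDimensional F V]
  [FiniteDimensional K V] [Finite F] {G : Subgroup (V ≃ₗ[F] V)} {g b : V ≃ₗ[F] V} {ψ χ : Dual K V} {v w w' : V}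

/-- the level of a flag -/
def Lv (G : Subgroup (V ≃ₗ[F] V)) (h0 : χ w = 0) : AddSubgroup (End F K) where
  carrier := {l | E G (bk w l χ)}
  add_mem' a b := (a.add b (by simp [h0]) (by simp [h0])).congr (by simp [add_smul])
  zero_mem' := E.zero.congr (by simp)
  neg_mem' a := a.neg.congr (by simp)

omit [Finite K] [FiniteDimensional F V] [FiniteDimensional K V] [Finite F] in
theorem cjL {h0 : χ w = 0} (hb : b ∈ G) {t d l : End F K} (h1 : ∀ k : K, b (k • w) = t k • w)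
    (h2 : ∀ v, χ v = d (χ (b v))) (hl : l ∈ Lv G h0) : t * l * d ∈ Lv G h0 :=
  (E.cj hl hb).congr fun v => by simp [h1, h2 (b.symm v)]

omit [Finite K] [FiniteDimensional F V] [Finite F] [Algebra F K] [Module F V] [IsScalarTower F K V] in
theorem ker_eq (hd : finrank K V = 2) (hχ : χ ≠ 0) (hw : w ≠ 0) (h0 : χ w = 0) (h : χ v = 0) : ∃ c : K, c • w = v :=
  Submodule.mem_span_singleton.1 ((Submodule.eq_of_le_of_finrank_eq ((Submodule.span_singleton_le_iff_mem _ _).2 h0)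
    (by have := finrank_ker_dual hχ; rw [finrank_span_singleton hw]; omega) : _ = LinearMap.ker χ).ge h)

variable (hG : ∀ g ∈ slSub F V, Nm K g → g ∈ G)
include hG

theorem bm (hr : (finrank F K).Prime) (hw : w ≠ 0) (h0 : χ w = 0) (h1 : χ w' = 1) : BM (Lv G h0) := by
  obtain ⟨θ, h2⟩ := exists_dual_one (F := K) hw
  have key : ∀ u u' : K, u ≠ 0 → u' ≠ 0 → Algebra.norm F u = Algebra.norm F u' → ∀ l ∈ Lv G h0,
      LinearMap.mul F K u * l * LinearMap.mul F K u' ∈ Lv G h0 := fun u u' a a' e l hl => by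
    have e1 : 1 + θ ((u - 1) • w) = u := by simp [h2]
    have e2 : 1 + χ ((u'⁻¹ - 1) • w') = u'⁻¹ := by simp [h1]
    refine cjL (res_mem hG (s := dl θ _ (e1.symm ▸ a) * dl χ _ (e2.symm ▸ inv_ne_zero a')) ?_)
      (fun k => ?_) (fun v => ?_) hl
    · rw [det_mul', det_dl, det_dl, e1, e2, map_mul, e, ← map_mul, mul_inv_cancel₀ a', map_one]
    · simp [dl_apply, h0, h2]; module
    · simp [dl_apply, h0, h1]; field_simp; ring
  let C : Subring K :=
    { carrier := {k | ∀ l ∈ Lv G h0, LinearMap.mul F K k * l ∈ Lv G h0 ∧ l * LinearMap.mul F K k ∈ Lv G h0}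
      mul_mem' := fun a b l hl => ⟨BM.cg (a _ (b l hl).1).1 (by simp [mul_assoc]), BM.cg (b _ (a l hl).2).2 (by simp [mul_assoc])⟩
      one_mem' := fun l hl => ⟨BM.cg hl (by simp), BM.cg hl (by simp)⟩
      add_mem' := fun a b l hl => by
        rw [map_add, add_mul, mul_add]; exact ⟨add_mem (a l hl).1 (b l hl).1, add_mem (a l hl).2 (b l hl).2⟩
      zero_mem' := fun l _ => by simp
      neg_mem' := fun a l hl => ⟨BM.cg (neg_mem (a l hl).1) (by simp), BM.cg (neg_mem (a l hl).2) (by simp)⟩ }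
  have c1 : ∀ a : F, algebraMap F K (a ^ 2) ∈ C := fun a l hl => by
    by_cases e : a = 0
    · simp [e]
    have := key (algebraMap F K a) (algebraMap F K a) (by simpa) (by simpa) rfl l hl
    exact ⟨BM.cg this (by simp [← Algebra.smul_def, sq, mul_smul]), BM.cg this (by simp [← Algebra.smul_def, sq, mul_smul])⟩
  have c2 : ∀ a : F, algebraMap F K a ∈ C := fun a => by
    by_cases e : (2 : F) = 0
    · obtain ⟨b, rfl⟩ := Finite.injective_iff_surjective.1 (fun x y e' => sub_eq_zero.1 (pow_eq_zero_iff (n := 2) two_ne_zero |>.1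
        (by linear_combination e' + (y ^ 2 - x * y) * e)) : Function.Injective fun a : F => a ^ 2) a
      exact c1 b
    · rw [show a = ((a + 1) / 2) ^ 2 - ((a - 1) / 2) ^ 2 by field_simp; ring, map_sub]
      exact sub_mem (c1 _) (c1 _)
  haveI := Subalgebra.isSimpleOrder_of_finrank_prime F K hr
  haveI := Fintype.ofFinite F
  haveI := Fintype.ofFinite K
  haveI := Module.finite_of_finite F (M := K)
  have c3 := (eq_bot_or_eq_top (⟨C.toSubsemiring, c2⟩ : Subalgebra F K)).resolve_left fun e => by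
    have h3 := (FiniteField.forall_pow_eq_one_iff K ((Fintype.card F - 1) * (Fintype.card F - 1))).1 fun x => by
      have h4 : Algebra.norm F (x.1 ^ (Fintype.card F - 1)) = Algebra.norm F (1 : K) := by
        rw [map_pow, map_one, FiniteField.pow_card_sub_one_eq_one _ (Algebra.norm_ne_zero_iff.2 x.ne_zero)]
      obtain ⟨a, ha⟩ := Algebra.mem_bot.1 (e.le (fun l hl => ⟨BM.cg (key _ 1 (by simp) one_ne_zero h4 l hl) (by simp),
        BM.cg (key 1 _ one_ne_zero (by simp) h4.symm l hl) (by simp)⟩ : x.1 ^ (Fintype.card F - 1) ∈ C))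
      refine Units.ext ?_
      rw [Units.val_pow_eq_pow_val, pow_mul, ← ha, ← map_pow, FiniteField.pow_card_sub_one_eq_one _ (by
        rintro rfl; exact pow_ne_zero _ x.ne_zero (ha.symm.trans (map_zero _))), map_one, Units.val_one]
    have h4 := Fintype.one_lt_card (α := F)
    have h5 := Nat.le_of_dvd (Nat.mul_pos (by omega) (by omega)) h3
    have h6 := Nat.pow_le_pow_right h4.le hr.two_le
    rw [← Module.card_eq_pow_finrank] at h6
    obtain ⟨q, hq⟩ := Nat.exists_eq_add_of_lt h4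
    rw [hq] at h5 h6
    simp only [show 1 + q + 1 - 1 = q + 1 by omega] at h5
    have : Fintype.card K ≤ (q + 1) * (q + 1) + 1 := by omega
    nlinarith
  exact ⟨mem hG h0, fun k l hl => ((c3.ge trivial : k ∈ C) l hl).1, fun k l hl => ((c3.ge trivial : k ∈ C) l hl).2⟩

theorem sl_le2 (hd : finrank K V = 2) (hw : w ≠ 0) (hχ : χ ≠ 0) (h0 : χ w = 0)
    (H : ∀ φ : Dual F K, φ.smulRight 1 ∈ Lv G h0) : slSub F V ≤ G := by
  have hR : ∀ (φ : Dual F K) (ψ : Dual K V) v, ψ v = 0 → E G (bk v (φ.smulRight 1) ψ) := fun φ ψ v h1 => by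
    by_cases hv : v = 0
    · exact E.zero.congr (by simp [hv])
    obtain ⟨s, h2, rfl⟩ := exists_move hG hd.ge hw hv
    obtain ⟨w', h3⟩ := exists_apply_one hχ
    refine (E.cj (H (φ ∘ₗ LinearMap.mul F K (ψ (s w')))) h2).congr fun y => ?_
    obtain ⟨y, rfl⟩ := (QE.res F K V s).surjective y
    obtain ⟨c, e⟩ := ker_eq hd hχ hw h0 (v := y - χ y • w') (by simp [h3])
    have : ψ (s y) = ψ (s w') * χ y := by rw [eq_sub_iff_add_eq.1 e |>.symm]; simp [h0, h1, h3, mul_comm]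
    simp only [LinearMap.comp_apply, LinearEquiv.coe_coe, LinearEquiv.symm_apply_apply]
    simp [this]
  refine CfsgH5.sl_le fun θ v h0 => ?_
  have h4 : ∀ u, ∃ β : K, ∀ z, θ (z • u) = Algebra.trace F K (β * z) := fun u =>
    trace_rep ⟨⟨fun z => θ (z • u), fun a b => by simp [add_smul]⟩, fun c a => by simp⟩
  choose β hβ using h4
  have ext : ∀ {a b : K}, (∀ z, Algebra.trace F K (a * z) = Algebra.trace F K (b * z)) → a = b := fun e =>
    sub_eq_zero.1 (trace_inj (F := F) fun z => by rw [sub_mul, map_sub, e, sub_self])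
  let ψ : Dual K V := ⟨⟨β, fun a b => ext fun c => by simp [← hβ, add_mul]⟩, fun c a => ext fun d => by
    rw [← hβ, RingHom.id_apply, smul_eq_mul, mul_comm c, mul_assoc, ← hβ, mul_comm c, mul_smul]⟩
  have h1 : ∀ y, Algebra.trace F K (ψ y) = θ y := fun y => by simpa [ψ] using (hβ y 1).symm
  clear_value ψ
  by_cases h7 : ψ v = 0
  · exact ((hR (Algebra.trace F K) ψ v h7).congr (by simp [h1])).tr h0
  obtain ⟨w, h3, h2⟩ := exists_ker (F := K) (U := K) (W := V) (by simp; omega) ψ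
  obtain ⟨χ, h4, h5⟩ := exists_dual_pair (F := K) (x := w) (y := v) fun e => by
    obtain ⟨c, rfl⟩ := Submodule.mem_span_singleton.1 e
    simp_all
  obtain ⟨φ, h6⟩ := exists_dual_one (F := F) (one_ne_zero (α := K))
  exact (((hR φ χ v h5).comm (hR (Algebra.trace F K) ψ w h2) (by simp [h1, h0])).congr (by simp [h1, h4, h6])).tr h0

theorem Mx.line (h : Mx K w G g) (hr : (finrank F K).Prime) (hd : finrank K V = 2) (hχ : χ ≠ 0) (h0 : χ w = 0) :
    ∃ (φ : Dual F K) (z : K), φ ≠ 0 ∧ z ≠ 0 ∧ ∀ k : K, χ (g (k • w)) = φ k • z := by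
  obtain ⟨k₀, h1, h2⟩ := h.plane hG hr
  have h3 : χ (g (k₀ • w)) ≠ 0 := fun e => h1 (Submodule.mem_span_singleton.2 (ker_eq hd hχ h.ne h0 e))
  obtain ⟨φ, h4⟩ := exists_dual_one (F := F) h3
  refine ⟨φ ∘ₗ χ.restrictScalars F ∘ₗ g.toLinearMap ∘ₗ j F K w, _, fun e => ?_, h3, fun k => ?_⟩
  · simpa [h4] using LinearMap.congr_fun e k₀
  · obtain ⟨α, c, e⟩ := h2 k
    simp [e, h0, h4]

omit [Finite K] [FiniteDimensional F V] [Finite F] hG in
theorem exists_lv {x : V ≃ₗ[F] V} (hx : x ∈ G) (hd : finrank K V = 2) (hw : w ≠ 0) (h0 : χ w = 0) (h1 : χ w' ≠ 0)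
    (h2 : ∀ k : K, x (k • w) = k • w) (h3 : ∀ k : K, χ (x (k • w')) = k * χ w') :
    ∃ ρ ∈ Lv G h0, ∀ v, x v = v + ρ (χ v) • w := by
  obtain ⟨θ, h4⟩ := exists_dual_one (F := K) hw
  have hχ : χ ≠ 0 := fun e => by simp [e] at h1
  have e : ∀ k : K, x (k • w') = k • w' + θ (x (k • w') - k • w') • w := fun k => by
    obtain ⟨c, e⟩ := ker_eq hd hχ hw h0 (v := x (k • w') - k • w') (by simp [h3])
    rw [← e, θ.map_smul, h4, smul_eq_mul, mul_one, e, add_sub_cancel]
  have e2 : ∀ v, x v = v + (θ.restrictScalars F ∘ₗ (x.toLinearMap - 1) ∘ₗ j F K ((χ w')⁻¹ • w')) (χ v) • w := fun v => by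
    obtain ⟨c, e'⟩ := ker_eq hd hχ hw h0 (v := v - (χ v * (χ w')⁻¹) • w') (by simp [h1])
    conv_lhs => rw [← eq_sub_iff_add_eq.1 e', map_add, h2, e, ← add_assoc, eq_sub_iff_add_eq.1 e']
    simp [smul_smul]
  refine ⟨_, ?_, e2⟩
  exact ⟨by simp [h0], x, hx, e2⟩

theorem Mx.cj (h : Mx K w G g) (hr : (finrank F K).Prime) (hd : finrank K V = 2) (h0 : χ w = 0) (h1 : χ w' = 1) :
    ∃ (φ ψ : Dual F K) (y z : K), φ ≠ 0 ∧ y ≠ 0 ∧
      ∀ c : F, ∀ l ∈ Lv G h0, (1 + c • φ.smulRight y) * l * (1 - c • ψ.smulRight z) ∈ Lv G h0 := by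
  have hχ : χ ≠ 0 := fun e => by simp [e] at h1
  obtain ⟨φ, z, a1, a2, a3⟩ := h.line hG hr hd hχ h0
  obtain ⟨φ', z', -, b2, b3⟩ := h.inv.line hG hr hd hχ h0
  obtain ⟨y, c1, c2⟩ := Submodule.exists_mem_ne_zero_of_ne_bot h.inv.bot
  obtain ⟨y', c3⟩ := mem_A.1 c1
  replace b3 : ∀ k : K, χ (g.symm (k • w)) = φ' k • z' := b3
  replace c3 : y' • w = g.symm (y • w) := c3
  have c4 : φ' y = 0 := by simpa [← c3, h0, b2] using (b3 y).symm
  refine ⟨φ, φ' ∘ₗ LinearMap.mul F K (y / z) ∘ₗ χ.restrictScalars F ∘ₗ g.toLinearMap ∘ₗ j F K w', y', z', a1,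
    fun e => c2 (by simpa [e, h.ne] using c3.symm), fun c l hl => ?_⟩
  obtain ⟨d1, b, d2, d3⟩ := (FX.mem hG (ψ := (c • (y / z)) • χ) (w := w) (by simp [h0])).cj (inv_mem h.mem)
  rw [show g⁻¹.symm = g from rfl] at d1 d3
  refine cjL d2 (fun k => ?_) (fun v => ?_) hl
  · simp [d3, a3, a2, ← c3, add_smul]
  · obtain ⟨v, rfl⟩ := b.symm.surjective v
    obtain ⟨k, e⟩ := ker_eq hd hχ h.ne h0 (v := v - χ v • w') (by simp [h1])
    have : χ (g (χ v • w')) = χ (g v) - φ k • z := by rw [← a3, e]; simp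
    rw [b.apply_symm_apply, show b.symm v = _ from inv_apply d1 d3 v]
    simp [b3, this, mul_sub, a2, c4]

theorem Mx.special (h : Mx K w G g) (h2 : finrank F K = 2) (hq : ∀ c : F, c ≠ 0 → c = 1) (hd : finrank K V = 2)
    (h0 : χ w = 0) (h1 : χ w' = 1) : ∃ ρ ∈ Lv G h0, ∃ k, ρ k ≠ k * ρ 1 := by
  have hχ : χ ≠ 0 := fun e => by simp [e] at h1
  haveI := Module.finite_of_finite F (M := K)
  have t1 : (2 : F) = 0 := by_contra fun e => by have := hq 2 e; have := hq (-1) (by simp); grind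
  have t2 : (2 : K) = 0 := by simpa [map_ofNat] using congrArg (algebraMap F K) t1
  obtain ⟨φ, z, a1, a2, a3⟩ := h.line hG (h2 ▸ Nat.prime_two) hd hχ h0
  obtain ⟨y, c1, c2⟩ := Submodule.exists_mem_ne_zero_of_ne_bot h.inv.bot
  obtain ⟨y', c3⟩ := mem_A.1 c1
  replace c3 : y' • w = g.symm (y • w) := c3
  have c4 : y' ≠ 0 := fun e => c2 (by simpa [e, h.ne] using c3.symm)
  obtain ⟨ω, o1⟩ := exists_notMem_of_finrank_lt (H := Submodule.span F {(1 : K)})
    ((finrank_span_single_le _).trans_lt (by omega))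
  have o2 : ∀ k : K, ∃ c d : F, k = c • 1 + d • ω := fun k => by
    obtain ⟨d, e⟩ := mem_sup_span_singleton.1 ((Submodule.eq_top_of_finrank_eq (by
      rw [finrank_sup_span_eq o1, finrank_span_singleton one_ne_zero, h2])).ge (Submodule.mem_top (x := k)))
    obtain ⟨c, e⟩ := Submodule.mem_span_singleton.1 e
    exact ⟨c, d, by simp [e]⟩
  have o0 : ∀ c : F, ω ≠ c • 1 := fun c e => o1 (Submodule.mem_span_singleton.2 ⟨c, e.symm⟩)
  have o3 : ω * ω = ω + 1 := by
    obtain ⟨c, d, e⟩ := o2 (ω * ω)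
    have := o0 0
    have := o0 1
    rcases (em _).imp_right (hq c) with rfl | rfl <;> rcases (em _).imp_right (hq d) with rfl | rfl <;>
      simp only [one_smul, zero_smul] at * <;> grind
  have o4 : ∀ u : K, u ≠ 0 → ∀ k : K, ∃ c d : F, k = c • u + d • (ω * u) := fun u hu k =>
    let ⟨c, d, e⟩ := o2 (k / u); ⟨c, d, by rw [← div_mul_cancel₀ k hu, e]; simp [add_mul]⟩
  have f1 : φ y' = 0 := by simpa [c3, h0, a2] using (a3 y').symm
  have f2 : φ (ω * y') = 1 := hq _ fun e => a1 (LinearMap.ext fun k => by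
    obtain ⟨c, d, rfl⟩ := o4 y' c4 k; simp [f1, e])
  obtain ⟨e₂, g2⟩ : ∃ e₂, e₂ = g.symm ((ω * y) • w) := ⟨_, rfl⟩
  have g3 : χ e₂ ≠ 0 := fun e => h.inv.top (eq_top_iff.2 fun k _ => by
    obtain ⟨c, d, rfl⟩ := o4 y c2 k
    exact add_mem (Submodule.smul_mem _ _ c1) (Submodule.smul_mem _ _ (mem_A.2 (g2 ▸ ker_eq hd hχ h.ne h0 e))))
  obtain ⟨-, b, b1, b2⟩ := (FX.mem hG (ψ := (y / z) • χ) (w := w) (by simp [h0])).cj (inv_mem h.mem)
  obtain ⟨-, B, B1, B2⟩ := (FX.mem hG (ψ := (ω * (y / z)) • χ) (w := w) (by simp [h0])).cj (inv_mem h.mem)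
  replace b2 : ∀ v, b v = v + g.symm ((y / z * χ (g v)) • w) := b2
  replace B2 : ∀ v, B v = v + g.symm ((ω * (y / z) * χ (g v)) • w) := B2
  obtain ⟨c, d, g4⟩ := o4 z a2 (χ (g (ω • e₂)))
  obtain rfl : d = 1 := hq _ fun e => by
    obtain ⟨k, e'⟩ := ker_eq hd hχ h.ne h0 (v := g (ω • e₂ - c • (ω * y') • w)) (by simp [g4, e, a3, f2])
    obtain ⟨c', d', rfl⟩ := o4 y c2 k
    have := congrArg (fun v => χ (g.symm v)) e'
    simp only [add_smul, smul_assoc, map_add, map_smul, ← c3, ← g2, LinearEquiv.symm_apply_apply] at this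
    exact o0 d' (mul_right_cancel₀ g3 (by simpa [h0] using this.symm))
  have s1 : QE.res F K V (LinearEquiv.smulOfNeZero K V ω (by simpa using o0 0)) ∈ G :=
    res_mem hG (hq _ (Algebra.norm_ne_zero_iff.2 (det_ne_zero' _)))
  generalize hs : QE.res F K V (LinearEquiv.smulOfNeZero K V ω (by simpa using o0 0)) = s at s1
  replace hs : ∀ v, s v = ω • v := fun v => hs ▸ rfl
  have p1 : b (y' • w) = y' • w := by simp [b2, c3, h0]
  have p2 : b e₂ = e₂ := by simp [b2, g2, h0]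
  have p3 : b (ω • y' • w) = ω • y' • w + y' • w := by rw [b2, smul_smul, a3, f2, c3]; simp [a2]
  have p4 : b (ω • e₂) = ω • e₂ + c • y' • w + e₂ := by
    rw [b2, g4, c3, add_assoc]; simp [mul_add, a2, add_smul, g2, mul_left_comm _ ω]
  have q1 : B (y' • w) = y' • w := by simp [B2, c3, h0]
  have q2 : B e₂ = e₂ := by simp [B2, g2, h0]
  have q3 : B (ω • y' • w) = ω • y' • w + e₂ := by simp [B2, smul_smul, a3, f2, a2, g2, mul_assoc]
  have q4 : B (ω • e₂) = ω • e₂ + c • e₂ + (e₂ + y' • w) := by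
    have : ω * (y / z) * (ω * z) = ω * y + y := by
      rw [mul_mul_mul_comm, div_mul_cancel₀ _ a2, o3]; ring
    rw [B2, g4, c3, add_assoc, mul_add, one_smul, this]; simp [a2, add_smul, g2, mul_assoc]
  have o5 : ∀ v : V, ω • ω • v = ω • v + v := fun v => by rw [smul_smul, o3, add_smul, one_smul]
  suffices ∃ x ∈ G, ∃ α β : K, β ≠ ω * α ∧ x (y' • w) = y' • w ∧ x (ω • y' • w) = ω • y' • w ∧
      x e₂ = e₂ + α • y' • w ∧ x (ω • e₂) = ω • e₂ + β • y' • w by
    obtain ⟨x, x1, α, β, x2, x3, x4, x5, x6⟩ := this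
    obtain ⟨ρ, r1, r2⟩ := exists_lv x1 hd h.ne h0 g3 (fun k => by
        obtain ⟨c, d, rfl⟩ := o4 y' c4 k
        simp [add_smul, mul_smul, x3, x4]) fun k => by
        obtain ⟨c, d, rfl⟩ := o2 k
        simp [add_smul, x5, x6, h0, add_mul]
    refine ⟨ρ, r1, by_contra fun e => x2 ?_⟩
    push Not at e
    have i1 := smul_left_injective K h.ne (add_left_cancel (((r2 _).symm.trans x5).trans (by rw [smul_smul])))
    have i2 := smul_left_injective K h.ne (add_left_cancel (((r2 _).symm.trans x6).trans (by rw [smul_smul])))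
    rw [e] at i1 i2
    exact mul_right_cancel₀ c4 (by rw [← i2, mul_assoc, ← i1]; simp [mul_assoc])
  by_cases hc : c = 0
  · obtain ⟨θ, u1, u2⟩ := exists_dual_pair (F := K) (x := y' • w) (y := e₂) fun e => by
      obtain ⟨k, e⟩ := Submodule.mem_span_singleton.1 e
      have : k = 0 := by simpa [h0, g3] using congrArg χ e
      simp [this, c4, h.ne, eq_comm] at e
    obtain ⟨-, t, t3, t4⟩ := FX.mem hG (ψ := ω • θ) (w := e₂) (by simp [u2])
    replace t4 : ∀ v, t v = v + (ω * θ v) • e₂ := t4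
    generalize y' • w = e₁ at *
    refine ⟨t * B * s * (b * B) * t, mul_mem (mul_mem (mul_mem (mul_mem t3 B1) s1) (mul_mem b1 B1)) t3, 1, ω + 1,
      by simp, ?_, ?_, ?_, ?_⟩ <;>
    simp only [LinearEquiv.mul_apply, t4, θ.map_smul, θ.map_add, u1, u2, smul_eq_mul, mul_one, mul_zero, zero_smul, add_zero, o3, add_smul,
      one_smul, map_add, hs, p1, p2, p3, p4, q1, q2, q3, q4, hc, smul_add, o5] <;> match_scalars <;> grind
  · generalize y' • w = e₁ at *
    refine ⟨b * s * b * s, mul_mem (mul_mem (mul_mem b1 s1) b1) s1, ω + 1, ω, by have := o0 1; grind, ?_, ?_, ?_, ?_⟩ <;>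
    simp only [LinearEquiv.mul_apply, add_smul,
      one_smul, map_add, hs, p1, p2, p3, p4, hq c hc, smul_add, o5] <;> match_scalars <;> grind

theorem main2 (hr : (finrank F K).Prime) (hd : 2 ≤ finrank K V) (hg : g ∈ G) (hn : ¬ Nm K g) : slSub F V ≤ G := by
  rcases hd.eq_or_lt with e | e
  swap
  · exact main3 hG hr e hg hn
  haveI := Module.nontrivial_of_finrank_pos (R := K) (M := V) (by omega)
  obtain ⟨w, hw⟩ := exists_ne (0 : V)
  obtain ⟨w', h1⟩ := exists_notMem_of_finrank_lt (H := Submodule.span K {w}) ((finrank_span_single_le _).trans_lt hd)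
  obtain ⟨χ, h2, h0⟩ := exists_dual_pair h1
  obtain ⟨x, h⟩ := exists_mx hG hd hw hg hn
  obtain ⟨φ, ψ, y, z, h3, h4, h5⟩ := h.cj hG hr e.symm h0 h2
  refine sl_le2 hG e.symm hw (fun e => by simp [e] at h2) h0 ((bm hG hr hw h0 h2).rank_one hr.two_le h3 h4 h5 ?_)
  by_contra! h6
  exact (h.special hG (by have := hr.two_le; omega) h6.2.1 e.symm h0 h2).elim fun ρ ⟨a, k, b⟩ => b (h6.2.2 ρ a k)

omit hG [FiniteDimensional F V] [Finite F] [Finite K] in
theorem not_nm' (h2 : 2 ≤ finrank F K) (hd : 2 ≤ finrank K V) [FiniteDimensional F V] : ∃ g ∈ slSub F V, ¬ Nm K g := by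
  haveI := Module.finite_of_finrank_pos (R := F) (M := K) (by omega)
  obtain ⟨c, hc⟩ := exists_notMem_of_finrank_lt (H := Submodule.span F {(1 : K)})
    ((finrank_span_single_le _).trans_lt h2)
  haveI := Module.nontrivial_of_finrank_pos (R := K) (M := V) (by omega)
  obtain ⟨v, hv⟩ := exists_ne (0 : V)
  obtain ⟨y, h1⟩ := exists_notMem_of_finrank_lt (H := Submodule.span K {v}) ((finrank_span_single_le _).trans_lt hd)
  obtain ⟨χ, h3, h4⟩ := exists_dual_pair h1
  obtain ⟨ψ, h5, h6⟩ := exists_dual_pair (notMem_span_symm hv h1)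
  obtain ⟨φ, h7⟩ := exists_dual_one (F := F) (one_ne_zero (α := K))
  refine ⟨_, tr_mem_sl (φ ∘ₗ χ.restrictScalars F) v, fun h => ?_⟩
  obtain ⟨d, e⟩ := h c
  have := e y
  rw [tr_apply (by simp [h4]), tr_apply (by simp [h4])] at this
  have h8 := congrArg ψ this
  simp [h3, h5, h6, h7] at h8
  exact hc (Submodule.mem_span_singleton.2 ⟨φ d, h8.symm⟩)

omit hG [FiniteDimensional F V] [Finite F] in
theorem exists_nm_det [Nontrivial V] (a : Fˣ) : ∃ g : V ≃ₗ[F] V, Nm K g ∧ LinearEquiv.det g = a := by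
  obtain ⟨u, hu⟩ := FiniteField.norm_surjective F K a
  obtain ⟨s, -, h⟩ := exists_det_fix (F := K) (V := V) (H := ⊥) bot_ne_top (c := u) fun e => a.ne_zero (by simp [← hu, e])
  exact ⟨QE.res F K V s, fun c => ⟨c, fun v => (s.map_smul c v).symm⟩, Units.ext (by
    rw [LinearEquiv.coe_det, ← hu, ← h]; exact LinearMap.det_restrictScalars)⟩

end CfsgH9.FX

open Module Matrix CfsgH5 CfsgH5.Form Cfsg Cfsg.Geo in
theorem CfsgH9.FX.max_ext {F : Type*} [Field F] [Fintype F] {ι : Type} [Fintype ι] [DecidableEq ι] {r : ℕ}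
    (hr : r.Prime) (hn : r < Fintype.card ι) {A : Subalgebra F (Matrix ι ι F)} (hA : IsFieldSubalgebra r A) :
    IsCoatom (subalgebraNormalizer A) ∧ IsMaximalIn (specialLinear ι F) (subalgebraNormalizer A ⊓ specialLinear ι F) := by
  haveI : Nonempty ι := Fintype.card_pos_iff.1 (by omega)
  obtain ⟨K, _, _, _, ψ, rfl, rfl⟩ := exists_field hA
  letI : Module K (ι → F) := Module.compHom _ ((toLinAlgEquiv' : Matrix ι ι F ≃ₐ[F] _).toAlgHom.comp ψ).toRingHom
  have hs : ∀ (c : K) (v : ι → F), c • v = ψ c *ᵥ v := fun _ _ => rfl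
  haveI : IsScalarTower F K (ι → F) := ⟨fun a c v => by simp [hs, smul_mulVec]⟩
  haveI : FiniteDimensional K (ι → F) := Module.Finite.of_finite
  have hl : 2 ≤ finrank K (ι → F) :=
    lt_of_mul_lt_mul_left (a := finrank F K) (by simpa [finrank_mul_finrank] using hn) (Nat.zero_le _)
  have hM : ∀ g, g ∈ subalgebraNormalizer ψ.range ↔ Nm K (glEquiv ι F g) := fun g => ⟨fun hg c => ?_, fun hg k => ?_⟩
  · refine ⟨?_, isMaximalIn_gl specialLinear_eq (Nm K) hM (not_nm' hr.two_le hl) fun H a _ g hg hn => main2 a hr hl hg hn⟩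
    obtain ⟨g, -, hg⟩ := not_nm' hr.two_le hl
    have := isMaximalIn_gl (K := ⊤) (K' := ⊤) rfl (Nm K) hM ⟨g, trivial, hg⟩ fun H a _ g hg hn x _ => by
      obtain ⟨y, h1, h2⟩ := exists_nm_det (K := K) (V := ι → F) (LinearEquiv.det x)
      exact (mul_mem_cancel_left (inv_mem (a y trivial h1))).1 (main2 (fun g _ => a g trivial) hr hl hg hn
        (show LinearEquiv.det _ = 1 by simp [h2]))
    rw [inf_top_eq] at this
    exact ⟨this.1.ne, fun N h => (this.2 N h.le le_top).resolve_left h.ne'⟩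
  · obtain ⟨d, e⟩ := (inv_mem hg (ψ c)).1 ⟨c, rfl⟩
    exact ⟨d, fun v => by simp [hs, show ψ d = _ from e, ← mul_assoc]⟩
  · choose f hf using hg
    have h5 : ∀ c, g.1 * ψ (f c) * g⁻¹.1 = ψ c := fun c => by
      rw [Units.mul_inv_eq_iff_eq_mul]
      exact Matrix.ext_iff_mulVec.2 fun v => by simpa [hs] using (hf c v).symm
    refine ⟨fun ⟨c, e⟩ => ?_, fun ⟨c, e⟩ => ⟨f c, ?_⟩⟩
    · obtain ⟨c, rfl⟩ := Finite.injective_iff_surjective.1 (fun a b e => ψ.toRingHom.injective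
        ((h5 a).symm.trans (e ▸ h5 b)) : Function.Injective f) c
      exact ⟨c, e ▸ (h5 c).symm⟩
    · exact (cjA g).injective ((h5 c).trans e)
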