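import Cfsg.Agent.H9.TX1

/-! Overgroups of the stabiliser of a tensor decomposition in the special linear group. -/

set_option autoImplicit false

namespace CfsgH9.TX
open Module CfsgH5

variable {F : Type*} [Field F] {V U W : Type*} [AddCommGroup V] [Module F V] [AddCommGroup U] [Module F U]
  [AddCommGroup W] [Module F W] [FiniteDimensional F V] [FiniteDimensional F U] [FiniteDimensional F W]
  {G : Subgroup (V ≃ₗ[F] V)} {j : W →ₗ[F] U →ₗ[F] V} {x : Dual F W →ₗ[F] V →ₗ[F] U}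
  {f : V →ₗ[F] V} {g z : V ≃ₗ[F] V} {ψ χ : Dual F W} {v w : W} {r : U →ₗ[F] U}

/-- `g` preserves the tensor decomposition -/
def Rat (j : W →ₗ[F] U →ₗ[F] V) (g : V ≃ₗ[F] V) : Prop :=
  ∃ (c : U ≃ₗ[F] U) (B : W ≃ₗ[F] W), ∀ w u, g (j w u) = j (B w) (c u)

/-- `V` is the tensor product of `U` and `W` -/
structure TS (j : W →ₗ[F] U →ₗ[F] V) (x : Dual F W →ₗ[F] V →ₗ[F] U) : Prop where
  ex : ∀ ψ w u, x ψ (j w u) = ψ w • u
  ind : ∀ {S : Submodule F V}, (∀ w u, j w u ∈ S) → ∀ v, v ∈ S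
  two : 2 ≤ finrank F U
  lt : finrank F U < finrank F W

theorem exists_ker {U W : Type*} [AddCommGroup U] [Module F U] [AddCommGroup W] [Module F W]
    [FiniteDimensional F U] [FiniteDimensional F W] (h : finrank F U < finrank F W) (A : W →ₗ[F] U) : ∃ w, w ≠ 0 ∧ A w = 0 :=
  let ⟨w, a, b⟩ := (LinearMap.ker A).exists_mem_ne_zero_of_ne_bot (LinearMap.ker_ne_bot_of_finrank_lt h)
  ⟨w, b, a⟩

namespace TS
variable (h : TS j x)
include h

theorem d3 : 3 ≤ finrank F W := by have := h.two; have := h.lt; omega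

theorem d3' : 3 ≤ finrank F (Dual F W) := Subspace.dual_finrank_eq (K := F) (V := W) ▸ h.d3

theorem lt' : finrank F U < finrank F (Dual F W) := Subspace.dual_finrank_eq (K := F) (V := W) ▸ h.lt

theorem exists_ne : ∃ u : U, u ≠ 0 :=
  haveI := Module.nontrivial_of_finrank_pos (R := F) (M := U) (by have := h.two; omega)
  _root_.exists_ne 0

theorem ext {X : Type*} [AddCommGroup X] [Module F X] {A B : V →ₗ[F] X} (e : ∀ w u, A (j w u) = B (j w u))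
    (y : V) : A y = B y := h.ind (S := LinearMap.eqLocus A B) e y

theorem sum (y : V) : y = ∑ i, j (finBasis F W i) (x ((finBasis F W).coord i) y) := by
  simpa using h.ext (A := LinearMap.id) (B := ∑ i, j (finBasis F W i) ∘ₗ x ((finBasis F W).coord i)) (fun w u => by
    conv_lhs => rw [← (finBasis F W).sum_repr w]
    simp [h.ex, -Module.Basis.sum_repr]) y

theorem eq_zero {y : V} (e : ∀ ψ, x ψ y = 0) : y = 0 := by rw [h.sum y]; simp [e]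

theorem eq_zero_iff {u : U} : j w u = 0 ↔ w = 0 ∨ u = 0 := by
  refine ⟨fun e => or_iff_not_imp_left.2 fun hw => ?_, by rintro (rfl | rfl) <;> simp⟩
  obtain ⟨ψ, h1⟩ := exists_dual_one (F := F) hw
  simpa [h1, e] using (h.ex ψ w u).symm

theorem x_ne (hψ : ψ ≠ 0) (u : U) : ∃ y, x ψ y = u :=
  let ⟨w, e⟩ := exists_apply_one hψ
  ⟨j w u, by simp [h.ex, e]⟩

theorem mem_line (h1 : χ v = 1) {y : V} (hy : ∀ ψ, ψ v = 0 → x ψ y = 0) : y = j v (x χ y) :=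
  sub_eq_zero.1 (h.eq_zero fun ψ => by simpa [h.ex] using hy (ψ - ψ v • χ) (by simp [h1]))

theorem exists_of_dual {y : U →ₗ[F] V} (hy : ∀ ψ, ∃ d : F, x ψ ∘ₗ y = d • 1) : ∃ v, y = j v := by
  choose d hd using hy
  refine ⟨∑ i, d ((finBasis F W).coord i) • finBasis F W i, LinearMap.ext fun u => ?_⟩
  rw [h.sum (y u)]
  simp [show ∀ ψ, x ψ (y u) = d ψ • u from fun ψ => LinearMap.congr_fun (hd ψ) u]

theorem exists_ex {θ : V →ₗ[F] U} (hy : ∀ v, ∃ d : F, θ ∘ₗ j v = d • 1) : ∃ ψ, θ = x ψ := by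
  choose d hd using hy
  obtain ⟨u, hu⟩ := h.exists_ne
  have e : ∀ v u, θ (j v u) = d v • u := fun v => LinearMap.congr_fun (hd v)
  exact ⟨⟨⟨d, fun a b => smul_left_injective F hu (by simp [add_smul, ← e])⟩, fun c a =>
    smul_left_injective F hu (by simp [mul_smul, ← e])⟩, LinearMap.ext (h.ext fun w u => by simp [h.ex, e])⟩

theorem rat {c : U ≃ₗ[F] U} (H : ∀ a, ∃ a', ∀ u, g (j a u) = j a' (c u)) : Rat j g := by
  choose B hB using H
  obtain ⟨u, hu⟩ := h.exists_ne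
  have e : ∀ a b, j a (c u) = j b (c u) → a = b := fun a b e => sub_eq_zero.1
    ((h.eq_zero_iff.1 (by simp [e] : j (a - b) (c u) = 0)).resolve_right (by simpa))
  let B' : W →ₗ[F] W := ⟨⟨B, fun a b => e _ _ (by simp [← hB])⟩, fun a b => e _ _ (by simp [← hB])⟩
  refine ⟨c, .ofInjectiveEndo B' ((injective_iff_map_eq_zero B').2 fun a h1 => ?_), hB⟩
  have := hB a u
  rw [show B a = 0 from h1] at this
  simpa [h.eq_zero_iff, hu] using this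

theorem scal (hz : Rat j z) (H : ∀ u, ∃ y, y ≠ 0 ∧ z (j y u) = j y u) :
    (∃ ψ, ψ ≠ 0 ∧ ∀ y, x ψ (z y - y) = 0) ∧ (z ≠ 1 → ∃ w, w ≠ 0 ∧ ∀ u, ∃ y, z y - y = j w u) := by
  obtain ⟨c, B, hB⟩ := hz
  obtain ⟨s, hs⟩ : ∃ s : F, (c : End F U) = s • 1 := by
    by_contra! e
    obtain ⟨u, hu⟩ := exists_not_eigen e
    obtain ⟨y, h1, h2⟩ := H u
    obtain ⟨φ, h3⟩ := exists_dual_one (F := F) (B.map_ne_zero_iff.2 h1)
    exact hu (Submodule.mem_span_singleton.2 ⟨φ y, by simpa [hB, h.ex, h3] using (congrArg (x φ) h2).symm⟩)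
  let A : W →ₗ[F] W := s • B - 1
  have e : ∀ w u, z (j w u) - j w u = j (A w) u := fun w u => by
    simp [A, hB, show c u = s • u from LinearMap.congr_fun hs u]
  constructor
  · obtain ⟨u, hu⟩ := h.exists_ne
    obtain ⟨y, h1, h2⟩ := H u
    have h3 : A y = 0 := by simpa [h2, h.eq_zero_iff, hu] using (e y u).symm
    obtain ⟨w, h4⟩ : ∃ w, w ∉ LinearMap.range A := by
      by_contra! h4
      exact h1 ((injective_iff_map_eq_zero A).1 (LinearMap.injective_iff_surjective.2 h4) y h3)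
    obtain ⟨ψ, h5, h6⟩ := exists_dual_sep _ h4
    exact ⟨ψ, fun e => by simp [e] at h5, h.ext (A := x ψ ∘ₗ (z.toLinearMap - 1)) (B := 0) fun w u => by
      simp [e, h.ex, h6]⟩
  · intro hz
    obtain ⟨w, hw⟩ : ∃ w, A w ≠ 0 := by
      by_contra! h4
      exact hz (LinearEquiv.ext (h.ext (A := z.toLinearMap) (B := 1) fun w u => sub_eq_zero.1 (by simpa [h4] using e w u)))
    exact ⟨_, hw, fun u => ⟨_, e w u⟩⟩

theorem not_rat : ∃ g ∈ slSub F V, ¬ Rat j g := by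
  obtain ⟨u, hu⟩ := h.exists_ne
  obtain ⟨u', h1⟩ := exists_notMem_of_finrank_lt (H := Submodule.span F {u})
    ((finrank_span_single_le u).trans_lt h.two)
  obtain ⟨φ, h2, h3⟩ := exists_dual_pair (notMem_span_symm hu h1)
  obtain ⟨φ', h2', h3'⟩ := exists_dual_pair h1
  obtain ⟨w, hw, -⟩ := exists_ker_two h.d3 (0 : Dual F W) 0
  obtain ⟨w', -, h4⟩ := exists_notMem_ker h.d3 0 w
  obtain ⟨ψ, h5, h6⟩ := exists_dual_pair (notMem_span_symm hw h4)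
  obtain ⟨ψ', h5', h6'⟩ := exists_dual_pair h4
  refine ⟨_, tr_mem_sl (φ ∘ₗ x ψ) (j w' u'), fun ⟨c, B, e⟩ => ?_⟩
  have := e w u
  rw [tr_apply (by simp [h.ex, h6])] at this
  have h7 := congrArg (x ψ) this
  have h8 := congrArg (x ψ') this
  simp [h.ex, h2, h5, h6, h5', h6'] at h7 h8
  have h9 := congrArg φ' h7
  have h10 := congrArg φ' h8
  simp [h2', h3'] at h9 h10
  rcases h9 with a | a
  · exact hu (by simpa [a] using h7)
  · simp [a] at h10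

variable [Finite F] (hG : ∀ g ∈ slSub F V, Rat j g → g ∈ G)
include hG

theorem mem (h0 : ψ w = 0) : E G (j w ∘ₗ x ψ) :=
  have e : ∀ v, (j w ∘ₗ x ψ) ((j w ∘ₗ x ψ) v) = 0 := by simp [h.ex, h0]
  let ⟨g, h1, h2⟩ := exists_sl e
  ⟨e, g, hG g h1 ⟨1, tr ψ w, fun a u => by simp [h2, tr_apply h0, h.ex]⟩, h2⟩

theorem cjU {φ : Dual F U} {u : U} (h0 : φ u = 0) : ∃ g ∈ G, ∀ w v, g (j w v) = j w (tr φ u v) := by
  let f := ∑ i, j (finBasis F W i) ∘ₗ φ.smulRight u ∘ₗ x ((finBasis F W).coord i)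
  have e : ∀ w v, f (j w v) = φ v • j w u := fun w v => by
    conv_rhs => rw [← (finBasis F W).sum_repr w]
    simp [f, h.ex, -Module.Basis.sum_repr, Finset.smul_sum, smul_smul, mul_comm]
  obtain ⟨g, h1, h2⟩ := exists_sl (f := f) (h.ext (A := f ∘ₗ f) (B := 0) fun w v => by simp [e, h0])
  have h3 : ∀ w v, g (j w v) = j w (tr φ u v) := fun w v => by simp [h2, e, tr_apply h0]
  exact ⟨g, hG g h1 ⟨_, 1, h3⟩, h3⟩

theorem move1 (h1 : E G f) (h2 : ψ w = 0) (h3 : ∀ y, x ψ (f y) = 0) : E G (f ∘ₗ j w ∘ₗ x ψ) :=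
  h1.comm (h.mem hG h2) (by simp [h3])

theorem move2 (h1 : E G f) (h2 : ψ w = 0) (h3 : ∀ u, f (j w u) = 0) : E G ((j w ∘ₗ x ψ) ∘ₗ f) :=
  (h.mem hG h2).comm h1 (by simp [h3])

/-- the level -/
def lev : Subalgebra F (End F U) where
  carrier := {r | ∀ ψ v, ψ v = 0 → E G (j v ∘ₗ r ∘ₗ x ψ)}
  add_mem' a b ψ v h1 := by
    exact ((a ψ v h1).add (b ψ v h1) (by simp [h.ex, h1]) (by simp [h.ex, h1])).congr (by simp)
  algebraMap_mem' c ψ v h1 := (h.mem hG (w := c • v) (ψ := ψ) (by simp [h1])).congr (by simp)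
  mul_mem' {α β} a b ψ v h1 := by
    obtain ⟨w, h2, h3⟩ := exists_notMem_ker h.d3 ψ v
    obtain ⟨χ, h4, h5⟩ := exists_dual_pair h3
    exact ((a χ v h5).comm (b ψ w h2) (by simp [h.ex, h1])).congr (by simp [h.ex, h4])

theorem mem_lev (hψ : ψ ≠ 0) (hv : v ≠ 0) (h0 : ψ v = 0) (h1 : E G (j v ∘ₗ r ∘ₗ x ψ)) : r ∈ h.lev hG := by
  have k1 : ∀ {ψ v}, v ≠ 0 → ψ v = 0 → E G (j v ∘ₗ r ∘ₗ x ψ) → ∀ w, ψ w = 0 → E G (j w ∘ₗ r ∘ₗ x ψ) := by
    intro ψ v hv h0 h1 w hw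
    obtain ⟨u, h2, h3⟩ := exists_notMem_ker h.d3 ψ v
    refine (Form.mem_of_notMem_imp (U := LinearMap.ker ψ) (A := ⟨⟨⟨{w | ψ w = 0 ∧ E G (j w ∘ₗ r ∘ₗ x ψ)},
      fun a b => ⟨by simp [a.1, b.1], (a.2.add b.2 (by simp [h.ex, b.1, a.1]) (by simp [h.ex, a.1, b.1])).congr
        (by simp)⟩⟩, ⟨by simp, E.zero.congr (by simp)⟩⟩, fun a => ⟨by simp [a.1], a.2.neg.congr (by simp)⟩⟩)
      h2 h3 (fun w a b => ⟨a, ?_⟩) hw).2
    obtain ⟨χ, h4, h5⟩ := exists_dual_pair (notMem_span_symm hv b)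
    exact (h.move2 hG h1 h5 (by simp [h.ex, show ψ w = 0 from a])).congr (by simp [h.ex, h4])
  have k2 : ∀ {ψ v}, ψ ≠ 0 → ψ v = 0 → E G (j v ∘ₗ r ∘ₗ x ψ) → ∀ χ, χ v = 0 → E G (j v ∘ₗ r ∘ₗ x χ) := by
    intro ψ v hv h0 h1 w hw
    obtain ⟨u, h2, h3⟩ := exists_notMem_ker h.d3' (Dual.eval F W v) ψ
    refine (Form.mem_of_notMem_imp (U := LinearMap.ker (Dual.eval F W v))
      (A := ⟨⟨⟨{w | w v = 0 ∧ E G (j v ∘ₗ r ∘ₗ x w)},
      fun a b => ⟨by simp [a.1, b.1], (a.2.add b.2 (by simp [h.ex, b.1, a.1]) (by simp [h.ex, a.1, b.1])).congr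
        (by simp)⟩⟩, ⟨by simp, E.zero.congr (by simp)⟩⟩, fun a => ⟨by simp [a.1], a.2.neg.congr (by simp)⟩⟩)
      h2 h3 (fun w a b => ⟨a, ?_⟩) hw).2
    obtain ⟨χ, h4, h5⟩ := exists_vec_pair (notMem_span_symm hv b)
    exact (h.move1 hG h1 h5 (by simp [h.ex, show w v = 0 from a])).congr (by simp [h.ex, h4])
  intro χ w h2
  obtain ⟨u, h3, h4, h5⟩ := exists_ker_two h.d3 ψ χ
  exact k1 h3 h5 (k2 hψ h4 (k1 hv h0 h1 u h4) χ h5) w h2

theorem lev_cj (hr : r ∈ h.lev hG) (φ : Dual F U) (u : U) (h0 : φ u = 0) :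
    φ.smulRight u * r - r * φ.smulRight u - φ (r u) • φ.smulRight u ∈ h.lev hG := by
  obtain ⟨g, h1, h2⟩ := h.cjU hG h0
  have : (1 + φ.smulRight u) * r * (1 - φ.smulRight u) ∈ h.lev hG := fun ψ w h3 =>
    ((hr ψ w h3).cj h1).congr fun y => by
      obtain ⟨y, rfl⟩ := g.surjective y
      refine (congrArg (g.toLinearMap ∘ₗ j w ∘ₗ r ∘ₗ x ψ) (g.symm_apply_apply y)).trans ?_
      exact h.ext (B := j w ∘ₗ ((1 + φ.smulRight u) * r * (1 - φ.smulRight u)) ∘ₗ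
        x ψ ∘ₗ g.toLinearMap) (fun a b => by simp [h2, h.ex, tr_apply h0, h0]; module) y
  convert sub_mem this hr using 1
  ext v; simp; module

theorem sl_le (hR : ∀ (φ : Dual F U) u, φ.smulRight u ∈ h.lev hG) : slSub F V ≤ G := by
  refine sl_le_of_centres (eq_top_iff.2 fun v _ => h.ind (fun v u => mem_centres.2 fun θ h0 => ?_) v)
  by_cases hv : v = 0
  · simp [hv]
  by_cases hu : u = 0
  · simp [hu]
  let X := Submodule.span F {θ | ∃ ψ, ∃ φ : Dual F U, (ψ v = 0 ∨ φ u = 0) ∧ θ = φ ∘ₗ x ψ}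
  have h1 : ∀ ψ (φ : Dual F U), ψ v = 0 ∨ φ u = 0 → E G ((φ ∘ₗ x ψ).smulRight (j v u)) := by
    rintro ψ φ (a | a)
    · exact (hR φ u ψ v a).congr (by simp)
    obtain ⟨w, h2, h3⟩ := exists_notMem_ker h.d3 ψ v
    obtain ⟨χ, h4, h5⟩ := exists_dual_pair h3
    obtain ⟨φ', h6⟩ := exists_dual_one (F := F) hu
    exact ((hR φ' u χ v h5).comm (hR φ u ψ w h2) (by simp [h.ex, a])).congr (by simp [h.ex, h4, h6])
  have h2 : ∀ θ ∈ X, θ (j v u) = 0 ∧ ∀ a : F, tr (a • θ) (j v u) ∈ G := fun θ hx => by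
    induction hx using Submodule.span_induction with
    | mem θ hx =>
      obtain ⟨ψ, φ, a, rfl⟩ := hx
      have : (φ ∘ₗ x ψ) (j v u) = 0 := by simpa [h.ex] using a
      exact ⟨this, fun α => ((h1 ψ (α • φ) (a.imp_right fun a => by simp [a])).congr fun _ => rfl).tr
        (show α • (φ ∘ₗ x ψ) (j v u) = 0 by rw [this, smul_zero])⟩
    | zero => simp
    | add θ θ' _ _ a b => exact ⟨by simp [a.1, b.1], fun α => by
        rw [smul_add, ← tr_mul_left (by simp [a.1]) (by simp [b.1])]; exact mul_mem (a.2 α) (b.2 α)⟩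
    | smul c θ _ a => exact ⟨by simp [a.1], fun α => smul_smul α c θ ▸ a.2 _⟩
  refine one_smul F θ ▸ (h2 θ (by_contra fun hn => ?_)).2 1
  obtain ⟨f, h3, h4⟩ := exists_dual_sep X hn
  obtain ⟨y, rfl⟩ := (evalEquiv F V).surjective f
  obtain ⟨χ, h5⟩ := exists_dual_one (F := F) hv
  have h6 := h.mem_line h5 (y := y) fun ψ a => (forall_dual_apply_eq_zero_iff F _).1 fun φ =>
    h4 _ (Submodule.subset_span ⟨ψ, φ, .inl a, rfl⟩)
  obtain ⟨c, h7⟩ : ∃ c : F, c • u = x χ y := Submodule.mem_span_singleton.1 (by_contra fun e =>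
    let ⟨φ, a, b⟩ := exists_dual_pair e
    one_ne_zero (a.symm.trans (h4 _ (Submodule.subset_span ⟨χ, φ, .inr b, rfl⟩))))
  rw [h6, ← h7] at h3
  simp [h0] at h3

variable (hR : ∀ r ∈ h.lev hG, ∃ c : F, r = c • 1)
include hR

theorem rat_vec (hψ : ψ ≠ 0) {y : U →ₗ[F] V} (h0 : ∀ u, x ψ (y u) = 0) (h1 : E G (y ∘ₗ x ψ)) : ∃ v, y = j v :=
  h.exists_of_dual fun χ => let ⟨v, a, b, c⟩ := exists_ker_two h.d3 ψ χ
    hR _ (h.mem_lev hG hψ a b (h.move2 hG h1 c (by simp [h.ex, b])))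

theorem rat_dual (hv : v ≠ 0) {θ : V →ₗ[F] U} (h0 : ∀ u, θ (j v u) = 0) (h1 : E G (j v ∘ₗ θ)) : ∃ ψ, θ = x ψ :=
  h.exists_ex fun w => let ⟨ψ, a, b, c⟩ := exists_ker_two h.d3' (Dual.eval F W v) (Dual.eval F W w)
    hR _ (h.mem_lev hG a hv b (h.move1 hG h1 c (by simp [h.ex, show ψ v = 0 from b])))

theorem inc (hg : g ∈ G) (hv : v ≠ 0) (hψ : ψ ≠ 0) (h0 : ∀ u, x ψ (g (j v u)) = 0) : Rat j g := by
  obtain ⟨w, h1, χ, h2, u, h3⟩ : ∃ w, ψ w = 0 ∧ ∃ χ, χ v = 0 ∧ ∃ u, x χ (g.symm (j w u)) ≠ 0 := by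
    by_contra! h1
    obtain ⟨w, h2, h3, -⟩ := exists_ker_two h.d3 ψ 0
    obtain ⟨w', h4, h5⟩ := exists_notMem_ker h.d3 ψ w
    obtain ⟨φ, h6, h7⟩ := exists_dual_pair h5
    obtain ⟨χ, h8⟩ := exists_dual_one (F := F) hv
    obtain ⟨u, hu⟩ := h.exists_ne
    have e := fun w a u => h.mem_line h8 fun χ b => h1 w a χ b u
    obtain ⟨u', h9⟩ := LinearMap.injective_iff_surjective.1 ((injective_iff_map_eq_zero
      (x χ ∘ₗ g.symm.toLinearMap ∘ₗ j w)).2 fun a b => by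
        have := e w h3 a
        rw [show x χ (g.symm (j w a)) = 0 from b] at this
        simpa [h.eq_zero_iff, h2] using this) (x χ (g.symm (j w' u)))
    have := congrArg (x φ) (g.symm.injective ((e w h3 u').trans ((congrArg (j v) h9).trans (e w' h4 u).symm)))
    exact hu (by simpa [h.ex, h6, h7] using this.symm)
  obtain ⟨v', h4⟩ := h.rat_vec hG hR hψ (y := g ∘ₗ j v ∘ₗ x χ ∘ₗ g.symm ∘ₗ j w) (by simp [h0])
    (h.move1 hG ((h.mem hG h2).cj hg) h1 (by simp [h0]))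
  replace h4 : ∀ u, g (j v (x χ (g.symm (j w u)))) = j v' u := LinearMap.congr_fun h4
  have h5 : v' ≠ 0 := fun e => h3 (by simpa [e, h.eq_zero_iff, hv] using h4 u)
  let c := LinearEquiv.ofInjectiveEndo (x χ ∘ₗ g.symm.toLinearMap ∘ₗ j w) ((injective_iff_map_eq_zero _).2 fun a b => by
    have := h4 a
    rw [show x χ (g.symm (j w a)) = 0 from b] at this
    simpa [h.eq_zero_iff, h5] using this.symm)
  replace h4 : ∀ u, g (j v (c u)) = j v' u := h4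
  clear_value c
  refine h.rat (c := c.symm) fun a => ?_
  obtain ⟨χ, h6, h7, h8⟩ := exists_ker_two h.d3' (Dual.eval F W v) (Dual.eval F W a)
  replace h7 : χ v = 0 := h7
  replace h8 : χ a = 0 := h8
  obtain ⟨χ', h9⟩ := h.rat_dual hG hR h5 (θ := c.symm ∘ₗ x χ ∘ₗ g.symm) (by simp [← h4, h.ex, h7])
    (((h.mem hG h7).cj hg).congr (by simp [← h4]))
  obtain ⟨a', h10⟩ := h.rat_vec hG hR (ψ := χ') (y := g ∘ₗ j a ∘ₗ c) (fun e => by
      obtain ⟨u, hu⟩ := h.exists_ne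
      obtain ⟨y, rfl⟩ := h.x_ne h6 u
      exact hu (by simpa [e] using LinearMap.congr_fun h9 (g y)))
    (by simp [← h9, h.ex, h8]) (((h.mem hG h8).cj hg).congr (by simp [← h9]))
  exact ⟨a', fun u => by simp [← h10]⟩

theorem pure (hg : g ∈ G) (hv : v ≠ 0) (u : U) : ∃ w u', g (j v u) = j w u' := by
  by_cases hu : u = 0
  · exact ⟨0, 0, by simp [hu]⟩
  obtain ⟨ψ₀, a1, a2, -⟩ := exists_ker_two h.d3' (Dual.eval F W v) 0
  replace a2 : ψ₀ v = 0 := a2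
  obtain ⟨ψ, b1, b2⟩ := exists_ker h.lt' (x.flip (g (j v u)))
  replace b2 : x ψ (g (j v u)) = 0 := b2
  obtain ⟨w, b3, b4, -⟩ := exists_ker_two h.d3 ψ 0
  have c1 : ∀ {f}, E G f → f (g (j v u)) = 0 → E (G ⊓ fixer F {g (j v u)}) f := fun ⟨a, k, b, c⟩ e =>
    ⟨a, k, ⟨b, fun y hy => by rw [hy, c, e, add_zero]⟩, c⟩
  obtain ⟨k, ⟨k1, k2⟩, z, ⟨z1, -⟩, z2, z3, z4, z5⟩ := exists_z (c1 (h.mem hG b4) (by simp [b2]))
    (c1 ((h.mem hG a2).cj hg) (by simp [h.ex, a2])) fun e => by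
      obtain ⟨y, rfl⟩ := h.x_ne b1 u
      exact hu (by simpa [h.eq_zero_iff, b3] using LinearMap.congr_fun e y)
  rw [← k2 _ rfl]
  replace k2 : (k * g) (j v u) = g (j v u) := k2 _ rfl
  replace z4 : ∀ y, z ((k * g) (j v (x ψ₀ ((k * g).symm y)))) = (k * g) (j v (x ψ₀ ((k * g).symm (z y)))) := z4
  replace z5 : ∀ y, j w (x ψ y) = 0 → j w (x ψ ((k * g) (j v (x ψ₀ ((k * g).symm y))))) = 0 → z y = y := z5
  replace k1 := mul_mem k1 hg
  change ∃ w u', (k * g) (j v u) = j w u'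
  rw [← k2] at b2
  generalize k * g = g at *
  have r1 : Rat j z := h.inc hG hR z1 b3 b1 fun u => by
    obtain ⟨y, rfl⟩ := h.x_ne b1 u
    simpa [h.ex, b4] using congrArg (x ψ) (z3 y)
  obtain ⟨⟨χ, r2, r3⟩, r4⟩ := h.scal r1 fun u' => by
    have i1 := (x ψ ∘ₗ g.toLinearMap ∘ₗ j v).finrank_range_add_finrank_ker
    have i2 := Submodule.one_le_finrank_iff.2 (fun e => hu (e.le b2) : LinearMap.ker (x ψ ∘ₗ g.toLinearMap ∘ₗ j v) ≠ ⊥)
    obtain ⟨y, i3, i4⟩ := exists_ker (by have := h.lt; rw [finrank_prod, finrank_self]; omega)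
      (ψ.prod ((x ψ ∘ₗ g.toLinearMap ∘ₗ j v).rangeRestrict ∘ₗ x ψ₀ ∘ₗ g.symm.toLinearMap ∘ₗ j.flip u'))
    obtain ⟨i5, i6⟩ := Prod.mk_eq_zero.1 i4
    exact ⟨y, i3, z5 _ (by simp [h.ex, i5]) ((congrArg (j w) (congrArg Subtype.val i6)).trans (map_zero _))⟩
  obtain ⟨w', r5, r6⟩ := r4 z2
  obtain ⟨-, b, b5, b6⟩ := (h.mem hG a2).cj k1
  replace b6 : ∀ y, b y = y + g (j v (x ψ₀ (g.symm y))) := b6
  have r7 : Rat j b := h.inc hG hR b5 r5 r2 fun u => by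
    obtain ⟨y, e⟩ := r6 u
    rw [← e, map_sub b, b6, b6, ← z4, ← map_add z, r3]
  obtain ⟨⟨χ', r8, r9⟩, -⟩ := h.scal r7 fun u' =>
    let ⟨y, i1, i2⟩ := exists_ker h.lt (x ψ₀ ∘ₗ g.symm.toLinearMap ∘ₗ j.flip u')
    ⟨y, i1, by rw [b6, show x ψ₀ (g.symm (j y u')) = 0 from i2]; simp⟩
  obtain ⟨c, B, e⟩ := h.inc hG hR k1 hv r8 fun u => by
    obtain ⟨y, rfl⟩ := h.x_ne a1 u
    simpa [b6] using r9 (g y)
  exact ⟨_, _, e v u⟩

theorem rat_all (hg : g ∈ G) : Rat j g := by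
  obtain ⟨v, hv, -⟩ := exists_ker_two h.d3 (0 : Dual F W) 0
  choose w u e using h.pure hG hR hg hv
  obtain ⟨ψ, h1, h2⟩ := exists_ker (U := Fin (finrank F U) → F) (by simpa using h.lt')
    (LinearMap.pi fun i => Dual.eval F W (w (finBasis F U i)))
  exact h.inc hG hR hg hv h1 (LinearMap.congr_fun ((finBasis F U).ext fun i => by
    simp [e, h.ex, show ψ (w _) = 0 from congrFun h2 i] : x ψ ∘ₗ g.toLinearMap ∘ₗ j v = 0))

omit hR in
theorem main (hq : 3 ≤ finrank F U ∨ ∃ c : F, c ≠ 0 ∧ c ≠ 1) (hg : g ∈ G) (hn : ¬ Rat j g) : slSub F V ≤ G := by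
  by_cases hR : ∀ r ∈ h.lev hG, ∃ c : F, r = c • 1
  · exact (hn (h.rat_all hG hR hg)).elim
  push Not at hR
  obtain ⟨r, h1, h2⟩ := hR
  exact h.sl_le hG (rank_one_mem (fun r => h.lev_cj hG) hq h1 h2)

end TS
end CfsgH9.TX
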