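import Cfsg.Agent.H9.FX2
import Cfsg.Agent.H9.FX4
import Cfsg.Agent.H9.MX5

/-! Stabilisers of frames in `SL_n(q)` for `n ≥ 9`. -/

set_option autoImplicit false

namespace CfsgH9.FX
open Module CfsgH5 CfsgH9.MX Cfsg Cfsg.Geo

variable {F : Type*} [Field F] [Fintype F] {n : ℕ}

theorem max_frame {t : ℕ} {D : Fin t → Submodule F (Fin n → F)} (hD : IsMDecomposition 1 D)
    (h1 : 5 ≤ Fintype.card F) (h2 : 9 ≤ t) :
    IsMaximalIn (specialLinear (Fin n) F) (decompositionStabilizer D ⊓ specialLinear (Fin n) F) := by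
  obtain ⟨p, p1, p2, p3⟩ := exists_proj hD.indep hD.iSup_eq_top
  have hd : ∀ {N}, (∀ g ∈ slSub F (Fin n → F), g ∈ dstab D → g ∈ N) → DG D p 1 N := fun h =>
    ⟨hD.indep, hD.iSup_eq_top, hD.finrank_eq, one_pos, p1, p2, p3, fun g h1 h2 => h g h2 h1⟩
  exact isMaximalIn_gl specialLinear_eq (· ∈ dstab D) mem_decompositionStabilizer_iff
    ((hd (N := ⊤) fun _ _ _ => trivial).not_mem (i := ⟨0, by omega⟩) (j := ⟨1, by omega⟩) (by simp))
    fun N h3 _ g hg hn => (hd h3).mono'' rfl h1 (by simpa using h2) hg hn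

end CfsgH9.FX
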