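import Cfsg.Agent.FT.PLen
import Cfsg.Agent.H2.MaxClass
import Cfsg.Agent.H2.Extra
import Cfsg.Agent.H2.Cls
import Cfsg.Prelude.Def_CaseTheorems

set_option autoImplicit false
set_option linter.unusedSectionVars false
open Cfsg Subgroup CfsgH1 CfsgH2 CfsgFT
open scoped commutatorElement

/-! Sectional 2-rank. -/
namespace CfsgH9
variable {G : Type*} [Group G] [Finite G]

theorem srk_card {k : ℕ} (hr : SectionalPRankLE 2 k G) {H N : Subgroup G} (h1 : N ≤ H) (hn : H ≤ N(N))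
    (h2 : ∀ x ∈ H, x ^ 2 ∈ N) : Nat.card H ≤ Nat.card N * 2 ^ k := by
  haveI := normal_subgroupOf hn
  have e : ∀ a : H ⧸ N.subgroupOf H, a ^ 2 = 1 := by
    intro a
    obtain ⟨a, rfl⟩ := QuotientGroup.mk_surjective a
    rw [← QuotientGroup.mk_pow, QuotientGroup.eq_one_iff]
    exact h2 a a.2
  have := hr H (N.subgroupOf H) ⊤ (isMulCommutative_of_forall fun a _ b _ => by
    have i : ∀ a : H ⧸ N.subgroupOf H, a⁻¹ = a := fun a => inv_eq_of_mul_eq_one_left (by rw [← sq, e])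
    rw [← i (a * b), mul_inv_rev, i, i]) fun a _ => e a
  rw [card_top, ← index_eq_card] at this
  rw [← CfsgH2.card_mul_relIndex h1]
  exact Nat.mul_le_mul_left _ this

theorem sq_sup {A B N : Subgroup G} (h : B ≤ C(A)) (h1 : ∀ x ∈ A, x ^ 2 ∈ N) (h2 : ∀ x ∈ B, x ^ 2 ∈ N) :
    ∀ x ∈ A ⊔ B, x ^ 2 ∈ N := by
  intro x hx
  obtain ⟨a, ha, b, hb, rfl⟩ := (mem_sup_of_normalizer (le_norm_of_cent h)).1 hx
  rw [(show Commute a b from mem_cent.1 (h hb) a ha).mul_pow]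
  exact mul_mem (h1 a ha) (h2 b hb)

theorem exists_phi {P : Subgroup G} (hP : IsPGroup 2 P) (h : ¬ P ≤ C(P)) :
    ∃ A ≤ P, N(P) ≤ N(A) ∧ ⁅P, P⁆ ≤ A ∧ (∀ x ∈ P, x ^ 2 ∈ A) ∧ Nat.card A * 4 ≤ Nat.card P := by
  refine ⟨(frattini P).map P.subtype, map_subtype_le _, normalizer_le_normalizer_map_of_characteristic _,
    commutator_le_map_frattini hP, fun x hx => pow_mem_map_frattini hP hx, ?_⟩
  obtain ⟨x, hx, hx'⟩ : ∃ x ∈ P, x ∉ (frattini P).map P.subtype := by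
    refine SetLike.exists_of_lt (lt_of_le_of_ne (map_subtype_le _) fun e => h ?_)
    exact (eq_of_sup_map_frattini (H := P) (K := ⊥) bot_le (by rw [bot_sup_eq, e])).ge.trans bot_le
  have h1 : zpowers x ⊔ (frattini P).map P.subtype ≤ P := sup_le (zpowers_le.2 hx) (map_subtype_le _)
  have h2 := CfsgH2.mul_card_le_of_lt hP (lt_of_le_of_ne h1 fun e => h (by
    rw [← eq_of_sup_map_frattini (zpowers_le.2 hx) e]; exact comm_of_cyclic inferInstance))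
  have h3 := CfsgH2.mul_card_le_of_lt (hP.to_le h1) (lt_of_le_of_ne le_sup_right fun e =>
    hx' (e ▸ (le_sup_left : zpowers x ≤ _) (mem_zpowers x)))
  omega

theorem card_sup_comm {P Q A B : Subgroup G} (h : Q ≤ C(P)) (h0 : P ⊓ Q = ⊥) (hA : A ≤ P) (hB : B ≤ Q) :
    Nat.card (A ⊔ B : Subgroup G) = Nat.card A * Nat.card B :=
  card_sup_of_disjoint (le_norm_of_cent (cent_mono h hB hA)) ((disjoint_iff.2 h0).mono hA hB)

theorem eq_of_card_two {Z A : Subgroup G} (h : Nat.card Z = 2) (hA : A ≤ Z) (h0 : A ≠ ⊥) : A = Z := by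
  rcases (Nat.dvd_prime Nat.prime_two).1 (h ▸ card_dvd_of_le hA) with e | e
  · exact absurd (card_eq_one.1 e) h0
  · exact CfsgH2.eq_of_le_of_card_le hA (h.trans e.symm).le

theorem two_normal (hr : SectionalPRankLE 2 4 G) {S P Q : Subgroup G} (h2 : IsPGroup 2 S) (hPS : P ≤ S)
    (hQS : Q ≤ S) (nP : S ≤ N(P)) (nQ : S ≤ N(Q)) (hP : ¬ P ≤ C(P)) (hQ : ¬ Q ≤ C(Q))
    (zP : Nat.card (Z(P) : Subgroup G) = 2) (zQ : Nat.card (Z(Q) : Subgroup G) = 2) (hne : Z(P) ≠ Z(Q)) :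
    P ⊓ Q = ⊥ ∧ Q ≤ C(P) ∧ S ⊓ C(P ⊔ Q) ≤ Z(P) ⊔ Z(Q) := by
  have key : ∀ P A : Subgroup G, P ≤ S → Nat.card (Z(P) : Subgroup G) = 2 → A ≤ P → S ≤ N(A) → A ≠ ⊥ → Z(P) = A ⊓ C(S) := by
    intro P A h1 h3 h4 h5 h6
    refine (eq_of_card_two h3 (inf_le_inf h4 (cent_anti h1)) fun e => ?_).symm
    obtain ⟨x, x1, x2, -, x3⟩ := exists_central_of_ne_bot h2 (h4.trans h1) h5 h6
    exact x2 (mem_bot.1 (e.le ⟨x1, x3⟩))
  have h0 : P ⊓ Q = ⊥ := by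
    by_contra h
    exact hne ((key P _ hPS zP inf_le_left (le_normalizer_inf' nP nQ) h).trans
      (key Q _ hQS zQ inf_le_right (le_normalizer_inf' nP nQ) h).symm)
  have hc : Q ≤ C(P) := le_centralizer_of_normalize (hQS.trans nP) (hPS.trans nQ) (by rw [inf_comm, h0])
  have hz : ∀ x ∈ P ⊔ Q, x ∈ C(P ⊔ Q) → x ∈ Z(P) ⊔ Z(Q) := by
    intro x hx h
    obtain ⟨a, ha, b, hb, rfl⟩ := (mem_sup_of_normalizer (le_norm_of_cent hc)).1 hx
    rw [cent_sup] at h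
    exact mul_mem_sup ⟨ha, (mul_mem_cancel_right (hc hb)).1 h.1⟩
      ⟨hb, (mul_mem_cancel_left (cent_symm hc ha)).1 h.2⟩
  refine ⟨h0, hc, fun y hy => hz y ?_ hy.2⟩
  by_contra hy0
  obtain ⟨k, hk⟩ := h2 ⟨y, hy.1⟩
  obtain ⟨j, j1, j2⟩ := exists_pow_not_mem hy0 (k := k) (p := 2) (by
    rw [show y ^ 2 ^ k = 1 from congrArg Subtype.val hk]; exact one_mem _)
  have hx : y ^ 2 ^ j ∈ S ⊓ C(P ⊔ Q) := pow_mem hy _
  generalize y ^ 2 ^ j = x at j1 j2 hx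
  obtain ⟨A, a1, a2, a3, a4, a5⟩ := exists_phi (h2.to_le hPS) hP
  obtain ⟨B, b1, b2, b3, b4, b5⟩ := exists_phi (h2.to_le hQS) hQ
  have k1 : ∀ P A : Subgroup G, P ≤ S → S ≤ N(P) → ¬ P ≤ C(P) → Nat.card (Z(P) : Subgroup G) = 2 → ⁅P, P⁆ ≤ A → Z(P) ≤ A :=
    fun P A h1 h3 h4 h5 h6 => (key P _ h1 h5 (der_le P) (le_normalizer_commutator' h3 h3)
      (fun e => h4 (cent_of_comm_eq_bot e))).le.trans (inf_le_left.trans h6)
  have h3 := srk_card hr (H := P ⊔ Q ⊔ zpowers x) (N := A ⊔ B) ((sup_le_sup a1 b1).trans le_sup_left)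
    ((sup_le (sup_le hPS hQS) (zpowers_le.2 hx.1)).trans (le_normalizer_sup' (nP.trans a2) (nQ.trans b2)))
    (sq_sup (zpowers_le.2 hx.2) (sq_sup hc (fun x h => mem_sup_left (a4 x h)) fun x h => mem_sup_right (b4 x h)) (by
      rintro _ ⟨i, rfl⟩
      show (x ^ i) ^ 2 ∈ _
      rw [← zpow_natCast, zpow_comm, zpow_natCast]
      exact zpow_mem (sup_le_sup (k1 P A hPS nP hP zP a3) (k1 Q B hQS nQ hQ zQ b3)
        (hz _ j2 (pow_mem hx.2 _))) _))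
  rw [card_sup_zpowers (cent_le_norm _ hx.2) j1 j2, card_sup_comm hc h0 le_rfl le_rfl, card_sup_comm hc h0 a1 b1] at h3
  have := Nat.mul_le_mul a5 b5
  have : 0 < Nat.card A * Nat.card B := Nat.mul_pos Nat.card_pos Nat.card_pos
  nlinarith

end CfsgH9
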