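import Cfsg.Agent.H9.CW
import Cfsg.Agent.H9.SRk
import Cfsg.Agent.H2.SylNum
import Cfsg.Agent.H2.Critical
import Cfsg.Agent.FT.Cyc

set_option autoImplicit false
set_option linter.unusedSectionVars false
open Cfsg Subgroup CfsgH1 CfsgH2 CfsgFT
open scoped commutatorElement

/-! Fixed-point-free `3`-elements on `2`-groups of rank two. -/
namespace CfsgH9
variable {G : Type*} [Group G] [Finite G]

@[reducible] def cjAct (Q : Subgroup G) (P : G → Prop)
    (hP : ∀ q ∈ Q, ∀ u, P u → P (q * u * q⁻¹)) : MulAction Q {u // P u} where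
  smul q u := ⟨q * u * (q : G)⁻¹, hP q q.2 u u.2⟩
  one_smul u := Subtype.ext (by change ((1 : Q) : G) * u * ((1 : Q) : G)⁻¹ = u; simp)
  mul_smul a b u := Subtype.ext (by
    change ((a * b : Q) : G) * u * ((a * b : Q) : G)⁻¹ = a * (b * u * (b : G)⁻¹) * (a : G)⁻¹
    simp [mul_assoc])

theorem card_dvd_of_free_cj (D : Subgroup G) (P : G → Prop) (hP : ∀ q ∈ D, ∀ u, P u → P (q * u * q⁻¹))
    (h : ∀ u, P u → D ⊓ C1(u) = ⊥) : Nat.card D ∣ Nat.card {u // P u} := by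
  let _ := cjAct D P hP
  rw [Nat.card_congr (MulAction.selfEquivOrbitsQuotientProd (G := D) fun x : {u // P u} => eq_bot_iff.2 fun g e =>
    Subtype.ext (mem_bot.1 ((h x x.2).le ⟨g.2, mem_cent1'.2
      (mul_inv_eq_iff_eq_mul.1 (congrArg Subtype.val e))⟩))), Nat.card_prod]
  exact dvd_mul_left _ _

theorem four_le_of_fpf {D R : Subgroup G} (hD : IsPGroup 3 D) (hR : IsPGroup 2 R) (hn : D ≤ N(R))
    (h : R ⊓ C(D) = ⊥) (h0 : R ≠ ⊥) : 4 ≤ Nat.card R := by
  obtain ⟨k, hk⟩ := IsPGroup.iff_card.1 hR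
  have h1 := relIndex_cent_modEq hD hn (by
    rw [hk]; exact fun e => absurd (Nat.prime_three.dvd_of_dvd_pow e) (by decide))
  rw [← inf_relIndex_right, inf_comm, h, relIndex_bot_left, hk] at h1
  rcases k with _ | _ | k
  · exact absurd (card_eq_one.1 hk) h0
  · exact absurd h1 (by decide)
  · rw [hk]; exact Nat.pow_le_pow_right two_pos (show 2 ≤ _ by omega)

theorem mem_of_rank {P U : Subgroup G}
    (hr : ∀ E ≤ P, E ≤ C(E) → (∀ x ∈ E, x ^ 2 = 1) → Nat.card E ≤ 4) (hU : U ≤ P) (hc : U ≤ C(U))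
    (h2 : ∀ x ∈ U, x ^ 2 = 1) (h4 : 4 ≤ Nat.card U) {x : G} (hx : x ∈ P) (x2 : x ^ 2 = 1) (xc : x ∈ C(U)) :
    x ∈ U := by
  by_contra h
  have := hr (U ⊔ zpowers x) (sup_le hU (zpowers_le.2 hx))
    (comm_iff.1 (isMulCommutative_sup_zpowers (comm_iff.2 hc) xc)) fun y hy => mem_bot.1
      (sq_sup (zpowers_le.2 xc) (fun a ha => mem_bot.2 (h2 a ha)) (by
        rintro _ ⟨i, rfl⟩
        show (x ^ i) ^ 2 ∈ _
        rw [← zpow_natCast, zpow_comm, zpow_natCast, x2, one_zpow]; exact one_mem _) y hy)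
  rw [card_sup_zpowers (p := 2) (cent_le_norm _ xc) h (x2 ▸ one_mem _)] at this
  omega

theorem ord3 {d : G} {n : ℕ} (hd : orderOf d = 3 ^ (n + 1)) {P : Subgroup G} (hP : IsPGroup 2 P)
    (hdP : d ∈ N(P)) (hfaith : zpowers d ⊓ C(P) = ⊥) (hfpf : P ⊓ C1(d) = ⊥)
    (hr : ∀ E ≤ P, E ≤ C(E) → (∀ x ∈ E, x ^ 2 = 1) → Nat.card E ≤ 4) : n = 0 := by
  by_contra hn
  have hD := isPGroup_zpowers_of_orderOf hd
  set E := zpowers (d ^ 3 ^ n) with hE
  have ED : E ≤ zpowers d := zpowers_le.2 (npow_mem_zpowers _ _)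
  have cE : Nat.card E = 3 := by
    rw [hE, Nat.card_zpowers, orderOf_pow_of_dvd (by positivity) (hd ▸ pow_dvd_pow 3 (by omega)), hd, pow_succ,
      Nat.mul_div_cancel_left _ (by positivity)]
  have DE : zpowers d ≤ C(E) := (comm_of_cyclic inferInstance).trans (cent_anti ED)
  obtain ⟨Q, -, ⟨q1, q2, q3⟩, hmin⟩ := exists_minimal_subgroup
    (Φ := fun Q => Q ≤ P ∧ zpowers d ≤ N(Q) ∧ ¬ E ≤ C(Q)) (A := P) ⟨le_rfl, zpowers_le.2 hdP, fun h => by
      rw [le_bot_iff.1 ((le_inf ED h).trans hfaith.le), card_bot] at cE; omega⟩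
  have hQ := hP.to_le q1
  have cop : (Nat.card E).Coprime (Nat.card Q) := coprime_card_of_pgroup hQ (by rw [cE]; decide)
  have e1 : ⁅Q, E⁆ = Q := hmin _ ⟨(comm_le_left (ED.trans q2)).trans q1,
    le_normalizer_commutator' q2 (le_norm_of_cent DE), fun h => q3 (cent_symm (cent_of_comm_eq_bot (by
      rw [← coprime_comm_comm (ED.trans q2) cop]; exact comm_eq_bot (cent_symm h))))⟩ (comm_le_left (ED.trans q2))
  have Q0 : Q ≠ ⊥ := by rintro rfl; exact q3 (le_cent_bot _)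
  set F := (frattini Q).map Q.subtype with hF
  have FQ : F < Q := map_frattini_lt Q0
  have nF : N(Q) ≤ N(F) := normalizer_le_normalizer_map_frattini Q
  have EF : E ≤ C(F) := by
    by_contra h
    exact FQ.ne (hmin F ⟨FQ.le.trans q1, q2.trans nF, h⟩ FQ.le)
  have QF : Q ≤ C(F) := cent_of_comm_eq_bot (by
    rw [← e1]
    refine three_subgroups_bot (by rw [comm_eq_bot EF, commutator_bot_left]) (comm_eq_bot (cent_symm ?_))
    exact EF.trans (cent_anti (comm_le_left (le_normalizer.trans nF))))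
  have sqF : ∀ x ∈ Q, x ^ 2 ∈ F := fun x hx => pow_mem_map_frattini hQ hx
  have m4 : ∀ x ∈ Q, ∀ y ∈ Q, (x * y) ^ 4 = x ^ 4 * y ^ 4 := by
    intro x hx y hy
    have cF : y⁻¹ * x⁻¹ * y * x ∈ F := by
      have := commutator_le_map_frattini hQ (commutator_mem_commutator (inv_mem hy) (inv_mem hx))
      rwa [commutatorElement_def, inv_inv, inv_inv] at this
    generalize hc : y⁻¹ * x⁻¹ * y * x = c at cF
    have k : ∀ a ∈ F, ∀ b ∈ Q, Commute a b := fun a ha b hb => mem_cent.1 (QF hb) a ha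
    have s1 : y * x = x * y * c := by rw [← hc]; group
    have s2 : c ^ 2 = 1 := by
      have := (k _ (sqF x hx) y hy).eq
      rw [sq, ← mul_assoc, s1, mul_assoc _ c, (k c cF x hx).eq, ← mul_assoc, mul_assoc x y, s1] at this
      have h3 : x * x * y * 1 = x * x * y * c ^ 2 := by rw [mul_one, sq]; exact this.trans (by group)
      exact (mul_left_cancel h3).symm
    have s3 : (x * y) ^ 2 = x ^ 2 * (y ^ 2 * c) := by
      rw [sq, ← mul_assoc, mul_assoc x y, s1, mul_assoc _ _ y, mul_assoc _ c, (k c cF y hy).eq, sq, sq]; group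
    rw [show 4 = 2 * 2 from rfl, pow_mul, pow_mul, pow_mul, s3,
      (k _ (sqF x hx) _ (mul_mem (pow_mem hy _) (FQ.le cF))).mul_pow, (k _ (sqF y hy) _ (FQ.le cF)).mul_pow, s2,
      mul_one]
  have e4 : ∀ x ∈ Q, x ^ 4 = 1 := by
    let K : Subgroup G :=
      { carrier := {x | x ∈ Q ∧ x ^ 4 = 1}
        one_mem' := ⟨one_mem _, one_pow _⟩
        mul_mem' := fun {a b} ha hb => ⟨mul_mem ha.1 hb.1, by rw [m4 a ha.1 b hb.1, ha.2, hb.2, one_mul]⟩
        inv_mem' := fun {a} ha => ⟨inv_mem ha.1, by rw [inv_pow, ha.2, inv_one]⟩ }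
    have : ⁅Q, E⁆ ≤ K := by
      rw [commutator_le]
      intro x hx a ha
      have m : a * x⁻¹ * a⁻¹ ∈ Q := CfsgH2.conj_mem_of_mem_normalizer (q2 (ED ha)) (inv_mem hx)
      have e : ⁅x, a⁆ = x * (a * x⁻¹ * a⁻¹) := by rw [commutatorElement_def]; group
      rw [e]
      refine ⟨mul_mem hx m, ?_⟩
      have x4 : x⁻¹ ^ 4 ∈ F := by rw [show 4 = 2 * 2 from rfl, pow_mul]; exact pow_mem (sqF _ (inv_mem hx)) _
      rw [m4 x hx _ m, conj_pow, ← mem_cent.1 (EF ha) _ x4]; group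
    exact fun x hx => (this (e1.ge hx)).2
  haveI : IsMulCommutative (Z(Q) : Subgroup G) := comm_iff.2 (inf_le_right.trans (cent_anti inf_le_left))
  set U := omegaOfComm Z(Q) 2 with hU
  have UZ : U ≤ Z(Q) := omegaOfComm_le _ _
  have U2 : ∀ x ∈ U, x ^ 2 = 1 := fun x hx => (mem_omegaOfComm.1 hx).2
  have UU : U ≤ C(U) := (UZ.trans inf_le_right).trans (cent_anti (UZ.trans inf_le_left))
  have U4 : 4 ≤ Nat.card U := by
    refine four_le_of_fpf hD (hQ.to_le (UZ.trans inf_le_left)) ((le_normalizer_inf' q2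
      (le_normalizer_centralizer' q2)).trans (normalizer_le_normalizer_omegaOfComm _ _))
      (le_bot_iff.1 (hfpf ▸ inf_le_inf ((UZ.trans inf_le_left).trans q1) (cent_zpowers d).le)) fun h => ?_
    obtain ⟨x, x1, x2, x3, x4⟩ := exists_central_of_ne_bot hQ le_rfl le_normalizer Q0
    exact x2 (mem_bot.1 (h.le (mem_omegaOfComm.2 ⟨⟨x1, x4⟩, x3⟩)))
  have U4' := hr U ((UZ.trans inf_le_left).trans q1) UU U2
  have c1 : U.subgroupOf Q ≤ center Q := fun x hx => mem_center_iff.2 fun y =>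
    Subtype.ext (mem_cent.1 (UZ hx).2 y y.2)
  have h64 := cw hQ c1 (fun x => mem_omegaOfComm.2 ⟨⟨(x * x).2, cent_symm QF (by simpa [sq] using sqF x x.2)⟩, by
    rw [← e4 x x.2]; simp [pow_succ, mul_assoc]⟩) fun u hu => Subtype.ext (by simpa [sq] using U2 u hu)
  have c2 : Nat.card {x : Q // x ^ 2 = 1} ≤ Nat.card (U.subgroupOf Q) :=
    card_subtype_le fun x hx => mem_of_rank hr ((UZ.trans inf_le_left).trans q1) UU U2 U4 (q1 x.2)
      (congrArg Subtype.val hx) (cent_symm (UZ.trans inf_le_right) x.2)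
  have c3 := card_le_of_le c1
  rw [card_subgroupOf (UZ.trans inf_le_left)] at h64 c2 c3
  have c4 : Nat.card Q ≤ 64 := by
    have : (Nat.card U * Nat.card {x : Q // x ^ 2 = 1}) ^ 2 ≤ (4 * 4) ^ 2 := by gcongr; omega
    nlinarith
  have d1 := card_dvd_of_free_cj (zpowers d) (fun y => y ∈ Q ∧ ¬ y ∈ C(E)) (fun a ha y hy =>
    ⟨CfsgH2.conj_mem_of_mem_normalizer (q2 ha) hy.1, fun h => hy.2 (by
      simpa [mul_assoc] using CfsgH2.conj_mem_of_mem_normalizer'
        (le_normalizer_centralizer' (le_norm_of_cent DE) ha) h)⟩) fun y hy => by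
    by_contra h
    exact hy.2 (le_cent1_iff.1 ((le_of_cyclic_pgroup inferInstance hD ED cE inf_le_left h).trans inf_le_right))
  have d2 := card_add_card_not (fun y => y ∈ Q) (fun y => y ∈ C(E))
  have d3 := card_inf_mul_relIndex C(E) Q
  rw [inf_comm] at d3
  change Nat.card (Q ⊓ C(E) : Subgroup G) + _ = Nat.card Q at d2
  obtain ⟨k, hk⟩ := hQ.index (C(E).subgroupOf Q)
  rw [← relIndex] at hk
  obtain ⟨l, hl⟩ := IsPGroup.iff_card.1 (hQ.to_le (inf_le_left : Q ⊓ C(E) ≤ Q))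
  have d4 : 2 ^ k ≤ 32 := by
    rw [hk] at d3
    by_cases h : F = ⊥
    · have := hr Q q1 (cent_of_comm_eq_bot (le_bot_iff.1 (h ▸ commutator_le_map_frattini hQ)))
        fun x hx => mem_bot.1 (h ▸ sqF x hx)
      have : 0 < Nat.card (Q ⊓ C(E) : Subgroup G) := Nat.card_pos
      nlinarith
    · have := (one_lt_card_iff_ne_bot _).2 h
      have := card_le_of_le (le_inf FQ.le (cent_symm EF))
      nlinarith
  have d5 : 9 ∣ 2 ^ k - 1 := by
    refine Nat.Coprime.dvd_of_dvd_mul_left (m := 2 ^ l) (Nat.Coprime.pow_right _ (by decide)) ?_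
    rw [Nat.card_zpowers, hd] at d1
    refine ((pow_dvd_pow 3 (show 2 ≤ n + 1 by omega)).trans d1).trans (dvd_of_eq ?_)
    rw [Nat.mul_sub, ← hl, ← hk, d3]; omega
  have d6 : k ≠ 0 := by
    rintro rfl
    exact q3 (cent_symm (relIndex_eq_one.1 hk))
  have : k ≤ 5 := (Nat.pow_le_pow_iff_right one_lt_two).1 d4
  interval_cases k <;> omega

end CfsgH9
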