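import Cfsg.Agent.H7.St2

set_option autoImplicit false

namespace Cfsg.Agent.H9.GX

open Cfsg CfsgH7
open scoped Pointwise

theorem dual {v : GolayPt → ZMod 2} (h8 : (support₂ v).card < 8)
    (h : ∀ c : golayCode, ∑ p, v p * c.1 p = 0) : v = 0 := by
  have h1 : support₂ v ∈ Cw := Cw_of_even fun o ho => by
    obtain ⟨c, hc, rfl⟩ := (mem_octads.1 ho).1
    have h2 := h ⟨c, hc⟩
    have h3 : ((support₂ v ∩ support₂ c).card : ZMod 2) = ∑ p, v p * c p := by
      rw [support₂, support₂, ← Finset.filter_and, Finset.card_filter]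
      push_cast
      refine Finset.sum_congr rfl fun p _ => ?_
      generalize v p = a; generalize c p = b; revert a b; decide
    exact Nat.mod_eq_zero_of_dvd ((ZMod.natCast_eq_zero_iff _ 2).1 (h3.trans h2))
  have h2 : (support₂ v).card = 0 := by have := Cw_card h1; omega
  funext p
  by_contra hp
  have : p ∈ support₂ v := by simpa [support₂] using hp
  rw [Finset.card_eq_zero.1 h2] at this
  simp at this

theorem six {a b a' b' k l : GolayPt}
    (h : ∀ c : golayCode, c.1 a + c.1 b + c.1 a' + c.1 b' + c.1 k + c.1 l = 0) (p : GolayPt) :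
    ((if p = a then 1 else 0) + (if p = b then 1 else 0) + (if p = a' then 1 else 0) +
      (if p = b' then 1 else 0) + (if p = k then 1 else 0) + (if p = l then 1 else 0) : ZMod 2) = 0 := by
  refine congrFun (dual (v := fun p => (if p = a then 1 else 0) + (if p = b then 1 else 0) +
    (if p = a' then 1 else 0) + (if p = b' then 1 else 0) + (if p = k then 1 else 0) +
    (if p = l then 1 else 0)) ?_ fun c => ?_) p
  · refine lt_of_le_of_lt (Finset.card_le_card (t := {a, b, a', b', k, l}) fun q hq => ?_)
      (lt_of_le_of_lt Finset.card_le_six (by norm_num))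
    by_contra hc
    simp only [Finset.mem_insert, Finset.mem_singleton, not_or] at hc
    simp [support₂, hc] at hq
  · simp only [add_mul, Finset.sum_add_distrib, ite_mul, one_mul, zero_mul, Finset.sum_ite_eq',
      Finset.mem_univ, if_true]
    exact h c

def chi (t : ZMod 2) : ℚ := if t = 0 then 1 else -1

theorem chi_add (s t : ZMod 2) : chi (s + t) = chi s * chi t := by
  fin_cases s <;> fin_cases t <;> simp [chi] <;> decide

theorem chi_inj {s t : ZMod 2} (h : chi s = chi t) : s = t := by
  rcases (by decide : ∀ a : ZMod 2, a = 0 ∨ a = 1) s with rfl | rfl <;>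
    rcases (by decide : ∀ a : ZMod 2, a = 0 ∨ a = 1) t with rfl | rfl
  · rfl
  · simp [chi] at h; norm_num at h
  · simp [chi] at h; norm_num at h
  · rfl

def ch (x : golayCode ≃ₗ[ZMod 2] golayCode) (a : GolayPt × GolayPt) : Multiplicative golayCode →* ℚ where
  toFun c := chi ((x c.toAdd).1 a.1 + (x c.toAdd).1 a.2)
  map_one' := by simp [chi]
  map_mul' c d := by
    rw [← chi_add, toAdd_mul, map_add]; congr 1
    simp only [Submodule.coe_add, Pi.add_apply]; ring

theorem pairs (x : golayCode ≃ₗ[ZMod 2] golayCode)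
    (h : ∀ c : golayCode, (∑ p, chi ((x c).1 p)) ^ 2 = (∑ p, chi (c.1 p)) ^ 2) (i j : GolayPt) :
    ∃ k l, ∀ c : golayCode, (x c).1 i + (x c).1 j = c.1 k + c.1 l := by
  classical
  by_contra hc
  have h0 : ∀ a, ch (LinearEquiv.refl _ _) a ≠ ch x (i, j) := fun a ha => hc ⟨a.1, a.2, fun c =>
    (chi_inj (DFunLike.congr_fun ha (Multiplicative.ofAdd c))).symm⟩
  have h1 := linearIndependent_iff.1 (linearIndependent_monoidHom (Multiplicative golayCode) ℚ)
    (∑ a, Finsupp.single (ch x a) 1 - ∑ a, Finsupp.single (ch (LinearEquiv.refl _ _) a) 1) (by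
      funext c
      simp only [map_sub, map_sum, Finsupp.linearCombination_single, one_smul, Pi.sub_apply,
        Finset.sum_apply, Pi.zero_apply, sub_eq_zero]
      have := h c.toAdd
      rw [sq, sq, Finset.sum_mul_sum, Finset.sum_mul_sum] at this
      simp only [Fintype.sum_prod_type]
      simpa only [ch, MonoidHom.coe_mk, OneHom.coe_mk, chi_add, LinearEquiv.refl_apply] using this)
  have h2 := DFunLike.congr_fun h1 (ch x (i, j))
  simp only [Finsupp.coe_sub, Pi.sub_apply, Finsupp.finset_sum_apply, Finsupp.single_apply, h0,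
    if_false, Finset.sum_const_zero, sub_zero, Finsupp.coe_zero, Pi.zero_apply] at h2
  have h3 := (Finset.sum_eq_zero_iff_of_nonneg (fun a _ => by split_ifs <;> norm_num)).1 h2 (i, j)
    (Finset.mem_univ _)
  simp at h3

theorem main (x : golayCode ≃ₗ[ZMod 2] golayCode)
    (h : ∀ c : golayCode, (∑ p, chi ((x c).1 p)) ^ 2 = (∑ p, chi (c.1 p)) ^ 2) :
    ∃ σ ∈ M24, ∀ c : golayCode, (x c).1 = (fun p => c.1 (σ.symm p)) ∨
      (x c).1 = (fun p => c.1 (σ.symm p)) + fun _ => (1 : ZMod 2) := by
  choose K L hKL using pairs x h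
  have z2 : ∀ a : ZMod 2, a + a = 0 := by decide
  have hinj : ∀ i j, (∀ c : golayCode, (x c).1 i + (x c).1 j = 0) → i = j := fun i j hh => by
    by_contra hij
    have := six (a := i) (b := j) (a' := i) (b' := i) (k := i) (l := i) (fun c => by
      have := hh (x.symm c); rw [x.apply_symm_apply] at this
      linear_combination this + 2 * z2 (c.1 i)) j
    simp [Ne.symm hij] at this
  have hkl : ∀ t : ZMod 23, K none (some t) ≠ L none (some t) := fun t ht =>
    absurd (hinj none (some t) fun c => by rw [hKL, ht, z2]) (by simp)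
  have hne : ∀ s t : ZMod 23, s ≠ t → ¬ ((K none (some s) = K none (some t) ∧ L none (some s) = L none (some t)) ∨
      (K none (some s) = L none (some t) ∧ L none (some s) = K none (some t))) := fun s t hst hh =>
    hst (Option.some.inj (hinj (some s) (some t) fun c => by
      have h1 := hKL none (some s) c; have h2 := hKL none (some t) c
      rcases hh with ⟨e1, e2⟩ | ⟨e1, e2⟩ <;> rw [e1, e2] at h1 <;>
        linear_combination h1 - h2 + z2 ((x c).1 (some t))))
  have hmeet : ∀ s t : ZMod 23, K none (some s) = K none (some t) ∨ K none (some s) = L none (some t) ∨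
      L none (some s) = K none (some t) ∨ L none (some s) = L none (some t) := fun s t => by
    have h6 := six (a := K none (some s)) (b := L none (some s)) (a' := K none (some t))
      (b' := L none (some t)) (k := K (some s) (some t)) (l := L (some s) (some t)) (fun c => by
        linear_combination -hKL none (some s) c - hKL none (some t) c - hKL (some s) (some t) c +
          z2 ((x c).1 none) + z2 ((x c).1 (some s)) + z2 ((x c).1 (some t)))
    by_contra hc
    simp only [not_or] at hc
    obtain ⟨c1, c2, c3, c4⟩ := hc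
    have k1 := hkl s; have k2 := hkl t
    have e1 := h6 (K none (some s)); have e2 := h6 (L none (some s)); have e3 := h6 (K none (some t))
    have o : ∀ (P Q : Prop) [Decidable P] [Decidable Q],
        (1 + (if P then 1 else 0) + (if Q then 1 else 0) : ZMod 2) = 0 → P ∨ Q := fun P Q _ _ hh => by
      by_contra hc; rw [not_or] at hc; simp [hc.1, hc.2] at hh
    simp only [if_true, if_neg k1, if_neg (Ne.symm k1), if_neg k2, if_neg c1, if_neg c2, if_neg c3,
      if_neg c4, if_neg (Ne.symm c1), if_neg (Ne.symm c3), add_zero, zero_add] at e1 e2 e3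
    have f1 := o _ _ e1; have f2 := o _ _ e2; have f3 := o _ _ e3
    grind
  obtain ⟨s0, hs0⟩ : ∃ s0, ∀ t : ZMod 23, K none (some t) = s0 ∨ L none (some t) = s0 := by
    by_contra hc
    push Not at hc
    obtain ⟨i1, h1⟩ := hc (K none (some 0))
    obtain ⟨i2, h2⟩ := hc (L none (some 0))
    obtain ⟨j, hj⟩ : ∃ j : ZMod 23, j ∉ ({0, i1, i2} : Finset (ZMod 23)) := by
      by_contra hh
      push Not at hh
      have := (Finset.card_le_card (fun j _ => hh j : Finset.univ ⊆ _)).trans Finset.card_le_three
      simp at this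
    simp only [Finset.mem_insert, Finset.mem_singleton, not_or] at hj
    have := hmeet 0 i1; have := hmeet 0 i2; have := hmeet i1 i2
    have := hmeet j 0; have := hmeet j i1; have := hmeet j i2
    have := hne j 0 hj.1; have := hne j i1 hj.2.1; have := hne j i2 hj.2.2
    have := hkl 0; have := hkl i1; have := hkl i2; have := hkl j
    grind
  let τ : GolayPt → GolayPt := fun p => p.elim s0 fun t =>
    if K none (some t) = s0 then L none (some t) else K none (some t)
  have hτ : ∀ (c : golayCode) p, (x c).1 p = c.1 (τ p) + ((x c).1 none + c.1 s0) := fun c p => by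
    rcases p with _ | t
    · change _ = c.1 s0 + _; linear_combination -z2 (c.1 s0)
    · have h1 := hKL none (some t) c
      change _ = c.1 (if K none (some t) = s0 then L none (some t) else K none (some t)) + _
      split_ifs with h2
      · rw [h2] at h1; linear_combination h1 - z2 ((x c).1 none)
      · rw [(hs0 t).resolve_left h2] at h1; linear_combination h1 - z2 ((x c).1 none)
  have hτi : Function.Injective τ := fun p q hpq => hinj p q fun c => by
    rw [hτ c p, hτ c q, hpq, z2]
  let e : Equiv.Perm GolayPt := Equiv.ofBijective τ (Finite.injective_iff_bijective.1 hτi)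
  have hor : ∀ c : golayCode, (x c).1 = (fun p => c.1 (τ p)) ∨
      (x c).1 = (fun p => c.1 (τ p)) + fun _ => (1 : ZMod 2) := fun c => by
    rcases (by decide : ∀ a : ZMod 2, a = 0 ∨ a = 1) ((x c).1 none + c.1 s0) with h0 | h0
    · exact Or.inl (funext fun p => by rw [hτ c p, h0, add_zero])
    · exact Or.inr (funext fun p => by rw [hτ c p, h0]; rfl)
  refine ⟨e⁻¹, mem_M24_iff.2 ?_, hor⟩
  rintro _ ⟨c, hc, rfl⟩
  have h1 : (fun p => c (τ p)) ∈ golayCode := by
    rcases hor ⟨c, hc⟩ with h0 | h0
    · exact h0 ▸ (x ⟨c, hc⟩).2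
    · have h2 : (fun p => c (τ p)) = (x ⟨c, hc⟩).1 - 1 := by rw [h0]; exact (add_sub_cancel_right _ _).symm
      rw [h2]
      exact sub_mem (x ⟨c, hc⟩).2 (Submodule.subset_span (Or.inr rfl))
  have h2 : e⁻¹ • support₂ c = support₂ fun p => c (τ p) := by
    ext p
    rw [← Finset.inv_smul_mem_iff, inv_inv]
    simp only [support₂, Finset.mem_filter, Finset.mem_univ, true_and]
    rfl
  rw [h2]; exact support_mem_Cw.2 h1

theorem sq_eq {c d : GolayPt → ZMod 2} (σ : Equiv.Perm GolayPt)
    (h : d = (fun p => c (σ.symm p)) ∨ d = (fun p => c (σ.symm p)) + fun _ => (1 : ZMod 2)) :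
    (∑ p, chi (d p)) ^ 2 = (∑ p, chi (c p)) ^ 2 := by
  rw [← Equiv.sum_comp σ.symm (fun p => chi (c p))]
  rcases h with rfl | rfl
  · rfl
  · simp only [Pi.add_apply, chi_add, ← Finset.sum_mul, show chi 1 = -1 by simp [chi]]; ring

end Cfsg.Agent.H9.GX
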