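import Cfsg.Agent.H1.Bridge
import Cfsg.Agent.H1.BG36a

/-! Hall–Higman Theorem B: linear algebra and the core induction. -/

set_option autoImplicit false
set_option linter.unusedSectionVars false

namespace CfsgH9

open Subgroup Cfsg CfsgH1 CfsgH2 CfsgFT Module Polynomial
open scoped commutatorElement

universe u v

variable {F : Type*} [Field F]

/-- `t` is killed by a nonzero polynomial of degree at most `r`. -/
def Dg {V : Type*} [AddCommGroup V] [Module F V] (t : End F V) (r : ℕ) : Prop :=
  ∃ f : F[X], f ≠ 0 ∧ f.natDegree ≤ r ∧ aeval t f = 0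

/-- The commutant of an endomorphism. -/
def cmt {V : Type*} [AddCommGroup V] [Module F V] (t : End F V) : Submodule F (V →ₗ[F] V) where
  carrier := {T | Commute (T : End F V) t}
  add_mem' := Commute.add_left
  zero_mem' := Commute.zero_left t
  smul_mem' c _ h := h.smul_left c

section
variable {V : Type*} [AddCommGroup V] [Module F V]

theorem Dg.mono {t : End F V} {r s : ℕ} (h : Dg t r) (l : r ≤ s) : Dg t s :=
  let ⟨f, a, b, c⟩ := h; ⟨f, a, b.trans l, c⟩

theorem Dg.pos [Nontrivial V] {t : End F V} {r : ℕ} (h : Dg t r) : 0 < r := by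
  obtain ⟨f, a, b, c⟩ := h
  refine Nat.pos_of_ne_zero fun e => a ?_
  subst e
  rw [eq_C_of_natDegree_le_zero b] at c ⊢
  rw [aeval_C, map_eq_zero_iff _ (algebraMap F (End F V)).injective] at c
  rw [c, C_0]

theorem cmt_step [FiniteDimensional F V] {W : Type*} [AddCommGroup W] [Module F W] [FiniteDimensional F W] (ι : W →ₗ[F] V)
    (π : V →ₗ[F] W) (hι : LinearMap.ker ι = ⊥) (hπ : LinearMap.range π = ⊤) :
    finrank F (cmt (π ∘ₗ ι)) + (finrank F V - finrank F W) ^ 2 ≤ finrank F (cmt (ι ∘ₗ π)) := by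
  set R := LinearMap.range ι
  obtain ⟨P, hP⟩ := ι.exists_leftInverse_of_injective hι
  obtain ⟨s, hs⟩ := π.exists_rightInverse_of_surjective hπ
  have p1 : ∀ x, P (ι x) = x := fun x => LinearMap.congr_fun hP x
  have s1 : ∀ x, π (s x) = x := fun x => LinearMap.congr_fun hs x
  have e2 : ∀ x, R.mkQ (ι x) = 0 := fun x => (Submodule.Quotient.mk_eq_zero _).2 (LinearMap.mem_range_self ι x)
  let Φ : (cmt (π ∘ₗ ι) × ((V ⧸ R) →ₗ[F] LinearMap.ker π)) →ₗ[F] cmt (ι ∘ₗ π) :=
    { toFun := fun a => ⟨ι ∘ₗ a.1.1 ∘ₗ P + s ∘ₗ a.1.1 ∘ₗ π ∘ₗ (1 - ι ∘ₗ P) +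
          (LinearMap.ker π).subtype ∘ₗ a.2 ∘ₗ R.mkQ, LinearMap.ext fun x => by
        have e3 : ∀ y, π (ι (a.1.1 y)) = a.1.1 (π (ι y)) := fun y => (LinearMap.congr_fun a.1.2 y).symm
        have e4 : π (a.2 (R.mkQ x)) = 0 := (a.2 _).2
        simp only [End.mul_apply, LinearMap.add_apply, LinearMap.comp_apply, LinearMap.sub_apply, End.one_apply,
          Submodule.subtype_apply, p1, e2, map_zero, map_add, e3, e4, s1, map_sub, Submodule.coe_zero]
        abel⟩
      map_add' := fun a b => Subtype.ext (LinearMap.ext fun x => by simp; abel)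
      map_smul' := fun c a => Subtype.ext (LinearMap.ext fun x => by simp [smul_sub]) }
  have hΦ : Function.Injective Φ := (injective_iff_map_eq_zero Φ).2 fun a h => by
    have h' := fun x => LinearMap.congr_fun (congrArg Subtype.val h) x
    have h1 : a.1 = 0 := Subtype.ext (LinearMap.ext fun x => LinearMap.ker_eq_bot'.1 hι _ (by
      have := h' (ι x)
      simpa [Φ, p1, show Submodule.Quotient.mk (ι x) = (0 : V ⧸ R) from e2 x] using this))
    refine Prod.ext h1 (Submodule.linearMap_qext _ (LinearMap.ext fun x => Subtype.ext ?_))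
    simpa [Φ, h1] using h' x
  have := LinearMap.finrank_le_finrank_of_injective hΦ
  have a := R.finrank_quotient_add_finrank
  have b := π.finrank_range_add_finrank_ker
  rw [LinearMap.finrank_range_of_inj (LinearMap.ker_eq_bot.1 hι)] at a
  rw [hπ, finrank_top] at b
  rwa [finrank_prod, finrank_linearMap, show finrank F (V ⧸ R) = finrank F V - finrank F W by omega,
    show finrank F (LinearMap.ker π) = finrank F V - finrank F W by omega, ← sq] at this

theorem cmt_sub (t : End F V) (c : F) : cmt (t - algebraMap F _ c) = cmt t :=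
  Submodule.ext fun T => ⟨fun h => show Commute (T : End F V) t by simpa using Commute.add_right h (Algebra.commutes c T).symm,
    fun h => Commute.sub_right h (Algebra.commutes c T).symm⟩

theorem aeval_restrict {t : End F V} {U : Submodule F V} (h : ∀ x ∈ U, t x ∈ U) (f : F[X]) (x : U) :
    (aeval (t.restrict h) f x : V) = aeval t f x := by
  induction f using Polynomial.induction_on' with
  | add a b ha hb => simp [ha, hb]
  | monomial n c => simp [aeval_monomial, End.pow_restrict n h]

end

theorem cent_dim [IsAlgClosed F] (r : ℕ) : ∀ {V : Type v} [AddCommGroup V] [Module F V] [FiniteDimensional F V]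
    (t : End F V), Dg t r → ∃ n : ℕ → ℕ, ∑ i ∈ Finset.range r, n i = finrank F V ∧
      ∑ i ∈ Finset.range r, n i ^ 2 ≤ finrank F (cmt t) := by
  induction r with
  | zero =>
    intro V _ _ _ t h
    rcases subsingleton_or_nontrivial V with _ | _
    · exact ⟨0, by simp [finrank_zero_of_subsingleton], by simp⟩
    · exact absurd h.pos (lt_irrefl 0)
  | succ r ih =>
    intro V _ _ _ t ⟨f, a, b, c⟩
    obtain ⟨d, g, g0, g1, g2⟩ : ∃ (d : F) (g : F[X]), g ≠ 0 ∧ g.natDegree ≤ r ∧ aeval t (g * (X - C d)) = 0 := by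
      by_cases e : f.natDegree ≤ r
      · exact ⟨0, f, a, e, by rw [map_mul, c, zero_mul]⟩
      · obtain ⟨d, hd⟩ := IsAlgClosed.exists_root f (degree_ne_of_natDegree_ne (n := 0) (by omega))
        obtain ⟨g, rfl⟩ := dvd_iff_isRoot.2 hd
        refine ⟨d, g, right_ne_zero_of_mul a, ?_, mul_comm g _ ▸ c⟩
        rw [natDegree_mul (left_ne_zero_of_mul a) (right_ne_zero_of_mul a), natDegree_X_sub_C] at b
        omega
    let N := t - algebraMap F _ d
    have hN : ∀ x ∈ LinearMap.range N, t x ∈ LinearMap.range N := by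
      rintro _ ⟨x, rfl⟩; exact ⟨t x, by simp [N]⟩
    obtain ⟨n, n1, n2⟩ := ih (t.restrict hN) ⟨g, g0, g1, LinearMap.ext fun x => Subtype.ext (by
      rw [aeval_restrict]
      obtain ⟨_, x, rfl⟩ := x
      simpa [N] using LinearMap.congr_fun g2 x)⟩
    have s := cmt_step _ _ (LinearMap.range N).ker_subtype N.range_rangeRestrict
    rw [show (LinearMap.range N).subtype ∘ₗ _ = t - algebraMap F _ d from rfl, cmt_sub,
      show _ ∘ₗ (LinearMap.range N).subtype = t.restrict hN - algebraMap F (End F _) d from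
        LinearMap.ext fun x => Subtype.ext (by simp [N]), cmt_sub] at s
    refine ⟨fun i => if i = r then finrank F V - finrank F (LinearMap.range N) else n i, ?_, ?_⟩ <;>
      simp only [Finset.sum_range_succ, if_true] <;>
      rw [Finset.sum_congr rfl fun i hi => by rw [if_neg (Finset.mem_range.1 hi).ne]]
    · rw [n1, Nat.add_sub_cancel' (Submodule.finrank_le _)]
    · omega

section
variable {V : Type*} [AddCommGroup V] [Module F V]

theorem sum_range_mul' {M : Type*} [AddCommMonoid M] (φ : ℕ → M) (k e : ℕ) :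
    ∑ n ∈ Finset.range (k * e), φ n = ∑ i ∈ Finset.range k, ∑ j ∈ Finset.range e, φ (k * j + i) := by
  induction e with
  | zero => simp
  | succ e ih => simp only [mul_add, mul_one, Finset.sum_range_add, ih, Finset.sum_add_distrib, Finset.sum_range_one, add_zero, mul_zero]

theorem cliff {t : End F V} (ht : Function.Injective t) {k r : ℕ} (hk : 0 < k) {U : Submodule F V} (hU : ∀ x ∈ U, (t ^ k) x ∈ U)
    (hi : iSupIndep fun i : Finset.range k => U.map (t ^ (i : ℕ))) (h : Dg t r) : Dg ((t ^ k).restrict hU) (r / k) := by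
  obtain ⟨f, a, b, c⟩ := h
  set d := f.natDegree
  let g : ℕ → F[X] := fun i => ∑ j ∈ Finset.range (d + 1), monomial j (f.coeff (k * j + i))
  have cg : ∀ i j, (g i).coeff j = f.coeff (k * j + i) := fun i j => by
    simp only [g, finset_sum_coeff, coeff_monomial, Finset.sum_ite_eq', Finset.mem_range]
    split_ifs with l
    · rfl
    · exact (coeff_eq_zero_of_natDegree_lt (by nlinarith)).symm
  refine ⟨g (d % k), fun e => a ?_, natDegree_le_iff_coeff_eq_zero.2 fun j l => ?_, LinearMap.ext fun x => Subtype.ext ?_⟩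
  · rw [← leadingCoeff_eq_zero, leadingCoeff, ← Nat.div_add_mod f.natDegree k, ← cg, e, coeff_zero]
  · rw [cg]
    refine coeff_eq_zero_of_natDegree_lt ?_
    have := (Nat.div_lt_iff_lt_mul hk).1 l
    rw [mul_comm] at this
    omega
  have m : ∀ i, aeval (t ^ k) (g i) x ∈ U := fun i => aeval_restrict hU _ x ▸ Subtype.property _
  have := (iSupIndep_iff_finsetSum_eq_zero_imp_eq_zero _).1 hi Finset.univ (fun i => (t ^ (i : ℕ)) (aeval (t ^ k) (g i) x))
    (fun i _ => ⟨_, m i, rfl⟩) ?_ ⟨d % k, Finset.mem_range.2 (Nat.mod_lt _ hk)⟩ (Finset.mem_univ _)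
  · rw [aeval_restrict]
    exact (End.coe_pow t _ ▸ ht.iterate _ : Function.Injective (t ^ (d % k))) (this.trans (map_zero _).symm)
  rw [Finset.sum_coe_sort _ fun i => (t ^ i) (aeval (t ^ k) (g i) x)]
  have := LinearMap.congr_fun c x
  rw [aeval_eq_sum_range' (n := k * (d + 1)) (by nlinarith), sum_range_mul'] at this
  simp only [LinearMap.zero_apply, LinearMap.sum_apply] at this
  rw [← this]
  refine Finset.sum_congr rfl fun i _ => ?_
  simp only [g, map_sum, LinearMap.sum_apply, aeval_monomial]
  refine Finset.sum_congr rfl fun j _ => ?_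
  rw [add_comm, pow_add, pow_mul]
  simp

end

end CfsgH9
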