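import Cfsg.Agent.H9.HH1

/-! Hall–Higman Theorem B: the core induction. -/

set_option autoImplicit false
set_option linter.unusedSectionVars false

namespace CfsgH9

open Subgroup Cfsg CfsgH1 CfsgH2 CfsgFT Module Polynomial
open scoped commutatorElement

universe u v

variable {F : Type*} [Field F]

section
variable {G : Type*} [Group G] {V : Type*} [AddCommGroup V] [Module F V] {ρ : Representation F G V}

theorem Dg.restrict {t : End F V} {r : ℕ} (h : Dg t r) {U : Submodule F V} (hU : ∀ x ∈ U, t x ∈ U) : Dg (t.restrict hU) r :=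
  let ⟨f, a, b, c⟩ := h; ⟨f, a, b, LinearMap.ext fun x => Subtype.ext (by rw [aeval_restrict, c]; rfl)⟩

/-- Restriction of a representation to a subgroup and an invariant subspace. -/
def subRep (ρ : Representation F G V) (L : Subgroup G) (U : Submodule F V) (h : ∀ g ∈ L, ∀ v ∈ U, ρ g v ∈ U) :
    Representation F L U :=
  Representation.subrepresentation (ρ.comp L.subtype) U fun g v hv => h g g.2 v hv

theorem mem_ker_subRep {L : Subgroup G} {U : Submodule F V} {h : ∀ g ∈ L, ∀ v ∈ U, ρ g v ∈ U} {g : L} :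
    g ∈ MonoidHom.ker (subRep ρ L U h) ↔ ∀ v ∈ U, ρ g v = v :=
  ⟨fun e v hv => congrArg Subtype.val (LinearMap.congr_fun e ⟨v, hv⟩), fun e => LinearMap.ext fun v => Subtype.ext (e v v.2)⟩

variable [IsAlgClosed F] [FiniteDimensional F V] [Finite G] [Nontrivial V] {Q Z : Subgroup G} {x : G} {r : ℕ}

theorem symp0 (hXQ : x ∈ N(Q)) (hcop : (orderOf x).Coprime (Nat.card Q)) (hQ : (Nat.card Q : F) ≠ 0)
    (hschur : ∀ T : End F V, (∀ g ∈ Q ⊔ zpowers x, Commute T (ρ g)) → ∃ c : F, T = c • 1)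
    (hZ : ∀ z ∈ Z, ∃ c : F, ρ z = c • 1) (hQQ : ⁅Q, Q⁆ ≤ Z)
    (hnd : ∀ q ∈ Q, (∀ y ∈ Q, Commute (ρ q) (ρ y)) → q ∈ Z)
    (hfree : ∀ z ∈ zpowers x, z ≠ 1 → Q ⊓ C1(z) ≤ Z) (h : Dg (ρ x) r) (hr : r < orderOf x) :
    finrank F V ^ 2 = Z.relIndex Q ∧ (finrank F V = 1 ∨ finrank F V + 1 = orderOf x ∧ finrank F V ≤ r) := by
  have hZσ : Z ≤ MonoidHom.ker (ρ.linHom ρ) := fun z hz => by
    obtain ⟨c, hc⟩ := hZ z hz
    refine LinearMap.ext fun T => linHom_eq_self_iff.mpr ?_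
    rw [hc]
    exact (Commute.one_right _).smul_right c
  have hc := commute_of_commutator_le_ker (hQQ.trans hZσ)
  rw [← Nat.card_zpowers] at hcop hr ⊢
  have h1 := wielandt_comm hc hQ (zpowers_le.2 hXQ) fun y hy h => by
    have e : Q ≤ ⁅Q, zpowers y⁆ ⊔ Z :=
      (commutator_zpowers_sup (zpowers_le.2 hXQ) hcop hy).ge.trans (sup_le_sup_left (hfree y hy h) _)
    refine le_trans ?_ (fixS_anti e)
    rw [fixS_sup, fixS_eq_top_iff.mpr hZσ, inf_top_eq]
  have hone : ∀ H : Subgroup G, (1 : End F V) ∈ fixS (ρ.linHom ρ) H := fun H =>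
    mem_fixS_linHom.mpr fun _ _ => Commute.one_left _
  have h2 : finrank F (fixS (ρ.linHom ρ) (Q ⊔ zpowers x)) = 1 := by
    refine finrank_eq_one_iff'.mpr ⟨⟨1, hone _⟩, fun h => one_ne_zero (congrArg Subtype.val h), fun T => ?_⟩
    obtain ⟨c, hc⟩ := hschur T (mem_fixS_linHom.mp T.2)
    exact ⟨c, Subtype.ext hc.symm⟩
  have h3 : 0 < finrank F (fixS (ρ.linHom ρ) Q) := Nat.pos_of_ne_zero fun h => by
    have := hone Q
    rw [Submodule.finrank_eq_zero.mp h, Submodule.mem_bot] at this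
    exact one_ne_zero this
  have h4 := finrank_sq_eq_relIndex_mul hQ hZ hQQ hnd
  obtain ⟨n, n1, n2⟩ := cent_dim r _ h
  rw [h2, finrank_linearMap, ← sq, mul_one, show fixS (ρ.linHom ρ) (zpowers x) = cmt (ρ x) from
    Submodule.ext fun T => mem_fixS_zpowers.trans linHom_eq_self_iff] at h1
  have H := Nat.add_le_add_right (Nat.mul_le_mul_left (Nat.card (zpowers x)) n2) (finrank F (fixS (ρ.linHom ρ) Q))
  rw [h1, ← n1] at H
  obtain ⟨h8, h9⟩ := comb_lt _ _ h3 (by rwa [Finset.card_range]) (n1 ▸ finrank_pos) H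
  have cs := sq_sum_le_card_mul_sum_sq (s := Finset.range r) (f := n)
  rw [n1] at h9 H cs
  rw [h8, mul_one] at h4
  refine ⟨h4, h9.imp_right fun e => ⟨e, ?_⟩⟩
  rw [h8, ← e] at H
  rw [Finset.card_range, Nat.cast_id] at cs
  have : ∑ i ∈ Finset.range r, n i ^ 2 ≤ finrank F V := by nlinarith
  have := finrank_pos (R := F) (M := V)
  nlinarith

theorem symp (hXQ : x ∈ N(Q)) (hcop : (orderOf x).Coprime (Nat.card Q)) (hQ : (Nat.card Q : F) ≠ 0)
    (hZ : ∀ z ∈ Z, ∃ c : F, ρ z = c • 1) (hQQ : ⁅Q, Q⁆ ≤ Z)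
    (hnd : ∀ q ∈ Q, (∀ y ∈ Q, Commute (ρ q) (ρ y)) → q ∈ Z)
    (hfree : ∀ z ∈ zpowers x, z ≠ 1 → Q ⊓ C1(z) ≤ Z) (h : Dg (ρ x) r) (hr : r < orderOf x) :
    Q ≤ Z ∨ Z.relIndex Q = (orderOf x - 1) ^ 2 ∧ 2 < orderOf x ∧ orderOf x - 1 ≤ r := by
  set L := Q ⊔ zpowers x
  have l1 : Q ≤ L := le_sup_left
  have l2 : x ∈ L := mem_sup_right (mem_zpowers x)
  obtain ⟨W, hW, w0, -, wi⟩ := exists_irred_le (ρ := ρ.comp L.subtype) (N := ⊤) (fun _ => le_top) top_ne_bot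
  have := Submodule.nontrivial_iff_ne_bot.2 w0
  have o : orderOf (⟨x, l2⟩ : L) = orderOf x := orderOf_mk ..
  have t : Q.subgroupOf L ⊔ zpowers ⟨x, l2⟩ = ⊤ := map_injective L.subtype_injective (by
    rw [Subgroup.map_sup, map_subgroupOf_eq_of_le l1, MonoidHom.map_zpowers, ← MonoidHom.range_eq_map, range_subtype]; rfl)
  obtain ⟨a, b⟩ := symp0 (ρ := subRep ρ L W fun g hg => hW ⟨g, hg⟩) (Q := Q.subgroupOf L) (Z := Z.subgroupOf L) (x := ⟨x, l2⟩)
    (subgroupOf_le_normalizer (zpowers_le.2 hXQ) (mem_subgroupOf.2 (mem_zpowers x))) (by rwa [o, card_subgroupOf_of_le l1])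
    (by rwa [card_subgroupOf_of_le l1]) (fun T hT => exists_eq_smul_of_irred wi T fun g => hT g (t ▸ mem_top g))
    (fun z hz => let ⟨c, hc⟩ := hZ z hz; ⟨c, LinearMap.ext fun v => Subtype.ext (LinearMap.congr_fun hc v)⟩)
    (map_le_iff_le_comap.1 ((map_commutator_subgroupOf l1 l1).le.trans hQQ))
    (fun q hq e => hnd q hq fun y hy => by
      have e' := mem_ker_subRep.1 (commute_rho_iff.1 (e ⟨y, l1 hy⟩ hy))
      obtain ⟨c, hc⟩ := hZ ⁅(q : G), y⁆ (hQQ (commutator_mem_commutator hq hy))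
      obtain ⟨v, hv, v0⟩ := (Submodule.ne_bot_iff _).1 w0
      have := (LinearMap.congr_fun hc v).symm.trans (e' v hv)
      rw [commute_rho_iff, MonoidHom.mem_ker, hc, (smul_left_injective F v0 (this.trans (one_smul F v).symm) :), one_smul])
    (fun z hz z1 q hq => hfree z (by obtain ⟨k, rfl⟩ := hz; exact ⟨k, rfl⟩) (fun e => z1 (Subtype.ext e))
      ⟨hq.1, mem_cent1.2 (congrArg Subtype.val (mem_cent1.1 hq.2))⟩) (h.restrict (hW ⟨x, l2⟩)) (o ▸ hr)
  rw [relIndex_subgroupOf l1] at a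
  rw [o] at b
  by_cases e : finrank F W = 1
  · exact .inl (relIndex_eq_one.1 (by rw [← a, e]; rfl))
  · obtain ⟨b, c⟩ := b.resolve_left e
    have := finrank_pos (R := F) (M := W)
    exact .inr ⟨by rw [← a, ← b]; rfl, by omega, by omega⟩

end

/-- The hypotheses of the core case. -/
structure HH {G : Type*} [Group G] (Q : Subgroup G) (x : G) : Prop where
  norm : x ∈ N(Q)
  cop : (orderOf x).Coprime (Nat.card Q)
  cl2 : ⁅Q, Q⁆ ≤ C(Q)
  free : ∀ z ∈ zpowers x, z ≠ 1 → Q ⊓ C1(z) ≤ ⁅Q, Q⁆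

/-- The exceptional configuration. -/
def EX {G : Type*} [Group G] (Q : Subgroup G) (z : G) : Prop :=
  ∃ K Z : Subgroup G, ⁅⁅Q, Q⁆, zpowers z⁆ ≤ K ∧ (∀ q, q ∈ Z ↔ q ∈ Q ∧ ∀ c ∈ Q, ⁅q, c⁆ ∈ K) ∧
    Z.relIndex Q = (orderOf z - 1) ^ 2 ∧ 2 < orderOf z

section
variable {G : Type*} [Group G] [Finite G] {Q L : Subgroup G} {x : G}

theorem HH.sub (h : HH Q x) (k : ℕ) (l1 : Q ≤ L) (l2 : x ^ k ∈ L) : HH (Q.subgroupOf L) ⟨x ^ k, l2⟩ where
  norm := subgroupOf_le_normalizer (zpowers_le.2 h.norm) (mem_subgroupOf.2 (npow_mem_zpowers x k))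
  cop := by rw [orderOf_mk, card_subgroupOf_of_le l1]; exact h.cop.coprime_dvd_left (orderOf_pow_dvd k)
  cl2 := fun a ha b hb => Subtype.ext (h.cl2 ((map_commutator_subgroupOf l1 l1).le ⟨a, ha, rfl⟩) b hb)
  free := fun z hz z1 q hq => by
    obtain ⟨w, a, e⟩ := (map_commutator_subgroupOf l1 l1).ge (h.free z (by
      obtain ⟨j, rfl⟩ := hz; exact zpow_mem (npow_mem_zpowers x k) j) (fun e => z1 (Subtype.ext e))
      (show (q : G) ∈ _ from ⟨hq.1, mem_cent1.2 (congrArg Subtype.val (mem_cent1.1 hq.2))⟩))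
    exact (Subtype.ext e : w = q) ▸ a

theorem EX.of_sub {z : L} (l1 : Q ≤ L) (h : EX (Q.subgroupOf L) z) : EX Q z := by
  obtain ⟨K, Z, a, b, c, d⟩ := h
  refine ⟨K.map L.subtype, Z.map L.subtype, ?_, fun q => ⟨?_, fun ⟨h1, h2⟩ => ⟨⟨q, l1 h1⟩, (b _).2 ⟨h1, fun c hc => ?_⟩, rfl⟩⟩,
    ?_, by rwa [orderOf_coe]⟩
  · have := map_mono (f := L.subtype) a
    rwa [map_commutator, map_commutator_subgroupOf l1 l1, MonoidHom.map_zpowers] at this
  · rintro ⟨q, hq, rfl⟩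
    exact ⟨((b q).1 hq).1, fun c hc => ⟨_, ((b q).1 hq).2 ⟨c, l1 hc⟩ hc, rfl⟩⟩
  · obtain ⟨w, hw, e⟩ := h2 c hc
    exact (Subtype.ext e : w = ⁅(⟨q, l1 h1⟩ : L), c⁆) ▸ hw
  · rw [orderOf_coe, ← c, ← relIndex_subgroupOf l1, subgroupOf, comap_map_eq_self_of_injective L.subtype_injective]

theorem EX.not_comm {z : G} (h : EX Q z) : ¬ Q ≤ C(Q) := fun e => by
  obtain ⟨K, Z, -, b, c, d⟩ := h
  rw [relIndex_eq_one.2 fun q hq => (b q).2 ⟨hq, fun c hc => by
    rw [commutatorElement_eq_one_iff_mul_comm.2 (e hc q hq)]; exact one_mem _⟩] at c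
  obtain ⟨k, hk⟩ := Nat.exists_eq_add_of_lt d
  rw [hk, Nat.add_sub_cancel] at c
  nlinarith

end

theorem hh_core [IsAlgClosed F] (d : ℕ) : ∀ {G : Type u} [Group G] [Finite G] {V : Type v} [AddCommGroup V] [Module F V]
    [FiniteDimensional F V] (ρ : Representation F G V) {Q : Subgroup G} {x : G} {r : ℕ}, finrank F V = d → HH Q x →
    (Nat.card Q : F) ≠ 0 → ¬ Q ≤ MonoidHom.ker ρ → Dg (ρ x) r →
    orderOf x ≤ r ∨ ∃ k, k ∣ orderOf x ∧ EX Q (x ^ k) ∧ k * (orderOf (x ^ k) - 1) ≤ r := by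
  induction d using Nat.strong_induction_on with
  | _ d ih =>
  intro G _ _ V _ _ _ ρ Q x r hd H hQ hk h
  have : Nontrivial V := not_subsingleton_iff_nontrivial.1 fun _ => hk fun _ _ => Subsingleton.elim _ _
  by_cases hr : orderOf x ≤ r
  · exact .inl hr
  let Z := Q ⊓ (centralizer ((Q.map (QuotientGroup.mk' (MonoidHom.ker ρ)) : Subgroup _) : Set _)).comap
    (QuotientGroup.mk' (MonoidHom.ker ρ))
  have hZ : ∀ q, q ∈ Z ↔ q ∈ Q ∧ ∀ y ∈ Q, Commute (ρ q) (ρ y) := fun q => by rw [mem_inf, mem_comap_centralizer_ker]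
  have hc : ∀ a ∈ Z, ∀ b ∈ Z, Commute (ρ a) (ρ b) := fun a ha b hb => ((hZ a).1 ha).2 b hb.1
  have nZ : ∀ g ∈ N(Q), g ∈ N(Z) := fun g hg => CfsgH2.mem_normalizer_of_conj_mem fun q hq => (hZ _).2
    ⟨CfsgH2.conj_mem_of_mem_normalizer hg hq.1, fun y hy => by
      have := commute_rho_iff.1 (((hZ q).1 hq).2 _ (CfsgH2.conj_mem_of_mem_normalizer (inv_mem hg) hy))
      rw [commute_rho_iff]
      convert (MonoidHom.normal_ker ρ).conj_mem _ this g using 1
      simp only [commutatorElement_def]; group⟩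
  have QZ : ⁅Q, Q⁆ ≤ Z := fun q hq => (hZ q).2 ⟨der_le Q hq, fun y hy => (show Commute q y from (H.cl2 hq y hy).symm).map ρ⟩
  obtain ⟨l, hl⟩ : ∃ l, ¬ wt ρ Z l ≤ fixS ρ Q := not_forall.1 fun e => hk (fixS_eq_top_iff.1 (top_le_iff.1
    ((iSup_wt hc (natCast_card_ne_zero_of_le hQ inf_le_left)).ge.trans (iSup_le e))))
  by_cases ht : wt ρ Z l = ⊤
  · have sc : ∀ z ∈ Z, ∃ c : F, ρ z = c • 1 := fun z hz => ⟨_, LinearMap.ext fun v => mem_wt.1 (ht ▸ Submodule.mem_top) ⟨z, hz⟩⟩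
    have k1 : ∀ A, ⁅Z, A⁆ ≤ MonoidHom.ker ρ := fun A => commutator_le_ker_iff.2 fun a ha b _ => by
      obtain ⟨c, hc⟩ := sc a ha
      exact hc ▸ (Commute.one_left _).smul_left c
    rcases symp H.norm H.cop hQ sc QZ (fun q hq e => (hZ q).2 ⟨hq, e⟩) (fun z hz e => (H.free z hz e).trans QZ) h (by omega)
      with e | ⟨a, b, c⟩
    · have x1 : x ≠ 1 := fun e => by have := h.pos; rw [e, orderOf_one] at hr; omega
      exact absurd ((commutator_zpowers_sup (zpowers_le.2 H.norm) (Nat.card_zpowers x ▸ H.cop) (mem_zpowers x)).ge.trans (sup_le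
        ((commutator_mono e le_rfl).trans (k1 _)) ((H.free x (mem_zpowers x) x1).trans ((commutator_mono e le_rfl).trans (k1 _))))) hk
    · refine .inr ⟨1, one_dvd _, ?_, by simpa using c⟩
      rw [pow_one]
      exact ⟨_, Z, (commutator_mono QZ le_rfl).trans (k1 _), fun q => by simp only [hZ, commute_rho_iff], a, b⟩
  letI := repAct ρ
  set U := wt ρ Z l
  have U0 : U ≠ ⊥ := fun e => hl (e ▸ bot_le)
  set k := MulAction.period x U
  have kd : k ∣ orderOf x := MulAction.period_dvd_orderOf x U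
  have k0 : 0 < k := Nat.pos_of_dvd_of_pos kd (orderOf_pos x)
  have hxk : x ^ k ∈ stabS ρ U := MulAction.pow_period_smul x U
  have hL : Q ⊔ zpowers (x ^ k) ≤ stabS ρ U := sup_le (fun q hq => Submodule.eq_of_le_of_finrank_eq (by
    rintro _ ⟨v, hv, rfl⟩
    exact mem_wt.2 fun a => by rw [← End.mul_apply, (((hZ a).1 a.2).2 q hq).eq, End.mul_apply, mem_wt.1 hv a, map_smul])
    (finrank_map_rho q U)) (zpowers_le.2 hxk)
  have mw := fun i : ℕ => map_wt (ρ := ρ) (pow_mem (nZ x H.norm) i) l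
  have hi : iSupIndep fun i : Finset.range k => U.map (ρ x ^ (i : ℕ)) := by
    simp only [← map_pow, U, mw]
    refine (iSupIndep_wt hc).comp fun i j e => Subtype.ext ?_
    have e' : x ^ (i : ℕ) • U = x ^ (j : ℕ) • U := (mw i).trans ((congrArg _ e).trans (mw j).symm)
    rw [← smul_iterate_apply, ← smul_iterate_apply] at e'
    exact Function.iterate_injOn_Iio_minimalPeriod (Finset.mem_range.1 i.2) (Finset.mem_range.1 j.2) e'
  have dg := cliff (rho_injective x) k0 (fun v hv => map_pow ρ x k ▸ rho_mem_of_mem_stabS hxk hv) hi h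
  have l2 : x ^ k ∈ Q ⊔ zpowers (x ^ k) := mem_sup_right (mem_zpowers _)
  have o : orderOf x = k * orderOf (x ^ k) := by rw [orderOf_pow_of_dvd k0.ne' kd, Nat.mul_div_cancel' kd]
  have m := Nat.mul_div_le r k
  rcases ih _ (hd ▸ Submodule.finrank_lt ht) (subRep ρ _ U fun g hg v => rho_mem_of_mem_stabS (hL hg)) rfl (H.sub k le_sup_left l2)
    (by rwa [card_subgroupOf_of_le le_sup_left]) (fun e => hl fun v hv => mem_fixS.2 fun q hq =>
      mem_ker_subRep.1 (e (show (⟨q, mem_sup_left hq⟩ : (Q ⊔ zpowers (x ^ k) : Subgroup G)) ∈ _ from hq)) v hv)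
    (r := r / k) (by convert dg using 1; exact LinearMap.ext fun v => Subtype.ext (LinearMap.congr_fun (map_pow ρ x k) v))
    with e | ⟨j, a, b, c⟩
  · rw [orderOf_mk] at e
    exact .inl (o ▸ (Nat.mul_le_mul_left k e).trans m)
  · rw [orderOf_mk] at a
    rw [← orderOf_coe, Subgroup.coe_pow] at c
    have b' := b.of_sub le_sup_left
    rw [Subgroup.coe_pow, ← pow_mul] at b'
    refine .inr ⟨k * j, by rw [o]; exact mul_dvd_mul_left k a, b', ?_⟩
    rw [mul_assoc, pow_mul]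
    exact (Nat.mul_le_mul_left k c).trans m

end CfsgH9
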