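import Cfsg.Agent.H9.HH3
import Cfsg.Agent.H9.AlpRel
import Cfsg.Agent.H9.Uni

/-! Hall–Higman Theorem A: p-length and exponent. -/

set_option autoImplicit false
set_option linter.unusedSectionVars false

namespace CfsgH9

open Subgroup Cfsg CfsgH1 CfsgH2 CfsgFT Module Polynomial
open scoped commutatorElement IsMulCommutative

universe u v

variable {F : Type*} [Field F] {G : Type u} [Group G] [Finite G] {V : Type v} [AddCommGroup V] [Module F V]
  [FiniteDimensional F V] {ρ : Representation F G V} {p : ℕ} [hp : Fact p.Prime]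

theorem mem_norm_zpowers_pow (x : G) (k : ℕ) : zpowers x ≤ N(zpowers (x ^ k)) :=
  le_norm_of_cent (zpowers_le.2 (cent_anti (zpowers_le.2 (npow_mem_zpowers x k)) (le_centralizer (zpowers x) (mem_zpowers x))))

theorem hhb_ab [CharP F p] {A : Subgroup G} {x : G} {n r : ℕ} (hx : orderOf x = p ^ (n + 1)) (hA : A ≤ C(A)) (hn : x ∈ N(A))
    (hc : (Nat.card A).Coprime p) (hk : ¬ ⁅A, zpowers (x ^ p ^ n)⁆ ≤ MonoidHom.ker ρ) (h : Dg (ρ x) r) : p ^ (n + 1) ≤ r := by
  have n' : zpowers (x ^ p ^ n) ≤ N(A) := zpowers_le.2 (pow_mem hn _)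
  have l := commutator_le_left_of_le_normalizer n'
  have c := hc.coprime_dvd_left (card_dvd_of_le l)
  have a := l.trans (hA.trans (cent_anti l))
  have := isMulCommutative_iff_le_centralizer.2 hA
  rcases hh_field (HH.of hx (le_normalizer_commutator' (zpowers_le.2 hn) (mem_norm_zpowers_pow x _) (mem_zpowers x)) c
    ((comm_eq_bot a).le.trans bot_le) (le_trans (le_inf (inf_le_inf_right _ l) inf_le_left)
      ((centralizer_inf_commutator_eq_bot n' (by
        rw [Nat.card_zpowers]; exact (hx ▸ hc.symm.pow_left _).coprime_dvd_left (orderOf_pow_dvd _))).le.trans bot_le)))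
    (cast_ne_zero_of_coprime c) hk h with e | ⟨k, -, e, -⟩
  · exact hx ▸ e
  · exact absurd a e.not_comm

theorem lin_pow {M : Type*} [AddCommGroup M] [Module F M] {H : Subgroup G} [H.Normal] {f : G → M} {σ : G →* End F M} (h1 : f 1 = 0)
    (h2 : ∀ x ∈ H, ∀ y ∈ H, f (x * y) = f x + f y) (h3 : ∀ g : G, ∀ x ∈ H, f (g * x * g⁻¹) = σ g (f x)) {t : G} (ht : t ∈ H)
    (s : G) (k : ℕ) : (t * s) ^ k * (s ^ k)⁻¹ ∈ H ∧ f ((t * s) ^ k * (s ^ k)⁻¹) = (∑ i ∈ Finset.range k, σ s ^ i) (f t) := by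
  induction k with
  | zero => simp [h1]
  | succ k ih =>
    have c := ‹H.Normal›.conj_mem t ht (s ^ k)
    rw [show (t * s) ^ (k + 1) * (s ^ (k + 1))⁻¹ = (t * s) ^ k * (s ^ k)⁻¹ * (s ^ k * t * (s ^ k)⁻¹) by
      rw [pow_succ, pow_succ]; group, h2 _ ih.1 _ c, ih.2, h3 _ _ ht, Finset.sum_range_succ, map_pow]
    exact ⟨mul_mem ih.1 c, rfl⟩

/-- No exceptional prime has nonabelian Sylow subgroups. -/
def NE (p : ℕ) (G : Type*) [Group G] : Prop :=
  ∀ q n m : ℕ, q.Prime → q ≠ p → 1 ≤ n → 1 ≤ m → p ^ n - 1 = q ^ m → ∃ Q : Subgroup G, IsSylowIn q Q ⊤ ∧ Q ≤ C(Q)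

theorem sylow_mk {q : ℕ} [Fact q.Prime] {S : Subgroup G} (h : IsSylowIn q S ⊤) (N : Subgroup G) [N.Normal] :
    IsSylowIn q (S.map (QuotientGroup.mk' N)) ⊤ :=
  map_top_of_surjective _ (QuotientGroup.mk'_surjective N) ▸ h.map _

theorem NE.quot (h : NE p G) (N : Subgroup G) [N.Normal] : NE p (G ⧸ N) := fun q n m a b c d e => by
  obtain ⟨Q, h1, h2⟩ := h q n m a b c d e
  have := Fact.mk a
  exact ⟨_, sylow_mk h1 N, cent_of_comm_eq_bot (by rw [← Subgroup.map_commutator, comm_eq_bot h2, Subgroup.map_bot])⟩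

theorem orderOf_eq_of_pow {x : G} {n : ℕ} (h1 : x ^ p ^ (n + 1) = 1) (h2 : x ^ p ^ n ≠ 1) : orderOf x = p ^ (n + 1) :=
  orderOf_eq_prime_pow h2 h1

theorem nontriv_of_ne (hρ : Function.Injective ρ) {x : G} (h : x ≠ 1) : Nontrivial V :=
  not_subsingleton_iff_nontrivial.1 fun _ => h (hρ (Subsingleton.elim _ _))

theorem pl_zero {S : Subgroup G} (a : IsSylowIn p S ⊤) (b : S = ⊥) : PLengthLE p 0 G :=
  pLengthLE_zero_iff.2 (hp.out.coprime_iff_not_dvd.2 (card_top (G := G) ▸ a.eq_bot_iff.1 b)).symm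

theorem dg_lin {f : G → V} {N : Subgroup G} [N.Normal] {σ : Representation F (G ⧸ N) V} (h1 : f 1 = 0)
    (h2 : ∀ x ∈ N, ∀ y ∈ N, f (x * y) = f x + f y) (h3 : ∀ g : G, ∀ x ∈ N, f (g * x * g⁻¹) = σ g (f x)) {S : Subgroup G}
    (h4 : ∀ v, ∃ x ∈ S ⊓ N, f x = v) {k : ℕ} (hk : k ≠ 0) (h : ∀ s ∈ S, s ^ k = 1) {s : G} (hs : s ∈ S) : Dg (σ s) (k - 1) :=
  dg_geom hk (LinearMap.ext fun v => by
    obtain ⟨t, ht, rfl⟩ := h4 v
    have := (lin_pow (σ := σ.comp (QuotientGroup.mk' N)) h1 h2 h3 ht.2 s k).2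
    rw [h _ (mul_mem ht.1 hs), h _ hs, inv_one, mul_one, h1] at this
    exact this.symm)

theorem pl_of_exp (e : ℕ) : ∀ (G : Type u) [Group G] [Finite G] (S : Subgroup G), IsPSolvable p G → NE p G → IsSylowIn p S ⊤ →
    (∀ s ∈ S, s ^ p ^ e = 1) → PLengthLE p e G := by
  induction e with
  | zero => exact fun G _ _ S _ _ a b => pl_zero a (eq_bot_iff.2 fun s hs => by simpa using b s hs)
  | succ e ih =>
    intro G _ _ S h ne a b
    refine PLengthLE.of_ker_le_pPrimePCore (QuotientGroup.mk' (pPrimePCore p G)) (QuotientGroup.ker_mk' _).le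
      (ih _ _ (IsPSolvable.quotient h _) (ne.quot _) (sylow_mk a _) ?_)
    rintro _ ⟨s, hs, rfl⟩
    by_contra n
    obtain ⟨V, _, _, _, f, ρ, i, f1, f2, f3, f4⟩ := exists_lin h
    have := Module.Finite.of_finite (R := ZMod p) (M := V)
    have := nontriv_of_ne i n
    have p0 := pow_pos hp.out.pos (e + 1)
    rcases thmB i (IsPSolvable.quotient h _) pCore_quot_pPrimePCore (orderOf_eq_of_pow (by rw [← map_pow, b s hs, map_one]) n)
      (dg_lin f1 f2 f4 (f3 S a) p0.ne' b hs) with k | ⟨n, q, m, a1, -, a2, a3, a4, a5, a6, -⟩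
    · omega
    · obtain ⟨Q, q1, q2⟩ := ne.quot (pPrimePCore p G) q n m a2 a3 a1 a4 a5
      exact a6 Q q1 q2

theorem comm_hyper {Q A B B' : Subgroup G} (hA : A ≤ C(A)) (hn : A ≤ N(Q)) (hc : (Nat.card A).Coprime (Nat.card Q))
    (hQ : ⁅Q, Q⁆ ≤ C(A)) (h : B ⊔ B' = A) : ⁅Q ⊓ C(B), A⁆ ≤ C(⁅Q ⊓ C(B'), A⁆) := by
  have k : ∀ D ≤ A, A ≤ N(Q ⊓ C(D)) := fun D l => le_normalizer_inf' hn (le_normalizer_centralizer' (le_norm_of_cent (hA.trans (cent_anti l))))
  have l1 : B ≤ A := h ▸ le_sup_left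
  have l2 : B' ≤ A := h ▸ le_sup_right
  have m1 := commutator_le_left_of_le_normalizer (k B l1)
  have m2 := commutator_le_left_of_le_normalizer (k B' l2)
  have := three_subgroups_bot (X := B') (Y := ⁅Q ⊓ C(B'), A⁆) (Z := ⁅Q ⊓ C(B), A⁆)
    (by rw [comm_eq_bot (cent_symm (m2.trans inf_le_right)), commutator_bot_left])
    (comm_eq_bot ((commutator_mono (m2.trans inf_le_left) (m1.trans inf_le_left)).trans (hQ.trans (cent_anti l2))))
  refine le_trans ?_ (cent_of_comm_eq_bot this)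
  refine (commutator_commutator_eq (k B l1) (coprime_of_le_right hc inf_le_left)).ge.trans ?_
  conv_lhs => rw [commutator_comm]; congr; rw [← h]
  refine comm_sup_left_le ((comm_eq_bot (cent_symm (m1.trans inf_le_right))).le.trans bot_le) (commutator_comm _ _).le ?_
    (normalizer_commutator_ge_right _ _)
  exact le_normalizer_commutator' (l1.trans (normalizer_commutator_ge_right _ _)) (le_norm_of_cent (l1.trans (hA.trans (cent_anti l2))))

theorem exc_comm [CharP F p] (hp2 : p ≠ 2) (hρ : Function.Injective ρ) (hs : IsPSolvable p G) (h0 : pCore p G = ⊥) {S : Subgroup G}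
    (hS : IsPGroup p S) {m : ℕ} (he : ∀ a ∈ S, a ^ p ^ (m + 1) = 1) (hd : ∀ a ∈ S, Dg (ρ a) (p ^ (m + 1) - 1)) {a b : G}
    (ha : a ∈ S) (hb : b ∈ S) : Commute (a ^ p ^ m) (b ^ p ^ m) := by
  have ab : ∀ a ∈ S, ∀ D, D ≤ C(D) → a ∈ N(D) → D ≤ pPrimeCore p G → a ^ p ^ m ∈ C(D) := fun a ha D d1 d2 d3 => by
    by_contra n
    have := hhb_ab (orderOf_eq_of_pow (he a ha) fun e => n (e ▸ one_mem _)) d1 d2
      ((coprime_card_pPrimeCore p G).coprime_dvd_left (card_dvd_of_le d3)) (fun k => n (cent_symm (cent_of_comm_eq_bot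
        (eq_bot_iff.2 fun g hg => hρ ((k hg).trans (map_one ρ).symm))) (mem_zpowers _))) (hd a ha)
    have := pow_pos hp.out.pos (m + 1)
    omega
  let Y := Subgroup.closure ((· ^ p ^ m) '' (S : Set G))
  have y1 : ∀ a ∈ S, a ^ p ^ m ∈ Y := fun a ha => Subgroup.subset_closure ⟨a, ha, rfl⟩
  have YS : Y ≤ S := (closure_le _).2 (by rintro _ ⟨a, ha, rfl⟩; exact pow_mem ha _)
  have SY : S ≤ N(Y) := fun g hg => CfsgH2.mem_normalizer_of_conj_mem fun x hx => by
    refine (closure_le (cj g⁻¹ Y)).2 ?_ hx |> fun h => by simpa using mem_cj.1 h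
    rintro _ ⟨a, ha, rfl⟩
    exact mem_cj.2 (by simpa [conj_pow] using y1 _ (mul_mem (mul_mem hg ha) (inv_mem hg)))
  obtain ⟨A, ⟨a1, a2, a3, a4⟩, hm⟩ := exists_maximal_of_wellFoundedGT (fun A : Subgroup G => A ≤ Y ∧ S ≤ N(A) ∧
    IsMulCommutative A ∧ ∀ b ∈ A, b ^ p ^ 1 = 1) ⟨⊥, bot_le, le_normalizer_of_normal, inferInstance, by simp⟩
  have a5 := isMulCommutative_iff_le_centralizer.1 a3
  suffices c : Y ≤ C(A) by
    have k : ∀ a ∈ S, a ^ p ^ m ∈ A := fun a ha => alperin_rel hS YS SY (by rwa [pow_one]) a1 a2 a3 a4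
      (fun B b1 b2 b3 b4 l => le_antisymm (hm ⟨b1, b2, b3, b4⟩ l) l) (y1 a ha) (c (y1 a ha)) (by rw [← pow_mul, ← pow_add, he a ha])
    exact a5 (k b hb) _ (k a ha)
  by_contra c
  have AS := a1.trans YS
  have l := commutator_le_left_of_le_normalizer (YS.trans a2)
  obtain ⟨q, hq, qp, Q, q1, q2, q3, q4, q5, -, q7, -⟩ := exists_special (M := pPrimeCore p G) hS (l.trans AS) (le_normalizer_commutator' a2 SY)
    (coprime_card_pPrimeCore p G) le_normalizer_of_normal fun e => c (cent_symm (cent_of_comm_eq_bot (eq_bot_iff.2 (le_trans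
      (le_inf (l.trans AS) (cent_symm e |>.trans (IsPSolvable.centralizer_pPrimeCore_le hs h0)))
        (disjoint_iff.1 (disjoint_of_isPGroup_of_coprime hS (coprime_card_pPrimeCore p G))).le))))
  have hQA : ⁅Q, Q⁆ ≤ C(A) := cent_symm (a1.trans ((closure_le _).2 (by
    rintro _ ⟨a, ha, rfl⟩
    exact ab a ha _ (q7.trans (cent_anti (der_le Q))) (le_normalizer_commutator' q3 q3 ha) ((der_le Q).trans q1))))
  obtain ⟨k, hk⟩ := (hS.to_le AS).exists_card_eq
  have cp : (Nat.card A).Coprime (Nat.card Q) := hk ▸ (((coprime_card_pPrimeCore p G).coprime_dvd_left (card_dvd_of_le q1)).pow_right k).symm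
  obtain ⟨a, ha, n⟩ : ∃ a ∈ S, ¬ ⁅Q, A⁆ ≤ C(⁅A, zpowers (a ^ p ^ m)⁆) := by
    by_contra! e
    have e1 : Q ≤ ⁅Q, A⁆ := q5.ge.trans (commutator_mono le_rfl l)
    refine q4 (q5.symm.trans (comm_eq_bot (cent_symm ?_)))
    rw [← closure_eq A]
    refine comm_closure_le (by rw [closure_eq]; exact AS.trans (le_normalizer_centralizer' q3)) (YS.trans (le_normalizer_centralizer' q3)) ?_
    rintro x hx _ ⟨a, ha, rfl⟩
    exact cent_symm (e1.trans (e a ha)) (commutator_mem_commutator hx (mem_zpowers _))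
  obtain ⟨B, b1, ⟨u, u1, b2⟩, n⟩ : ∃ B ≤ A, (∃ u ∈ A, B ⊔ zpowers u = A) ∧ ¬ ⁅Q ⊓ C(B), A⁆ ≤ C(⁅A, zpowers (a ^ p ^ m)⁆) := by
    by_contra! e
    exact n (commutator_le_of_cocyclic (AS.trans q3) cp e)
  have kk : ∀ D ≤ A, A ≤ N(Q ⊓ C(D)) := fun D l => le_normalizer_inf' (AS.trans q3) (le_normalizer_centralizer' (le_norm_of_cent (a5.trans (cent_anti l))))
  have m1 := commutator_le_left_of_le_normalizer (kk B b1)
  have nb : ¬ ⁅A, zpowers (a ^ p ^ m)⁆ ≤ B := fun e => n (m1.trans (inf_le_right.trans (cent_anti e)))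
  have lA := commutator_le_left_of_le_normalizer (zpowers_le.2 (a2 (pow_mem ha (p ^ m))))
  have nB : A ≤ N(B) := le_norm_of_cent (a5.trans (cent_anti b1))
  have ix : B.relIndex A = p := by
    have := relIndex_sup_zpowers (p := p) (nB u1) (fun e => nb (lA.trans (b2.ge.trans (sup_le le_rfl (zpowers_le.2 e)))))
      (by rw [← pow_one p, a4 u u1]; exact one_mem _)
    rwa [b2] at this
  have ny : a ^ p ^ m ∉ N(B) := fun e => nb (by
    obtain ⟨w, w1, w2, -, w3⟩ := exists_central_mod hS AS a2 fun e => nb (lA.trans e)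
    rw [← sup_zpowers_eq_of_relIndex_prime ix b1 w1 w2]
    refine comm_sup_left_le (commutator_le_left_of_le_normalizer (zpowers_le.2 e)) ((commutator_comm _ _).le.trans
      (commutator_zpowers_le e ?_)) le_normalizer (zpowers_le.2 (nB w1))
    rintro _ ⟨i, rfl⟩
    have := zpow_mem (w3 _ (pow_mem ha (p ^ m))) i
    rwa [(show Commute _ _ from a5 (inv_mem w1) _ (CfsgH2.conj_mem_of_mem_normalizer (a2 (pow_mem ha _)) w1)).mul_zpow,
      conj_zpow, inv_zpow] at this)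
  have y0 : a ^ p ^ m ≠ 1 := fun e => ny (e ▸ one_mem _)
  have sp : ∀ g ∈ S, g ∉ N(B) → B ⊔ cj g B = A := fun g hg e =>
    (eq_or_eq_of_relIndex_prime ix le_sup_left (sup_le b1 ((cj_mono g b1).trans (cj_eq_of_norm (a2 hg)).le))).resolve_left fun k =>
      e (cj_eq_iff_mem_normalizer.1 (eq_of_le_of_card_ge (sup_eq_left.1 k) (card_cj g B).ge))
  obtain ⟨c, c1, c2⟩ := SetLike.not_le_iff_exists.1 (show ¬ ⁅Q ⊓ C(B), A⁆ ≤ C(A) from fun e => n (e.trans (cent_anti lA)))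
  have cc : ∀ g ∈ S, g * c * g⁻¹ ∈ ⁅Q ⊓ C(cj g B), A⁆ := fun g hg => by
    have := conj_mem_cj g c1
    rwa [cj_commutator, cj_inf, cj_centralizer, cj_eq_of_norm (a2 hg), cj_eq_of_norm (q3 hg)] at this
  have cm : ∀ g ∈ zpowers a, Commute c (g * c * g⁻¹) := fun g hg => by
    by_cases e : g = 1
    · simp [e]
    · have g1 := zpowers_le.2 ha hg
      exact (comm_hyper a5 (AS.trans q3) cp hQA (sp g g1 fun k => ny (zpowers_le.2 k (cent1_le_of_ne_one
        (orderOf_eq_of_pow (he a ha) y0) hg e))) c1 _ (cc g g1)).symm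
  let D := Subgroup.closure ((fun g => g * c * g⁻¹) '' (zpowers a : Set G))
  have d1 : c ∈ D := Subgroup.subset_closure ⟨1, one_mem _, by simp⟩
  have := ab a ha D ((closure_le _).2 (by
    rintro _ ⟨g, hg, rfl⟩
    refine cent_symm (B := zpowers (g * c * g⁻¹)) ((closure_le _).2 ?_) (mem_zpowers _)
    rintro _ ⟨h, hh, rfl⟩
    rw [centralizer_zpowers_eq]
    have := (cm _ (mul_mem (inv_mem hg) hh)).map (MulAut.conj g)
    exact mem_cent1.2 (by simpa [mul_assoc] using this.eq)))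
    (CfsgH2.mem_normalizer_of_conj_mem fun x hx => by
      refine (closure_le (cj a⁻¹ D)).2 ?_ hx |> fun h => by simpa using mem_cj.1 h
      rintro _ ⟨g, hg, rfl⟩
      exact mem_cj.2 (Subgroup.subset_closure ⟨a * g, mul_mem (mem_zpowers a) hg, by simp [mul_assoc]⟩))
    ((closure_le _).2 (by
      rintro _ ⟨g, hg, rfl⟩
      exact (pPrimeCore_normal p G).conj_mem _ (q1 (m1 c1).1) g))
  refine c2 (by
    rw [← sp _ (pow_mem ha _) ny, cent_sup]
    have e := (commutator_le_left_of_le_normalizer (kk _ ((cj_mono _ b1).trans (cj_eq_of_norm (a2 (pow_mem ha (p ^ m)))).le))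
      (cc _ (pow_mem ha _))).2
    rw [← this c d1, mul_inv_cancel_right] at e
    exact ⟨(m1 c1).2, e⟩)

theorem pl_of_exp2 (hp2 : p ≠ 2) (e : ℕ) : ∀ (G : Type u) [Group G] [Finite G] (S : Subgroup G), IsPSolvable p G → IsSylowIn p S ⊤ →
    (∀ s ∈ S, s ^ p ^ e = 1) → PLengthLE p (2 * e) G := by
  induction e with
  | zero => exact fun G _ _ S _ a b => pl_zero a (eq_bot_iff.2 fun s hs => by simpa using b s hs)
  | succ e ih =>
    intro G _ _ S h a b
    have h' := IsPSolvable.quotient h (pPrimePCore p G)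
    have a' := sylow_mk a (pPrimePCore p G)
    refine PLengthLE.of_ker_le_pPrimePCore (QuotientGroup.mk' (pPrimePCore p G)) (QuotientGroup.ker_mk' _).le
      (PLengthLE.of_ker_le_pPrimePCore (QuotientGroup.mk' (pPrimePCore p _)) (QuotientGroup.ker_mk' _).le
        (ih _ _ (IsPSolvable.quotient h' _) (sylow_mk a' _) ?_))
    rintro _ ⟨s, hs, rfl⟩
    by_contra n
    obtain ⟨V, _, _, _, f, ρ, i, f1, f2, f3, f4⟩ := exists_lin h
    obtain ⟨W, _, _, _, g, σ, j, g1, g2, g3, g4⟩ := exists_lin h'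
    have := Module.Finite.of_finite (R := ZMod p) (M := V)
    have := Module.Finite.of_finite (R := ZMod p) (M := W)
    have := nontriv_of_ne j n
    have p0 := pow_pos hp.out.pos e
    have b' : ∀ s ∈ S.map (QuotientGroup.mk' (pPrimePCore p G)), s ^ p ^ (e + 1) = 1 := by
      rintro _ ⟨s, hs, rfl⟩; rw [← map_pow, b s hs, map_one]
    have c := fun t ht => exc_comm hp2 i h' pCore_quot_pPrimePCore a'.pgroup b' (by
      rintro _ ⟨s, hs, rfl⟩; exact dg_lin f1 f2 f4 (f3 S a) (pow_pos hp.out.pos _).ne' b hs) (b := t) hs ht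
    have d : Dg (σ s) (p ^ e + (p ^ e - 1)) := by
      refine ⟨(X ^ p ^ e - C 1) * ∑ i ∈ Finset.range (p ^ e), X ^ i, mul_ne_zero (X_pow_sub_C_ne_zero p0 1)
        (monic_geom_sum_X p0.ne').ne_zero, natDegree_mul_le.trans (add_le_add natDegree_X_pow_sub_C.le
          (natDegree_sum_le_of_forall_le _ _ fun i hi =>
            (natDegree_X_pow_le i).trans (Nat.le_sub_one_of_lt (Finset.mem_range.1 hi)))), LinearMap.ext fun v => ?_⟩
      obtain ⟨t, ht, rfl⟩ := g3 _ a' v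
      obtain ⟨k1, k2⟩ := lin_pow (σ := σ.comp (QuotientGroup.mk' _)) g1 g2 g4 ht.2 s (p ^ e)
      have k3 := g4 (s ^ p ^ e) _ k1
      rw [← mul_assoc, (c _ (mul_mem ht.1 hs)).eq, mul_assoc _ (s ^ p ^ e), mul_inv_cancel, mul_one, k2] at k3
      simpa [sub_eq_zero] using k3.symm
    have p3 : 3 ≤ p := hp.out.two_le.lt_of_ne' hp2
    rcases thmB j (IsPSolvable.quotient h' _) pCore_quot_pPrimePCore (orderOf_eq_of_pow (by rw [← map_pow, b' s hs, map_one]) n)
      d with k | ⟨n, q, m, a1, a2, -, -, -, -, -, k⟩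
    · rw [pow_succ] at k
      have := Nat.mul_le_mul_left (p ^ e) p3
      omega
    · rw [Nat.mul_sub_one, ← pow_add, Nat.sub_add_cancel a2, pow_succ] at k
      have := Nat.mul_le_mul_left (p ^ e) p3
      have := Nat.pow_le_pow_right hp.out.pos (show e + 1 - n ≤ e by omega)
      omega

end CfsgH9
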