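import Cfsg.Agent.H9.HH4

/-! Hall–Higman: p-length and derived length. -/

set_option autoImplicit false
set_option linter.unusedSectionVars false

namespace CfsgH9

open Subgroup Cfsg CfsgH1 CfsgH2 CfsgFT Module Polynomial
open scoped commutatorElement IsMulCommutative

universe u v

variable {F : Type*} [Field F] {G : Type u} [Group G] [Finite G] {V : Type v} [AddCommGroup V] [Module F V]
  [FiniteDimensional F V] {ρ : Representation F G V} {p : ℕ} [hp : Fact p.Prime]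

theorem der_le_of_idx {P M : Subgroup G} (hP : IsPGroup p P) (h : M.relIndex P ≤ p) : ⁅P, P⁆ ≤ M := by
  by_cases e : P ≤ M
  · exact (der_le P).trans e
  have ix : (M ⊓ P).relIndex P = p := by rw [inf_relIndex_right]; exact relIndex_eq_prime_of_le hP h e
  have n := le_normalizer_of_relIndex_prime hP inf_le_right ix
  obtain ⟨w, w1, w2, -, w3⟩ := exists_central_mod (M := M ⊓ P) hP le_rfl le_normalizer fun k => e (k.trans inf_le_left)
  refine le_trans ?_ (inf_le_left (b := P))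
  conv_lhs => congr; rw [← sup_zpowers_eq_of_relIndex_prime ix inf_le_right w1 w2]
  exact comm_sup_left_le (commutator_le_left_of_le_normalizer n) (commutator_zpowers_le (n w1) fun c hc => by
    simpa [mul_assoc] using inv_mem (w3 c hc)) le_normalizer (zpowers_le.2 (n w1))

theorem wt_three {Z : Subgroup G} (hc : ∀ a ∈ Z, ∀ b ∈ Z, Commute (ρ a) (ρ b)) {g : G} (hg : g ∈ N(Z)) (ho : Odd (orderOf g))
    {l : Z → F} (h : g ∉ stabS ρ (wt ρ Z l)) {u : V} (hu : u ∈ wt ρ Z l) (e : ((ρ g - 1) * (ρ g - 1)) u = 0) : u = 0 := by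
  have k : ∀ x (hx : x ∈ N(Z)), x ∉ stabS ρ (wt ρ Z l) → ρ x u ∈ ⨆ j, ⨆ (_ : j ≠ l), wt ρ Z j := fun x hx n => by
    have m := map_wt (ρ := ρ) hx l
    exact Submodule.mem_iSup_of_mem _ (Submodule.mem_iSup_of_mem (fun k => n (m.trans (congrArg _ k))) (m.le ⟨u, hu, rfl⟩))
  refine Submodule.disjoint_def.1 (iSupIndep_wt hc l) u hu ?_
  have : u = ρ g u + ρ g u - ρ (g ^ 2) u := by
    simp only [sq, map_mul, End.mul_apply, LinearMap.sub_apply, End.one_apply, map_sub] at e ⊢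
    rw [← sub_eq_zero, ← e]; abel
  rw [this]
  exact sub_mem (add_mem (k g hg h) (k g hg h)) (k _ (pow_mem hg 2) fun n => h (zpowers_le.2 n
    (mem_zpowers_pow_iff.2 (Nat.coprime_two_left.2 ho))))

theorem quad_core [IsAlgClosed F] [CharP F p] [Nontrivial V] (hp2 : p ≠ 2) {Q B : Subgroup G} [Q.Normal] (t : Q ⊔ B = ⊤)
    (hB : IsPGroup p B) (hQ : (Nat.card Q).Coprime p) {a : G} (h1 : a ∈ ⁅B, B⁆) (h2 : a ∈ C(B)) (o : orderOf a = p)
    (h3 : ⁅Q, zpowers a⁆ = Q) (h4 : Q ⊓ C(zpowers a) ≤ ⁅Q, Q⁆) (h5 : ⁅Q, Q⁆ ≤ C(Q)) (h6 : fixS ρ Q = ⊥)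
    (sch : ∀ T : End F V, (∀ g, Commute T (ρ g)) → ∃ c : F, T = c • 1) (q1 : (ρ a - 1) * (ρ a - 1) = 0)
    (q2 : ∀ b ∈ B, (ρ a - 1) * ((ρ b - 1) * (ρ b - 1)) = 0) : False := by
  have := Normal.map ‹Q.Normal› _ (QuotientGroup.mk'_surjective (MonoidHom.ker ρ))
  set Z := Q ⊓ (centralizer ((Q.map (QuotientGroup.mk' (MonoidHom.ker ρ)) : Subgroup _) : Set _)).comap
    (QuotientGroup.mk' (MonoidHom.ker ρ))
  have hZ : ∀ q, q ∈ Z ↔ q ∈ Q ∧ ∀ y ∈ Q, Commute (ρ q) (ρ y) := fun q => by rw [mem_inf, mem_comap_centralizer_ker]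
  have hc : ∀ a ∈ Z, ∀ b ∈ Z, Commute (ρ a) (ρ b) := fun a ha b hb => ((hZ a).1 ha).2 b hb.1
  have QZ : ⁅Q, Q⁆ ≤ Z := fun q hq => (hZ q).2 ⟨der_le Q hq, fun y hy => (show Commute q y from (h5 hq y hy).symm).map ρ⟩
  have c0 : (Nat.card Q : F) ≠ 0 := cast_ne_zero_of_coprime hQ
  have od : ∀ b ∈ B, Odd (orderOf b) := fun b hb => by
    obtain ⟨k, hk⟩ := IsPGroup.iff_orderOf.1 hB ⟨b, hb⟩
    rw [orderOf_mk] at hk
    exact hk ▸ (hp.out.odd_of_ne_two hp2).pow
  have aB := der_le B h1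
  have sQ : ∀ l, Q ≤ stabS ρ (wt ρ Z l) := fun l q hq => Submodule.eq_of_le_of_finrank_eq (by
    rintro _ ⟨v, hv, rfl⟩
    exact mem_wt.2 fun a => by rw [← End.mul_apply, (((hZ a).1 a.2).2 q hq).eq, End.mul_apply, mem_wt.1 hv a, map_smul])
    (finrank_map_rho q _)
  have sB : ∀ l, B ≤ stabS ρ (wt ρ Z l) := fun l b hb => by
    by_cases e : wt ρ Z l = ⊥
    · rw [e]; exact Submodule.map_bot _
    obtain ⟨u, u1, u2⟩ := (Submodule.ne_bot_iff _).1 e
    have sa : a ∈ stabS ρ (wt ρ Z l) := by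
      by_contra n
      exact u2 (wt_three hc (le_normalizer_of_normal (mem_top a)) (od a aB) n u1 (by rw [q1]; rfl))
    by_contra n
    have ka : a ∈ kerOn ρ (wt ρ Z l) := fun v hv => sub_eq_zero.1 (wt_three hc (le_normalizer_of_normal (mem_top b)) (od b hb) n
      (sub_mem (rho_mem_of_mem_stabS sa hv) hv) (by
        have c : Commute (ρ a - 1) (ρ b - 1) := ((show Commute a b from (h2 b hb).symm).map ρ).sub_right (Commute.one_right _)
          |>.sub_left (Commute.one_left _)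
        have := q2 b hb
        rw [(c.mul_right c).eq] at this
        exact LinearMap.congr_fun this v))
    refine u2 ((h6 ▸ le_fixS_iff.2 (h3.ge.trans ?_) : wt ρ Z l ≤ ⊥) u1)
    rw [commutator_le]
    intro q hq x hx v hv
    have kx := zpowers_le.2 ka hx
    rw [commutatorElement_def, map_mul, map_mul, map_mul, End.mul_apply, End.mul_apply, End.mul_apply, inv_mem kx v hv,
      kx _ (rho_mem_of_mem_stabS (sQ l (inv_mem hq)) hv), rho_rho_inv]
  have sc : ∀ z ∈ Z, ∃ c : F, ρ z = c • 1 := fun z hz => sch _ fun g => LinearMap.ext fun v => by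
    have hv : v ∈ ⨆ l, wt ρ Z l := by rw [iSup_wt hc (natCast_card_ne_zero_of_le c0 inf_le_left)]; trivial
    induction hv using Submodule.iSup_induction' with
    | mem l v hv =>
      rw [End.mul_apply, End.mul_apply, mem_wt.mp hv ⟨z, hz⟩, map_smul,
        mem_wt.mp (rho_mem_of_mem_stabS (sup_le (sQ l) (sB l) (t ▸ mem_top g)) hv) ⟨z, hz⟩]
    | zero => simp
    | add a b _ _ ha hb => rw [map_add, map_add, ha, hb]
  have nz : ¬ Q ≤ Z := fun e => top_ne_bot (h6 ▸ (fixS_eq_top_iff.2 (h3.ge.trans (commutator_le_ker_iff.2 fun x hx y _ => by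
    obtain ⟨c, hc⟩ := sc x (e hx)
    exact hc ▸ (Commute.one_left _).smul_left c))).symm)
  have H := HH.of (n := 0) (by rwa [zero_add, pow_one]) (le_normalizer_of_normal (mem_top a)) hQ h5 (by rwa [pow_zero, pow_one])
  have p3 : 3 ≤ p := hp.out.two_le.lt_of_ne' hp2
  obtain ⟨a1, -, a2⟩ := (symp H.norm H.cop c0 sc QZ (fun q hq e => (hZ q).2 ⟨hq, e⟩) (fun z hz e => (H.free z hz e).trans QZ)
    (dg_pow (by rwa [sq])) (by omega)).resolve_left nz
  obtain rfl : p = 3 := by omega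
  let π := QuotientGroup.mk' Z
  rw [o, ← QuotientGroup.ker_mk' Z, relIndex_ker] at a1
  refine nz (h3.ge.trans ((map_mk'_eq_bot_iff Z).1 ?_))
  rw [Subgroup.map_commutator, MonoidHom.map_zpowers]
  refine comm_eq_bot fun q hq => (centralizer_zpowers_eq _).ge (mem_cent1.2 ?_)
  by_cases e : q = 1
  · simp [e]
  have := relIndex_cent1_lt (P := B.map π) (map_le_normalizer π le_normalizer_of_normal) hq e
  rw [show Nat.card (Q.map π) = _ from a1] at this
  exact (mem_cent1.1 (der_le_of_idx (hB.map π) (by omega) ((Subgroup.map_commutator B B π).le ⟨a, h1, rfl⟩))).symm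

theorem quad_alg [IsAlgClosed F] [CharP F p] (hp2 : p ≠ 2) {Q B : Subgroup G} (a3 : B ≤ N(Q))
    (hB : IsPGroup p B) (cq : (Nat.card Q).Coprime p) {a : G} (h1 : a ∈ ⁅B, B⁆) (h2 : a ∈ C(B)) (o : orderOf a = p)
    (a5 : ⁅Q, zpowers a⁆ = Q) (a6 : Q ⊓ C(zpowers a) ≤ ⁅Q, Q⁆) (a7 : ⁅Q, Q⁆ ≤ C(Q)) (q1 : (ρ a - 1) * (ρ a - 1) = 0)
    (q2 : ∀ b ∈ B, (ρ a - 1) * ((ρ b - 1) * (ρ b - 1)) = 0) : Q ≤ MonoidHom.ker ρ := by
  by_contra n
  have l := zpowers_le.2 (der_le B h1)
  obtain ⟨L, hL⟩ : ∃ L, L = Q ⊔ B := ⟨_, rfl⟩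
  have l1 : Q ≤ L := hL ▸ le_sup_left
  have l2 : B ≤ L := hL ▸ le_sup_right
  have : (Q.subgroupOf L).Normal := hL ▸ normal_subgroupOf_sup_left a3
  have cq' : (Nat.card (Q.subgroupOf L)).Coprime p := by rwa [card_subgroupOf_of_le l1]
  obtain ⟨W, hW, _, w1, w2⟩ := exists_schur_sub (ρ := ρ.comp L.subtype) (Q.subgroupOf L) (cast_ne_zero_of_coprime cq') fun e =>
    n fun g hg => e (show (⟨g, l1 hg⟩ : L) ∈ _ from hg)
  have dm : ∀ {A} (h : A ≤ L) {g : L}, (g : G) ∈ ⁅A, A⁆ → g ∈ ⁅A.subgroupOf L, A.subgroupOf L⁆ := fun h g hg => by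
    obtain ⟨w, a, e⟩ := (map_commutator_subgroupOf h h).ge hg
    exact (Subtype.ext e : w = g) ▸ a
  have aL := l2 (der_le B h1)
  have z : (zpowers a).subgroupOf L = zpowers ⟨a, aL⟩ := map_injective L.subtype_injective (by
    rw [map_subgroupOf_eq_of_le (l.trans l2), MonoidHom.map_zpowers]; rfl)
  exact quad_core (ρ := Representation.subrepresentation (ρ.comp L.subtype) W hW) hp2 (Q := Q.subgroupOf L) (B := B.subgroupOf L)
    (a := ⟨a, aL⟩) (by rw [← subgroupOf_sup l1 l2, ← hL, subgroupOf_self])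
    (hB.of_injective (subgroupOfEquivOfLe l2).toMonoidHom (MulEquiv.injective _))
    cq' (dm l2 h1) (fun b hb => Subtype.ext (h2 b hb)) ((orderOf_mk ..).trans o) (map_injective L.subtype_injective (by
      rw [← z, map_commutator_subgroupOf l1 (l.trans l2), a5, map_subgroupOf_eq_of_le l1]))
    (fun g hg => dm l1 (a6 ⟨hg.1, fun x hx => congrArg Subtype.val (hg.2 ⟨x, l2 (l hx)⟩ (z.le hx))⟩))
    (fun a ha b hb => Subtype.ext (a7 ((map_commutator_subgroupOf l1 l1).le ⟨a, ha, rfl⟩) b hb)) w1 w2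
    (LinearMap.ext fun v => Subtype.ext (LinearMap.congr_fun q1 v))
    fun b hb => LinearMap.ext fun v => Subtype.ext (LinearMap.congr_fun (q2 b hb) v)

theorem baseChange_sub (E : Type*) [Field E] [Algebra F E] (g : G) :
    repBaseChange E ρ g - 1 = End.baseChangeHom F E V (ρ g - 1) := by rw [map_sub, map_one]; rfl

theorem quad_der [CharP F p] (hp2 : p ≠ 2) (hρ : Function.Injective ρ) (hs : IsPSolvable p G) (h0 : pCore p G = ⊥) {B : Subgroup G}
    (hB : IsPGroup p B) (q1 : ∀ a ∈ ⁅B, B⁆, (ρ a - 1) * (ρ a - 1) = 0)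
    (q2 : ∀ a ∈ ⁅B, B⁆, ∀ b ∈ B, (ρ a - 1) * ((ρ b - 1) * (ρ b - 1)) = 0) : ⁅B, B⁆ = ⊥ := by
  by_contra n
  obtain ⟨⟨a, h1, h2⟩, h3⟩ := ne_bot_iff_exists_ne_one.1 (inf_cent_ne_bot_of_pgroup hB (hB.to_le (der_le B))
    (normalizer_commutator_ge_left _ _) n)
  replace h3 : a ≠ 1 := fun e => h3 (Subtype.ext e)
  have := nontriv_of_ne hρ h3
  have := charP_of_injective_algebraMap (algebraMap F (End F V)).injective p
  have o : orderOf a = p := orderOf_eq_prime (hρ (by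
    rw [map_pow, map_one, ← sub_eq_zero, ← one_pow (M := End F V) p, ← sub_pow_char_of_commute _ (Commute.one_right _)]
    exact pow_eq_zero_of_le hp.out.two_le (by rw [sq, q1 a h1]))) h3
  obtain ⟨q, hq, qp, Q, a1, a2, a3, a4, a5, a6, a7, -⟩ := exists_special (M := pPrimeCore p G) hB (zpowers_le.2 (der_le B h1))
    (le_norm_of_cent (cent_symm (zpowers_le.2 h2))) (coprime_card_pPrimeCore p G) le_normalizer_of_normal fun e => h3 (by
      simpa using disjoint_def.1 (disjoint_of_isPGroup_of_coprime hB (coprime_card_pPrimeCore p G)) (der_le B h1)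
        (IsPSolvable.centralizer_pPrimeCore_le hs h0 (cent_symm e (mem_zpowers a))))
  refine a4 (eq_bot_iff.2 fun g hg => hρ ((le_ker_baseChange (AlgebraicClosure F) (quad_alg hp2 a3 hB
    ((coprime_card_pPrimeCore p G).coprime_dvd_left (card_dvd_of_le a1)) h1 h2 o a5 a6.le a7 ?_ fun b hb => ?_) hg).trans
      (map_one ρ).symm))
  · rw [baseChange_sub, ← map_mul, q1 a h1, map_zero]
  · rw [baseChange_sub, baseChange_sub, ← map_mul, ← map_mul, q2 a h1 b hb, map_zero]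

theorem lin_comm {M : Type*} [AddCommGroup M] [Module F M] {H : Subgroup G} [H.Normal] {f : G → M} {σ : G → End F M} (h1 : f 1 = 0)
    (h2 : ∀ x ∈ H, ∀ y ∈ H, f (x * y) = f x + f y) (h3 : ∀ g : G, ∀ x ∈ H, f (g * x * g⁻¹) = σ g (f x)) {t : G} (ht : t ∈ H)
    (s : G) : ⁅s, t⁆ ∈ H ∧ (σ s - 1) (f t) = f ⁅s, t⁆ := by
  have c := ‹H.Normal›.conj_mem t ht s
  refine ⟨mul_mem c (inv_mem ht), ?_⟩
  rw [commutatorElement_def, h2 _ c _ (inv_mem ht), h3 _ _ ht, LinearMap.sub_apply, End.one_apply, sub_eq_iff_eq_add, add_assoc,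
    ← h2 _ (inv_mem ht) _ ht, inv_mul_cancel, h1, add_zero]

/-- The derived series of a subgroup. -/
def dser (S : Subgroup G) : ℕ → Subgroup G
  | 0 => S
  | n + 1 => ⁅dser S n, dser S n⁆

theorem dser_eq (S : Subgroup G) (n : ℕ) : dser S n = (derivedSeries S n).map S.subtype := by
  induction n with
  | zero => simp [dser, ← MonoidHom.range_eq_map]
  | succ n ih => rw [dser, derivedSeries_succ, Subgroup.map_commutator, ih]

theorem map_dser {G' : Type u} [Group G'] (f : G →* G') (S : Subgroup G) (n : ℕ) : (dser S n).map f = dser (S.map f) n := by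
  induction n with
  | zero => rfl
  | succ n ih => rw [dser, dser, Subgroup.map_commutator, ih]

theorem dser_le (S : Subgroup G) (n : ℕ) : dser S n ≤ S ∧ S ≤ N(dser S n) := by
  induction n with
  | zero => exact ⟨le_rfl, le_normalizer⟩
  | succ n ih => exact ⟨(der_le _).trans ih.1, le_normalizer_commutator' ih.2 ih.2⟩

theorem pl_of_der (hp2 : p ≠ 2) (d : ℕ) : ∀ (G : Type u) [Group G] [Finite G] (S : Subgroup G), IsPSolvable p G →
    IsSylowIn p S ⊤ → dser S d = ⊥ → PLengthLE p d G := by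
  induction d with
  | zero => exact fun G _ _ S _ a b => pl_zero a b
  | succ d ih =>
    intro G _ _ S h a b
    refine PLengthLE.of_ker_le_pPrimePCore (QuotientGroup.mk' (pPrimePCore p G)) (QuotientGroup.ker_mk' _).le
      (ih _ _ (IsPSolvable.quotient h _) (sylow_mk a _) ?_)
    cases d with
    | zero =>
      obtain ⟨P, rfl⟩ := a.of_top
      exact (map_mk'_eq_bot_iff _).2 ((cent_of_comm_eq_bot b).trans
        (IsPSolvable.centralizer_le_pPrimePCore h (pPrimePCore_le_sylow_sup P)))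
    | succ d =>
    obtain ⟨V, _, _, _, f, ρ, i, f1, f2, f3, f4⟩ := exists_lin h
    have := Module.Finite.of_finite (R := ZMod p) (M := V)
    have k := fun t ht s => lin_comm (σ := fun g : G => ρ g) f1 f2 f4 (t := t) ht s
    have m : ∀ n, ∀ x ∈ dser S n, ∀ t ∈ S, ⁅x, t⁆ ∈ dser S n := fun n x hx t ht =>
      commutator_le_left_of_le_normalizer (dser_le S n).2 (commutator_mem_commutator hx ht)
    have z : ∀ x ∈ dser S (d + 1), ∀ y ∈ dser S (d + 1), ⁅x, y⁆ = 1 := fun x hx y hy => b.le (commutator_mem_commutator hx hy)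
    rw [dser, ← map_dser]
    refine quad_der hp2 i (IsPSolvable.quotient h _) pCore_quot_pPrimePCore ((a.pgroup.to_le (dser_le S d).1).map _) ?_ ?_ <;>
      rw [← Subgroup.map_commutator] <;> rintro _ ⟨x, hx, rfl⟩
    · refine LinearMap.ext fun v => ?_
      obtain ⟨t, ht, rfl⟩ := f3 S a v
      change (ρ x - 1) ((ρ x - 1) (f t)) = 0
      rw [(k t ht.2 x).2, (k _ (k t ht.2 x).1 x).2, z x hx _ (m (d + 1) x hx t ht.1), f1]
    · rintro _ ⟨y, hy, rfl⟩
      refine LinearMap.ext fun v => ?_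
      obtain ⟨t, ht, rfl⟩ := f3 S a v
      have k1 := k t ht.2 y
      have k2 := k _ k1.1 y
      change (ρ x - 1) ((ρ y - 1) ((ρ y - 1) (f t))) = 0
      rw [k1.2, k2.2, (k _ k2.1 x).2, z x hx _ (commutator_mem_commutator hy (m d y hy t ht.1)), f1]

end CfsgH9
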