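import Cfsg.Agent.H9.HH5
import Cfsg.Agent.H9.FF3
import Cfsg.Agent.H2.HallW

/-! Hall–Higman: cyclic normal subgroups of Sylow subgroups and wreath sections. -/

set_option autoImplicit false
set_option linter.unusedSectionVars false

namespace CfsgH9

open Subgroup Cfsg CfsgH1 CfsgH2 CfsgFT Module Polynomial
open scoped commutatorElement IsMulCommutative

universe u v

variable {G : Type u} [Group G] [Finite G] {p : ℕ} [hp : Fact p.Prime]

theorem geom_eq {F A : Type*} [Field F] [CharP F p] [Ring A] [Algebra F A] (t : A) :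
    ∑ i ∈ Finset.range p, t ^ i = (t - 1) ^ (p - 1) := by
  have : ∑ i ∈ Finset.range p, (X : F[X]) ^ i = (X - 1) ^ (p - 1) := mul_right_cancel₀ (X_sub_C_ne_zero 1) (by
    rw [C_1, geom_sum_mul, ← pow_succ, Nat.sub_add_cancel hp.out.pos, sub_pow_char, one_pow])
  simpa using congrArg (aeval t) this

theorem pow_eq_one_of_quad {F V : Type*} [Field F] [CharP F p] [AddCommGroup V] [Module F V] {t : End F V}
    (h : (t - 1) * (t - 1) = 0) : t ^ p = 1 := by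
  rw [← sub_eq_zero, ← geom_sum_mul, geom_eq (F := F), ← pow_succ, Nat.sub_add_cancel hp.out.pos]
  exact pow_eq_zero_of_le hp.out.two_le (by rwa [sq])

section
variable {V : Type*} [AddCommGroup V] {H : Subgroup G} {f : G → V} (h1 : f 1 = 0) (h2 : ∀ x ∈ H, ∀ y ∈ H, f (x * y) = f x + f y)
include h1 h2

theorem lin_npow {x : G} (hx : x ∈ H) (k : ℕ) : f (x ^ k) = k • f x := by
  induction k with
  | zero => simpa
  | succ k ih => rw [pow_succ, h2 _ (pow_mem hx k) _ hx, ih, succ_nsmul]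

theorem lin_inv {x : G} (hx : x ∈ H) : f x⁻¹ = -f x := by
  rw [eq_neg_iff_add_eq_zero, ← h2 _ (inv_mem hx) _ hx, inv_mul_cancel, h1]

theorem lin_cop [Module (ZMod p) V] {x : G} (hx : x ∈ H) (h : (orderOf x).Coprime p) : f x = 0 := by
  have := lin_npow h1 h2 hx (orderOf x)
  rw [pow_orderOf_eq_one, h1, ← Nat.cast_smul_eq_nsmul (ZMod p), eq_comm, smul_eq_zero] at this
  exact this.resolve_left (cast_ne_zero_of_coprime h)

/-- The kernel of a linearization composed with an additive map. -/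
def linKer {W : Type*} [AddCommGroup W] (φ : V →+ W) : Subgroup G where
  carrier := {x | x ∈ H ∧ φ (f x) = 0}
  one_mem' := ⟨one_mem _, by rw [h1, map_zero]⟩
  mul_mem' := fun a b => ⟨mul_mem a.1 b.1, by rw [h2 _ a.1 _ b.1, map_add, a.2, b.2, add_zero]⟩
  inv_mem' := fun a => ⟨inv_mem a.1, by rw [lin_inv h1 h2 a.1, map_neg, a.2, neg_zero]⟩

theorem linKer_eq {W : Type*} [AddCommGroup W] (φ : V →+ W) {x y : G} (hx : x ∈ H) (hy : y ∈ H) :
    x⁻¹ * y ∈ linKer h1 h2 φ ↔ φ (f x) = φ (f y) :=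
  (and_iff_right (mul_mem (inv_mem hx) hy)).trans (by
    rw [h2 _ (inv_mem hx) _ hy, lin_inv h1 h2 hx, map_add, map_neg, neg_add_eq_zero])

end

theorem cyc_le (h : IsPSolvable p G) {S : Subgroup G} (hS : IsSylowIn p S ⊤) {a : G} (ha : a ∈ S) (hn : S ≤ N(zpowers a))
    (hc : p ≠ 2 ∨ ¬ Sec (qd p) (⊤ : Subgroup G)) : a ∈ pPrimePCore p G := by
  by_contra n
  obtain ⟨V, _, _, _, f, ρ, i, f1, f2, f3, f4⟩ := exists_lin h
  set H := pPrimePCore p G
  let π := QuotientGroup.mk' H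
  have e1 : ∀ x, π x = 1 ↔ x ∈ H := fun x => QuotientGroup.eq_one_iff x
  have k := fun t ht s => lin_comm (σ := fun g : G => ρ (π g)) f1 f2 f4 (t := t) ht s
  have k1 : ∀ c ∈ zpowers a, c ∈ H → (ρ (π a) - 1) (f c) = 0 := fun c c1 c2 => by
    rw [(k c c2 a).2, commutatorElement_eq_one_iff_mul_comm.2 (le_centralizer (zpowers a) c1 a (mem_zpowers a)), f1]
  have k2 : ∀ v, ∃ c ∈ zpowers a, c ∈ H ∧ (ρ (π a) - 1) v = f c := fun v => by
    obtain ⟨t, ht, rfl⟩ := f3 S hS v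
    exact ⟨_, commutator_le_left_of_le_normalizer hn (commutator_mem_commutator (mem_zpowers a) ht.1), k t ht.2 a⟩
  have q1 : (ρ (π a) - 1) * (ρ (π a) - 1) = 0 := LinearMap.ext fun v => by
    obtain ⟨c, c1, c2, e⟩ := k2 v
    rw [End.mul_apply, e, k1 c c1 c2]; rfl
  have o : orderOf (π a) = p := orderOf_eq_prime (i (by rw [map_pow, map_one, pow_eq_one_of_quad q1])) (mt (e1 a).1 n)
  have o' : π a ^ p = 1 := orderOf_dvd_iff_pow_eq_one.1 o.dvd
  have ap : a ^ p ∈ H := (e1 _).1 (by rw [map_pow, o'])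
  have k3 : ∀ v, ∃ j : ℕ, (ρ (π a) - 1) v = j • f (a ^ p) := fun v => by
    obtain ⟨c, c1, c2, e⟩ := k2 v
    obtain ⟨j, rfl⟩ := mem_powers_iff_mem_zpowers.2 c1
    obtain ⟨j, rfl⟩ := o ▸ orderOf_dvd_of_pow_eq_one ((map_pow π a j).symm.trans ((e1 _).2 c2))
    exact ⟨j, by simp only [e, pow_mul, lin_npow f1 f2 ap]⟩
  have k4 := k1 _ (npow_mem_zpowers a p) ap
  have h' := IsPSolvable.quotient h H
  have cO := coprime_card_pPrimeCore p (G ⧸ H)
  have pA : IsPGroup p (zpowers (π a)) := .of_card ((Nat.card_zpowers _).trans (o.trans (pow_one p).symm))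
  have nc : ¬ pPrimeCore p (G ⧸ H) ≤ C(zpowers (π a)) := fun e => n ((e1 a).1 (by
    simpa using disjoint_def.1 (disjoint_of_isPGroup_of_coprime pA cO) (mem_zpowers _)
      (IsPSolvable.centralizer_pPrimeCore_le h' pCore_quot_pPrimePCore (cent_symm e (mem_zpowers _)))))
  by_cases p2 : p = 2
  · subst p2
    obtain ⟨m, m1, m2⟩ := SetLike.not_le_iff_exists.1 nc
    obtain ⟨g, rfl⟩ := QuotientGroup.mk'_surjective H m
    obtain ⟨y, hy⟩ : ∃ y, y = g * a ^ 2 * g⁻¹ := ⟨_, rfl⟩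
    have y1 : y ∈ H := hy ▸ (pPrimePCore_normal 2 G).conj_mem _ ap g
    have b1 : ∀ v, (ρ (π (g * a * g⁻¹)) - 1) v = ρ (π g) ((ρ (π a) - 1) (ρ (π g)⁻¹ v)) := fun v => by
      simp [rho_rho_inv]
    have two : ∀ v : V, v + v = 0 := fun v => by rw [← two_smul (ZMod 2), show (2 : ZMod 2) = 0 from rfl, zero_smul]
    have cs : ∀ (j : ℕ) (v : V), j • v = 0 ∨ j • v = v := fun j v => by
      induction j with
      | zero => simp
      | succ j ih => rw [succ_nsmul]; exact ih.elim (fun e => .inr (by rw [e, zero_add])) fun e => .inl (by rw [e, two])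
    have b2 : ∀ v, ∃ j : ℕ, (ρ (π (g * a * g⁻¹)) - 1) v = j • f y := fun v =>
      (k3 (ρ (π g)⁻¹ v)).imp fun j e => by rw [b1, e, map_nsmul, hy, f4 _ _ ap]; rfl
    have b3 : (ρ (π (g * a * g⁻¹)) - 1) (f y) = 0 := by
      rw [b1, hy, f4 _ _ ap, show ρ (π g)⁻¹ (ρ g _) = _ from rho_inv_rho (π g) _, k4, map_zero]
    obtain ⟨α, hα⟩ : ∃ α, α = ρ (π a) - 1 := ⟨_, rfl⟩
    obtain ⟨β, hβ⟩ : ∃ β, β = ρ (π (g * a * g⁻¹)) - 1 := ⟨_, rfl⟩
    rw [← hα] at q1 k3 k4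
    rw [← hβ] at b2 b3
    have q2 : β * β = 0 := LinearMap.ext fun v => by
      obtain ⟨j, e⟩ := b2 v
      rw [End.mul_apply, e, map_nsmul, b3, smul_zero]; rfl
    have key : α * β ≠ 0 ∧ β * α ≠ 0 := by
      by_contra e
      have c : ∀ t : End (ZMod 2) V, t + t = 0 := fun t => LinearMap.ext fun v => two _
      have : (π a * π (g * a * g⁻¹)) ^ 4 = 1 := i (by
        rw [map_pow, map_mul, map_one, eq_add_of_sub_eq hα.symm, eq_add_of_sub_eq hβ.symm, show 4 = 2 * 2 from rfl, pow_mul]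
        refine pow_eq_one_of_quad (p := 2) ?_
        rw [← geom_sum_mul, geom_eq (F := ZMod 2), ← pow_succ, sq, show (α + 1) * (β + 1) - 1 = α * β + α + β by noncomm_ring]
        rcases not_and_or.1 e with e | e <;> rw [not_not] at e
        · simp [e, mul_add, add_mul, q1, q2, mul_assoc, ← mul_assoc α β]
        · simp [e, mul_add, add_mul, q1, q2, mul_assoc, ← mul_assoc α α, ← mul_assoc β α])
      have a2 : (π a)⁻¹ = π a := inv_eq_of_mul_eq_one_right (by rw [← sq, o'])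
      have e' : π a * π (g * a * g⁻¹) = ⁅π a, π g⁆ := by simp only [commutatorElement_def, a2, map_mul, map_inv, mul_assoc]
      rw [e'] at this
      refine m2 ((centralizer_zpowers_eq _).ge (mem_cent1.2 (commutatorElement_eq_one_iff_mul_comm.1 (orderOf_eq_one_iff.1
        (Nat.eq_one_of_dvd_coprimes (cO.pow_right 2) (orderOf_dvd_natCard _ (commutator_le_right _ _
          (commutator_mem_commutator (mem_top _) m1))) (orderOf_dvd_of_pow_eq_one this))))))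
    have a1 : α (f y) = f (a ^ 2) ∧ f (a ^ 2) ≠ 0 := by
      obtain ⟨j, e⟩ := k3 (f y)
      have : α (f y) ≠ 0 := fun e => key.1 (LinearMap.ext fun v => by
        obtain ⟨j, e'⟩ := b2 v
        rw [End.mul_apply, e', map_nsmul, e, smul_zero]; rfl)
      have e2 := e.trans ((cs j _).resolve_left (e ▸ this))
      exact ⟨e2, e2 ▸ this⟩
    have a2 : β (f (a ^ 2)) = f y := by
      obtain ⟨j, e⟩ := b2 (f (a ^ 2))
      refine e.trans ((cs j _).resolve_left (e ▸ fun e => key.2 (LinearMap.ext fun v => ?_)))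
      obtain ⟨j, e'⟩ := k3 v
      rw [End.mul_apply, e', map_nsmul, e, smul_zero]; rfl
    let N := linKer f1 f2 (AddMonoidHom.id V)
    have : N.Normal := ⟨fun x hx g => ⟨(pPrimePCore_normal 2 G).conj_mem _ hx.1 g, by
      rw [f4 _ _ hx.1, show f x = 0 from hx.2, map_zero, map_zero]⟩⟩
    have cr : ∀ x ∈ H, ∀ y ∈ H, f x = f y → QuotientGroup.mk' N x = QuotientGroup.mk' N y := fun x hx y hy e =>
      QuotientGroup.eq.2 ((linKer_eq f1 f2 _ hx hy).2 e)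
    have cj := fun g x hx => (pPrimePCore_normal 2 G).conj_mem x hx g
    refine (hc.resolve_left (not_not.2 rfl)) (Sec.of_surjective _ (QuotientGroup.mk'_surjective N) (sec_qd_of_pair
      (a := QuotientGroup.mk' N a) (b := QuotientGroup.mk' N (g * a * g⁻¹)) (x := QuotientGroup.mk' N (a ^ 2))
      (y := QuotientGroup.mk' N y) ?_ ?_ (fun e => a1.2 ((QuotientGroup.eq_one_iff _).1 e).2) ?_ ?_ ?_ ?_ ?_))
    · exact cr _ (pow_mem ap 2) _ (one_mem _) (by rw [lin_npow f1 f2 ap, two_smul, two, f1])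
    · exact cr _ (pow_mem y1 2) _ (one_mem _) (by rw [lin_npow f1 f2 y1, two_smul, two, f1])
    · exact cr _ (mul_mem ap y1) _ (mul_mem y1 ap) (by rw [f2 _ ap _ y1, f2 _ y1 _ ap, add_comm])
    · exact cr _ (cj _ _ ap) _ ap (by congr 1; group)
    · exact cr _ (cj _ _ y1) _ (mul_mem ap y1) (by rw [f4 _ _ y1, f2 _ ap _ y1, ← a1.1, hα]; simp; rfl)
    · exact cr _ (cj _ _ ap) _ (mul_mem ap y1) (by rw [f4 _ _ ap, f2 _ ap _ y1, ← a2, hβ]; simp; rfl)
    · exact cr _ (cj _ _ y1) _ y1 (by rw [hy]; congr 1; group)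
  obtain ⟨q, hq, qp, Q, a1, a2, a3, a4, a5, -⟩ := exists_special pA le_rfl le_normalizer cO le_normalizer_of_normal nc
  have := Fact.mk hq
  obtain ⟨R, hR⟩ := IsSylowIn.exists_sylowIn (p := q) (Q.comap π)
  have RQ : R.map π = Q := by
    have := hR.map π
    rw [map_comap_eq_self_of_surjective (QuotientGroup.mk'_surjective H)] at this
    exact this.eq_of_le a2 this.le le_rfl |>.symm
  have := (sylow_frattini_sup hR le_sup_left (sup_le le_normalizer (zpowers_le.2 (CfsgH2.mem_normalizer_of_conj_mem fun x hx =>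
    CfsgH2.conj_mem_of_mem_normalizer (H := Q) (a3 (mem_zpowers _)) hx)))).ge (mem_sup_right (mem_zpowers a))
  rw [← RQ, comap_map_eq, QuotientGroup.ker_mk', sup_comm R, sup_assoc] at this
  obtain ⟨t, ht, s, hs, e⟩ := mem_sup_of_normal_left.1 (sup_le_sup_left (sup_le le_normalizer inf_le_right) _ this)
  have ps : π s = π a := by rw [← e, map_mul, (e1 t).2 ht, one_mul]
  have sp : s ^ p ∈ H := (e1 _).1 (by rw [map_pow, ps, o'])
  have w1 : f (a ^ p) = f (s ^ p) := by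
    obtain ⟨l1, l2⟩ := lin_pow (σ := ρ.comp π) f1 f2 f4 ht s p
    rw [MonoidHom.comp_apply, ps, geom_eq (F := ZMod p), pow_eq_zero_of_le (m := 2) (by have := hp.out.two_le; omega)
      (by rwa [sq]), e] at l2
    rw [← inv_mul_cancel_right (a ^ p) (s ^ p), f2 _ (e ▸ l1) _ sp, l2]; simp
  let D : Subgroup (G ⧸ H) :=
    { carrier := {g | ρ g (f (a ^ p)) = f (a ^ p) ∧ ∀ v, ∃ j : ℤ, ρ g v - v = j • f (a ^ p)}
      one_mem' := by simp; exact ⟨0, by simp⟩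
      mul_mem' := fun {x y} a b => ⟨by rw [← rho_rho, b.1, a.1], fun v => by
        obtain ⟨i, e⟩ := a.2 v
        obtain ⟨j, e'⟩ := b.2 v
        exact ⟨j + i, by rw [← rho_rho, eq_add_of_sub_eq e', map_add, map_zsmul, a.1, add_smul, ← e]; abel⟩⟩
      inv_mem' := fun {x} a => ⟨by conv_lhs => rw [← a.1, rho_inv_rho], fun v => by
        obtain ⟨i, e⟩ := a.2 (ρ x⁻¹ v)
        exact ⟨-i, by rw [neg_smul, ← e, rho_rho_inv, neg_sub]⟩⟩ }
  have qw : ∀ r ∈ Q, ρ r (f (a ^ p)) = f (a ^ p) := by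
    rw [← RQ]
    rintro _ ⟨r, hr, rfl⟩
    obtain ⟨l1, l2⟩ := k _ sp r
    rw [lin_cop f1 f2 l1 (((hR.pgroup.exists_card_eq.choose_spec ▸ ((Nat.coprime_primes hq hp.out).2 qp).pow_left _)).coprime_dvd_left
      (orderOf_dvd_natCard _ (commutator_le_left_of_le_normalizer le_rfl (commutator_mem_commutator hr (pow_mem hs p)))))] at l2
    rw [w1]; exact sub_eq_zero.1 l2
  have aD : zpowers (π a) ≤ D := zpowers_le.2 ⟨sub_eq_zero.1 k4, fun v =>
    let ⟨j, e⟩ := k3 v; ⟨j, by rw [natCast_zsmul]; exact e⟩⟩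
  have QD : Q ≤ D := a5.ge.trans ((commutator_mono le_rfl aD).trans (comm_le_right fun r hr =>
    CfsgH2.mem_normalizer_of_conj_mem fun x hx => ⟨by rw [← rho_rho, ← rho_rho, qw _ (inv_mem hr), hx.1, qw r hr], fun v =>
      (hx.2 (ρ r⁻¹ v)).imp fun j e => by
        rw [← rho_rho, ← rho_rho, eq_add_of_sub_eq e, map_add, map_zsmul, qw r hr, rho_rho_inv, add_sub_cancel_right]⟩))
  refine a4 (eq_bot_iff.2 fun r hr => orderOf_eq_one_iff.1 (Nat.eq_one_of_dvd_coprimes cO (orderOf_dvd_natCard _ (a1 hr))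
    (orderOf_dvd_of_pow_eq_one (i ?_))))
  rw [map_pow, map_one]
  refine pow_eq_one_of_quad (LinearMap.ext fun v => ?_)
  obtain ⟨j, e⟩ := (QD hr).2 v
  change (ρ r - 1) (ρ r v - v) = 0
  rw [e, map_zsmul, LinearMap.sub_apply, qw r hr, End.one_apply, sub_self, smul_zero]

theorem card_eq_of_fibers {T X Y : Type*} (α : T → X) (β : T → Y) (h1 : Function.Surjective α) (h2 : Function.Surjective β)
    (h : ∀ a b, α a = α b ↔ β a = β b) : Nat.card X = Nat.card Y :=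
  Nat.card_congr (Equiv.ofBijective (β ∘ Function.surjInv h1) ⟨fun x y e => by
    rw [← Function.surjInv_eq h1 x, (h _ _).2 e, Function.surjInv_eq h1], fun y => by
    obtain ⟨t, rfl⟩ := h2 y
    exact ⟨α t, (h _ _).1 (Function.surjInv_eq h1 _)⟩⟩)

theorem tri_surj {F V : Type*} [Field F] [AddCommGroup V] [Module F V] {n : ℕ} {ν : End F V} (h : ν ^ (n + 1) = 0) (l : V →ₗ[F] F)
    {v : V} (hv : l ((ν ^ n) v) ≠ 0) (u : Fin (n + 1) → F) : ∃ w, ∀ i : Fin (n + 1), l ((ν ^ (i : ℕ)) w) = u i := by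
  suffices ∀ k ≤ n + 1, ∀ u : Fin (n + 1) → F, (∀ i : Fin (n + 1), k ≤ i → u i = 0) → ∃ w, ∀ i : Fin (n + 1), l ((ν ^ (i : ℕ)) w) = u i
    from this _ le_rfl u fun i e => absurd i.2 e.not_gt
  intro k
  induction k with
  | zero => exact fun _ u e => ⟨0, fun i => by simp [e i (Nat.zero_le _)]⟩
  | succ k ih =>
    intro hk u e
    let c := u ⟨k, hk⟩ / l ((ν ^ n) v)
    obtain ⟨w, hw⟩ := ih (by omega) (fun i => u i - c * l ((ν ^ (i + (n - k))) v)) fun i hi => by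
      rcases hi.eq_or_lt with rfl | hi
      · simp [c, Nat.add_sub_cancel' (Nat.le_of_lt_succ i.2), hv]
      · rw [e i hi, pow_eq_zero_of_le (by omega) h]; simp
    exact ⟨w + c • (ν ^ (n - k)) v, fun i => by simp [hw, pow_add]⟩

theorem exists_wreath (ne : ∀ q m : ℕ, q.Prime → p - 1 ≠ q ^ m) (h : IsPSolvable p G) {S : Subgroup G} (hS : IsSylowIn p S ⊤)
    (n : ¬ S ≤ pPrimePCore p G) : ∃ (W : Type) (_ : Group W) (_ : Finite W), (∃ (B : Subgroup W) (t : W), B.Normal ∧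
      IsMulCommutative B ∧ (∀ b ∈ B, b ^ p = 1) ∧ Nat.card B = p ^ p ∧ orderOf t = p ∧ t ∉ B ∧ Nat.card W = p ^ (p + 1) ∧
      Nat.card ↥(B ⊓ centralizer ({t} : Set W)) = p) ∧ Sec W S := by
  obtain ⟨V, _, _, _, f, ρ, i, f1, f2, f3, f4⟩ := exists_lin h
  have := Module.Finite.of_finite (R := ZMod p) (M := V)
  obtain ⟨s, s1, s2, s3⟩ : ∃ s ∈ S, s ∉ pPrimePCore p G ∧ s ^ p ∈ pPrimePCore p G := by
    obtain ⟨s, s1, s2⟩ := SetLike.not_le_iff_exists.1 n
    obtain ⟨k, hk⟩ := exists_orderOf_eq_pow hS.pgroup s1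
    obtain ⟨j, h1, h2⟩ := CfsgH2.exists_pow_not_mem (p := p) s2 (k := k) (by rw [← hk, pow_orderOf_eq_one]; exact one_mem _)
    exact ⟨_, pow_mem s1 _, h1, h2⟩
  have x1 : (s : G ⧸ pPrimePCore p G) ≠ 1 := mt (QuotientGroup.eq_one_iff s).1 s2
  have x2 : (s : G ⧸ pPrimePCore p G) ^ p = 1 := (QuotientGroup.eq_one_iff (s ^ p)).2 s3
  have := nontriv_of_ne i x1
  obtain ⟨k, hk⟩ := Nat.exists_eq_add_one_of_ne_zero hp.out.ne_zero
  obtain ⟨ν, hν⟩ : ∃ ν, ν = ρ s - 1 := ⟨_, rfl⟩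
  have g1 : ∑ i ∈ Finset.range p, ρ s ^ i = ν ^ k := by rw [geom_eq (F := ZMod p), hν]; congr 1; omega
  have n1 : ν ^ (k + 1) = 0 := by rw [pow_succ, ← g1, hν, geom_sum_mul, ← map_pow, x2, map_one, sub_self]
  have n2 : ν ^ k ≠ 0 := fun e => by
    rcases thmB i (IsPSolvable.quotient h _) pCore_quot_pPrimePCore ((orderOf_eq_prime x2 x1).trans (pow_one p).symm)
      (dg_pow (hν ▸ e)) with a | ⟨n, q, m, a1, a2, a3, -, -, a4, -⟩
    · rw [pow_one] at a; omega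
    · rw [le_antisymm a2 a1, pow_one] at a4; exact ne q m a3 a4
  obtain ⟨v, hv⟩ := DFunLike.ne_iff.1 n2
  obtain ⟨l, hl⟩ := not_forall.1 (mt (Module.forall_dual_apply_eq_zero_iff (ZMod p) _).1 hv)
  let Λ : V →ₗ[ZMod p] Fin (k + 1) → ZMod p := LinearMap.pi fun i => l ∘ₗ ν ^ (i : ℕ)
  have cr : ∀ w, Λ (ν w) = 0 ↔ ∀ i : Fin (k + 1), i ≠ 0 → Λ w i = 0 := fun w => ⟨fun e i h => by
      obtain ⟨j, rfl⟩ := Fin.exists_succ_eq.2 h
      exact congrFun e j.castSucc, fun e => funext fun i => by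
      change l ((ν ^ ((i : ℕ) + 1)) w) = 0
      rcases Fin.eq_castSucc_or_eq_last i with ⟨j, rfl⟩ | rfl
      · exact e j.succ j.succ_ne_zero
      · simp [n1]⟩
  have sj : ∀ u, ∃ t ∈ S ⊓ pPrimePCore p G, Λ (f t) = u := fun u => by
    obtain ⟨w, hw⟩ := tri_surj n1 l hl u
    obtain ⟨t, ht, rfl⟩ := f3 S hS w
    exact ⟨t, ht, funext hw⟩
  obtain ⟨t, ht, e⟩ := f3 S hS (-(l (f (s ^ p)) / l ((ν ^ k) v)) • v)
  obtain ⟨a, ha⟩ : ∃ a, a = t * s := ⟨_, rfl⟩
  have a1 : a ∈ S := ha ▸ mul_mem ht.1 s1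
  have a2 : a ∉ pPrimePCore p G := ha ▸ mt (mul_mem_cancel_left (H := pPrimePCore p G) ht.2).1 s2
  have a3 : (a : G ⧸ pPrimePCore p G) = s := by rw [ha, QuotientGroup.mk_mul, (QuotientGroup.eq_one_iff t).2 ht.2, one_mul]
  have a4 : a ^ p ∈ pPrimePCore p G ∧ Λ (f (a ^ p)) = 0 := by
    obtain ⟨l1, l2⟩ := lin_pow (σ := ρ.comp (QuotientGroup.mk' _)) f1 f2 f4 ht.2 s p
    rw [← ha] at l1 l2
    replace l2 := l2.trans (LinearMap.congr_fun g1 _)
    have w : ν (f (s ^ p)) = 0 := by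
      rw [hν, (lin_comm (σ := fun g : G => ρ g) f1 f2 f4 s3 s).2,
        commutatorElement_eq_one_iff_commute.2 (Commute.self_pow s p), f1]
    refine ⟨(mul_mem_cancel_right (inv_mem s3)).1 l1, funext fun i => ?_⟩
    rw [← inv_mul_cancel_right (a ^ p) (s ^ p), f2 _ l1 _ s3, l2, e]
    rcases Fin.eq_zero_or_eq_succ i with rfl | ⟨j, rfl⟩
    · simp [Λ, hl]
    · change l ((ν ^ ((j : ℕ) + 1)) _) = 0
      rw [map_add, ← End.mul_apply, ← pow_add, pow_eq_zero_of_le (by omega) n1, pow_succ, End.mul_apply, w]; simp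
  have cj : ∀ x ∈ pPrimePCore p G, f (a * x * a⁻¹) = ν (f x) + f x := fun x hx => by rw [f4 _ _ hx, a3, hν]; simp
  set T := S ⊓ pPrimePCore p G
  have aT : zpowers a ≤ N(T) := zpowers_le.2 (le_normalizer_inf' le_normalizer le_normalizer_of_normal a1)
  let N := linKer f1 f2 Λ.toAddMonoidHom
  have LN : T ⊔ zpowers a ≤ N(N) := sup_le (fun x hx => CfsgH2.mem_normalizer_of_conj_mem fun y hy =>
      ⟨(pPrimePCore_normal p G).conj_mem _ hy.1 x, by
        rw [f4 _ _ hy.1, (QuotientGroup.eq_one_iff x).2 hx.2, map_one]; exact hy.2⟩)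
    (zpowers_le.2 (CfsgH2.mem_normalizer_of_conj_mem fun y hy => ⟨(pPrimePCore_normal p G).conj_mem _ hy.1 a, by
      rw [cj y hy.1, map_add, show Λ.toAddMonoidHom (f y) = 0 from hy.2, add_zero]
      exact (cr _).2 fun i _ => congrFun hy.2 i⟩))
  obtain ⟨L, hL⟩ : ∃ L, L = T ⊔ zpowers a := ⟨_, rfl⟩
  have l1 : T ≤ L := hL ▸ le_sup_left
  have l2 : a ∈ L := hL ▸ mem_sup_right (mem_zpowers a)
  have : (N.subgroupOf L).Normal := (normal_subgroupOf_iff_le_normalizer_inf.2 (le_normalizer_inf' (hL ▸ LN) le_normalizer))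
  have nT : (T.subgroupOf L).Normal := hL ▸ normal_subgroupOf_sup_left aT
  obtain ⟨W, _, _, ⟨ε⟩⟩ := Finite.exists_type_univ_nonempty_mulEquiv.{u, 0} (L ⧸ N.subgroupOf L)
  let π : L →* W := ε.toMonoidHom.comp (QuotientGroup.mk' _)
  have π1 : Function.Surjective π := ε.surjective.comp (QuotientGroup.mk'_surjective _)
  have π2 : ∀ x y : L, (x : G) ∈ pPrimePCore p G → (y : G) ∈ pPrimePCore p G → (π x = π y ↔ Λ (f x) = Λ (f y)) := fun x y hx hy =>
    ε.injective.eq_iff.trans (QuotientGroup.eq.trans (linKer_eq f1 f2 _ hx hy))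
  have π3 : π ⟨a, l2⟩ ∉ (T.subgroupOf L).map π := by
    rintro ⟨x, hx, e⟩
    exact a2 ((mul_mem_cancel_left (H := pPrimePCore p G) (inv_mem (mem_inf.1 (mem_subgroupOf.1 hx)).2)).1 (QuotientGroup.eq.1 (ε.injective e)).1)
  have π4 : π ⟨a, l2⟩ ^ p = 1 := by rw [← map_pow, ← map_one π, π2 _ _ a4.1 (one_mem _)]; simp [a4.2, f1]
  have nB := nT.map π π1
  have cB : Nat.card ((T.subgroupOf L).map π) = p ^ p := by
    rw [card_eq_of_fibers (T := T) (fun x => (⟨π ⟨x, l1 x.2⟩, _, x.2, rfl⟩ : (T.subgroupOf L).map π)) (fun x => Λ (f x))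
      (by rintro ⟨_, x, hx, rfl⟩; exact ⟨⟨x, hx⟩, rfl⟩) (fun u => let ⟨t, a, b⟩ := sj u; ⟨⟨t, a⟩, b⟩)
      fun x y => Subtype.ext_iff.trans (π2 _ _ x.2.2 y.2.2), Nat.card_fun, Nat.card_zmod, Nat.card_eq_fintype_card, Fintype.card_fin, ← hk]
  refine ⟨W, inferInstance, inferInstance, ⟨(T.subgroupOf L).map π, π ⟨a, l2⟩, nB, ⟨⟨?_⟩⟩, ?_, cB,
    orderOf_eq_prime π4 fun e => π3 (e ▸ one_mem _), π3, ?_, ?_⟩, L, hL ▸ sup_le inf_le_left (zpowers_le.2 a1), π, π1⟩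
  · rintro ⟨_, x, hx, rfl⟩ ⟨_, y, hy, rfl⟩
    exact Subtype.ext ((π2 (x * y) (y * x) (mul_mem hx.2 hy.2) (mul_mem hy.2 hx.2)).2 (by
      rw [Subgroup.coe_mul, Subgroup.coe_mul, f2 x hx.2 y hy.2, f2 y hy.2 x hx.2, add_comm (f x)]) |> fun e => by simpa using e)
  · rintro _ ⟨x, hx, rfl⟩
    rw [← map_pow, ← map_one π, π2 _ _ (pow_mem hx.2 p) (one_mem _), Subgroup.coe_pow, lin_npow f1 f2 (x := x) hx.2,
      ← Nat.cast_smul_eq_nsmul (ZMod p)]
    simp [f1]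
  · have := relIndex_sup_zpowers (p := p) (le_normalizer_of_normal (mem_top _)) π3 (π4 ▸ one_mem _)
    rw [← MonoidHom.map_zpowers, ← Subgroup.map_sup, show T.subgroupOf L ⊔ zpowers ⟨a, l2⟩ = ⊤ from map_injective L.subtype_injective (by
      rw [Subgroup.map_sup, map_subgroupOf_eq_of_le l1, MonoidHom.map_zpowers, ← MonoidHom.range_eq_map, range_subtype]; exact hL.symm),
      map_top_of_surjective _ π1, relIndex_top_right] at this
    rw [← card_mul_index ((T.subgroupOf L).map π), cB, this, pow_succ]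
  · have cc : ∀ x (hx : x ∈ T), π ⟨x, l1 hx⟩ ∈ centralizer {π ⟨a, l2⟩} ↔ Λ (ν (f x)) = 0 := fun x hx => by
      rw [mem_cent1, ← mul_inv_eq_iff_eq_mul, ← map_inv, ← map_mul, ← map_mul,
        π2 _ _ ((pPrimePCore_normal p G).conj_mem _ hx.2 a) hx.2]
      change Λ (f (a * x * a⁻¹)) = _ ↔ _
      rw [cj x hx.2, map_add, add_eq_right]
    rw [card_eq_of_fibers (T := {x : T // Λ (ν (f x)) = 0}) (fun x => (⟨π ⟨x.1, l1 x.1.2⟩, ⟨_, x.1.2, rfl⟩, (cc _ x.1.2).2 x.2⟩ :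
      ↥((T.subgroupOf L).map π ⊓ centralizer {π ⟨a, l2⟩}))) (fun x => Λ (f x.1) 0)
      (by rintro ⟨_, ⟨x, hx, rfl⟩, e⟩; exact ⟨⟨⟨x, hx⟩, (cc _ hx).1 e⟩, rfl⟩)
      (fun u => let ⟨t, a, b⟩ := sj (Pi.single 0 u); ⟨⟨⟨t, a⟩, (cr _).2 fun i hi => by rw [b, Pi.single_eq_of_ne hi]⟩, by simp [b]⟩)
      fun x y => Subtype.ext_iff.trans ((π2 _ _ x.1.2.2 y.1.2.2).trans ⟨fun e => congrFun e 0, fun e => funext fun i => by
        by_cases hi : i = 0
        · exact hi ▸ e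
        · exact ((cr _).1 x.2 i hi).trans ((cr _).1 y.2 i hi).symm⟩), Nat.card_zmod]

end CfsgH9
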