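import Cfsg.Agent.H9.Chief
import Cfsg.Agent.H2.Meta

/-! Metacyclic `p`-groups for odd `p`: coordinates. -/

set_option autoImplicit false

namespace CfsgH9

open Subgroup Cfsg CfsgH2 CfsgFT CfsgLead Finset
open scoped IsMulCommutative commutatorElement

def ph (k : ℤ) (j : ℕ) : ℤ := ∑ l ∈ range j, k ^ l

section
variable {k : ℤ} {p : ℕ}

theorem ph_mul (j : ℕ) : (k - 1) * ph k j = k ^ j - 1 := mul_geom_sum k j

theorem ph_add (i j : ℕ) : ph k (i + j) = ph k i + k ^ i * ph k j := by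
  simp only [ph, sum_range_add, pow_add, mul_sum]

theorem ph_mul' (i j : ℕ) : ph k (i * j) = ph k i * ph (k ^ i) j := by
  induction j with
  | zero => simp [ph]
  | succ j ih => rw [Nat.mul_succ, ph_add, ih, pow_mul, ph, ph, ph, sum_range_succ]; ring

theorem dvd_pow_sub_one (h : (p : ℤ) ∣ k - 1) (j : ℕ) : (p : ℤ) ∣ k ^ j - 1 := ph_mul (k := k) j ▸ h.mul_right _

theorem ph_mod (h : (p : ℤ) ∣ k - 1) (j : ℕ) : (p : ℤ) ∣ ph k j - j := by
  induction j with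
  | zero => simp [ph]
  | succ j ih =>
    rw [ph, sum_range_succ, ← ph]
    exact (by push_cast; ring : ph k j - j + (k ^ j - 1) = ph k j + k ^ j - ((j + 1 : ℕ) : ℤ)) ▸ ih.add (dvd_pow_sub_one h j)

theorem ph_eq (j : ℕ) : ph k j = j + (k - 1) * ∑ l ∈ range j, ph k l := by
  simp only [mul_sum, ph_mul, sum_sub_distrib]
  simp [ph]

variable [hp : Fact p.Prime]

theorem ph_p (hp2 : p ≠ 2) (h : (p : ℤ) ∣ k - 1) : ∃ t, ph k p = p * (1 + (k - 1) * t) := by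
  have pr := Nat.prime_iff_prime_int.1 hp.out
  have h1 : (p : ℤ) ∣ ∑ l ∈ range p, (l : ℤ) := by
    have := congrArg (Nat.cast : ℕ → ℤ) (sum_range_id_mul_two p)
    push_cast at this
    refine (pr.dvd_or_dvd (b := 2) ⟨_, this⟩).resolve_right fun d => hp2 ?_
    exact (Nat.prime_dvd_prime_iff_eq hp.out Nat.prime_two).1 (by exact_mod_cast d)
  have h2 : (p : ℤ) ∣ ∑ l ∈ range p, (ph k l - l) := dvd_sum fun l _ => ph_mod h l
  obtain ⟨t, ht⟩ := h2.add h1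
  rw [sum_sub_distrib, sub_add_cancel] at ht
  exact ⟨t, by rw [ph_eq, ht]; ring⟩

theorem ph_pow (hp2 : p ≠ 2) (s : ℕ) : ∀ {k : ℤ}, (p : ℤ) ∣ k - 1 → ∃ t, ph k (p ^ s) = p ^ s * (1 + (k - 1) * t) := by
  induction s with
  | zero => exact fun _ => ⟨0, by simp [ph]⟩
  | succ s ih =>
    intro k h
    obtain ⟨t, ht⟩ := ph_p hp2 h
    obtain ⟨u, hu⟩ := ih (dvd_pow_sub_one h p)
    refine ⟨t + ph k p * u + (k - 1) * t * ph k p * u, ?_⟩
    rw [pow_succ', ph_mul', hu, ← ph_mul]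
    linear_combination (p : ℤ) ^ s * (1 + (k - 1) * ph k p * u) * ht

theorem cop_of_dvd (h : (p : ℤ) ∣ k - 1) (s : ℕ) : IsCoprime ((p : ℤ) ^ s) k := by
  obtain ⟨t, ht⟩ := h
  exact IsCoprime.pow_left ⟨-t, 1, by linear_combination ht⟩

theorem dvd_ph (hp2 : p ≠ 2) (s : ℕ) : ∀ {k : ℤ} (j : ℕ), (p : ℤ) ∣ k - 1 → ((p : ℤ) ^ s ∣ ph k j ↔ p ^ s ∣ j) := by
  induction s with
  | zero => simp
  | succ s ih =>
    intro k j h
    by_cases d : p ∣ j
    · obtain ⟨j, rfl⟩ := d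
      obtain ⟨t, ht⟩ := ph_p hp2 h
      rw [ph_mul', ht, pow_succ', pow_succ', mul_assoc, mul_dvd_mul_iff_left (by exact_mod_cast hp.out.ne_zero),
        Nat.mul_dvd_mul_iff_left hp.out.pos, ← ih j (dvd_pow_sub_one h p)]
      exact ⟨(cop_of_dvd (by simpa using h.mul_right t) s).dvd_of_dvd_mul_left, fun e => e.mul_left _⟩
    · refine iff_of_false (fun e => d ?_) fun e => d ((dvd_pow_self p s.succ_ne_zero).trans e)
      have := ((dvd_pow_self (p : ℤ) s.succ_ne_zero).trans e).sub (ph_mod h j)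
      rw [sub_sub_cancel] at this
      exact_mod_cast this

theorem ph_surj (hp2 : p ≠ 2) (h : (p : ℤ) ∣ k - 1) (s : ℕ) (w : ℤ) : ∃ j, (p : ℤ) ^ s ∣ ph k j - w := by
  have : NeZero (p ^ s) := ⟨pow_ne_zero _ hp.out.ne_zero⟩
  have key : ∀ i j : Fin (p ^ s), i.1 ≤ j.1 → (ph k i : ZMod (p ^ s)) = ph k j → i = j := fun i j l e => by
    obtain ⟨d, hd⟩ := Nat.exists_eq_add_of_le l
    rw [ZMod.intCast_eq_intCast_iff_dvd_sub, hd, ph_add, add_sub_cancel_left] at e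
    have := (dvd_ph hp2 s d h).1 ((cop_of_dvd (dvd_pow_sub_one h i) s).dvd_of_dvd_mul_left (by exact_mod_cast e))
    have := Nat.eq_zero_of_dvd_of_lt this (by omega)
    exact Fin.ext (by omega)
  obtain ⟨j, hj⟩ := ((Nat.bijective_iff_injective_and_card fun j : Fin (p ^ s) => (ph k j : ZMod (p ^ s))).2
    ⟨fun i j e => (le_total i.1 j.1).elim (key i j · e) fun l => (key j i l e.symm).symm, by simp⟩).2 w
  exact ⟨j, by exact_mod_cast (ZMod.intCast_eq_intCast_iff_dvd_sub _ _ _).1 hj.symm⟩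

end

variable {G : Type*} [Group G] {p : ℕ} [hp : Fact p.Prime]

theorem zpow_mem_zpowers_pow {x : G} {n s : ℕ} (hx : orderOf x = p ^ n) (hs : s ≤ n) {e : ℤ} :
    x ^ e ∈ zpowers (x ^ p ^ s) ↔ (p : ℤ) ^ s ∣ e := by
  refine ⟨fun ⟨m, hm⟩ => ?_, fun ⟨m, hm⟩ => ⟨m, by simp only [hm, zpow_mul, ← zpow_natCast, Nat.cast_pow]⟩⟩
  simp only [← zpow_natCast, ← zpow_mul, zpow_eq_zpow_iff_modEq, hx, Nat.cast_pow] at hm
  simpa using ((pow_dvd_pow _ hs).trans hm.dvd).add (dvd_mul_right ((p : ℤ) ^ s) m)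

omit hp in
theorem index_cent_eq (g : G) (S : Set G) (h : ∀ x, x ∈ S ↔ ∃ y : G, ⁅y, g⁆ = x) : (centralizer {g}).index = Nat.card S := by
  have k : ∀ x y : G, x⁻¹ * y ∈ centralizer ({g} : Set G) ↔ ⁅x, g⁆ = ⁅y, g⁆ := fun x y => by
    rw [mem_centralizer_singleton_iff, commutatorElement_def, commutatorElement_def, mul_left_inj]
    refine ⟨fun e => ?_, fun e => ?_⟩
    · calc _ = x * (g * (x⁻¹ * y)) * y⁻¹ := by group
        _ = _ := by rw [← e]; group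
    · calc _ = x⁻¹ * (y * g * y⁻¹) * y := by group
        _ = _ := by rw [← e]; group
  refine Nat.card_congr (.ofBijective (Quotient.lift (fun y => (⟨⁅y, g⁆, (h _).2 ⟨y, rfl⟩⟩ : S)) fun x y e =>
    Subtype.ext ((k x y).1 (QuotientGroup.leftRel_apply.1 e))) ⟨?_, fun ⟨x, hx⟩ => ?_⟩)
  · rintro ⟨x⟩ ⟨y⟩ e
    exact QuotientGroup.eq.2 ((k x y).2 (congrArg Subtype.val e))
  · obtain ⟨y, rfl⟩ := (h x).1 hx
    exact ⟨QuotientGroup.mk y, rfl⟩

omit hp in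
theorem relIndex_zpowers_eq {K : Subgroup G} [K.Normal] {x : G} {q : ℕ} (h : ∀ j : ℕ, x ^ j ∈ K ↔ q ∣ j) :
    K.relIndex (zpowers x) = q := by
  rw [← QuotientGroup.ker_mk' K, relIndex_ker, MonoidHom.map_zpowers, Nat.card_zpowers]
  have : ∀ j, orderOf (QuotientGroup.mk' K x) ∣ j ↔ q ∣ j := fun j => by
    rw [orderOf_dvd_iff_pow_eq_one, ← map_pow, ← h]; exact QuotientGroup.eq_one_iff _
  exact Nat.dvd_antisymm ((this _).2 dvd_rfl) ((this _).1 dvd_rfl)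

structure MC (p : ℕ) (a b : G) (k : ℤ) (n : ℕ) : Prop where
  p2 : p ≠ 2
  pg : IsPGroup p G
  cj : b * a * b⁻¹ = a ^ k
  k1 : (p : ℤ) ∣ k - 1
  gen : ∀ g, ∃ (i : ℤ) (j : ℕ), g = a ^ i * b ^ j
  ord : orderOf (a ^ (k - 1)) = p ^ n

omit hp in
theorem pow_mul_zpow_of_cj {a b : G} {k : ℤ} (h : b * a * b⁻¹ = a ^ k) (j : ℕ) (i : ℤ) : b ^ j * a ^ i = a ^ (i * k ^ j) * b ^ j := by
  induction j generalizing i with
  | zero => simp
  | succ j ih =>
    have : b * a ^ i = a ^ (i * k) * b := by rw [mul_comm i, zpow_mul, ← h, conj_zpow, inv_mul_cancel_right]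
    rw [pow_succ, mul_assoc, this, ← mul_assoc, ih, mul_assoc i, ← pow_succ', mul_assoc]

theorem exists_MC [Finite G] (hp2 : p ≠ 2) (hG : IsPGroup p G) (h : IsMetacyclic G) : ∃ (a b : G) (k : ℤ) (n : ℕ), MC p a b k n := by
  obtain ⟨N, hN, h1, h2⟩ := h
  obtain ⟨a, rfl⟩ := isCyclic_iff_zpowers.1 h1
  obtain ⟨b, hb⟩ := h2.exists_generator
  obtain ⟨b, rfl⟩ := QuotientGroup.mk_surjective b
  have gen : ∀ g, ∃ (i : ℤ) (j : ℕ), g = a ^ i * b ^ j := fun g => by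
    obtain ⟨j, hj⟩ := (mem_powers_iff_mem_zpowers.2 (hb (g : G ⧸ zpowers a)))
    obtain ⟨i, hi⟩ := (QuotientGroup.eq_iff_div_mem).1 (hj.symm.trans (QuotientGroup.mk_pow _ b j).symm)
    exact ⟨i, j, by simp only at hi; rw [hi, div_mul_cancel]⟩
  obtain ⟨k, hk, k1⟩ : ∃ k : ℤ, b * a * b⁻¹ = a ^ k ∧ (p : ℤ) ∣ k - 1 := by
    by_cases a1 : a = 1
    · exact ⟨1, by simp [a1], by simp⟩
    obtain ⟨k, hk⟩ := hN.conj_mem a (mem_zpowers a) b
    obtain ⟨e, he⟩ := hG b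
    have := pow_mul_zpow_of_cj hk.symm (p ^ e) 1
    rw [he, one_mul, mul_one, one_mul, zpow_eq_zpow_iff_modEq] at this
    obtain ⟨m, hm⟩ := (IsPGroup.iff_orderOf.1 hG) a
    have d : (p : ℤ) ∣ k ^ p ^ e - 1 := (Int.natCast_dvd_natCast.2 (hm ▸ dvd_pow_self p fun z => a1 (by
      simpa [z] using hm))).trans this.dvd
    rw [← ZMod.intCast_zmod_eq_zero_iff_dvd] at d
    refine ⟨k, hk.symm, (ZMod.intCast_zmod_eq_zero_iff_dvd _ _).1 ?_⟩
    simpa [ZMod.pow_card_pow] using d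
  obtain ⟨n, hn⟩ := (IsPGroup.iff_orderOf.1 hG) (a ^ (k - 1))
  exact ⟨a, b, k, n, hp2, hG, hk, k1, gen, hn⟩

namespace MC
variable {a b : G} {k : ℤ} {n : ℕ} (h : MC p a b k n)
include h

theorem mul_eq (i i' : ℤ) (j j' : ℕ) : a ^ i * b ^ j * (a ^ i' * b ^ j') = a ^ (i + i' * k ^ j) * b ^ (j + j') := by
  rw [mul_assoc, ← mul_assoc (b ^ j), pow_mul_zpow_of_cj h.cj, zpow_add, pow_add]; group

theorem comm (i i' : ℤ) (j j' : ℕ) :
    ⁅a ^ i * b ^ j, a ^ i' * b ^ j'⁆ = (a ^ (k - 1)) ^ (i' * ph k j - i * ph k j') := by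
  rw [commutatorElement_def, mul_assoc, ← mul_inv_rev, h.mul_eq, h.mul_eq, add_comm j', mul_inv_rev, ← mul_assoc,
    mul_inv_cancel_right, ← zpow_sub, ← zpow_mul]
  congr 1
  linear_combination i * ph_mul (k := k) j' - i' * ph_mul (k := k) j

theorem pow (i : ℤ) (j t : ℕ) : (a ^ i * b ^ j) ^ t = a ^ (i * ph (k ^ j) t) * b ^ (j * t) := by
  induction t with
  | zero => simp [ph]
  | succ t ih => rw [pow_succ, ih, h.mul_eq, ph, ph, sum_range_succ, mul_add, pow_mul, Nat.mul_succ]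

theorem normal (e : ℤ) : (zpowers (a ^ e)).Normal := ⟨fun x ⟨m, hm⟩ g => by
  obtain ⟨i, j, rfl⟩ := h.gen g
  refine ⟨m * k ^ j, ?_⟩
  simp only [← hm, ← zpow_mul, mul_assoc (a ^ i), pow_mul_zpow_of_cj h.cj]
  group⟩

theorem normal' (s : ℕ) : (zpowers ((a ^ (k - 1)) ^ p ^ s)).Normal := by
  rw [← zpow_natCast, ← zpow_mul]; exact h.normal _

theorem der : _root_.commutator G = zpowers (a ^ (k - 1)) := by
  refine le_antisymm (commutator_le.2 fun x _ y _ => ?_) (zpowers_le.2 ?_)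
  · obtain ⟨i, j, rfl⟩ := h.gen x
    obtain ⟨i', j', rfl⟩ := h.gen y
    exact h.comm .. ▸ zpow_mem_zpowers ..
  · rw [zpow_sub_one, ← h.cj]
    exact commutator_mem_commutator (mem_top b) (mem_top a)

theorem card_der : Nat.card (_root_.commutator G) = p ^ n := by rw [h.der, Nat.card_zpowers, h.ord]

end MC

/-- The elements `g` with `[G, g] ≤ ⟨c ^ p ^ s⟩`. -/
def lev (p : ℕ) (c : G) (s : ℕ) : Subgroup G := centMod (zpowers (c ^ p ^ s)) (⊤ : Subgroup G)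

namespace MC
variable {a b : G} {k : ℤ} {n s : ℕ} (h : MC p a b k n)
include h

theorem mem_lev {g : G} : g ∈ lev p (a ^ (k - 1)) s ↔ ∀ y : G, ⁅g, y⁆ ∈ zpowers ((a ^ (k - 1)) ^ p ^ s) := by
  have := h.normal' s
  exact mem_centMod.trans ⟨fun e y => e.2 y (mem_top y), fun e => ⟨le_normalizer_of_normal (mem_top g), fun y _ => e y⟩⟩

theorem lev_normal (s : ℕ) : (lev p (a ^ (k - 1)) s).Normal := have := h.normal' s; centMod_normal

theorem mem_lev' (hs : s ≤ n) {i : ℤ} {j : ℕ} : a ^ i * b ^ j ∈ lev p (a ^ (k - 1)) s ↔ (p : ℤ) ^ s ∣ i ∧ p ^ s ∣ j := by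
  rw [h.mem_lev, ← dvd_ph h.p2 s j h.k1]
  refine ⟨fun e => ⟨?_, ?_⟩, fun e y => ?_⟩
  · have := e (a ^ (0 : ℤ) * b ^ 1)
    rw [h.comm, zpow_mem_zpowers_pow h.ord hs] at this
    simpa [ph] using this
  · have := e (a ^ (1 : ℤ) * b ^ 0)
    rw [h.comm, zpow_mem_zpowers_pow h.ord hs] at this
    simpa [ph] using this
  · obtain ⟨i', j', rfl⟩ := h.gen y
    rw [h.comm, zpow_mem_zpowers_pow h.ord hs]
    exact (e.2.mul_left _).sub (e.1.mul_right _)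

theorem lev_n : lev p (a ^ (k - 1)) n = center G := by
  ext g
  simp only [h.mem_lev, ← h.ord, pow_orderOf_eq_one, zpowers_one_eq_bot, mem_bot, mem_center_iff,
    commutatorElement_eq_one_iff_mul_comm]
  exact forall_congr' fun _ => eq_comm

theorem lev_anti {t : ℕ} (hst : s ≤ t) : lev p (a ^ (k - 1)) t ≤ lev p (a ^ (k - 1)) s := fun g hg =>
  h.mem_lev.2 fun y => zpowers_le.2 (by
    obtain ⟨d, rfl⟩ := Nat.exists_eq_add_of_le hst
    rw [pow_add, pow_mul]; exact pow_mem (mem_zpowers _) _) (h.mem_lev.1 hg y)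

theorem index_lev (hs : s ≤ n) : (lev p (a ^ (k - 1)) s).index = p ^ (2 * s) := by
  have := h.lev_normal s
  have : (zpowers a).Normal := zpow_one a ▸ h.normal 1
  have e1 : (lev p (a ^ (k - 1)) s).relIndex (zpowers a) = p ^ s := relIndex_zpowers_eq fun j => by
    have := h.mem_lev' hs (i := j) (j := 0)
    simp only [pow_zero, mul_one, zpow_natCast, dvd_zero, and_true] at this
    exact_mod_cast this
  have e2 : (lev p (a ^ (k - 1)) s ⊔ zpowers a).relIndex (zpowers b) = p ^ s := relIndex_zpowers_eq fun j => by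
    refine ⟨fun e => ?_, fun e => mem_sup_left (by simpa using (h.mem_lev' hs (i := 0)).2 ⟨dvd_zero _, e⟩)⟩
    rw [sup_comm, ← SetLike.mem_coe, normal_mul] at e
    obtain ⟨_, ⟨i, rfl⟩, g, hg, e⟩ := e
    exact ((h.mem_lev' hs (i := -i)).1 (by rw [← e]; simpa using hg)).2
  have e3 : lev p (a ^ (k - 1)) s ⊔ zpowers a ⊔ zpowers b = ⊤ := eq_top_iff.2 fun g _ => by
    obtain ⟨i, j, rfl⟩ := h.gen g
    exact mul_mem (mem_sup_left (mem_sup_right (zpow_mem_zpowers ..))) (mem_sup_right (npow_mem_zpowers ..))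
  rw [← relIndex_mul_index (le_sup_left (b := zpowers a)), relIndex_sup_left, e1, ← relIndex_top_right, ← e3, relIndex_sup_left,
    e2, two_mul, pow_add]

theorem index_cent (hs : s ≤ n) {g : G} (h1 : g ∈ lev p (a ^ (k - 1)) s) (h2 : s = n ∨ g ∉ lev p (a ^ (k - 1)) (s + 1)) :
    (centralizer {g}).index = p ^ (n - s) := by
  have o : orderOf ((a ^ (k - 1)) ^ p ^ s) = p ^ (n - s) := by
    rw [orderOf_pow_of_dvd (pow_ne_zero _ hp.out.ne_zero) (h.ord ▸ pow_dvd_pow _ hs), h.ord, Nat.pow_div hs hp.out.pos]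
  rw [← o, ← Nat.card_zpowers]
  refine index_cent_eq g _ fun x => ⟨fun hx => ?_, fun ⟨y, e⟩ => ?_⟩
  swap
  · rw [← e, ← commutatorElement_inv]; exact inv_mem (h.mem_lev.1 h1 y)
  rcases hs.eq_or_lt with rfl | l
  · exact ⟨1, by simpa [← h.ord, eq_comm] using hx⟩
  obtain ⟨i, j, rfl⟩ := h.gen g
  obtain ⟨m, rfl⟩ := hx
  have pr := Nat.prime_iff_prime_int.1 hp.out
  have k1 : ∀ u : ℤ, (p : ℤ) ^ s ∣ u → ¬ (p : ℤ) ^ (s + 1) ∣ u → ∃ w, (p : ℤ) ^ n ∣ u * w - p ^ s * m := by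
    rintro _ ⟨u, rfl⟩ e
    obtain ⟨x, y, hx⟩ := ((pr.irreducible.coprime_iff_not_dvd.2 fun d => e (pow_succ (p : ℤ) s ▸ mul_dvd_mul_left _ d))).pow_left (m := n)
    exact ⟨y * m, -(x * p ^ s * m), by linear_combination (p : ℤ) ^ s * m * hx⟩
  have k2 : ∀ e : ℤ, (p : ℤ) ^ n ∣ e - p ^ s * m → (a ^ (k - 1)) ^ e = ((a ^ (k - 1)) ^ p ^ s) ^ m := fun e d => by
    rw [← zpow_natCast, ← zpow_mul (a ^ (k - 1)), zpow_eq_zpow_iff_modEq, h.ord]
    exact (Int.modEq_iff_dvd.2 (by exact_mod_cast d)).symm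
  obtain ⟨d1, d2⟩ := (h.mem_lev' hs).1 h1
  by_cases c : (p : ℤ) ^ (s + 1) ∣ i
  · obtain ⟨w, hw⟩ := k1 _ ((dvd_ph h.p2 s j h.k1).2 d2) fun d => h2.resolve_left l.ne ((h.mem_lev' l).2
      ⟨c, (dvd_ph h.p2 _ j h.k1).1 d⟩)
    exact ⟨_, (h.comm (-w) i 0 j).trans (k2 _ (by simpa [ph, mul_comm] using hw))⟩
  · obtain ⟨w, hw⟩ := k1 _ d1 c
    obtain ⟨t, ht⟩ := ph_surj h.p2 h.k1 n w
    exact ⟨_, (h.comm 0 i t j).trans (k2 _ ((by ring : i * w - p ^ s * m + i * (ph k t - w) = i * ph k t - 0 * ph k j - p ^ s * m) ▸ hw.add (ht.mul_left i)))⟩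

theorem exists_lev (g : G) : ∃ s ≤ n, g ∈ lev p (a ^ (k - 1)) s ∧ (s = n ∨ g ∉ lev p (a ^ (k - 1)) (s + 1)) := by
  classical
  obtain ⟨i, j, rfl⟩ := h.gen g
  refine ⟨Nat.findGreatest (fun s => a ^ i * b ^ j ∈ lev p (a ^ (k - 1)) s) n, Nat.findGreatest_le n,
    Nat.findGreatest_spec (P := fun s => a ^ i * b ^ j ∈ lev p (a ^ (k - 1)) s) n.zero_le ((h.mem_lev' n.zero_le).2 (by simp)), ?_⟩
  exact (Nat.findGreatest_le n).eq_or_lt.imp_right fun l => Nat.findGreatest_is_greatest (Nat.lt_succ_self _) l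

theorem mem_lev_iff (hs : s ≤ n) {g : G} : g ∈ lev p (a ^ (k - 1)) s ↔ (centralizer {g}).index ≤ p ^ (n - s) := by
  obtain ⟨t, t1, t2, t3⟩ := h.exists_lev g
  rw [h.index_cent t1 t2 t3, Nat.pow_le_pow_iff_right hp.out.one_lt]
  exact ⟨fun e => by_contra fun c => t3.elim (by omega) fun t3 => t3 (h.lev_anti (by omega) e), fun e => h.lev_anti (by omega) t2⟩

theorem pow_mem_lev {t : ℕ} (hs : s + t ≤ n) {g : G} : g ^ p ^ t ∈ lev p (a ^ (k - 1)) (s + t) ↔ g ∈ lev p (a ^ (k - 1)) s := by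
  obtain ⟨i, j, rfl⟩ := h.gen g
  obtain ⟨u, hu⟩ := ph_pow h.p2 t (dvd_pow_sub_one h.k1 j)
  rw [h.pow, h.mem_lev' hs, h.mem_lev' (by omega), hu, pow_add, pow_add, Nat.mul_dvd_mul_iff_right (pow_pos hp.out.pos _),
    mul_comm (_ ^ t), ← mul_assoc, mul_dvd_mul_iff_right (by exact_mod_cast pow_ne_zero t hp.out.ne_zero)]
  exact and_congr_left' ⟨(cop_of_dvd (by simpa using (dvd_pow_sub_one h.k1 j).mul_right u) s).dvd_of_dvd_mul_right,
    fun e => e.mul_right _⟩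

theorem lev_eq (hs : s ≤ n) : closure {x : G | ∃ y : G, y ^ p ^ s = x} = lev p (a ^ (k - 1)) s := by
  refine le_antisymm ((closure_le _).2 ?_) fun g hg => ?_
  · rintro _ ⟨y, rfl⟩
    obtain ⟨i, j, rfl⟩ := h.gen y
    simpa using (h.pow_mem_lev (s := 0) (by omega)).2 ((h.mem_lev' n.zero_le).2 (by simp))
  · obtain ⟨i, j, rfl⟩ := h.gen g
    obtain ⟨⟨i, rfl⟩, j, rfl⟩ := (h.mem_lev' hs).1 hg
    exact mul_mem (subset_closure ⟨a ^ i, by rw [← zpow_natCast, ← zpow_mul, mul_comm]; simp⟩)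
      (subset_closure ⟨b ^ j, by rw [← pow_mul, mul_comm]⟩)

end MC

end CfsgH9
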