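import Cfsg.Agent.H9.HH3
import Cfsg.Agent.H9.MC
import Cfsg.Agent.H1.Ten2
import Cfsg.Agent.H1.Frob

/-! Fixed point free automorphisms of odd prime power order. -/

set_option autoImplicit false
set_option linter.unusedSectionVars false

namespace CfsgH9

open Subgroup Cfsg CfsgH1 CfsgH2 CfsgFT Module Polynomial
open scoped commutatorElement

universe u v

variable {G : Type u} [Group G] [Finite G] {p : ℕ}

theorem two_pow_ord [hp : Fact p.Prime] (hp2 : p ≠ 2) {m j b d : ℕ} (hm : 1 ≤ m) (e : p ^ m = 2 ^ j + 1) (hd : 0 < d)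
    (h : p ^ (m + b) ∣ 2 ^ d - 1) : 2 * j * p ^ b ≤ d := by
  have j0 : 0 < j := Nat.pos_of_ne_zero fun j0 => by
    rw [j0] at e
    exact hp2 ((Nat.prime_dvd_prime_iff_eq hp.out Nat.prime_two).1 ((dvd_pow_self p (by omega)).trans (dvd_of_eq e)))
  have h1 : (2 : ℕ) ^ d ≡ 1 [MOD p ^ m] :=
    ((Nat.modEq_iff_dvd' Nat.one_le_two_pow).2 ((pow_dvd_pow p (Nat.le_add_right m b)).trans h)).symm
  have e2 : (2 : ℤ) ^ (2 * j) - 1 = p ^ m * (p ^ m - 2) := by
    have : (p : ℤ) ^ m = 2 ^ j + 1 := by exact_mod_cast e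
    rw [this]; ring
  have h2 : (2 : ℕ) ^ (2 * j) ≡ 1 [MOD p ^ m] := by
    refine ((Nat.modEq_iff_dvd' Nat.one_le_two_pow).2 ?_).symm
    rw [← Int.natCast_dvd_natCast, Nat.cast_sub Nat.one_le_two_pow]
    push_cast
    exact ⟨_, e2⟩
  have h3 : (2 : ℕ) ^ Nat.gcd d (2 * j) ≡ 1 [MOD p ^ m] := by
    rw [← ZMod.natCast_eq_natCast_iff] at h1 h2 ⊢
    push_cast at h1 h2 ⊢
    exact pow_gcd_eq_one.2 ⟨h1, h2⟩
  have h4 : 2 * j ∣ d := by
    obtain ⟨c, hc⟩ := Nat.gcd_dvd_right d (2 * j)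
    have g0 : 0 < Nat.gcd d (2 * j) := Nat.gcd_pos_of_pos_left _ hd
    have l := Nat.le_of_dvd (Nat.sub_pos_of_lt (Nat.one_lt_two_pow g0.ne'))
      ((Nat.modEq_iff_dvd' Nat.one_le_two_pow).1 h3.symm)
    have : j < Nat.gcd d (2 * j) := (Nat.pow_lt_pow_iff_right one_lt_two).1 (by rw [e] at l; exact (Nat.lt_succ_self _).trans_le (l.trans (Nat.sub_le _ _)))
    have c1 : c = 1 := by
      rcases c with _ | _ | c
      · omega
      · rfl
      · nlinarith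
    rw [c1, mul_one] at hc
    exact hc ▸ Nat.gcd_dvd_left _ _
  obtain ⟨c, rfl⟩ := h4
  have hz : (p : ℤ) ^ (m + b) ∣ (2 ^ (2 * j)) ^ c - 1 := by
    rw [← Int.natCast_dvd_natCast, Nat.cast_sub Nat.one_le_two_pow] at h
    push_cast at h
    rwa [pow_mul] at h
  have pm : (p : ℤ) ∣ p ^ m := dvd_pow_self _ (by omega)
  rw [← ph_mul, e2, pow_add, mul_assoc, mul_dvd_mul_iff_left (pow_ne_zero _ (by exact_mod_cast hp.out.ne_zero))] at hz
  have pp := Nat.prime_iff_prime_int.1 hp.out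
  have := (dvd_ph hp2 b c (e2 ▸ pm.mul_right _)).1 (((pp.coprime_iff_not_dvd.2 fun h => hp2
    ((Nat.prime_dvd_prime_iff_eq hp.out Nat.prime_two).1 (by
      exact_mod_cast (dvd_sub_right pm).1 h))).pow_left).dvd_of_dvd_mul_left hz)
  exact Nat.mul_le_mul_left _ (Nat.le_of_dvd (Nat.pos_of_mul_pos_left hd) this)

theorem fpf_surj {A : Subgroup G} {x : G} (hx : x ∈ N(A)) (h : A ⊓ C1(x) = ⊥) {u : G} (hu : u ∈ A) :
    ∃ v ∈ A, u = v⁻¹ * (x * v * x⁻¹) := by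
  let f : A → A := fun v => ⟨v⁻¹ * (x * v * x⁻¹), mul_mem (inv_mem v.2) (CfsgH2.conj_mem_of_mem_normalizer hx v.2)⟩
  obtain ⟨v, hv⟩ := Finite.surjective_of_injective (f := f) (fun a b e => by
    have e : (a : G)⁻¹ * (x * a * x⁻¹) = (b : G)⁻¹ * (x * b * x⁻¹) := congrArg Subtype.val e
    have : (b : G) * a⁻¹ ∈ A ⊓ C1(x) := mem_inf.2 ⟨mul_mem b.2 (inv_mem a.2), mem_centralizer_singleton_iff.2 (by
      calc (b : G) * (a : G)⁻¹ * x = b * ((a : G)⁻¹ * (x * a * x⁻¹)) * x * (a : G)⁻¹ := by group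
        _ = x * (b * (a : G)⁻¹) := by rw [e]; group)⟩
    rw [h, mem_bot] at this
    exact Subtype.ext (mul_inv_eq_one.1 this).symm) ⟨u, hu⟩
  exact ⟨v, v.2, (congrArg Subtype.val hv).symm⟩

theorem not_EX_fpf [hp : Fact p.Prime] (hp2 : p ≠ 2) {Q : Subgroup G} {x : G} {q n k : ℕ} (H : HH Q x) (hx : orderOf x = p ^ n)
    (hq : q.Prime) (hQ : IsPGroup q Q) (hf : Q ⊓ C1(x) = ⊥) (hk : k ∣ orderOf x) (h : EX Q (x ^ k)) : False := by
  obtain ⟨m, m1, rfl, m2⟩ := order_pow_data hx hk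
  obtain ⟨j, j1, j2⟩ := h.pow hq hQ
  obtain ⟨K, Z, h1, h2, h3, h4⟩ := h
  rw [m2] at j2 h3 h4
  set k := p ^ (n - m) with hk'
  have k0 : 0 < k := pow_pos hp.out.pos _
  have m0 : 1 ≤ m := Nat.pos_of_ne_zero fun e => by rw [e, pow_zero] at h4; omega
  obtain rfl : q = 2 := by
    have : Even (q ^ j) := j2 ▸ Nat.Odd.sub_odd (hp.out.odd_of_ne_two hp2).pow odd_one
    exact ((Nat.prime_dvd_prime_iff_eq Nat.prime_two hq).1 (Nat.prime_two.dvd_of_dvd_pow this.two_dvd)).symm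
  have nQ : ∀ i : ℕ, x ^ i ∈ N(Q) := fun i => pow_mem H.norm i
  have cq : ∀ (i : ℕ), ∀ c ∈ Q, x ^ i * c * (x ^ i)⁻¹ ∈ Q := fun i c hc => CfsgH2.conj_mem_of_mem_normalizer (nQ i) hc
  have cc : ∀ g a b : G, g * ⁅a, b⁆ * g⁻¹ = ⁅g * a * g⁻¹, g * b * g⁻¹⁆ := fun g a b => by
    simp only [commutatorElement_def]; group
  have zZ : ∀ w ∈ Z, x ^ k * w * (x ^ k)⁻¹ ∈ Z := fun w hw => by
    obtain ⟨a, b⟩ := (h2 w).1 hw
    refine (h2 _).2 ⟨cq k w a, fun c hc => ?_⟩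
    have hc' : (x ^ k)⁻¹ * c * (x ^ k)⁻¹⁻¹ ∈ Q := CfsgH2.conj_mem_of_mem_normalizer (inv_mem (nQ k)) hc
    have e : ⁅x ^ k * w * (x ^ k)⁻¹, c⁆ = ⁅w, (x ^ k)⁻¹ * c * (x ^ k)⁻¹⁻¹⁆ *
      ⁅⁅w, (x ^ k)⁻¹ * c * (x ^ k)⁻¹⁻¹⁆⁻¹, x ^ k⁆ := by simp only [commutatorElement_def]; group
    rw [e]
    exact mul_mem (b _ hc') (h1 (commutator_mem_commutator (inv_mem (commutator_mem_commutator a hc')) (mem_zpowers _)))
  let T : ℕ → Subgroup G := fun i => Z.comap (MulAut.conj (x ^ i)).toMonoidHom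
  have mT : ∀ i w, w ∈ T i ↔ x ^ i * w * (x ^ i)⁻¹ ∈ Z := fun i w => Iff.rfl
  have tel : ∀ w ∈ Q, (∀ i : Fin (k - 1), w ∈ T (i + 1)) → w ∈ Z := fun w hw hi => (h2 w).2 ⟨hw, fun c hc => by
    obtain ⟨v, hv, e⟩ := fpf_surj (A := ⁅Q, Q⁆) (le_normalizer_commutator' (zpowers_le.2 H.norm) (zpowers_le.2 H.norm) (mem_zpowers x))
      (eq_bot_iff.2 ((inf_le_inf_right _ (der_le Q)).trans hf.le)) (commutator_mem_commutator hw hc)
    have : ∀ i, i + 1 ≤ k → ⁅w, c⁆⁻¹ * ⁅v⁻¹, x ^ (i + 1)⁆ ∈ K := by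
      intro i
      induction i with
      | zero => intro; rw [e]; convert one_mem K using 1; simp only [commutatorElement_def]; group
      | succ i ih =>
        intro l
        have a := ((h2 _).1 ((mT _ _).1 (hi ⟨i, by omega⟩))).2 _ (cq (i + 1) c hc)
        rw [← cc, e] at a
        convert mul_mem (ih (by omega)) a using 1
        simp only [commutatorElement_def]; group
    have a := this (k - 1) (by omega)
    rw [Nat.sub_add_cancel k0] at a
    have := inv_mem (mul_mem a (inv_mem (h1 (commutator_mem_commutator (inv_mem hv) (mem_zpowers _)))))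
    rwa [mul_inv_cancel_right, inv_inv] at this⟩
  let I : Subgroup G := ⨅ i, T i
  have IZ : I ≤ Z := fun w hw => by simpa [mT] using mem_iInf.1 hw 0
  have ZQ : Z ≤ Q := fun w hw => ((h2 w).1 hw).1
  have dI : ⁅Q, Q⁆ ≤ I := fun w hw => mem_iInf.2 fun i => by
    have : x ^ i * w * (x ^ i)⁻¹ ∈ ⁅Q, Q⁆ := CfsgH2.conj_mem_of_mem_normalizer
      (le_normalizer_commutator' (zpowers_le.2 (nQ i)) (zpowers_le.2 (nQ i)) (mem_zpowers _)) hw
    refine (mT _ _).2 ((h2 _).2 ⟨der_le Q this, fun c hc => ?_⟩)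
    rw [commutatorElement_eq_one_iff_mul_comm.2 (H.cl2 this c hc).symm]; exact one_mem _
  have xI : zpowers x ≤ N(I) := zpowers_le.2 (CfsgH2.mem_normalizer_of_conj_mem fun w hw => mem_iInf.2 fun i => by
    have := (mT _ _).1 (mem_iInf.1 hw (i + 1))
    rw [mT]; convert this using 1; group)
  have QI := le_norm_of_der_le dI (IZ.trans ZQ)
  have JI : (⨅ i : Fin (k - 1), T (i + 1)) ⊓ Q ≤ I := fun w ⟨a, b⟩ => mem_iInf.2 fun i => by
    have a := mem_iInf.1 a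
    have r : x ^ (i % k) * w * (x ^ (i % k))⁻¹ ∈ Z := by
      rcases e : i % k with _ | r
      · simpa using tel w b a
      · exact a ⟨r, by have := Nat.mod_lt i k0; omega⟩
    rw [mT, ← Nat.div_add_mod i k]
    induction i / k with
    | zero => simpa using r
    | succ t ih => convert zZ _ ih using 1; group
  have rT : ∀ i, (T i).relIndex Q = (2 ^ j) ^ 2 := fun i => by
    rw [relIndex_comap, ← j2, ← h3]; congr 1; exact cj_eq_iff_mem_normalizer.2 (nQ i)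
  have up : I.relIndex Q ≤ 2 ^ (2 * j * (k - 1)) := by
    refine (relIndex_le_of_le_left JI (CfsgH2.relIndex_ne_zero _ _)).trans ?_
    rw [inf_relIndex_right]
    refine (relIndex_iInf_le _).trans_eq ?_
    simp only [rT, Finset.prod_const, Finset.card_univ, Fintype.card_fin]; ring
  have := Fact.mk Nat.prime_two
  obtain ⟨d, hd⟩ := (pgroup_quo hQ I).exists_card_eq
  have co : (Nat.card (zpowers x)).Coprime (Nat.card I) := by
    rw [Nat.card_zpowers]; exact H.cop.coprime_dvd_right (card_dvd_of_le (IZ.trans ZQ))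
  have dv := card_dvd_card_sub_one (K := quo I Q) (R := quo I (zpowers x)) (quo_le_norm (zpowers_le.2 H.norm)) fun y hy0 y1 => by
    obtain ⟨y, hy, rfl⟩ := mem_quo.mp hy0
    have hy' : zpowers (y : G) ≤ zpowers x := zpowers_le.mpr hy
    rw [← cent_zpowers, ← quo_zpowers, ← quo_inf_cent (hy'.trans xI) QI (hy'.trans (zpowers_le.2 H.norm))
      (coprime_of_le_left co hy') (Or.inl (isSolvable_zpowers _)), cent_zpowers, quo_eq_bot_iff (inf_le_left.trans QI)]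
    exact (H.free y hy fun h0 => y1 (by rw [show y = 1 from Subtype.ext h0, map_one])).trans dI
  rw [card_quo_of_disjoint xI (inf_eq_bot_of_coprime' co), hd, Nat.card_zpowers, hx, ← Nat.add_sub_cancel' m1] at dv
  rw [card_quo QI] at hd
  have d0 : 0 < d := Nat.pos_of_ne_zero fun e => by
    rw [e, pow_zero, relIndex_eq_one] at hd
    rw [relIndex_eq_one.2 (hd.trans IZ), j2] at h3
    exact (Nat.one_lt_pow two_ne_zero (Nat.one_lt_two_pow (by omega))).ne h3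
  have a := two_pow_ord hp2 m0 (by omega : p ^ m = 2 ^ j + 1) d0 dv
  rw [hd, Nat.pow_le_pow_iff_right one_lt_two] at up
  have := Nat.lt_of_mul_lt_mul_left (a := 2 * j) (b := k - 1) (c := k)
  rw [← hk'] at a
  have := Nat.le_of_mul_le_mul_left (a.trans up) (by omega)
  omega

theorem lin_fpf0 [hp : Fact p.Prime] (hp2 : p ≠ 2) {F : Type*} [Field F] {V : Type v} [AddCommGroup V] [Module F V]
    [FiniteDimensional F V] {ρ : Representation F G V} (hρ : Function.Injective ρ) {M : Subgroup G} {x : G} {n : ℕ}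
    (hx : x ^ p ^ (n + 1) = 1) (hn : x ∈ N(M)) (hM : (Nat.card M : F) ≠ 0) (hf : M ⊓ C1(x) = ⊥)
    (hV : fixS ρ (zpowers x) = ⊥) : M ≤ C(zpowers (x ^ p ^ n)) := by
  by_contra h
  have y1 : x ^ p ^ n ≠ 1 := fun e => h (by rw [e, zpowers_one_eq_bot]; exact le_cent_bot _)
  have o := orderOf_eq_prime_pow y1 hx
  have hX : IsPGroup p (zpowers x) := .of_card ((Nat.card_zpowers x).trans o)
  have l := zpowers_le.2 (npow_mem_zpowers x (p ^ n))
  have co : (Nat.card M).Coprime p := by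
    have := coprime_of_pgroup_fpf hX (zpowers_le.2 hn) (by rwa [cent_zpowers])
    rw [Nat.card_zpowers, o] at this
    exact (this.coprime_dvd_left (dvd_pow_self p n.succ_ne_zero)).symm
  obtain ⟨q, hq, qp, Q, a, b, c, d, -, e, f, -⟩ := exists_special (M := M) hX l
    (le_norm_of_cent (zpowers_le.2 (cent_anti l (le_centralizer (zpowers x) (mem_zpowers x))))) co (zpowers_le.2 hn) h
  have H := HH.of o (c (mem_zpowers x)) (co.coprime_dvd_left (card_dvd_of_le a)) f e.le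
  have g : Dg (ρ x) (p ^ (n + 1) - 1) := dg_geom (pow_ne_zero _ hp.out.ne_zero) (LinearMap.ext fun v => by
    have : (∑ i ∈ Finset.range (p ^ (n + 1)), ρ x ^ i) v ∈ fixS ρ (zpowers x) := mem_fixS_zpowers.2 (by
      have := mul_geom_sum (ρ x) (p ^ (n + 1))
      rw [← map_pow, hx, map_one, sub_self, sub_mul, one_mul, sub_eq_zero] at this
      exact LinearMap.congr_fun this v)
    rwa [hV] at this)
  rcases hh_field H (fun k => hM (by obtain ⟨t, ht⟩ := card_dvd_of_le a; rw [ht, Nat.cast_mul, k, zero_mul]))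
    (fun k => d (eq_bot_iff.2 fun g hg => hρ ((k hg).trans (map_one ρ).symm))) g with k | ⟨k, k1, k2, -⟩
  · have := pow_pos hp.out.pos (n + 1); omega
  · exact not_EX_fpf hp2 H o hq b (eq_bot_iff.2 ((inf_le_inf_right _ a).trans hf.le)) k1 k2

theorem lin_fpf [hp : Fact p.Prime] (hp2 : p ≠ 2) {F : Type*} [Field F] {V : Type v} [AddCommGroup V] [Module F V]
    [FiniteDimensional F V] {ρ : Representation F G V} {M : Subgroup G} [M.Normal] {x : G} {n : ℕ}
    (hX : IsPGroup p (zpowers x)) (hx : ρ (x ^ p ^ (n + 1)) = 1) (hM : (Nat.card M : F) ≠ 0)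
    (hf : M ⊓ C1(x) = ⊥) (hV : fixS ρ (zpowers x) = ⊥) : ⁅M, zpowers (x ^ p ^ n)⁆ ≤ MonoidHom.ker ρ := by
  let π := QuotientGroup.mk' (MonoidHom.ker ρ)
  let σ : Representation F (G ⧸ MonoidHom.ker ρ) V := QuotientGroup.lift _ ρ fun _ h => h
  have co := coprime_of_pgroup_fpf hX le_normalizer_of_normal (by rwa [cent_zpowers])
  haveI : (M.map π).Normal := Normal.map ‹_› π (QuotientGroup.mk'_surjective _)
  have := lin_fpf0 (ρ := σ) hp2 ((injective_iff_map_eq_one σ).2 fun a => QuotientGroup.induction_on a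
    fun g h => (QuotientGroup.eq_one_iff _).2 h) (M := M.map π) (x := π x) (n := n)
    (by rw [← map_pow]; exact (QuotientGroup.eq_one_iff _).2 hx) (le_normalizer_of_normal (mem_top _))
    (fun k => hM (by obtain ⟨t, ht⟩ := card_map_dvd M π; rw [ht, Nat.cast_mul, k, zero_mul]))
    (by rw [← cent_zpowers, ← MonoidHom.map_zpowers, ← map_inf_centralizer_of_coprime π le_normalizer_of_normal
      (coprime_of_le_right co inf_le_left) (.inl (isSolvable_zpowers _)), cent_zpowers, hf, Subgroup.map_bot])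
    (by rw [eq_bot_iff, ← hV]; exact fun v hv => mem_fixS_zpowers.2 (mem_fixS_zpowers.1 hv :))
  rw [← map_pow, ← MonoidHom.map_zpowers] at this
  rw [← QuotientGroup.ker_mk' (MonoidHom.ker ρ), ← Subgroup.map_eq_bot_iff, Subgroup.map_commutator]
  exact comm_eq_bot this

theorem ea_fpf [hp : Fact p.Prime] (hp2 : p ≠ 2) {l : ℕ} [Fact l.Prime] {V M : Subgroup G} {x : G} {n : ℕ}
    (hV : IsElementaryAbelian l V) (hMV : M ≤ N(V)) (hxV : x ∈ N(V)) (hxM : x ∈ N(M)) (hX : IsPGroup p (zpowers x))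
    (h1 : x ^ p ^ (n + 1) ∈ C(V)) (hl : ¬ l ∣ Nat.card M) (hf : M ⊓ C1(x) = ⊥) (hf' : V ⊓ C1(x) = ⊥) :
    ⁅M, zpowers (x ^ p ^ n)⁆ ≤ C(V) := by
  obtain ⟨W, i1, i2, i3, ρ, -, -, h3, h4⟩ := exists_rep_of_elementary hV (sup_le hMV (zpowers_le.2 hxV))
  have xL : x ∈ M ⊔ zpowers x := mem_sup_right (mem_zpowers x)
  haveI := normal_subgroupOf (sup_le le_normalizer (zpowers_le.2 hxM) : M ⊔ zpowers x ≤ N(M))
  have zp : zpowers (⟨x, xL⟩ : ↥(M ⊔ zpowers x)) = (zpowers x).subgroupOf _ := by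
    rw [← subgroupOf_map_subtype_self (zpowers _), MonoidHom.map_zpowers]; rfl
  have := lin_fpf hp2 (ρ := ρ) (M := M.subgroupOf _) (x := ⟨x, xL⟩) (n := n) (zp ▸ hX.comap_subtype)
    ((h4 (zpowers _)).2 (by rw [MonoidHom.map_zpowers]; exact zpowers_le.2 h1) (mem_zpowers _))
    (by rw [card_subgroupOf_of_le le_sup_left]; exact natCast_algClosure_ne_zero hl)
    (eq_bot_iff.2 fun g ⟨a, b⟩ => Subtype.ext (hf.le ⟨a, mem_centralizer_singleton_iff.2
      (congrArg Subtype.val (mem_centralizer_singleton_iff.1 b))⟩))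
    (zp ▸ (h3 _ le_sup_right).2 (by rwa [cent_zpowers]))
  rwa [h4, Subgroup.map_commutator, map_subgroupOf_eq_of_le le_sup_left, MonoidHom.map_zpowers] at this

theorem solv_fpf [hp : Fact p.Prime] (hp2 : p ≠ 2) {H M R : Subgroup G} {n : ℕ} (hH : Group.IsSolvable H) :
    ∀ x, R = zpowers x → M ≤ N(H) → x ∈ N(H) → x ∈ N(M) → IsPGroup p R → x ^ p ^ (n + 1) ∈ C(H) →
    (Nat.card M).Coprime (Nat.card H) → M ⊓ C1(x) = ⊥ → H ⊓ C1(x) = ⊥ → ⁅M, zpowers (x ^ p ^ n)⁆ ≤ C(H) := by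
  refine ea_induction (P := fun G _ _ H M R => ∀ x, R = zpowers x → M ≤ N(H) → x ∈ N(H) → x ∈ N(M) → IsPGroup p R →
    x ^ p ^ (n + 1) ∈ C(H) → (Nat.card M).Coprime (Nat.card H) → M ⊓ C1(x) = ⊥ → H ⊓ C1(x) = ⊥ →
    ⁅M, zpowers (x ^ p ^ n)⁆ ≤ C(H)) (fun _ _ _ _ _ _ _ _ _ _ _ _ _ _ _ => le_cent_bot _) ?_ G H M R hH
  rintro G _ _ H M _ V l _ hVH hV0 hV hn _ ih x rfl hMH hxH hxM hX h1 hc f1 f2
  have hMV := hMH.trans hn
  have hxV := hn hxH
  have hHV : H ≤ N(V) := le_normalizer.trans hn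
  have cM := coprime_of_le_right hc hVH
  have cX := coprime_of_le_right (coprime_of_pgroup_fpf hX (zpowers_le.2 hxH) (by rwa [cent_zpowers])) hVH
  have z := quo_zpowers (K := V) ⟨x, hxV⟩
  have q : ∀ A, A ≤ N(V) → x ∈ N(A) → A ⊓ C1(x) = ⊥ → quo V A ⊓ C1(qm V ⟨x, hxV⟩) = ⊥ := fun A a b c => by
    rw [← cent_zpowers, ← z]
    exact inf_cent_quo_eq_bot a (zpowers_le.2 hxV) (zpowers_le.2 b) cX (.inl (isSolvable_zpowers _)) (by rwa [cent_zpowers])
  have l1 := comm_le_left (zpowers_le.2 (pow_mem hxM (p ^ n)))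
  have h := ih (qm V ⟨x, hxV⟩) z (quo_le_norm hMH) (quo_le_norm (zpowers_le.2 hxH) (qm_mem_quo (mem_zpowers x)))
    (quo_le_norm (zpowers_le.2 hxM) (qm_mem_quo (mem_zpowers x))) (pgroup_quo hX V)
    (by rw [← map_pow]; exact quo_le_cent (zpowers_le.2 h1) (qm_mem_quo (mem_zpowers _))) (coprime_quo hc V)
    (q M hMV hxM f1) (q H hHV hxH f2)
  rw [← map_pow, ← quo_zpowers, ← quo_comm hMV (zpowers_le.2 (Subtype.prop _))] at h
  exact cent_of_quo_cent hHV (l1.trans hMV) (coprime_of_le_left cM l1) (ea_fpf hp2 hV hMV hxV hxM hX (cent_anti hVH h1)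
    (not_dvd_of_coprime_ea hV hV0 cM) f1 (eq_bot_iff.2 ((inf_le_inf_right _ hVH).trans f2.le))) h

/-- Reduction of `⁅K, R⁆ ≤ F(K)` to coprime actions (as in BG 3.8). -/
theorem comm_le_fit_of {K R A : Subgroup G} (hs : Group.IsSolvable K) (hRK : R ≤ N(K)) (hAR : A ≤ R)
    (hcop : (Nat.card R).Coprime (Nat.card K)) (H : ∀ P ≤ K, ∀ D ≤ K, P ≤ N(D) → R ≤ N(D) → R ≤ N(P) →
      (Nat.card P).Coprime (Nat.card D) → ⁅P, A⁆ ≤ C(D)) : ⁅K, A⁆ ≤ fittingOf K := by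
  set F := fittingOf K
  have hFK : F ≤ K := fit_le K
  have hKF : K ≤ N(F) := le_normalizer_fit K
  have hRF : R ≤ N(F) := le_norm_fit hRK
  rw [← quo_le_cent_iff hKF (hAR.trans hRF)]
  refine cent_symm (centralizes_of_centralizes_fit (solvable_quo hs F) (quo_le_norm (hAR.trans hRK))
    (coprime_quo (coprime_of_le_left hcop hAR) F) (cent_symm (le_of_nilpotent_of_forall_Opi (fit_nilpotent _) ?_)))
  intro p _ _
  rw [Opi_p_fit]
  set Y := unq F (Opi {p} (quo F K))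
  have hYK : Y ≤ K := unq_le_of_le_quo hKF hFK (Opi_le _ _)
  have hKY : K ≤ N(Y) := le_norm_unq hKF (by nrm)
  have hRY : R ≤ N(Y) := le_norm_unq hRF (le_normalizer_Opi_of _ (quo_le_norm hRK))
  obtain ⟨P, hP, hRP⟩ := exists_invariant_sylow hRY (coprime_of_le_right hcop hYK)
    (Or.inr (isSolvable_of_le hs hYK)) p
  have hPK := hP.le.trans hYK
  have e1 : quo F P = Opi {p} (quo F K) := by
    have := sylow_quo hP (hYK.trans hKF)
    rw [quo_unq] at this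
    exact this.eq_of_isPGroup (isPGroup_Opi _)
  rw [← e1, quo_le_cent_iff (hPK.trans hKF) (hAR.trans hRF)]
  set D := Opi {p}ᶜ F
  have hDF : D ≤ F := Opi_le _ _
  have hKD : K ≤ N(D) := le_normalizer_Opi_of _ hKF
  have h1 : ⁅P, A⁆ ≤ C(D) := H P hPK D (hDF.trans hFK) (hPK.trans hKD) (le_normalizer_Opi_of _ hRF) hRP
    (coprime_pgroup_p' hP.pgroup (isPi_Opi _ _))
  have h2 : IsSylowIn p (P ⊓ (Y ⊓ C(D))) (Y ⊓ C(D)) :=
    hP.inf_of_normalizer' inf_le_left (hYK.trans (by nrm))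
  have h3 : IsPiNum {p} (D.relIndex Y) := by
    rw [← relIndex_mul_relIndex D F Y hDF (le_unq _), relIndex_unq]
    refine IsPiNum.mul ?_ (isPi_Opi _ _)
    have := (hall_Opi_of_nilpotent (fit_nilpotent K) {p}ᶜ).idx
    rwa [compl_compl] at this
  have h4 : (P ⊓ (Y ⊓ C(D))) ⊔ (D ⊓ (Y ⊓ C(D))) = Y ⊓ C(D) :=
    h2.hall.sup_eq_of_idx inf_le_right (by
      rw [inf_relIndex_right]
      exact h3.of_dvd (relIndex_dvd_of_normal (hYK.trans hKD) inf_le_left))
  have h5 : Y ⊓ C(D) ≤ N(P ⊓ (Y ⊓ C(D))) := by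
    conv_lhs => rw [← h4]
    exact sup_le le_normalizer (le_norm_of_cent' (cent_mono (le_refl C(D))
      (inf_le_right.trans inf_le_right) inf_le_left))
  have l := comm_le_left (hAR.trans hRP)
  refine (le_inf l (le_inf (l.trans hP.le) h1)).trans ?_
  rw [sylow_eq_Opi h2 h5]
  exact (Opi_le_Opi_of_normal (inf_le_left.trans hYK) (by nrm)).trans (Opi_p_le_fit K)

theorem fit_fpf [hp : Fact p.Prime] (hp2 : p ≠ 2) {K : Subgroup G} {x : G} {n : ℕ} (hs : Group.IsSolvable K) (hx : x ∈ N(K))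
    (hX : IsPGroup p (zpowers x)) (h1 : x ^ p ^ (n + 1) ∈ C(K)) (hf : K ⊓ C1(x) = ⊥) :
    Group.IsNilpotent (⁅K, zpowers (x ^ p ^ n)⁆ : Subgroup G) :=
  isNilpotent_of_le (fit_nilpotent K) (comm_le_fit_of hs (zpowers_le.2 hx) (zpowers_le.2 (npow_mem_zpowers x _))
    (coprime_of_pgroup_fpf hX (zpowers_le.2 hx) (by rwa [cent_zpowers])) fun P a D b c d e f =>
    solv_fpf hp2 (isSolvable_of_le hs b) x rfl c (d (mem_zpowers x)) (e (mem_zpowers x)) hX (cent_anti b h1) f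
      (eq_bot_iff.2 ((inf_le_inf_right _ a).trans hf.le)) (eq_bot_iff.2 ((inf_le_inf_right _ b).trans hf.le)))

/-- The factors of the chain `⁅K, x ^ p ^ i⁆` are nilpotent. -/
theorem chain_fpf [hp : Fact p.Prime] (hp2 : p ≠ 2) {K : Subgroup G} {x : G} (n : ℕ) (hs : Group.IsSolvable K) (hx : x ∈ N(K))
    (hX : IsPGroup p (zpowers x)) (hf : K ⊓ C1(x) = ⊥) :
    ∃ k, (⁅K, zpowers (x ^ p ^ n)⁆ : Subgroup G).lowerCentralSeries k ≤ ⁅K, zpowers (x ^ p ^ (n + 1))⁆ := by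
  set W := ⁅K, zpowers (x ^ p ^ (n + 1))⁆
  have nx : ∀ i : ℕ, zpowers (x ^ i) ≤ N(K) := fun i => zpowers_le.2 (pow_mem hx i)
  have hK : K ≤ N(W) := normalizer_commutator_ge_left _ _
  have hxW : x ∈ N(W) := le_normalizer_commutator' (zpowers_le.2 hx) (le_norm_of_cent
    (zpowers_le.2 (cent_anti (zpowers_le.2 (npow_mem_zpowers x _)) (le_centralizer (zpowers x) (mem_zpowers x))))) (mem_zpowers x)
  have z := quo_zpowers (K := W) ⟨x, hxW⟩
  have := fit_fpf hp2 (n := n) (x := qm W ⟨x, hxW⟩) (solvable_quo hs W) (quo_le_norm (zpowers_le.2 hx) (qm_mem_quo (mem_zpowers x)))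
    (z ▸ pgroup_quo hX W) (by
      rw [← map_pow]
      exact cent_symm ((quo_le_cent_iff hK (zpowers_le.2 (pow_mem hxW _))).2 le_rfl) (qm_mem_quo (mem_zpowers _))) (by
      rw [← cent_zpowers, ← z]
      exact inf_cent_quo_eq_bot hK (zpowers_le.2 hxW) (zpowers_le.2 hx) (coprime_of_le_right
        (coprime_of_pgroup_fpf hX (zpowers_le.2 hx) (by rwa [cent_zpowers])) (comm_le_left (nx _)))
        (.inl (isSolvable_zpowers _)) (by rwa [cent_zpowers]))
  rw [← map_pow, ← quo_zpowers, ← quo_comm hK (zpowers_le.2 (Subtype.prop _))] at this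
  exact (nil_quo_iff ((comm_le_left (nx _)).trans hK)).1 this

end CfsgH9
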