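import Cfsg.Agent.H2.Hol
import Cfsg.Agent.H2.Meta
import Cfsg.Agent.H2.BG4
import Cfsg.Agent.FT.Quo

/-! Coprime automorphism groups of abelian `p`-groups: relative Maschke, indecomposable modules. -/

set_option autoImplicit false

namespace CfsgH9

open Subgroup Cfsg CfsgH1 CfsgH2 CfsgFT

variable {A : Type*} [CommGroup A] [Finite A] {p : ℕ} [hp : Fact p.Prime] {X : Subgroup (MulAut A)}

/-- invariant subgroups -/
def AInv (X : Subgroup (MulAut A)) (B : Subgroup A) : Prop := ∀ x ∈ X, ∀ b ∈ B, x b ∈ B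

theorem ainv_iff {B : Subgroup A} : (∀ x ∈ X, B.map x.toMonoidHom = B) ↔ AInv X B :=
  ⟨fun h x hx b hb => (h x hx).le ⟨b, hb, rfl⟩, fun h x hx => CfsgH2.eq_of_le_of_card_le (by rintro _ ⟨b, hb, rfl⟩; exact h x hx b hb)
    (card_map_of_injective x.injective).ge⟩

omit [Finite A] hp in
theorem AInv.sup {B C : Subgroup A} (h : AInv X B) (h' : AInv X C) : AInv X (B ⊔ C) := fun x hx y hy => by
  obtain ⟨b, hb, c, hc, rfl⟩ := mem_sup.1 hy
  rw [map_mul]; exact mul_mem_sup (h x hx b hb) (h' x hx c hc)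

omit [Finite A] hp in
theorem AInv.inf {B C : Subgroup A} (h : AInv X B) (h' : AInv X C) : AInv X (B ⊓ C) := fun x hx y hy => ⟨h x hx y hy.1, h' x hx y hy.2⟩

omit [Finite A] hp in
theorem AInv.pow {B : Subgroup A} (h : AInv X B) (n : ℕ) : AInv X (B.map (powMonoidHom n)) := by
  rintro x hx _ ⟨b, hb, rfl⟩; exact ⟨_, h x hx b hb, by simp⟩

omit [Finite A] hp in
theorem AInv.om {B : Subgroup A} (h : AInv X B) (n : ℕ) : AInv X (B.comap (powMonoidHom n)) := fun x hx b hb => by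
  simpa using h x hx _ hb

theorem rel_maschke (hX : (Nat.card X).Coprime p) {C W D : Subgroup A} (hC : AInv X C) (hW : AInv X W) (hD : AInv X D) (h1 : C ≤ W)
    (h2 : W ≤ D) (h3 : ∀ d ∈ D, d ^ p ∈ C) : ∃ U, AInv X U ∧ C ≤ U ∧ U ≤ D ∧ U ⊓ W = C ∧ U ⊔ W = D := by
  have inj := SemidirectProduct.inl_injective (φ := X.subtype)
  have n : ∀ {B}, AInv X B → sdR X.subtype ⊤ ≤ N(sdL X.subtype B) := fun h => sdR_le_normalizer fun a _ => h a a.2
  have c : ∀ B B', sdL X.subtype B ≤ C(sdL X.subtype B') := by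
    rintro B B' _ ⟨b, -, rfl⟩ _ ⟨b', -, rfl⟩; rw [← map_mul, ← map_mul, mul_comm]
  have m : ∀ B, sdL X.subtype B ≤ N(sdL X.subtype C) := fun B => (c B C).trans (Subgroup.centralizer_le_normalizer _)
  obtain ⟨Y, y1, y2, y3, y4⟩ := maschke (p := p) (V := quo (sdL X.subtype C) (sdL X.subtype D)) (W := quo _ (sdL X.subtype W))
    (A := quo _ (sdR X.subtype ⊤)) (ea_quo_of (m D) ((comm_eq_bot (c D D)).le.trans bot_le) (by
      rintro _ ⟨d, hd, rfl⟩; exact ⟨_, h3 d hd, map_pow _ _ _⟩)) (quo_le_norm (n hD))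
    (Nat.Coprime.coprime_dvd_left ((card_quo_dvd _ _).trans ((card_map_dvd _ _).trans card_top.dvd)) hX) (quo_mono (map_mono h2))
    (quo_le_norm (n hW))
  have l := unq_le_of_le_quo (m D) (map_mono (h1.trans h2)) y1
  obtain ⟨U, hU⟩ := exists_sdL_eq (l.trans (map_mono le_top))
  have e := unq_quo_of_le (m W) (map_mono h1)
  refine ⟨U, fun x hx u hu => (inl_mem_sdL (φ := X.subtype)).1 ?_, map_le_map_iff_of_injective inj |>.1 ((le_unq Y).trans hU.ge),
    map_le_map_iff_of_injective inj |>.1 (hU.le.trans l), map_injective inj ?_, map_injective inj ?_⟩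
  · have := CfsgH2.conj_mem_of_mem_normalizer (hU ▸ le_norm_unq (n hC) y2 (inr_mem_sdR.2 (mem_top (⟨x, hx⟩ : X)))) (inl_mem_sdL.2 hu)
    rwa [sd_conj] at this
  · rw [map_inf _ _ _ inj]
    change sdL _ U ⊓ sdL _ W = sdL _ C
    rw [hU, ← e, ← unq_inf, y3, unq_bot]
  · rw [Subgroup.map_sup]
    change sdL _ U ⊔ sdL _ W = sdL _ D
    rw [hU, ← e, ← unq_sup, y4, unq_quo_of_le (m D) (map_mono (h1.trans h2))]

omit [Finite A] hp in
theorem om_chain {C : Subgroup A} (hC : AInv X C) (H : ∀ D, AInv X D → C ≤ D → D ≤ C.comap (powMonoidHom p) → D = C ∨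
    D = C.comap (powMonoidHom p)) (i : ℕ) : ∀ D, AInv X D → C ≤ D → D ≤ C.comap (powMonoidHom (p ^ i)) →
      (∀ j, i = j + 1 → ¬ D ≤ C.comap (powMonoidHom (p ^ j))) → D = C.comap (powMonoidHom (p ^ i)) := by
  induction i with
  | zero => exact fun D _ h1 h2 _ => le_antisymm h2 fun a ha => h1 (by simpa using ha)
  | succ j ih =>
    intro D hD h1 h2 h3
    obtain ⟨d, hd, hd'⟩ := SetLike.not_le_iff_exists.1 (h3 j rfl)
    have e := (H _ (hC.sup (hD.pow (p ^ j))) le_sup_left (sup_le (fun c hc => pow_mem hc p) (by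
      rintro _ ⟨b, hb, rfl⟩; simpa [pow_succ, pow_mul] using h2 hb))).resolve_left fun e => hd' (e.le (mem_sup_right ⟨d, hd, rfl⟩))
    have e2 := ih _ (hD.inf (hC.om (p ^ j))) (le_inf h1 fun c hc => pow_mem hc _) inf_le_right (by
      rintro k rfl l
      exact hd' (by simpa [pow_succ', pow_mul] using l (x := d ^ p) ⟨pow_mem hd p, by simpa [pow_succ' p (k + 1), pow_mul] using h2 hd⟩))
    refine le_antisymm h2 fun a ha => ?_
    obtain ⟨c, hc, _, ⟨b, hb, rfl⟩, e3⟩ := mem_sup.1 (e.ge (show a ^ p ^ j ∈ _ by simpa [pow_succ, pow_mul] using ha))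
    have : a * b⁻¹ ∈ D := (e2.ge (show (a * b⁻¹) ^ p ^ j ∈ C by rw [mul_pow, ← e3]; simpa using hc)).1
    simpa using mul_mem this hb

theorem exists_om (hA : IsPGroup p A) (D C : Subgroup A) : ∃ i, D ≤ C.comap (powMonoidHom (p ^ i)) ∧
    ∀ j, i = j + 1 → ¬ D ≤ C.comap (powMonoidHom (p ^ j)) := by
  classical
  have h : ∃ i, D ≤ C.comap (powMonoidHom (p ^ i)) := by
    obtain ⟨k, hk⟩ := hA.exists_card_eq
    exact ⟨k, fun a _ => by simp [← hk, one_mem]⟩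
  exact ⟨_, Nat.find_spec h, fun j e => Nat.find_min h (by omega)⟩

theorem irr_of_indec (hA : IsPGroup p A) (hX : (Nat.card X).Coprime p)
    (h : ∀ B C : Subgroup A, AInv X B → AInv X C → B ⊓ C = ⊥ → B ⊔ C = ⊤ → B = ⊥ ∨ C = ⊥) (D : Subgroup A) (hD : AInv X D)
    (h2 : D ≤ (⊥ : Subgroup A).comap (powMonoidHom p)) : D = ⊥ ∨ D = (⊥ : Subgroup A).comap (powMonoidHom p) := by
  have iT : AInv X ⊤ := fun _ _ _ _ => mem_top _
  have iB : AInv X ⊥ := fun _ _ _ h => by simp [mem_bot.1 h]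
  obtain ⟨e, e1, e2⟩ := exists_om hA (⊤ : Subgroup A) ⊥
  rcases e with _ | k
  · exact .inl (eq_bot_iff.2 fun a _ => by simpa using e1 (mem_top a))
  obtain ⟨V, ⟨v1, v2, v3⟩, v4⟩ := exists_minimal_of_wellFoundedLT (fun V : Subgroup A => AInv X V ∧ V ≠ ⊥ ∧ V ≤ map (powMonoidHom (p ^ k)) ⊤)
    ⟨_, iT.pow _, fun e => e2 k rfl (map_le_iff_le_comap.1 e.le), le_rfl⟩
  obtain ⟨C, ⟨c1, c2⟩, c3⟩ := exists_maximal_of_wellFoundedGT (fun C : Subgroup A => AInv X C ∧ C ⊓ V = ⊥) ⟨⊥, iB, bot_inf_eq _⟩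
  have H : ∀ D, AInv X D → C ≤ D → D ≤ C.comap (powMonoidHom p) → D = C ∨ D = C.comap (powMonoidHom p) := fun D d1 d2 d3 => by
    refine or_iff_not_imp_left.2 fun ne => le_antisymm d3 ?_
    have l : V ≤ D := (v4 ⟨d1.inf v1, fun e => ne (le_antisymm (c3 ⟨d1, e⟩ d2) d2), inf_le_right.trans v3⟩ inf_le_right).trans inf_le_left
    obtain ⟨U, u1, u2, -, u3, u4⟩ := rel_maschke hX c1 (c1.sup v1) (c1.om p) le_sup_left (sup_le (fun c hc => pow_mem hc p) fun v hv => by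
      obtain ⟨a, -, rfl⟩ := v3 hv
      have : (a ^ p ^ k) ^ p = 1 := by simpa [pow_succ, pow_mul] using e1 (mem_top a)
      simp [this, one_mem]) fun d hd => hd
    rw [← u4]
    exact sup_le ((c3 ⟨u1, eq_bot_iff.2 ((le_inf ((inf_le_inf_left U le_sup_right).trans u3.le) inf_le_right).trans c2.le)⟩ u2).trans d2)
      (sup_le d2 l)
  obtain ⟨B, ⟨b1, b2⟩, b3⟩ := exists_minimal_of_wellFoundedLT (fun B : Subgroup A => AInv X B ∧ B ⊔ C = ⊤) ⟨⊤, iT, top_sup_eq _⟩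
  have lB : B.map (powMonoidHom p) ≤ B := by rintro _ ⟨b, hb, rfl⟩; exact pow_mem hb p
  obtain ⟨U, u1, u2, u5, u3, u4⟩ := rel_maschke hX (b1.pow p) ((b1.pow p).sup (b1.inf c1)) b1 le_sup_left (sup_le lB inf_le_left)
    fun d hd => ⟨d, hd, rfl⟩
  have k1 : B ⊓ C ≤ B.map (powMonoidHom p) := (le_inf (inf_le_left.trans (b3 ⟨u1, eq_top_iff.2 (b2.ge.trans (sup_le (u4.ge.trans
    (sup_le le_sup_left (sup_le (le_sup_of_le_left u2) (le_sup_of_le_right inf_le_right)))) le_sup_right))⟩ u5)) le_sup_right).trans u3.le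
  have nV : ¬ V ≤ C := fun l => v2 ((inf_eq_right.2 l).symm.trans c2)
  have k2 := om_chain c1 H k _ (c1.sup (b1.pow p)) le_sup_left (sup_le (fun c hc => pow_mem hc _) (by
    rintro _ ⟨b, -, rfl⟩
    have : (b ^ p) ^ p ^ k = 1 := by simpa [pow_succ', pow_mul] using e1 (mem_top b)
    simp [this, one_mem])) (by
      rintro j rfl l
      refine nV (v3.trans (map_le_iff_le_comap.2 (b2.ge.trans (sup_le (fun b hb => ?_) fun c hc => pow_mem hc _))))
      simpa [pow_succ', pow_mul] using l (mem_sup_right ⟨b, hb, rfl⟩))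
  have k3 : ∀ j ≤ k + 1, B ⊓ C ≤ B.map (powMonoidHom (p ^ j)) := fun j => by
    induction j with
    | zero => exact fun _ x hx => ⟨x, hx.1, by simp⟩
    | succ j ih =>
      intro l x hx
      obtain ⟨b, hb, rfl⟩ := ih (by omega) hx
      obtain ⟨i, rfl⟩ : ∃ i, k = j + i := ⟨k - j, by omega⟩
      obtain ⟨c, hc, y, hy, rfl⟩ := mem_sup.1 (k2.ge (show b ^ p ^ (j + i) ∈ C by rw [pow_add, pow_mul]; exact pow_mem hx.2 _))
      obtain ⟨z, hz, e⟩ := mul_mem (k1 ⟨by simpa using mul_mem hb (inv_mem (lB hy)), hc⟩) hy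
      exact ⟨z, hz, by rw [← e]; simp [pow_succ', pow_mul]⟩
  rcases h B C b1 c1 (eq_bot_iff.2 ((k3 _ le_rfl).trans (map_le_iff_le_comap.2 (le_top.trans e1)))) b2 with e | e
  · rw [e, bot_sup_eq] at b2
    exact absurd (b2 ▸ le_top) nV
  · subst e
    exact H D hD bot_le h2

end CfsgH9
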