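import Cfsg.Agent.H8.Zass3
import Cfsg.Agent.H2.CharP2
import Cfsg.Agent.H1.PLay
import Cfsg.Agent.H1.Fact

/-! An element of prime order acting irreducibly on an elementary abelian group. -/

set_option autoImplicit false

namespace CfsgH9

open Subgroup Cfsg CfsgH1 CfsgH2 CfsgFT
open scoped IsMulCommutative

variable {G : Type*} [Group G] [Finite G] {p q : ℕ}

theorem card_of_irr [hp : Fact p.Prime] (hq : q.Prime) (ne : q ≠ p) {A : Subgroup G} (hA : IsElementaryAbelian q A) {x : G}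
    (hx : x ∈ N(A)) (xp : x ^ p ∈ C(A)) (nc : x ∉ C(A)) (irr : ∀ B ≤ A, x ∈ N(B) → B = ⊥ ∨ B = A) :
    Nat.card A = q ^ orderOf (q : ZMod p) := by
  classical
  haveI := Fact.mk hq
  haveI := hA.1
  haveI : Nontrivial A := (nontrivial_iff_ne_bot A).2 fun e => nc fun y hy => by simp [mem_bot.1 (e.le hy)]
  obtain ⟨n, hn⟩ := (ea_isPGroup hA).exists_card_eq
  have n0 : n ≠ 0 := fun e => Finite.one_lt_card.ne' (by rw [hn, e, pow_zero])
  have irr' : ∀ W : Subgroup A, (∀ w ∈ W, A.normalizerMonoidHom ⟨x, hx⟩ w ∈ W) → W = ⊥ ∨ W = ⊤ := fun W h =>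
    (irr _ (map_subtype_le W) (CfsgH2.mem_normalizer_of_conj_mem (by rintro _ ⟨w, hw, rfl⟩; exact ⟨_, h w hw, rfl⟩))).imp
      (fun e => (map_eq_bot_iff_of_injective _ A.subtype_injective).1 e)
      fun e => map_injective A.subtype_injective (e.trans (by rw [← MonoidHom.range_eq_map, range_subtype]))
  obtain ⟨ε, ψ, h⟩ := CfsgH8.field_of_irr (c := A.normalizerMonoidHom) (U := zpowers ⟨x, hx⟩)
    (fun W h => irr' W (h _ (mem_zpowers _))) (by rintro _ ⟨i, rfl⟩ _ ⟨j, rfl⟩; exact (Commute.zpow_zpow_self _ i j).eq)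
    (GaloisField q n) ((GaloisField.card q n n0).trans hn.symm)
  have h1 := h _ (mem_zpowers _)
  generalize ψ ⟨x, hx⟩ = a at h1
  have h2 : ∀ (k : ℕ) v, ε (.ofMul (A.normalizerMonoidHom (⟨x, hx⟩ ^ k) v)) = a ^ k * ε (.ofMul v) := fun k => by
    induction k with
    | zero => simp
    | succ k ih => intro v; rw [pow_succ', map_mul, MulAut.mul_apply, h1, ih, pow_succ', mul_assoc]
  have ap : a ^ p = 1 := by
    have := h2 p (ε.symm 1).toMul
    rw [show A.normalizerMonoidHom (⟨x, hx⟩ ^ p) (ε.symm 1).toMul = (ε.symm 1).toMul from Subtype.ext (by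
      change x ^ p * _ * (x ^ p)⁻¹ = _
      rw [← xp _ (ε.symm 1).toMul.2, mul_inv_cancel_right])] at this
    simpa using this.symm
  have a1 : a ≠ 1 := fun e => nc fun v hv => by
    have := h1 ⟨v, hv⟩
    rw [e, one_mul, ε.apply_eq_iff_eq] at this
    have : x * v * x⁻¹ = v := congrArg (fun y : Additive A => (y.toMul : G)) this
    exact (mul_inv_eq_iff_eq_mul.1 this).symm
  have o := orderOf_eq_prime ap a1
  have a0 : a ≠ 0 := fun e => by simp [e, hp.out.ne_zero] at ap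
  haveI := Fintype.ofFinite (GaloisField q n)
  have cK : Fintype.card (GaloisField q n) = q ^ n := by rw [← Nat.card_eq_fintype_card, GaloisField.card q n n0]
  have key : ∀ k, (q : ZMod p) ^ k = 1 ↔ p ∣ q ^ k - 1 := fun k => by
    rw [← ZMod.natCast_eq_zero_iff, Nat.cast_sub (Nat.one_le_pow _ _ hq.pos), sub_eq_zero]; simp
  have d1 : orderOf (q : ZMod p) ∣ n := orderOf_dvd_of_pow_eq_one ((key n).2 (by
    rw [← o, ← cK]; exact orderOf_dvd_of_pow_eq_one (FiniteField.pow_card_sub_one_eq_one a a0)))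
  have e0 : 0 < orderOf (q : ZMod p) := (isOfFinOrder_iff_pow_eq_one.2 ⟨p - 1, by have := hp.out.two_le; omega,
    ZMod.pow_card_sub_one_eq_one fun e => ne ((Nat.prime_dvd_prime_iff_eq hp.out hq).1 ((ZMod.natCast_eq_zero_iff _ _).1 e)).symm⟩).orderOf_pos
  set e := orderOf (q : ZMod p)
  have ae : a ^ q ^ e = a := by
    obtain ⟨c, hc⟩ := (key e).1 (pow_orderOf_eq_one _)
    rw [show q ^ e = p * c + 1 by have := Nat.one_le_pow e q hq.pos; omega, pow_succ, pow_mul, ap, one_pow, one_mul]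
  let F := (iterateFrobenius (GaloisField q n) q e).eqLocusField (RingHom.id _)
  have top : ∀ y : GaloisField q n, y ^ q ^ e = y := fun y => by
    rcases irr' (AddSubgroup.toSubgroup' (F.toAddSubgroup.comap ε.toAddMonoidHom)) (fun w hw => by
      change ε (.ofMul _) ∈ F
      rw [h1]; exact F.mul_mem ae hw) with b | b
    · have : (ε.symm 1).toMul ∈ (⊥ : Subgroup A) := b.le (show ε (ε.symm 1) ∈ F by simpa using F.one_mem)
      have : ε.symm 1 = 0 := this
      exact absurd (congrArg ε this) (by simp)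
    · have : ε (ε.symm y) ∈ F := b.ge (mem_top (ε.symm y).toMul)
      rwa [ε.apply_symm_apply] at this
  have l : q ^ n ≤ q ^ e := by
    have ne0 := FiniteField.X_pow_card_pow_sub_X_ne_zero (GaloisField q n) e0.ne' hq.one_lt
    rw [← cK, ← FiniteField.X_pow_card_pow_sub_X_natDegree_eq (GaloisField q n) e0.ne' hq.one_lt]
    exact Polynomial.card_le_degree_of_subset_roots (Z := Finset.univ) fun y _ => (Polynomial.mem_roots ne0).2 (by simp [top y])
  rw [hn, le_antisymm ((Nat.pow_le_pow_iff_right hq.one_lt).1 l) (Nat.le_of_dvd (Nat.pos_of_ne_zero n0) d1)]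

theorem normal_of_le_of_sup {A B X : Subgroup G} (hA : A ≤ C(A)) (h : B ≤ A) (e : A ⊔ X = ⊤) (hX : X ≤ N(B)) : B.Normal :=
  normalizer_eq_top_iff.1 (eq_top_iff.2 (e.ge.trans (sup_le (le_norm_of_comm hA h) hX)))

theorem min_core [hp : Fact p.Prime] {A : Subgroup G} [A.Normal] (hmin : ∀ B : Subgroup G, B.Normal → B ≤ A → B = ⊥ ∨ B = A)
    (hA : ¬ p ∣ Nat.card A) {x : G} (xp : x ^ p = 1) (nc : x ∉ C(A))
    (h : ∀ H : Subgroup G, H ≠ ⊤ → x ∈ H → ∃ R : Subgroup G, IsPGroup p R ∧ x ∈ R ∧ H ≤ N(R)) :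
    ∃ q : ℕ, q.Prime ∧ q ≠ p ∧ Nat.card G = p * q ^ orderOf (q : ZMod p) ∧ Nat.card A = q ^ orderOf (q : ZMod p) ∧
      IsElementaryAbelian q A := by
  have px := ea_isPGroup (ea_zpowers xp)
  have pA := isPi_compl_singleton_iff.2 hA
  have k : ∀ Q ≤ A, x ∈ N(Q) → Q ⊔ zpowers x ≠ ⊤ → Q ≤ C(zpowers x) := fun Q l n t => by
    obtain ⟨R, h1, h2, h3⟩ := h _ t (mem_sup_right (mem_zpowers x))
    exact (cent_of_comm_eq_bot (eq_bot_iff.2 ((le_inf ((commutator_mono le_rfl (zpowers_le.2 h2)).trans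
      (comm_le_right (le_sup_left.trans h3))) ((comm_le_left (zpowers_le.2 n)).trans l)).trans
        ((isPi_singleton_iff.2 h1).inf_eq_bot pA).le)))
  obtain ⟨q, hq, Q, h1, h2, h3⟩ : ∃ (q : ℕ) (_ : Fact q.Prime) (Q : Subgroup G), IsSylowIn q Q A ∧ x ∈ N(Q) ∧ Q ⊔ zpowers x = ⊤ := by
    by_contra! c
    refine nc (cent_symm (le_of_forall_sylowIn_le fun q _ _ => ?_) (mem_zpowers x))
    obtain ⟨Q, h1, h2⟩ := CfsgH1.exists_invariant_sylow (A := zpowers x) (K := A) le_normalizer_of_normal (coprime_pgroup_p' px pA)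
      (.inl (solvable_of_pgroup px)) q
    exact ⟨Q, h1, k Q h1.le (h2 (mem_zpowers x)) (c q inferInstance Q h1 (h2 (mem_zpowers x)))⟩
  have x1 : x ≠ 1 := fun e => nc (e ▸ one_mem _)
  obtain rfl : Q = A := (hmin Q (normalizer_eq_top_iff.1 (eq_top_iff.2 (h3.ge.trans (sup_le le_normalizer (zpowers_le.2 h2))))) h1.le).resolve_left
    fun e => nc (cent_symm (le_top.trans (h3.ge.trans (by rw [e, bot_sup_eq]; exact le_centralizer _))) (mem_zpowers x))
  have A0 : Q ≠ ⊥ := fun e => nc fun y hy => by simp [mem_bot.1 (e.le hy)]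
  obtain ⟨c, r, hr, e⟩ := minNormal_elementary (solvable_of_pgroup h1.pgroup) A0 hmin
  haveI := Fact.mk hr
  have ea : IsElementaryAbelian r Q := ⟨c, e⟩
  have ne : r ≠ p := fun e' => A0 ((isPi_singleton_iff.2 (e' ▸ ea_isPGroup ea)).eq_bot pA)
  have cA := card_of_irr hr ne ea h2 (xp ▸ one_mem _) nc fun B l n =>
    hmin B (normal_of_le_of_sup (ea_le_centralizer ea) l h3 (zpowers_le.2 n)) l
  refine ⟨r, hr, ne, ?_, cA, ea⟩
  have := (Fac.of_norm (zpowers_le.2 h2)).card_mul le_sup_left le_sup_right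
  rw [h3, card_top, inf_comm, (isPi_singleton_iff.2 px).inf_eq_bot pA, card_bot, mul_one, Nat.card_zpowers, orderOf_eq_prime xp x1, cA] at this
  rw [this, mul_comm]

end CfsgH9
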