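import Mathlib
import Cfsg.Prelude.Def_JordanBlocks

set_option autoImplicit false
set_option linter.unusedSectionVars false

namespace Cfsg.Agent.H9.JC

open Matrix

variable {F : Type*} [Field F] {t : ℕ} {d : Fin t → ℕ}

abbrev II (d : Fin t → ℕ) := (k : Fin t) × Fin (d k)

def ex (g : Matrix (II d) (II d) F) (k : Fin t) (i : ℕ) (l : Fin t) (j : ℕ) : F :=
  if h : i < d k ∧ j < d l then g ⟨k, ⟨i, h.1⟩⟩ ⟨l, ⟨j, h.2⟩⟩ else 0

theorem ex_eq (g : Matrix (II d) (II d) F) (k l : Fin t) (i : Fin (d k)) (j : Fin (d l)) :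
    ex g k i l j = g ⟨k, i⟩ ⟨l, j⟩ := dif_pos ⟨i.2, j.2⟩

theorem jb (n : ℕ) (s j : Fin n) : Cfsg.jordanBlock n F s j =
    (if s = j then 1 else 0) + (if (s : ℕ) = j + 1 then 1 else 0) := by
  unfold Cfsg.jordanBlock
  rw [of_apply]
  by_cases h : s = j
  · subst h; simp
  · rw [if_neg (fun h' => h (Fin.ext h')), if_neg h, zero_add]

theorem mul_J (g : Matrix (II d) (II d) F) (k l : Fin t) (i : Fin (d k)) (j : Fin (d l)) :
    (g * Cfsg.jordanTypeMatrix d F : Matrix (II d) (II d) F) ⟨k, i⟩ ⟨l, j⟩ =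
      g ⟨k, i⟩ ⟨l, j⟩ + ex g k i l (j + 1) := by
  rw [mul_apply, Fintype.sum_sigma, Finset.sum_eq_single l]
  · simp only [Cfsg.jordanTypeMatrix, blockDiagonal'_apply_eq, jb, mul_add, Finset.sum_add_distrib,
      mul_ite, mul_one, mul_zero, Finset.sum_ite_eq', Finset.mem_univ, if_true]
    congr 1
    by_cases h : (j : ℕ) + 1 < d l
    · rw [Finset.sum_eq_single ⟨j + 1, h⟩ (fun s _ hs => if_neg fun h' => hs (Fin.ext h')) (by simp),
        if_pos rfl]
      exact (ex_eq g k l i ⟨j + 1, h⟩).symm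
    · rw [ex, dif_neg (fun h' => h h'.2)]
      exact Finset.sum_eq_zero fun s _ => if_neg fun h' => h (by have := s.2; omega)
  · intro r _ hr
    exact Finset.sum_eq_zero fun s _ => by
      rw [Cfsg.jordanTypeMatrix, blockDiagonal'_apply_ne _ _ _ hr, mul_zero]
  · simp

theorem J_mul (g : Matrix (II d) (II d) F) (k l : Fin t) (i : Fin (d k)) (j : Fin (d l)) :
    (Cfsg.jordanTypeMatrix d F * g : Matrix (II d) (II d) F) ⟨k, i⟩ ⟨l, j⟩ =
      g ⟨k, i⟩ ⟨l, j⟩ + if (i : ℕ) = 0 then 0 else ex g k (i - 1) l j := by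
  rw [mul_apply, Fintype.sum_sigma, Finset.sum_eq_single k]
  · simp only [Cfsg.jordanTypeMatrix, blockDiagonal'_apply_eq, jb, add_mul, Finset.sum_add_distrib,
      ite_mul, one_mul, zero_mul, Finset.sum_ite_eq, Finset.mem_univ, if_true]
    congr 1
    by_cases h : (i : ℕ) = 0
    · rw [if_pos h]
      exact Finset.sum_eq_zero fun s _ => if_neg (by omega)
    · have h' : (i : ℕ) - 1 < d k := by omega
      rw [if_neg h, Finset.sum_eq_single ⟨i - 1, h'⟩
        (fun s _ hs => if_neg fun h'' => hs (Fin.ext (by simp only; omega))) (by simp),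
        if_pos (by simp only; omega)]
      exact (ex_eq g k l ⟨i - 1, h'⟩ j).symm
  · intro r _ hr
    exact Finset.sum_eq_zero fun s _ => by
      rw [Cfsg.jordanTypeMatrix, blockDiagonal'_apply_ne _ _ _ (Ne.symm hr), zero_mul]
  · simp

def toe (c : Fin t → Fin t → ℕ → F) : Matrix (II d) (II d) F :=
  of fun a b => if (b.2 : ℕ) ≤ a.2 then c a.1 b.1 (a.2 - b.2) else 0

theorem ex_toe (c : Fin t → Fin t → ℕ → F) (k l : Fin t) (i j : ℕ) :
    ex (toe (d := d) c) k i l j = if i < d k ∧ j < d l ∧ j ≤ i then c k l (i - j) else 0 := by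
  unfold ex
  split_ifs with h1 h2 h2
  · exact if_pos h2.2.2
  · exact if_neg fun h => h2 ⟨h1.1, h1.2, h⟩
  · exact absurd ⟨h2.1, h2.2.1⟩ h1
  · rfl

theorem toe_comm (c : Fin t → Fin t → ℕ → F) (hc : ∀ k l m, m + d l < d k → c k l m = 0) :
    toe c * Cfsg.jordanTypeMatrix d F = Cfsg.jordanTypeMatrix d F * toe c := by
  ext ⟨k, i⟩ ⟨l, j⟩
  rw [mul_J, J_mul, ex_toe, ex_toe]
  congr 1
  have := i.2
  have := j.2
  split_ifs with h1 h2 h3 h2 h3
  · omega
  · congr 1; omega
  · omega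
  · rfl
  · exact (hc _ _ _ (by omega)).symm
  · rfl

theorem comm_ex {g : Matrix (II d) (II d) F}
    (hg : g * Cfsg.jordanTypeMatrix d F = Cfsg.jordanTypeMatrix d F * g) (k l : Fin t) (j : ℕ) :
    j ≤ d l → ∀ i, i < d k → ex g k i l j = if j ≤ i then ex g k (i - j) l 0 else 0 := by
  induction j with
  | zero => intro _ i _; simp
  | succ j ih =>
    intro hj i hi
    have := congrFun (congrFun hg ⟨k, ⟨i, hi⟩⟩) ⟨l, ⟨j, hj⟩⟩
    rw [mul_J, J_mul, add_right_inj] at this
    simp only at this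
    rw [this]
    by_cases h : i = 0
    · rw [if_pos h, if_neg (by omega)]
    · rw [if_neg h, ih (by omega) _ (by omega)]
      split_ifs with h1 h2 h2
      · congr 1; omega
      · omega
      · omega
      · rfl

theorem comm_toe {g : Matrix (II d) (II d) F}
    (hg : g * Cfsg.jordanTypeMatrix d F = Cfsg.jordanTypeMatrix d F * g) :
    g = toe fun k l m => ex g k m l 0 := by
  ext ⟨k, i⟩ ⟨l, j⟩
  rw [← ex_eq g k l i j, comm_ex hg k l j j.2.le i i.2]; rfl

theorem comm_van {g : Matrix (II d) (II d) F}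
    (hg : g * Cfsg.jordanTypeMatrix d F = Cfsg.jordanTypeMatrix d F * g) (k l : Fin t) (m : ℕ)
    (h : m + d l < d k) : ex g k m l 0 = 0 := by
  have := comm_ex hg k l (d l) le_rfl _ h
  rw [if_pos (by omega), Nat.add_sub_cancel] at this
  rw [← this, ex, dif_neg (by omega)]

theorem toe_unit (c : Fin t → Fin t → ℕ → F) (hc : ∀ k l, d l < d k → c k l 0 = 0)
    (hu : (of fun k l => c k l 0).det ≠ 0) : (toe (d := d) c).det ≠ 0 := by
  intro h0
  obtain ⟨v, hv0, hv⟩ := Matrix.exists_mulVec_eq_zero_iff.2 h0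
  set M : Matrix (Fin t) (Fin t) F := of fun k l => c k l 0 with hM
  have hMu : IsUnit M.det := isUnit_iff_ne_zero.2 hu
  have hbt : M.BlockTriangular d := fun k l h => hc k l h
  letI := M.invertibleOfIsUnitDet hMu
  have hbi := blockTriangular_inv_of_blockTriangular hbt
  have key : ∀ i : ℕ, ∀ l (h : i < d l), v ⟨l, ⟨i, h⟩⟩ = 0 := by
    intro i
    induction i using Nat.strong_induction_on with
    | _ i ih =>
      set u : Fin t → F := fun l => if h : i < d l then v ⟨l, ⟨i, h⟩⟩ else 0 with hu'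
      have h1 : ∀ k, i < d k → (M *ᵥ u) k = 0 := fun k hk => by
        have := congrFun hv ⟨k, ⟨i, hk⟩⟩
        rw [Pi.zero_apply] at this
        rw [← this, mulVec, mulVec, dotProduct, dotProduct, Fintype.sum_sigma]
        refine Finset.sum_congr rfl fun l _ => ?_
        have hz : ∀ s : Fin (d l), (s : ℕ) ≠ i → toe (d := d) c ⟨k, ⟨i, hk⟩⟩ ⟨l, s⟩ * v ⟨l, s⟩ = 0 := by
          intro s hs
          rcases lt_or_gt_of_ne hs with h | h
          · rw [show v ⟨l, s⟩ = 0 from ih s h l s.2, mul_zero]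
          · rw [show toe (d := d) c ⟨k, ⟨i, hk⟩⟩ ⟨l, s⟩ = 0 from if_neg (not_le.2 h), zero_mul]
        by_cases hl : i < d l
        · rw [Finset.sum_eq_single ⟨i, hl⟩ (fun s _ hs => hz s fun h => hs (Fin.ext h)) (by simp)]
          simp [toe, hM, hu', hl]
        · rw [Finset.sum_eq_zero fun s _ => hz s fun h => hl (h ▸ s.2)]
          simp [hu', hl]
      intro l hl
      have h2 : u l = (M⁻¹ *ᵥ (M *ᵥ u)) l := by
        rw [mulVec_mulVec, nonsing_inv_mul _ hMu, one_mulVec]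
      have h3 : (M⁻¹ *ᵥ (M *ᵥ u)) l = 0 := by
        rw [mulVec, dotProduct]
        refine Finset.sum_eq_zero fun k _ => ?_
        by_cases hk : i < d k
        · rw [h1 k hk, mul_zero]
        · rw [hbi (show d k < d l by omega), zero_mul]
      rw [h3] at h2
      simpa [hu', hl] using h2
  exact hv0 (funext fun ⟨l, s⟩ => key s l s.2)

theorem lead_unit (hd : ∀ k, 1 ≤ d k) (g : GL (II d) F)
    (hg : (g : Matrix (II d) (II d) F) * Cfsg.jordanTypeMatrix d F =
      Cfsg.jordanTypeMatrix d F * (g : Matrix (II d) (II d) F)) :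
    (of fun k l => ex (g : Matrix (II d) (II d) F) k 0 l 0).det ≠ 0 := by
  have : (of fun k l => ex (g : Matrix (II d) (II d) F) k 0 l 0) *
      (of fun k l => ex ((g⁻¹ : GL (II d) F) : Matrix (II d) (II d) F) k 0 l 0) = 1 := by
    ext k l
    have h1 : ((g : Matrix (II d) (II d) F) * ((g⁻¹ : GL (II d) F) : Matrix (II d) (II d) F))
        ⟨k, ⟨0, hd k⟩⟩ ⟨l, ⟨0, hd l⟩⟩ = (1 : Matrix (Fin t) (Fin t) F) k l := by
      rw [g.mul_inv]
      by_cases h : k = l
      · subst h; simp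
      · rw [one_apply_ne h, one_apply_ne fun h' => h (congrArg Sigma.fst h')]
    rw [← h1, mul_apply, mul_apply, Fintype.sum_sigma]
    refine Finset.sum_congr rfl fun r _ => ?_
    rw [Finset.sum_eq_single ⟨0, hd r⟩ _ (by simp), ← ex_eq (g : Matrix (II d) (II d) F) k r,
      ← ex_eq ((g⁻¹ : GL (II d) F) : Matrix (II d) (II d) F) r l]
    · rfl
    · intro s _ hs
      rw [← ex_eq (g : Matrix (II d) (II d) F) k r, comm_ex hg k r s s.2.le _ (hd k), if_neg, zero_mul]
      intro h; exact hs (Fin.ext (Nat.le_zero.1 h))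
  intro h0
  have h2 := congrArg det this
  rw [det_mul, h0, zero_mul, det_one] at h2
  exact zero_ne_one h2

def SS (d : Fin t → ℕ) : Finset ((_ : Fin t × Fin t) × ℕ) :=
  Finset.univ.sigma fun kl => Finset.Ico (if d kl.1 = d kl.2 then 1 else d kl.1 - d kl.2) (d kl.1)

theorem mem_SS {k l : Fin t} {m : ℕ} : (⟨(k, l), m⟩ : (_ : Fin t × Fin t) × ℕ) ∈ SS d ↔
    m < d k ∧ d k ≤ m + d l ∧ ¬ (m = 0 ∧ d k = d l) := by
  simp only [SS, Finset.mem_sigma, Finset.mem_univ, true_and, Finset.mem_Ico]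
  split_ifs <;> omega

abbrev RR (d : Fin t → ℕ) : Finset ℕ := Finset.range (Finset.univ.sup d + 1)

theorem mem_RR (k : Fin t) : d k ∈ RR d :=
  Finset.mem_range.2 (Nat.lt_succ_of_le (Finset.le_sup (Finset.mem_univ k)))

def cc (B : ∀ e : RR d, GL {k // d k = e} F) (f : SS d → F) (k l : Fin t) (m : ℕ) : F :=
  if h : m = 0 ∧ d k = d l then
    (B ⟨d k, mem_RR k⟩ : Matrix {a // d a = d k} {a // d a = d k} F) ⟨k, rfl⟩ ⟨l, h.2.symm⟩
  else if h' : (⟨(k, l), m⟩ : (_ : Fin t × Fin t) × ℕ) ∈ SS d then f ⟨_, h'⟩ else 0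

theorem cc_van (B : ∀ e : RR d, GL {k // d k = e} F) (f : SS d → F) (k l : Fin t) (m : ℕ)
    (h : m + d l < d k) : cc B f k l m = 0 := by
  rw [cc, dif_neg (by omega), dif_neg (by rw [mem_SS]; omega)]

theorem cc_blk (B : ∀ e : RR d, GL {k // d k = e} F) (f : SS d → F) (e : RR d) :
    (of fun k l => cc B f k l 0).toSquareBlock d e = (B e : Matrix _ _ F) := by
  obtain ⟨e, he⟩ := e
  ext ⟨k, hk⟩ ⟨l, hl⟩
  simp only at hk hl
  subst hk
  exact dif_pos ⟨rfl, hl.symm⟩

theorem cc_unit (B : ∀ e : RR d, GL {k // d k = e} F) (f : SS d → F) :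
    (toe (d := d) (cc B f)).det ≠ 0 := by
  refine toe_unit _ (fun k l h => cc_van B f k l 0 (by omega)) ?_
  have hbt : (of fun k l => cc B f k l 0).BlockTriangular d := fun k l h => cc_van B f k l 0 (by omega)
  rw [hbt.det]
  refine Finset.prod_ne_zero_iff.2 fun e he => ?_
  obtain ⟨k, -, rfl⟩ := Finset.mem_image.1 he
  have := cc_blk B f ⟨d k, mem_RR k⟩
  simp only at this
  rw [this]
  exact (B ⟨d k, mem_RR k⟩).det_ne_zero

theorem card_cent (hd : ∀ k, 1 ≤ d k) :
    Nat.card {g : GL (II d) F // (g : Matrix (II d) (II d) F) * Cfsg.jordanTypeMatrix d F =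
      Cfsg.jordanTypeMatrix d F * (g : Matrix (II d) (II d) F)} =
    Nat.card ((SS d → F) × ∀ e : RR d, GL {k // d k = e} F) := by
  symm
  refine Nat.card_congr (Equiv.ofBijective (fun x =>
    ⟨Matrix.GeneralLinearGroup.mkOfDetNeZero _ (cc_unit x.2 x.1), toe_comm _ (cc_van x.2 x.1)⟩) ⟨?_, ?_⟩)
  · rintro ⟨f, B⟩ ⟨f', B'⟩ h
    have h1 : toe (d := d) (cc B f) = toe (cc B' f') :=
      congrArg (fun g => ((Subtype.val g : GL (II d) F) : Matrix (II d) (II d) F)) h
    have h2 : ∀ k l m, m < d k → cc B f k l m = cc B' f' k l m := fun k l m hm => by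
      simpa [toe] using congrFun (congrFun h1 ⟨k, ⟨m, hm⟩⟩) ⟨l, ⟨0, hd l⟩⟩
    refine Prod.ext (funext fun ⟨⟨⟨k, l⟩, m⟩, hs⟩ => ?_) (funext fun e => Units.ext ?_)
    · have hs' := mem_SS.1 hs
      have := h2 k l m hs'.1
      rwa [cc, cc, dif_neg hs'.2.2, dif_neg hs'.2.2, dif_pos hs, dif_pos hs] at this
    · change Units.val (B e) = Units.val (B' e)
      rw [← cc_blk B f, ← cc_blk B' f']
      congr 2; funext k l; exact h2 k l 0 (hd k)
  · rintro ⟨g, hg⟩
    have hu := lead_unit hd g hg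
    have hbt : (of fun k l => ex (g : Matrix (II d) (II d) F) k 0 l 0).BlockTriangular d :=
      fun k l h => comm_van hg k l 0 (by omega)
    rw [hbt.det] at hu
    have hb : ∀ e, ((of fun k l => ex (g : Matrix (II d) (II d) F) k 0 l 0).toSquareBlock d e).det ≠ 0 := by
      intro e
      by_cases he : e ∈ Finset.univ.image d
      · exact Finset.prod_ne_zero_iff.1 hu e he
      · haveI : IsEmpty {k // d k = e} := ⟨fun k => he (Finset.mem_image.2 ⟨k.1, Finset.mem_univ _, k.2⟩)⟩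
        rw [det_isEmpty]; exact one_ne_zero
    refine ⟨(fun s => ex (g : Matrix (II d) (II d) F) s.1.1.1 s.1.2 s.1.1.2 0,
      fun e => Matrix.GeneralLinearGroup.mkOfDetNeZero _ (hb e)), Subtype.ext (Units.ext ?_)⟩
    refine Eq.trans ?_ (comm_toe hg).symm
    change toe _ = _
    congr 1
    funext k l m
    rw [cc]
    split_ifs with h1 h2
    · obtain ⟨rfl, h1⟩ := h1; rfl
    · rfl
    · rw [mem_SS] at h2
      by_cases hm : m < d k
      · exact (comm_van hg k l m (by omega)).symm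
      · rw [ex, dif_neg fun h => hm h.1]

theorem sum_fib (φ : ℕ → ℕ) : ∑ k, φ (d k) =
    ∑ i ∈ RR d, (Finset.univ.filter (fun k : Fin t => d k = i)).card * φ i := by
  rw [← Finset.sum_fiberwise_of_maps_to' (fun k _ => mem_RR k) φ]
  simp only [Finset.sum_const, smul_eq_mul]

theorem card_SS : (SS d).card = 2 * (∑ i ∈ RR d, ∑ j ∈ RR d, if i < j then i * (Finset.univ.filter (fun k : Fin t => d k = i)).card * (Finset.univ.filter (fun k : Fin t => d k = j)).card else 0) + ∑ i ∈ RR d, (i - 1) * (Finset.univ.filter (fun k : Fin t => d k = i)).card ^ 2 := by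
  rw [SS, Finset.card_sigma, Fintype.sum_prod_type]
  simp only [Nat.card_Ico]
  rw [sum_fib (fun i => ∑ l, (i - if i = d l then 1 else i - d l))]
  simp only [fun i => sum_fib (d := d) (fun j => i - if i = j then 1 else i - j)]
  generalize RR d = R
  have key : ∀ a : ℕ → ℕ, ∑ i ∈ R, a i * ∑ j ∈ R, a j * (i - if i = j then 1 else i - j) =
      2 * (∑ i ∈ R, ∑ j ∈ R, if i < j then i * a i * a j else 0) + ∑ i ∈ R, (i - 1) * a i ^ 2 := by
    intro a
    have h1 : ∑ i ∈ R, (i - 1) * a i ^ 2 = ∑ i ∈ R, ∑ j ∈ R, if i = j then (i - 1) * a i ^ 2 else 0 :=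
      Finset.sum_congr rfl fun i hi => by rw [Finset.sum_ite_eq, if_pos hi]
    rw [two_mul, h1]
    nth_rw 2 [Finset.sum_comm]
    simp only [Finset.mul_sum, ← Finset.sum_add_distrib]
    refine Finset.sum_congr rfl fun i _ => Finset.sum_congr rfl fun j _ => ?_
    rcases lt_trichotomy i j with h | h | h
    · rw [if_neg h.ne, if_neg h.ne, Nat.sub_eq_zero_of_le h.le]
      simp only [h, h.not_gt, if_true, if_false, Nat.sub_zero]; ring
    · subst h; simp only [lt_irrefl, if_true, if_false]; ring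
    · rw [if_neg h.ne', if_neg h.ne', Nat.sub_sub_self h.le]
      simp only [h, h.not_gt, if_true, if_false]; ring
  exact key fun i => (Finset.univ.filter (fun k : Fin t => d k = i)).card

theorem card_GL [Fintype F] (e : ℕ) : Nat.card (GL {k // d k = e} F) =
    ∏ j : Fin ((Finset.univ.filter (fun k : Fin t => d k = e)).card),
      (Fintype.card F ^ (Finset.univ.filter (fun k : Fin t => d k = e)).card - Fintype.card F ^ (j : ℕ)) := by
  rw [← Matrix.card_GL_field]
  exact Nat.card_congr (Units.mapEquiv (Matrix.reindexAlgEquiv F F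
    (Fintype.equivFinOfCardEq (Fintype.card_subtype _))).toMulEquiv).toEquiv

theorem main [Fintype F] (hd : ∀ k, 1 ≤ d k) :
    Nat.card {g : GL (II d) F // (g : Matrix (II d) (II d) F) * Cfsg.jordanTypeMatrix d F =
      Cfsg.jordanTypeMatrix d F * (g : Matrix (II d) (II d) F)} = Fintype.card F ^ (SS d).card *
      ∏ e ∈ RR d, ∏ j : Fin ((Finset.univ.filter (fun k : Fin t => d k = e)).card),
      (Fintype.card F ^ (Finset.univ.filter (fun k : Fin t => d k = e)).card - Fintype.card F ^ (j : ℕ)) := by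
  rw [card_cent hd, Nat.card_prod, Nat.card_fun, Nat.card_pi, Nat.card_eq_fintype_card (α := F),
    Nat.card_eq_fintype_card (α := SS d), Fintype.card_coe]
  simp only [card_GL]
  congr 1
  exact Finset.prod_coe_sort (RR d) (fun e => ∏ j : Fin ((Finset.univ.filter (fun k : Fin t => d k = e)).card),
      (Fintype.card F ^ (Finset.univ.filter (fun k : Fin t => d k = e)).card - Fintype.card F ^ (j : ℕ)))

end Cfsg.Agent.H9.JC
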