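import Cfsg.Agent.H9.QP8
import Cfsg.Agent.H6.Rs1

/-! Root subgroups coming from square-zero elements of an algebra. -/

set_option autoImplicit false

namespace CfsgH9.KR

open Subgroup Cfsg CfsgH9.QP
open scoped MatrixGroups commutatorElement

variable {k : Type*} [Field k] {A : Type*} [Ring A] [Algebra k A] {Γ : Type*} [Group Γ]

theorem r1_map {H : Type*} [Group H] {f : Γ →* H} (hf : Function.Injective f) {P Q : Subgroup Γ} (h : IsRankOnePair P Q) :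
    IsRankOnePair (P.map f) (Q.map f) := by
  have cb : ∀ (P : Subgroup Γ) g, conjBy (P.map f) (f g) = (conjBy P g).map f := fun P g => by
    simp only [map_map]; congr 1; ext; simp
  have key : ∀ {P Q : Subgroup Γ}, RankOneCondition P Q → RankOneCondition (P.map f) (Q.map f) := by
    rintro P Q h _ ⟨a, ha, rfl⟩ a1
    obtain ⟨b, hb, b1, e⟩ := h a ha (by rintro rfl; simp at a1)
    exact ⟨f b, ⟨b, hb, rfl⟩, fun e => b1 (hf (e.trans (map_one f).symm)), by rw [← map_inv, ← map_inv, cb, cb, e]⟩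
  have := h.nilpotent_left
  have := h.nilpotent_right
  exact ⟨fun e => h.ne (map_injective hf e), Group.nilpotent_of_mulEquiv (P.equivMapOfInjective f hf),
    Group.nilpotent_of_mulEquiv (Q.equivMapOfInjective f hf), key h.cond_left, key h.cond_right⟩

/-- The root subgroup of `a`. -/
def X (k : Type*) [Field k] [Algebra k A] (ι : Γ →* A) (a : A) : Subgroup Γ := closure {g | ∃ c : k, ι g = 1 + c • a}

/-- Opposite root elements. -/
def Opp (k : Type*) [Field k] [Algebra k A] (R : Set A) (a b : A) : Prop :=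
  a ∈ R ∧ b ∈ R ∧ ∃ c : k, c ≠ 0 ∧ a * b * a = c • a ∧ b * a * b = c • b

/-- A system of root elements. -/
structure KS (k : Type*) [Field k] [Algebra k A] (ι : Γ →* A) (R : Set A) : Prop where
  inj : Function.Injective ι
  sq : ∀ a ∈ R, a * a = 0
  ne : ∀ a ∈ R, a ≠ 0
  lift : ∀ a ∈ R, ∀ c : k, ∃ g, ι g = 1 + c • a
  conj : ∀ a ∈ R, ∀ g, ι g * a * ι g⁻¹ ∈ R
  tri : ∀ a ∈ R, ∀ b ∈ R, a * b = b * a ∨ Opp k R a b ∨ a * b * a = 0 ∧ b * a * b = 0 ∧ a * b - b * a ∈ R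

variable {ι : Γ →* A} {R : Set A} {a b : A} {g : Γ}

theorem inv_eq (ha : a * a = 0) (h : ι g = 1 + a) : ι g⁻¹ = 1 - a := by
  exact left_inv_eq_right_inv (a := ι g) (by rw [← map_mul]; simp)
    (by rw [h, mul_sub, mul_one, add_mul, ha, one_mul, add_zero, add_sub_cancel_right])

theorem mem_X (ha : a * a = 0) : g ∈ X k ι a ↔ ∃ c : k, ι g = 1 + c • a := ⟨fun h => by
  induction h using closure_induction with
  | mem g h => exact h
  | one => exact ⟨0, by simp⟩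
  | mul x y _ _ hx hy =>
    obtain ⟨c, hx⟩ := hx
    obtain ⟨d, hy⟩ := hy
    exact ⟨c + d, by simp [hx, hy, mul_add, add_mul, ha, add_smul, add_assoc]⟩
  | inv x _ hx => obtain ⟨c, hx⟩ := hx; exact ⟨-c, by rw [inv_eq (by simp [ha]) hx, neg_smul, sub_eq_add_neg]⟩, fun h => subset_closure h⟩

theorem X_smul {c : k} (hc : c ≠ 0) : X k ι (c • a) = X k ι a := congrArg Subgroup.closure (Set.ext fun _ =>
  ⟨fun ⟨d, h⟩ => ⟨d * c, by rw [h, smul_smul]⟩, fun ⟨d, h⟩ => ⟨d / c, by rw [h, smul_smul, div_mul_cancel₀ _ hc]⟩⟩)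

theorem X_conj (ha : a * a = 0) (g : Γ) : conjBy (X k ι a) g = X k ι (ι g * a * ι g⁻¹) := by
  have e : ι g⁻¹ * ι g = 1 := by rw [← map_mul]; simp
  have e' : ι g * ι g⁻¹ = 1 := by rw [← map_mul]; simp
  ext x
  rw [mem_conjBy, mem_X ha, mem_X (by rw [mul_assoc, mul_assoc, mul_assoc, ← mul_assoc (ι g⁻¹), e, one_mul, ← mul_assoc a, ha]; simp)]
  refine exists_congr fun c => ⟨fun h => ?_, fun h => ?_⟩
  · rw [show x = g * (g⁻¹ * x * g) * g⁻¹ by group, map_mul, map_mul, h]; simp [mul_add, add_mul, e']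
  · rw [map_mul, map_mul, h]; simp [mul_add, add_mul, e, mul_assoc, ← mul_assoc (ι g⁻¹)]

theorem X_sub (ha : a * a = 0) (H : Subgroup Γ) : X k (ι.comp H.subtype) a = (X k ι a).subgroupOf H := by
  ext x; rw [mem_subgroupOf, mem_X ha, mem_X ha]; rfl

namespace KS
variable (K : KS k ι R)
include K

theorem comm (ha : a * a = 0) (hb : b * b = 0) (h : a * b = b * a) : ⁅X k ι a, X k ι b⁆ = ⊥ :=
  le_bot_iff.1 (commutator_le.2 fun x hx y hy => mem_bot.2 (commutatorElement_eq_one_iff_mul_comm.2 (K.inj (by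
    obtain ⟨c, hx⟩ := (mem_X ha).1 hx
    obtain ⟨d, hy⟩ := (mem_X hb).1 hy
    simp only [map_mul, hx, hy, mul_add, add_mul, smul_mul_smul_comm, h, mul_comm c, one_mul, mul_one]; abel))))

theorem ne_bot (ha : a ∈ R) : X k ι a ≠ ⊥ := fun e => by
  obtain ⟨g, hg⟩ := K.lift a ha 1
  have := mem_bot.1 (e ▸ (mem_X (K.sq a ha)).2 ⟨1, hg⟩)
  exact K.ne a ha (by simpa [this] using hg.symm)

theorem psl (o : Opp k R a b) : IsPSL2PairOver k (X k ι a) (X k ι b) ∧ IsRankOnePair (X k ι a) (X k ι b) := by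
  obtain ⟨ha, hb, c, c0, e1, e2⟩ := o
  have mu : MU (Algebra.linearMap k A) a (c⁻¹ • b) := ⟨K.sq a ha, by simp [K.sq b hb], by simp [e1, c0], by simp [e2, c0],
    map_mul (algebraMap k A), fun c => (Algebra.commutes c a).symm, fun c => (Algebra.commutes c _).symm,
    fun c h => by simpa [Algebra.algebraMap_eq_smul_one, K.ne a ha] using h⟩
  have inj : Function.Injective ι.toHomUnits := fun x y h => K.inj (congrArg Units.val h)
  have l : mu.Ψ.range ≤ ι.toHomUnits.range := by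
    rw [MonoidHom.range_eq_map, ← upper_lower, map_le_iff_le_comap]
    refine sup_le (upper_le fun r => ?_) (lower_le fun r => ?_)
    · exact (K.lift a ha r).imp fun g h => Units.ext (by simp [h, mu.Ψ_T, Algebra.algebraMap_eq_smul_one])
    · exact (K.lift b hb (r * c⁻¹)).imp fun g h => Units.ext (by simp [h, mu.Ψ_L, Algebra.algebraMap_eq_smul_one, smul_smul, mul_comm])
  let φ : SL(2, k) →* Γ := (MonoidHom.ofInjective inj).symm.toMonoidHom.comp ((inclusion l).comp mu.Ψ.rangeRestrict)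
  have val : ∀ g, ι (φ g) = mu.Ψ g := fun g => congrArg Units.val (MonoidHom.apply_ofInjective_symm inj _)
  have fi : Function.Injective φ := fun x y h => mu.Ψ_inj (Units.ext (by rw [← val, ← val, h]))
  have m1 : (upperUnipotentSL2 k).map φ = X k ι a := le_antisymm (map_le_iff_le_comap.2 (upper_le fun r => subset_closure
    ⟨r, by simp [val, mu.Ψ_T, Algebra.algebraMap_eq_smul_one]⟩)) ((closure_le _).2 fun g ⟨r, h⟩ => ⟨Tm r, subset_closure ⟨rfl, rfl, rfl⟩,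
      K.inj (by simp [val, h, mu.Ψ_T, Algebra.algebraMap_eq_smul_one])⟩)
  have m2 : (lowerUnipotentSL2 k).map φ = X k ι b := le_antisymm (map_le_iff_le_comap.2 (lower_le fun r => subset_closure
    ⟨r * c⁻¹, by simp [val, mu.Ψ_L, Algebra.algebraMap_eq_smul_one, smul_smul, mul_comm]⟩)) ((closure_le _).2 fun g ⟨r, h⟩ =>
      ⟨Lm (r * c), subset_closure ⟨rfl, rfl, rfl⟩, K.inj (by simp [val, h, mu.Ψ_L, Algebra.algebraMap_eq_smul_one, smul_smul, mul_comm r, c0])⟩)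
  exact ⟨⟨φ, by rw [← m1, ← m2, ← Subgroup.map_sup, upper_lower, MonoidHom.range_eq_map],
    by rw [(MonoidHom.ker_eq_bot_iff _).2 fi]; exact bot_le, m1, m2⟩, m1 ▸ m2 ▸ r1_map fi (RankOnePair_symm CfsgH6.Rk.sl2_r1)⟩

theorem c3 (ha : a ∈ R) (hb : b ∈ R) (h1 : a * b * a = 0) (h2 : b * a * b = 0) (h3 : a * b - b * a ∈ R) :
    RootCommutatorCase (X k ι '' R) (X k ι a) (X k ι b) := by
  have sa := K.sq a ha
  have sb := K.sq b hb
  have r1 : ∀ x, a * (a * x) = 0 := fun x => by rw [← mul_assoc, sa, zero_mul]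
  have r2 : ∀ x, b * (b * x) = 0 := fun x => by rw [← mul_assoc, sb, zero_mul]
  have r3 : ∀ x, a * (b * (a * x)) = 0 := fun x => by rw [← mul_assoc, ← mul_assoc, h1, zero_mul]
  have r4 : ∀ x, b * (a * (b * x)) = 0 := fun x => by rw [← mul_assoc, ← mul_assoc, h2, zero_mul]
  rw [mul_assoc] at h1 h2
  have val : ∀ {x y} {c d : k}, ι x = 1 + c • a → ι y = 1 + d • b → ι (x * y * x⁻¹ * y⁻¹) = 1 + (c * d) • (a * b - b * a) := fun hx hy => by
    rw [map_mul, map_mul, map_mul, inv_eq (by simp [sa]) hx, inv_eq (by simp [sb]) hy, hx, hy]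
    simp only [mul_add, add_mul, mul_sub, sub_mul, mul_assoc, one_mul, mul_one, smul_mul_assoc, mul_smul_comm, r1, r2, r3, r4, h1, h2, sa, sb,
      smul_zero, smul_add, smul_sub, mul_zero, zero_mul]
    module
  have l : ∀ x ∈ X k ι a, x ≠ 1 → ∀ z ∈ X k ι (a * b - b * a), ∃ y ∈ X k ι b, z = x * y * x⁻¹ * y⁻¹ := fun x hx x1 z hz => by
    obtain ⟨c, hx⟩ := (mem_X sa).1 hx
    obtain ⟨d, hz⟩ := (mem_X (K.sq _ h3)).1 hz
    obtain ⟨y, hy⟩ := K.lift b hb (d / c)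
    exact ⟨y, subset_closure ⟨_, hy⟩, K.inj (by rw [val hx hy, hz, mul_div_cancel₀]; rintro rfl; exact x1 (K.inj (by simp [hx])))⟩
  have e : ⁅X k ι a, X k ι b⁆ = X k ι (a * b - b * a) := le_antisymm (commutator_le.2 fun x hx y hy =>
    let ⟨_, hx⟩ := (mem_X sa).1 hx; let ⟨_, hy⟩ := (mem_X sb).1 hy; subset_closure ⟨_, val hx hy⟩) fun z hz => by
      obtain ⟨⟨x, hx⟩, x1⟩ := ne_bot_iff_exists_ne_one.1 (K.ne_bot ha)
      obtain ⟨y, hy, rfl⟩ := l x hx (by simpa using x1) z hz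
      exact commutator_mem_commutator hx hy
  refine CfsgH6.Rk.C3_iff.1 ⟨⟨_, h3, e.symm⟩, CfsgH6.Rk.comm_bot_iff.1 (e ▸ K.comm (K.sq _ h3) sa (by simp [mul_sub, sub_mul, mul_assoc, h1, r1, sa])),
    CfsgH6.Rk.comm_bot_iff.1 (e ▸ K.comm (K.sq _ h3) sb (by simp [mul_sub, sub_mul, mul_assoc, h2, r2, sb])), e ▸ l, fun y hy y1 z hz => ?_⟩
  obtain ⟨c, hy⟩ := (mem_X sb).1 hy
  obtain ⟨d, hz⟩ := (mem_X (K.sq _ h3)).1 (e ▸ hz)
  obtain ⟨x, hx⟩ := K.lift a ha (d / c)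
  exact ⟨x, subset_closure ⟨_, hx⟩, K.inj (by rw [val hx hy, hz, div_mul_cancel₀]; rintro rfl; exact y1 (K.inj (by simp [hy])))⟩

theorem root (top : ⨆ P ∈ X k ι '' R, P = ⊤) : IsKRootSubgroupSet k (X k ι '' R) := by
  have hS : IsRootSubgroupSet (X k ι '' R) := by
    refine ⟨?_, ?_, top, ?_, ?_⟩
    · rintro _ ⟨a, ha, rfl⟩
      exact ⟨⟨fun x y => Subtype.ext (CfsgH6.Rk.comm_bot_iff.1 (K.comm (K.sq a ha) (K.sq a ha) rfl) _ x.2 _ y.2)⟩⟩
    · rintro _ ⟨a, ha, rfl⟩; exact K.ne_bot ha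
    · rintro _ ⟨a, ha, rfl⟩ g; exact ⟨_, K.conj a ha g, (X_conj (K.sq a ha) g).symm⟩
    · rintro _ ⟨a, ha, rfl⟩ _ ⟨b, hb, rfl⟩
      exact (K.tri a ha b hb).imp (K.comm (K.sq a ha) (K.sq b hb)) (.imp (fun o => (K.psl o).2) fun h => K.c3 ha hb h.1 h.2.1 h.2.2)
  refine ⟨hS, ?_⟩
  rintro _ ⟨a, ha, rfl⟩ _ ⟨b, hb, rfl⟩ r
  rcases K.tri a ha b hb with h | h | h
  · exact (CfsgH6.Rk.r1_comm_ne r (K.comm (K.sq a ha) (K.sq b hb) h)).elim
  · exact (K.psl h).1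
  · exact ((CfsgH6.Rk.C3_iff.2 (K.c3 ha hb h.1 h.2.1 h.2.2)).not_r1 hS ⟨b, hb, rfl⟩ r).elim

theorem conn (h : ∀ a ∈ R, ∀ b ∈ R, Relation.ReflTransGen (Opp k R) a b) : IsConnectedFamily (FAdj (X k ι '' R)) (X k ι '' R) := by
  rintro _ ⟨a, ha, rfl⟩ _ ⟨b, hb, rfl⟩
  exact (h a ha b hb).lift (X k ι) fun a b o => ⟨⟨a, o.1, rfl⟩, ⟨b, o.2.1, rfl⟩, (K.psl o).2⟩

theorem deg (hS : IsRootSubgroupSet (X k ι '' R)) (h : ∀ a ∈ R, ∀ b ∈ R, a * b = b * a ∨ Opp k R a b) : IsDegenerateRootSet (X k ι '' R) := by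
  rintro _ ⟨a, ha, rfl⟩ _ ⟨b, hb, rfl⟩ r
  rcases h a ha b hb with h | h
  · exact hS.ne_bot _ r.1 (K.comm (K.sq a ha) (K.sq b hb) h)
  · exact (CfsgH6.Rk.C3_iff.2 r).not_r1 hS ⟨b, hb, rfl⟩ (K.psl h).2

theorem sub {H : Subgroup Γ} (hH : ⨆ P ∈ X k ι '' R, P = H) : KS k (ι.comp H.subtype) R ∧ ⨆ P ∈ X k (ι.comp H.subtype) '' R, P = ⊤ ∧
    (fun P : Subgroup Γ => P.subgroupOf H) '' (X k ι '' R) = X k (ι.comp H.subtype) '' R := by
  have le : ∀ a ∈ R, X k ι a ≤ H := fun a ha => hH ▸ le_iSup₂_of_le _ ⟨a, ha, rfl⟩ le_rfl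
  refine ⟨⟨K.inj.comp Subtype.val_injective, K.sq, K.ne, fun a ha c => let ⟨g, h⟩ := K.lift a ha c; ⟨⟨g, le a ha (subset_closure ⟨c, h⟩)⟩, h⟩,
    fun a ha g => K.conj a ha g, K.tri⟩, map_injective H.subtype_injective ?_,
    by rw [Set.image_image]; exact Set.image_congr fun a ha => (X_sub (K.sq a ha) _).symm⟩
  rw [← MonoidHom.range_eq_map, range_subtype, iSup_image]
  simp only [Subgroup.map_iSup]
  rw [iSup_image] at hH
  exact (biSup_congr fun a ha => by rw [X_sub (K.sq a ha), map_subgroupOf_eq_of_le (le a ha)]).trans hH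

end KS

theorem cls {S : Set (Subgroup Γ)} (h : IsConnectedFamily (FAdj S) S) (h0 : S.Nonempty) : IsConjClassOfSubgroups S := ⟨h0, fun P hP Q hQ => by
  have := h P hP Q hQ
  clear hQ
  induction this with
  | refl => exact ⟨1, (conjBy_one _).symm⟩
  | tail _ h2 ih =>
    obtain ⟨g, rfl⟩ := ih
    obtain ⟨⟨x, hx⟩, x1⟩ := ne_bot_iff_exists_ne_one.1 (CfsgH6.Rk.r1_ne_bot h2.2.2)
    obtain ⟨y, -, -, e⟩ := CfsgH6.Rk.r1_ex h2.2.2 hx (by simpa using x1)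
    exact ⟨x⁻¹ * y * g, by rw [← conjBy_conjBy, ← conjBy_conjBy, e, conjBy_conjBy, inv_mul_cancel, conjBy_one]⟩⟩

end CfsgH9.KR
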