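import Cfsg.Agent.H9.KR1
import Cfsg.Agent.H5.SpMat
import Cfsg.Agent.H5.UnitMat
import Cfsg.Agent.H5.OrthMat
import Cfsg.Agent.H5.Lin

/-! Transvection and Siegel subgroups as root subgroups. -/

set_option autoImplicit false

namespace CfsgH9.KR

open CfsgH5 Module

variable {F : Type*} [Field F] {T : FParam F} {V : Type*} [AddCommGroup V] [Module F V] [FiniteDimensional F V] {S : Form T V}
  {Γ : Type*} [Group Γ] {k : Type*} [Field k] [Algebra k F] [Module k V] [IsScalarTower k F V]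

/-- The linear representation as a homomorphism to the endomorphism ring. -/
def io (φ : Γ →* (V ≃ₗ[F] V)) : Γ →* End F V := LinearEquiv.automorphismGroup.toLinearMapMonoidHom.comp φ

omit [FiniteDimensional F V] in
@[simp] theorem io_apply (φ : Γ →* (V ≃ₗ[F] V)) (g : Γ) (v : V) : io φ g v = φ g v := rfl

omit [FiniteDimensional F V] in
theorem io_inj {φ : Γ →* (V ≃ₗ[F] V)} (h : Function.Injective φ) : Function.Injective (io φ) :=
  fun _ _ e => h (LinearEquiv.ext (LinearMap.congr_fun e))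

/-- The rank one map `v ↦ B(v,p) q`. -/
def el (S : Form T V) (p q : V) : End F V := (S.lin p).smulRight q

omit [FiniteDimensional F V] in
@[simp] theorem el_apply (p q v : V) : el S p q v = S.B v p • q := rfl

/-- Root elements of isotropic transvections. -/
def TR (S : Form T V) : Set (End F V) := {a | ∃ p, p ≠ 0 ∧ S.B p p = 0 ∧ ∃ l, l ≠ 0 ∧ l + T.ε * T.σ l = 0 ∧ a = l • el S p p}

theorem tv_opp (h2 : ∀ x, T.σ x = x → ∃ c, algebraMap k F c = x) {p q : V} {l m : F} (p0 : p ≠ 0) (pp : S.B p p = 0) (l0 : l ≠ 0)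
    (hl : l + T.ε * T.σ l = 0) (q0 : q ≠ 0) (qq : S.B q q = 0) (m0 : m ≠ 0) (hm : m + T.ε * T.σ m = 0) (h : S.B p q ≠ 0) :
    Opp k (TR S) (l • el S p p) (m • el S q q) := by
  obtain ⟨c, hc⟩ := h2 (l * m * (S.B p q * S.B q p)) (by
    rw [S.herm p q]; simp only [map_mul, T.σε, T.σσ']
    linear_combination (S.B p q * T.σ (S.B p q) * T.σ m) * hl - (l * S.B p q * T.σ (S.B p q) * T.ε) * hm + (l * S.B p q * T.σ (S.B p q) * T.σ m) * T.εε)
  refine ⟨⟨p, p0, pp, l, l0, hl, rfl⟩, ⟨q, q0, qq, m, m0, hm, rfl⟩, c, ?_, ?_, ?_⟩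
  · rintro rfl; exact mul_ne_zero (mul_ne_zero l0 m0) (mul_ne_zero h (Form.ne_symm h)) (by simpa using hc.symm)
  all_goals ext v; simp [← algebraMap_smul F c, hc, S.smul_left, smul_smul]; congr 1; ring

theorem tv_ks (hT : T.IsMax) (hS : S.Nondeg) (h1 : ∀ c, T.σ (algebraMap k F c) = algebraMap k F c) (h2 : ∀ x, T.σ x = x → ∃ c, algebraMap k F c = x)
    {φ : Γ →* (V ≃ₗ[F] V)} (inj : Function.Injective φ) (hφ : ∀ g, φ g ∈ S.isom) (lift : ∀ t ∈ S.EG, ∃ g, φ g = t) :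
    KS k (io φ) (TR S) ∧ (∀ a ∈ TR S, ∀ b ∈ TR S, a * b = b * a ∨ Opp k (TR S) a b) ∧
      ∀ a ∈ TR S, ∀ b ∈ TR S, Relation.ReflTransGen (Opp k (TR S)) a b := by
  have tri : ∀ a ∈ TR S, ∀ b ∈ TR S, a * b = b * a ∨ Opp k (TR S) a b := by
    rintro _ ⟨p, p0, pp, l, l0, hl, rfl⟩ _ ⟨q, q0, qq, m, m0, hm, rfl⟩
    by_cases h : S.B p q = 0
    · left; ext v; simp [S.smul_left, h, Form.perp_symm h]
    · exact .inr (tv_opp h2 p0 pp l0 hl q0 qq m0 hm h)
  refine ⟨⟨io_inj inj, ?_, ?_, ?_, ?_, fun a ha b hb => (tri a ha b hb).imp_right .inl⟩, tri, ?_⟩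
  · rintro _ ⟨p, -, pp, l, -, -, rfl⟩; ext v; simp [S.smul_left, pp]
  · rintro _ ⟨p, p0, -, l, l0, -, rfl⟩ e
    obtain ⟨y, hy⟩ := hS.exists_ne p0
    simpa [l0, hy, p0] using LinearMap.congr_fun e y
  · rintro _ ⟨p, -, pp, l, -, hl, rfl⟩ c
    have : S.IsEich p 0 (-(T.ε * (algebraMap k F c * l))) := ⟨hT.q_eq_zero S pp, S.zero_left p, by
      rw [S.q_zero, eq_comm, T.π_eq_zero_iff]
      exact hT _ (by simp only [map_neg, map_mul, h1, T.σε]; linear_combination (-T.ε * algebraMap k F c) * hl)⟩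
    refine (lift _ (Form.eich_mem_EG this)).imp fun g e => LinearMap.ext fun v => ?_
    simp only [io_apply, e, Form.eich_apply, S.zero_right, ← algebraMap_smul F c, LinearMap.add_apply, LinearMap.smul_apply, el_apply, End.one_apply]
    match_scalars
    · rfl
    · linear_combination (algebraMap k F c * l * S.B v p) * T.εε
  · rintro _ ⟨p, p0, pp, l, l0, hl, rfl⟩ g
    exact ⟨φ g p, by simpa using p0, by rw [Form.isom_B (hφ g), pp], l, l0, hl, LinearMap.ext fun v => by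
      simp [Form.isom_B_right (hφ g)]⟩
  · rintro _ ⟨p, p0, pp, l, l0, hl, rfl⟩ _ ⟨q, q0, qq, m, m0, hm, rfl⟩
    by_cases h : S.B p q = 0
    swap
    · exact .single (tv_opp h2 p0 pp l0 hl q0 qq m0 hm h)
    obtain ⟨r, rr, a, b⟩ : ∃ r, S.B r r = 0 ∧ S.B p r ≠ 0 ∧ S.B q r ≠ 0 := by
      by_cases i : LinearIndependent F ![p, q]
      · obtain ⟨f, hf⟩ := hS.exists_hypFam i (fun i => by fin_cases i <;> exact hT.q_eq_zero S ‹_›) fun i j => by
          fin_cases i <;> fin_cases j <;> simp [pp, qq, h, Form.perp_symm h]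
        exact ⟨f 0 + f 1, by simp [S.add_left, S.add_right, hf.ff], by simpa [S.add_right] using (show S.B p (f 0) + S.B p (f 1) ≠ 0 by
          rw [show S.B p (f 0) = _ from hf.ef 0 0, show S.B p (f 1) = _ from hf.ef 0 1]; simp), by
            rw [S.add_right, show S.B q (f 0) = _ from hf.ef 1 0, show S.B q (f 1) = _ from hf.ef 1 1]; simp⟩
      · obtain ⟨f, hf⟩ := hS.exists_hyp' (hT.q_eq_zero S pp) p0
        obtain ⟨c, rfl⟩ := not_forall_not.1 ((LinearIndependent.pair_iff' p0).not.1 i)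
        exact ⟨f, hf.ff, by simp [hf.ef], by simpa [S.smul_left, hf.ef] using left_ne_zero_of_smul q0⟩
    have r0 : r ≠ 0 := by rintro rfl; simp [S.zero_right] at a
    exact .tail (.single (tv_opp h2 p0 pp l0 hl r0 rr l0 hl a)) (tv_opp h2 r0 rr l0 hl q0 qq m0 hm (Form.ne_symm b))

end CfsgH9.KR
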