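import Cfsg.Agent.H9.KR2
import Cfsg.Agent.H5.Mx1

/-! Siegel subgroups as root subgroups. -/

set_option autoImplicit false

namespace CfsgH9.KR

open CfsgH5 Module

variable {F : Type*} [Field F] {V : Type*} [AddCommGroup V] [Module F V] [FiniteDimensional F V] {S : Form (orthParam F) V}
  {Γ : Type*} [Group Γ] {p r s t : V}

/-- Singular lines with a basis. -/
structure Ln (S : Form (orthParam F) V) (p r : V) : Prop where
  li : LinearIndependent F ![p, r]
  qp : S.Q p = 0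
  qr : S.Q r = 0
  pr : S.B p r = 0

/-- Root elements of Siegel transformations. -/
def SR (S : Form (orthParam F) V) : Set (End F V) := {a | ∃ p r, Ln S p r ∧ a = el S p r - el S r p}

omit [FiniteDimensional F V] in
theorem Ln.z (h : Ln S p r) : S.B p p = 0 ∧ S.B r r = 0 ∧ S.B p r = 0 ∧ S.B r p = 0 :=
  ⟨by simp [S.orth_self, h.qp], by simp [S.orth_self, h.qr], h.pr, Form.perp_symm h.pr⟩

theorem Ln.hyp (hS : S.Nondeg) (h : Ln S p r) : ∃ u w, Ln S u w ∧ S.B p u = 1 ∧ S.B p w = 0 ∧ S.B r u = 0 ∧ S.B r w = 1 := by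
  obtain ⟨f, hf⟩ := hS.exists_hypFam h.li (fun i => by fin_cases i <;> simp [S.q_eq_zero_iff, h.qp, h.qr]) fun i j => by
    fin_cases i <;> fin_cases j <;> simp [h.z]
  exact ⟨f 0, f 1, ⟨by convert hf.linearIndependent_right; ext i; fin_cases i <;> rfl, S.q_eq_zero_iff.1 (hf.qf 0), S.q_eq_zero_iff.1 (hf.qf 1),
    hf.ff 0 1⟩, hf.ef 0 0, hf.ef 0 1, hf.ef 1 0, hf.ef 1 1⟩

omit [FiniteDimensional F V] in
theorem Ln.aba (h : Ln S p r) (s t : V) : (el S p r - el S r p) * (el S s t - el S t s) * (el S p r - el S r p) =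
    (S.B p t * S.B r s - S.B p s * S.B r t) • (el S p r - el S r p) := by
  ext v; simp [S.sub_left, S.smul_left, S.orth_symm p s, S.orth_symm p t, S.orth_symm r s, S.orth_symm r t]; module

omit [FiniteDimensional F V] in
theorem Ln.opp (h : Ln S p r) (h' : Ln S s t) (d : S.B p t * S.B r s - S.B p s * S.B r t ≠ 0) :
    Opp F (SR S) (el S p r - el S r p) (el S s t - el S t s) ∧ Opp F (SR S) (el S s t - el S t s) (el S p r - el S r p) := by
  have := h'.aba p r
  rw [S.orth_symm r s, S.orth_symm p t, S.orth_symm p s, S.orth_symm r t, mul_comm (S.B r s)] at this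
  exact ⟨⟨⟨p, r, h, rfl⟩, ⟨s, t, h', rfl⟩, _, d, h.aba s t, this⟩, ⟨s, t, h', rfl⟩, ⟨p, r, h, rfl⟩, _, d, this, h.aba s t⟩

/-- Connected singular lines. -/
abbrev Cn (S : Form (orthParam F) V) (p r s t : V) : Prop := Relation.ReflTransGen (Opp F (SR S)) (el S p r - el S r p) (el S s t - el S t s)

theorem Ln.span (hS : S.Nondeg) (h : Ln S p r) {a b c d : F} (h' : Ln S s t) (e1 : s = a • p + b • r) (e2 : t = c • p + d • r) :
    Cn S p r s t ∧ Cn S s t p r := by
  obtain ⟨u, w, l, a1, a2, a3, a4⟩ := h'.hyp hS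
  have o := h.opp l fun e => by
    simp only [e1, e2, S.add_left, S.smul_left] at a1 a2 a3 a4
    exact one_ne_zero (by linear_combination (b * c - a * d) * e - (c * S.B p w + d * S.B r w) * a1 - a4 + (c * S.B p u + d * S.B r u) * a2 + 0 * a3 : (1 : F) = 0)
  have o' := h'.opp l (by simp [a1, a2, a4])
  exact ⟨.tail (.single o.1) o'.2, .tail (.single o'.1) o.2⟩

theorem Ln.share (hS : S.Nondeg) (h : Ln S p r) (h' : Ln S p t) (e : S.B r t = 0) : Cn S p r p t := by
  by_cases i : t ∈ Submodule.span F (Set.range ![p, r])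
  · obtain ⟨c, rfl⟩ := (Submodule.mem_span_range_iff_exists_fun F).1 i
    exact (h.span hS (a := 1) (b := 0) h' (by simp) (by simp [Fin.sum_univ_two]; rfl)).1
  obtain ⟨f, hf⟩ := hS.exists_hypFam (e := ![t, p, r]) (linearIndependent_finCons.2 ⟨h.li, i⟩)
    (fun i => by fin_cases i <;> simp [S.q_eq_zero_iff, h.qp, h.qr, h'.qr]) fun i j => by
      fin_cases i <;> fin_cases j <;> simp [h.z, h'.z, e, Form.perp_symm e]
  have z : S.B p (f 1) = 1 ∧ S.B p (f 0) = 0 ∧ S.B p (f 2) = 0 ∧ S.B r (f 0) = 0 ∧ S.B r (f 2) = 1 ∧ S.B t (f 0) = 1 ∧ S.B t (f 2) = 0 ∧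
    S.B r (f 1) = 0 := ⟨hf.ef 1 1, hf.ef 1 0, hf.ef 1 2, hf.ef 2 0, hf.ef 2 2, hf.ef 0 0, hf.ef 0 2, hf.ef 2 1⟩
  have l : Ln S (f 1) (f 0 + f 2) := ⟨LinearIndependent.pair_iff.2 fun a b h => ⟨by simpa [S.add_right, S.smul_right, z, S.zero_right] using congrArg (S.B p) h,
    by simpa [S.add_right, S.smul_right, z, S.zero_right] using congrArg (S.B r) h⟩, S.q_eq_zero_iff.1 (hf.qf 1),
    by simp [S.Q_add, S.q_eq_zero_iff.1 (hf.qf _), hf.ff], by simp [S.add_right, hf.ff]⟩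
  exact .tail (.single (h.opp l (by simp [S.add_right, z])).1) (h'.opp l (by simp [S.add_right, z])).2

theorem Ln.share' (hS : S.Nondeg) {W : Submodule F V} (hW : S.TotSing W) (h3 : finrank F W = 3) (h : Ln S p r) (h' : Ln S p t) : Cn S p r p t := by
  obtain ⟨Y, hY, l, d⟩ := hS.exists_totSing_ge (Form.totSing_span_set (s := Set.range ![p, r]) (by simp [S.q_eq_zero_iff, h.qp, h.qr])
    (by simp [h.z])) hW (by rw [finrank_span_eq_card h.li, h3]; simp)
  have := S.finrank_le_inf_perp Y t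
  have p0 : p ≠ 0 := h.li.ne_zero 0
  obtain ⟨e, he, n⟩ := SetLike.not_le_iff_exists.1 fun l : Y ⊓ S.perp {t} ≤ Submodule.span F {p} => by
    have := Submodule.finrank_mono l
    rw [finrank_span_singleton p0] at this; omega
  have l' : Ln S p e := ⟨(LinearIndependent.pair_iff' p0).2 fun a h => n (h ▸ Submodule.smul_mem _ _ (Submodule.mem_span_singleton_self p)), h.qp,
    S.q_eq_zero_iff.1 (hY.1 e he.1), hY.2 _ (l (Submodule.subset_span ⟨0, rfl⟩)) _ he.1⟩
  exact (h.share hS l' (hY.2 _ (l (Submodule.subset_span ⟨1, rfl⟩)) _ he.1)).trans (l'.share hS h' ((S.mem_perp_singleton).1 he.2))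

theorem Ln.conn (hS : S.Nondeg) {W : Submodule F V} (hW : S.TotSing W) (h3 : finrank F W = 3) (h : Ln S p r) (h' : Ln S s t) : Cn S p r s t := by
  obtain ⟨x, y, l, c, e⟩ : ∃ x y, Ln S x y ∧ Cn S p r x y ∧ S.B x s = 0 := by
    by_cases e : S.B p s = 0
    · exact ⟨p, r, h, .refl, e⟩
    have l : Ln S (r - (S.B r s / S.B p s) • p) p := ⟨LinearIndependent.pair_iff.2 fun a b e => by
      obtain ⟨h1, rfl⟩ := LinearIndependent.pair_iff.1 h.li (b - a * (S.B r s / S.B p s)) a (by rw [← e]; module)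
      simpa using h1, by simp [S.Q_sub, S.Q_smul, S.smul_right, h.z, h.qp, h.qr], h.qp, by simp [S.sub_left, S.smul_left, h.z]⟩
    exact ⟨_, _, l, (h.span hS (a := -(S.B r s / S.B p s)) (b := 1) (c := 1) (d := 0) l (by module) (by simp)).1, by simp [S.sub_left, S.smul_left, e]⟩
  refine c.trans ?_
  by_cases i : LinearIndependent F ![x, s]
  · have l1 : Ln S x s := ⟨i, l.qp, h'.qp, e⟩
    have l2 : Ln S s x := ⟨LinearIndependent.pair_symm_iff.1 i, h'.qp, l.qp, Form.perp_symm e⟩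
    exact ((l.share' hS hW h3 l1).trans (l1.span hS (a := 0) (b := 1) (c := 1) (d := 0) l2 (by simp) (by simp)).1).trans (l2.share' hS hW h3 h')
  obtain ⟨a, rfl⟩ := not_forall_not.1 ((LinearIndependent.pair_iff' (l.li.ne_zero 0)).not.1 i)
  have l1 : Ln S (a • x) y := ⟨LinearIndependent.pair_iff.2 fun c d e => by
    obtain ⟨h1, h2⟩ := LinearIndependent.pair_iff.1 l.li (c * a) d (by rwa [mul_smul])
    exact ⟨(mul_eq_zero.1 h1).resolve_right (left_ne_zero_of_smul (h'.li.ne_zero 0)), h2⟩, h'.qp, l.qr, by simp [S.smul_left, l.pr]⟩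
  exact (l.span hS (a := a) (b := 0) (c := 0) (d := 1) l1 (by simp) (by simp)).1.trans (l1.share' hS hW h3 h')

theorem sg_ks (hS : S.Nondeg) {φ : Γ →* (V ≃ₗ[F] V)} (inj : Function.Injective φ) (hφ : ∀ g, φ g ∈ S.isom) (lift : ∀ t ∈ S.isom, ∃ g, φ g = t) :
    KS F (io φ) (SR S) := by
  refine ⟨io_inj inj, ?_, ?_, ?_, ?_, ?_⟩
  · rintro _ ⟨p, r, h, rfl⟩; ext v; simp [S.sub_left, S.smul_left, h.z]
  · rintro _ ⟨p, r, h, rfl⟩ e
    obtain ⟨u, -, -, a, -, b, -⟩ := h.hyp hS
    exact h.li.ne_zero 1 (by simpa [S.orth_symm _ u, a, b] using LinearMap.congr_fun e u)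
  · rintro _ ⟨p, r, h, rfl⟩ c
    have : S.IsEich p (c • r) 0 := ⟨S.q_eq_zero_iff.2 h.qp, by simp [S.smul_left, h.z], by simp [S.q_eq_zero_iff, S.Q_smul, h.qr]⟩
    refine (lift _ (Form.eich_mem this)).imp fun g e => LinearMap.ext fun v => ?_
    simp [e, Form.eich_apply, S.smul_right, orthParam_ε, orthParam_σ]; module
  · rintro _ ⟨p, r, h, rfl⟩ g
    exact ⟨φ g p, φ g r, ⟨LinearIndependent.pair_iff.2 fun a b e => LinearIndependent.pair_iff.1 h.li a b ((φ g).injective (by simpa using e)), by rw [Form.isom_Q (hφ g), h.qp],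
      by rw [Form.isom_Q (hφ g), h.qr], by rw [Form.isom_B (hφ g), h.pr]⟩, LinearMap.ext fun v => by simp [Form.isom_B_right (hφ g)]⟩
  rintro _ ⟨p, r, h, rfl⟩ _ ⟨s, t, h', rfl⟩
  by_cases d : S.B p t * S.B r s - S.B p s * S.B r t = 0
  swap
  · exact .inr (.inl (h.opp h' d).1)
  obtain ⟨a, b, x, y, n, e1, e2, e3, e4⟩ : ∃ a b x y : F, ¬(b = 0 ∧ -a = 0) ∧ S.B p s = a * x ∧ S.B p t = a * y ∧ S.B r s = b * x ∧ S.B r t = b * y := by
    by_cases e : S.B p s = 0
    swap
    · exact ⟨_, _, 1, S.B p t / S.B p s, by simp [e], (mul_one _).symm, by field_simp, (mul_one _).symm, by field_simp; linear_combination -d⟩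
    by_cases f : S.B p t = 0
    · exact ⟨0, 1, _, _, by simp, by simp [e], by simp [f], (one_mul _).symm, (one_mul _).symm⟩
    · exact ⟨_, _, S.B p s / S.B p t, 1, by simp [f], by field_simp, (mul_one _).symm, by field_simp; linear_combination d, (mul_one _).symm⟩
  have z : (el S p r - el S r p) * (el S s t - el S t s) - (el S s t - el S t s) * (el S p r - el S r p) =
      el S (b • p + -a • r) (y • s + -x • t) - el S (y • s + -x • t) (b • p + -a • r) := by
    ext v; simp [S.sub_left, S.smul_left, S.add_right, S.neg_right, S.smul_right, orthParam_σ, S.orth_symm p s, S.orth_symm p t, S.orth_symm r s,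
      S.orth_symm r t, e1, e2, e3, e4]; module
  by_cases i : LinearIndependent F ![b • p + -a • r, y • s + -x • t]
  · refine .inr (.inr ⟨by rw [h.aba, d, zero_smul], by rw [h'.aba, S.orth_symm r s, S.orth_symm p t, S.orth_symm p s, S.orth_symm r t,
      mul_comm (S.B r s), d, zero_smul], _, _, ⟨i, ?_, ?_, ?_⟩, z⟩)
    · simp only [S.Q_add, S.Q_smul, S.smul_left, S.smul_right, h.qp, h.qr, h.pr]; simp
    · simp only [S.Q_add, S.Q_smul, S.smul_left, S.smul_right, h'.qp, h'.qr, h'.pr]; simp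
    · simp only [S.add_left, S.add_right, S.smul_left, S.smul_right, e1, e2, e3, e4, orthParam_σ]; ring
  obtain ⟨c, e⟩ := not_forall_not.1 ((LinearIndependent.pair_iff' fun e => n (LinearIndependent.pair_iff.1 h.li _ _ e)).not.1 i)
  refine .inl (sub_eq_zero.1 (z.trans ?_))
  rw [← e]; ext v; simp only [LinearMap.sub_apply, el_apply, S.smul_right c, orthParam_σ, LinearMap.zero_apply]; module

theorem Ln.fix (hS : S.Nondeg) (h : Ln S p r) {g : V ≃ₗ[F] V} (hg : g ∈ S.isom) (H : ∀ v, S.B v p = 0 → S.B v r = 0 → g v = v) :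
    ∃ c : F, ∀ v, g v = v + c • (S.B v p • r - S.B v r • p) := by
  obtain ⟨u, w, l, a1, a2, a3, a4⟩ := h.hyp hS
  have k : ∀ x, ∃ a b : F, g x = x + (a • p + b • r) := fun x => by
    obtain ⟨a, b, e⟩ := Submodule.mem_span_pair.1 ((hS.perp_perp (Submodule.span F {p, r})).le (x := g x - x) (Form.mem_perp.2 fun y hy => by
      rw [SetLike.mem_coe, S.perp_span, S.mem_perp_pair] at hy
      rw [S.sub_left, ← H y hy.1 hy.2, Form.isom_B hg, H y hy.1 hy.2, sub_self]))
    exact ⟨a, b, by rw [e, add_sub_cancel]⟩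
  obtain ⟨a, b, e1⟩ := k u
  obtain ⟨c, d, e2⟩ := k w
  have q1 := Form.isom_Q hg u
  have q2 := Form.isom_Q hg w
  have q3 := Form.isom_B hg u w
  simp [e1, e2, S.Q_add, S.Q_smul, S.add_left, S.add_right, S.smul_left, S.smul_right, h.z, h.qp, h.qr, l.z, S.orth_symm _ u, S.orth_symm _ w,
    a1, a2, a3, a4, orthParam_σ] at q1 q2 q3
  refine ⟨b, fun v => ?_⟩
  have := H (v - S.B v p • u - S.B v r • w) (by simp [S.sub_left, S.smul_left, S.orth_symm _ u, S.orth_symm _ w, a1, a2])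
    (by simp [S.sub_left, S.smul_left, S.orth_symm _ u, S.orth_symm _ w, a3, a4])
  rw [map_sub, map_sub, map_smul, map_smul, e1, e2, sub_sub, sub_eq_iff_eq_add] at this
  rw [this, q1, q2, show c = -b by linear_combination q3]; module

end CfsgH9.KR
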