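import Cfsg.Agent.H9.OrdCnt
import Cfsg.Agent.H1.PG1

/-! Wielandt's subset count modulo `p ^ 2`. -/

set_option autoImplicit false
set_option linter.unusedSectionVars false

namespace CfsgH9.KU

open Subgroup Cfsg CfsgH1 CfsgH2 MulAction
open scoped Pointwise

theorem dvd_card_orbits {G α : Type*} [Group G] [MulAction G α] [Finite α] (T : α → Prop)
    (hT : ∀ g : G, ∀ x, T x → T (g • x)) {d : ℕ} (hd : ∀ x, T x → d ∣ (stabilizer G x).index) :
    d ∣ Nat.card {x // T x} := by
  refine dvd_card_of_fib (fun x : {x // T x} => (Quotient.mk (orbitRel G α) x.1)) fun b => ?_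
  rw [card_subtype_subtype T fun a => Quotient.mk (orbitRel G α) a = b]
  by_cases h : ∃ x, T x ∧ Quotient.mk (orbitRel G α) x = b
  · obtain ⟨x, hx, rfl⟩ := h
    refine (hd x hx).trans (dvd_of_eq ?_)
    rw [index_stabilizer, ← Nat.card_coe_set_eq]
    refine card_subtype_congr fun a => ⟨fun h => ⟨?_, Quotient.sound h⟩, fun h => Quotient.exact h.2⟩
    obtain ⟨g, rfl⟩ := h
    exact hT g x hx
  · have : IsEmpty {a // T a ∧ Quotient.mk (orbitRel G α) a = b} := ⟨fun a => h ⟨a.1, a.2⟩⟩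
    simp

section
variable {G : Type*} [Group G] [Fintype G] [DecidableEq G]

open Classical in
/-- union of right cosets -/
noncomputable def pre (K : Subgroup G) (T : Finset (G ⧸ K)) : Finset G :=
  Finset.univ.filter fun g => ((g⁻¹ : G) : G ⧸ K) ∈ T

theorem mem_pre {K : Subgroup G} {T : Finset (G ⧸ K)} {g : G} : g ∈ pre K T ↔ ((g⁻¹ : G) : G ⧸ K) ∈ T := by
  simp [pre]

theorem card_pre (K : Subgroup G) (T : Finset (G ⧸ K)) : (pre K T).card = T.card * Nat.card K := by
  rw [← Nat.card_eq_finsetCard, ← Nat.card_eq_finsetCard]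
  refine card_of_fib (fun g : pre K T => (⟨_, mem_pre.1 g.2⟩ : T)) fun ⟨q, hq⟩ => ?_
  obtain ⟨h, rfl⟩ := QuotientGroup.mk_surjective q
  simp only [Subtype.mk.injEq]
  rw [card_subtype_subtype (· ∈ pre K T) fun g => ((g⁻¹ : G) : G ⧸ K) = (h : G ⧸ K)]
  refine (Nat.card_congr (Equiv.ofBijective (fun k : K => (⟨k * h⁻¹, ?_⟩ :
    {g // g ∈ pre K T ∧ ((g⁻¹ : G) : G ⧸ K) = (h : G ⧸ K)})) ⟨fun a b e => ?_, fun ⟨g, h1, h2⟩ => ?_⟩)).symm
  · have : (((k * h⁻¹ : G)⁻¹ : G) : G ⧸ K) = (h : G ⧸ K) := by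
      rw [QuotientGroup.eq]; simpa using k.2
    exact ⟨mem_pre.2 (this ▸ hq), this⟩
  · exact Subtype.ext (by simpa using e)
  · rw [QuotientGroup.eq, inv_inv] at h2
    exact ⟨⟨_, h2⟩, by simp⟩

theorem le_stab_pre (K : Subgroup G) (T : Finset (G ⧸ K)) : K ≤ stabilizer G (pre K T) := fun k hk => by
  rw [mem_stabilizer_finset']
  intro b hb
  rw [mem_pre] at hb ⊢
  have : ((((k • b : G))⁻¹ : G) : G ⧸ K) = ((b⁻¹ : G) : G ⧸ K) := by
    rw [QuotientGroup.eq]; simpa using hk
  rwa [this]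

theorem exists_pre {K : Subgroup G} {S : Finset G} (h : K ≤ stabilizer G S) : ∃ T, pre K T = S := by
  classical
  refine ⟨S.image fun g => ((g⁻¹ : G) : G ⧸ K), Finset.ext fun g => ?_⟩
  rw [mem_pre, Finset.mem_image]
  refine ⟨fun ⟨s, hs, e⟩ => ?_, fun hg => ⟨g, hg, rfl⟩⟩
  rw [eq_comm, QuotientGroup.eq, inv_inv] at e
  simpa using mem_stabilizer_finset'.1 (h e) hs

theorem card_stab_dvd (S : Finset G) : Nat.card (stabilizer G S) ∣ S.card := by
  obtain ⟨T, h⟩ := exists_pre (K := stabilizer G S) le_rfl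
  have := card_pre _ T
  rw [h] at this
  exact this ▸ dvd_mul_left _ _

theorem card_inv (K : Subgroup G) (r : ℕ) :
    Nat.card {S : Finset G // S.card = r * Nat.card K ∧ K ≤ stabilizer G S} = K.index.choose r := by
  classical
  have := Fintype.ofFinite (G ⧸ K)
  rw [index, Nat.card_eq_fintype_card (α := G ⧸ K), ← Fintype.card_finset_len, ← Nat.card_eq_fintype_card]
  refine (Nat.card_congr (Equiv.ofBijective (fun T : {T : Finset (G ⧸ K) // T.card = r} =>
    (⟨pre K T.1, by rw [card_pre, T.2], le_stab_pre K _⟩ :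
      {S : Finset G // S.card = r * Nat.card K ∧ K ≤ stabilizer G S})) ⟨fun a b e => ?_, fun ⟨S, h1, h2⟩ => ?_⟩)).symm
  · refine Subtype.ext (Finset.ext fun q => ?_)
    obtain ⟨g, rfl⟩ := QuotientGroup.mk_surjective q
    have := Finset.ext_iff.1 (congrArg Subtype.val e) g⁻¹
    simpa [mem_pre] using this
  · obtain ⟨T, rfl⟩ := exists_pre h2
    rw [card_pre] at h1
    exact ⟨⟨T, Nat.eq_of_mul_eq_mul_right Nat.card_pos h1⟩, rfl⟩

end

variable {G : Type*} [Group G] [Finite G] {p : ℕ}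

/-- number of subgroups of order `m` -/
noncomputable def nSub (H : Subgroup G) (m : ℕ) : ℕ := Nat.card {K : Subgroup G // K ≤ H ∧ Nat.card K = m}

theorem nSub_top (m : ℕ) : nSub (⊤ : Subgroup G) m = Nat.card {K : Subgroup G // Nat.card K = m} :=
  card_subtype_congr fun x => by simp

open Classical in
theorem nSub_eq [Fintype (Subgroup G)] (H : Subgroup G) (m : ℕ) :
    nSub H m = ∑ K ∈ Finset.univ.filter fun K : Subgroup G => Nat.card K = m, if K ≤ H then 1 else 0 := by
  rw [nSub, Nat.card_eq_fintype_card, Fintype.card_subtype, ← Finset.card_filter, Finset.filter_filter]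
  exact congrArg _ (Finset.filter_congr fun _ _ => and_comm)

theorem nSub_self (H : Subgroup G) : nSub H (Nat.card H) = 1 := by
  rw [nSub, Nat.card_eq_one_iff_exists]
  exact ⟨⟨H, le_rfl, rfl⟩, fun K => Subtype.ext (CfsgH2.eq_of_le_of_card_le K.2.1 K.2.2.ge)⟩

theorem nSub_zero {H : Subgroup G} {m : ℕ} (h : Nat.card H < m) : nSub H m = 0 := by
  have : IsEmpty {K : Subgroup G // K ≤ H ∧ Nat.card K = m} :=
    ⟨fun K => by have := card_le_of_le K.2.1; rw [K.2.2] at this; omega⟩
  simp [nSub]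

open Classical in
theorem wielandt [hp : Fact p.Prime] [Fintype (Subgroup G)] {a n : ℕ} (hG : Nat.card G = n * p ^ (a + 1)) :
    (n * p ^ (a + 1)).choose (p ^ (a + 1)) +
        n * ∑ H ∈ Finset.univ.filter fun H : Subgroup G => Nat.card H = p ^ (a + 1), nSub H (p ^ a) ≡
      nSub (⊤ : Subgroup G) (p ^ a) * (n * p).choose p + n * nSub (⊤ : Subgroup G) (p ^ (a + 1)) [MOD n * p ^ 2] := by
  have := Fintype.ofFinite G
  have p0 := hp.out.pos
  have p1 := hp.out.one_lt
  set X := Finset.univ.filter fun S : Finset G => S.card = p ^ (a + 1) with hX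
  set 𝓗 := Finset.univ.filter fun H : Subgroup G => Nat.card H = p ^ (a + 1) with h𝓗
  set 𝓚 := Finset.univ.filter fun H : Subgroup G => Nat.card H = p ^ a with h𝓚
  have cnt : ∀ (K : Subgroup G) (r : ℕ), r * Nat.card K = p ^ (a + 1) →
      (∑ S ∈ X, if K ≤ stabilizer G S then 1 else 0) = K.index.choose r := fun K r h => by
    rw [← card_inv, h, Nat.card_eq_fintype_card, Fintype.card_subtype, ← Finset.card_filter, hX, Finset.filter_filter]
  have iH : ∀ H ∈ 𝓗, H.index = n := fun H hH => by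
    have := H.index_mul_card
    rw [(Finset.mem_filter.1 hH).2, hG] at this
    exact Nat.eq_of_mul_eq_mul_right (pow_pos p0 _) this
  have iK : ∀ H ∈ 𝓚, H.index = n * p := fun H hH => by
    have := H.index_mul_card
    rw [(Finset.mem_filter.1 hH).2, hG, pow_succ', ← mul_assoc] at this
    exact Nat.eq_of_mul_eq_mul_right (pow_pos p0 _) this
  have cH : ∀ H ∈ 𝓗, (∑ S ∈ X, if H ≤ stabilizer G S then 1 else 0) = n := fun H hH => by
    rw [cnt H 1 (by rw [(Finset.mem_filter.1 hH).2, one_mul]), iH H hH, Nat.choose_one_right]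
  have cK : ∀ H ∈ 𝓚, (∑ S ∈ X, if H ≤ stabilizer G S then 1 else 0) = (n * p).choose p := fun H hH => by
    rw [cnt H p (by rw [(Finset.mem_filter.1 hH).2, pow_succ']), iK H hH]
  have key : ∀ S ∈ X, 1 + ∑ H ∈ 𝓗, (if H ≤ stabilizer G S then 1 else 0) * nSub H (p ^ a) =
      (∑ K ∈ 𝓚, if K ≤ stabilizer G S then 1 else 0) + (∑ H ∈ 𝓗, if H ≤ stabilizer G S then 1 else 0) +
        if Nat.card (stabilizer G S) < p ^ a then 1 else 0 := fun S hS => by
    have d := card_stab_dvd S
    rw [(Finset.mem_filter.1 hS).2, Nat.dvd_prime_pow hp.out] at d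
    obtain ⟨j, hj, e⟩ := d
    rw [h𝓚, ← nSub_eq, h𝓗, ← nSub_eq]
    have lt : p ^ a < p ^ (a + 1) := Nat.pow_lt_pow_right p1 (by omega)
    rcases hj.eq_or_lt with rfl | hj
    · rw [Finset.sum_eq_single_of_mem (stabilizer G S) (Finset.mem_filter.2 ⟨Finset.mem_univ _, e⟩), if_pos le_rfl, if_neg (by omega), ← e, nSub_self]
      · omega
      · intro H hH ne
        rw [if_neg, zero_mul]
        exact fun h => ne (CfsgH2.eq_of_le_of_card_le h (by rw [e, (Finset.mem_filter.1 hH).2]))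
    · have : p ^ j ≤ p ^ a := Nat.pow_le_pow_right p0 (by omega)
      rw [Finset.sum_eq_zero, nSub_zero (m := p ^ (a + 1)) (by omega)]
      · rcases this.eq_or_lt with h | h
        · rw [if_neg (by omega), ← h, ← e, nSub_self]
        · rw [if_pos (by omega), nSub_zero (m := p ^ a) (by omega)]; rfl
      · intro H hH
        rw [if_neg, zero_mul]
        intro h
        have := card_le_of_le h
        rw [(Finset.mem_filter.1 hH).2] at this
        omega
  have tot := Finset.sum_congr rfl key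
  simp only [Finset.sum_add_distrib] at tot
  have cH' : ∀ H ∈ 𝓗, (∑ S ∈ X, (if H ≤ stabilizer G S then 1 else 0) * nSub H (p ^ a)) = n * nSub H (p ^ a) :=
    fun H hH => by rw [← Finset.sum_mul, cH H hH]
  rw [Finset.sum_comm, Finset.sum_comm (s := X), Finset.sum_comm (s := X), Finset.sum_congr rfl cH,
    Finset.sum_congr rfl cK, Finset.sum_congr rfl cH', ← Finset.mul_sum, ← Finset.card_filter] at tot
  simp only [Finset.sum_const, smul_eq_mul, mul_one] at tot
  have e1 : X.card = (n * p ^ (a + 1)).choose (p ^ (a + 1)) := by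
    rw [← hG, Nat.card_eq_fintype_card, ← Fintype.card_finset_len, Fintype.card_subtype]
  have e2 : 𝓚.card = nSub (⊤ : Subgroup G) (p ^ a) := by
    rw [nSub_top, Nat.card_eq_fintype_card, Fintype.card_subtype]
  have e3 : 𝓗.card = nSub (⊤ : Subgroup G) (p ^ (a + 1)) := by
    rw [nSub_top, Nat.card_eq_fintype_card, Fintype.card_subtype]
  have dv : n * p ^ 2 ∣ (X.filter fun S => Nat.card (stabilizer G S) < p ^ a).card := by
    rw [hX, Finset.filter_filter, ← Fintype.card_subtype, ← Nat.card_eq_fintype_card]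
    refine dvd_card_orbits (G := G) _ (fun g S hS => ⟨by rw [Finset.card_smul_finset, hS.1], by
      rw [stabilizer_smul_eq_stabilizer_map_conj, card_map_of_injective (MulAut.conj g).injective]
      exact hS.2⟩) fun S hS => ?_
    · have d := card_stab_dvd S
      rw [hS.1, Nat.dvd_prime_pow hp.out] at d
      obtain ⟨j, -, e⟩ := d
      have hj : j < a := (Nat.pow_lt_pow_iff_right p1).1 (e ▸ hS.2)
      obtain ⟨t, rfl⟩ := Nat.exists_eq_add_of_lt hj
      have := (stabilizer G S).index_mul_card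
      rw [e, hG] at this
      exact ⟨p ^ t, Nat.eq_of_mul_eq_mul_right (pow_pos p0 j) (by rw [this]; ring)⟩
  rw [e1, e2, e3, mul_comm _ n] at tot
  rw [tot]
  exact ((Nat.modEq_iff_dvd' (Nat.le_add_right _ _)).2 (by simpa using dv)).symm

theorem nSub_sub (H : Subgroup G) (m : ℕ) : nSub H m = Nat.card {K : Subgroup H // Nat.card K = m} :=
  (Nat.card_congr (Equiv.ofBijective (fun K : {K : Subgroup H // Nat.card K = m} =>
    (⟨K.1.map H.subtype, map_subtype_le _, by rw [CfsgH1.card_map_subtype, K.2]⟩ :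
      {K : Subgroup G // K ≤ H ∧ Nat.card K = m})) ⟨fun a b e => Subtype.ext
        (map_injective H.subtype_injective (congrArg Subtype.val e)), fun ⟨K, h1, h2⟩ =>
          ⟨⟨K.subgroupOf H, by rw [← h2]; exact Nat.card_congr (subgroupOfEquivOfLe h1).toEquiv⟩,
            Subtype.ext (map_subgroupOf_eq_of_le h1)⟩⟩)).symm

theorem nSub_cyclic {H : Subgroup G} (h : IsCyclic H) {m : ℕ} (hm : m ∣ Nat.card H) : nSub H m = 1 := by
  obtain ⟨x, rfl⟩ := isCyclic_iff_zpowers.1 h
  rw [Nat.card_zpowers] at hm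
  obtain ⟨k, hk⟩ := hm
  have k0 : k ≠ 0 := fun e => (orderOf_pos x).ne' (by rw [hk, e, mul_zero])
  have c : Nat.card (zpowers (x ^ k)) = m := by
    rw [Nat.card_zpowers, orderOf_pow' _ k0, hk, Nat.gcd_mul_left_left, Nat.mul_div_cancel _ (Nat.pos_of_ne_zero k0)]
  have le : zpowers (x ^ k) ≤ zpowers x := zpowers_le.2 (pow_mem (mem_zpowers x) k)
  rw [nSub, Nat.card_eq_one_iff_exists]
  exact ⟨⟨_, le, c⟩, fun K => Subtype.ext (CfsgFT.eq_of_card_eq_of_cyclic h K.2.1 le (K.2.2.trans c.symm))⟩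

theorem card_index_prime [hp : Fact p.Prime] (hG : IsPGroup p G) (hn : ¬ IsCyclic G) :
    Nat.card {K : Subgroup G // K.index = p} ≡ 1 + p [MOD p ^ 2] := by
  have sj : Function.Surjective (Abelianization.of (G := G)) := QuotientGroup.mk_surjective
  have e1 : Nat.card {K : Subgroup (Abelianization G) // K.index = p} = Nat.card {K : Subgroup G // K.index = p} :=
    Nat.card_congr (Equiv.ofBijective (fun K => ⟨K.1.comap Abelianization.of, by
      rw [index_comap_of_surjective _ sj, K.2]⟩) ⟨fun a b e => Subtype.ext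
        (comap_injective sj (congrArg Subtype.val e)), fun ⟨M, hM⟩ => by
      have : (M.map Abelianization.of).comap Abelianization.of = M := by
        rw [comap_map_eq, Abelianization.ker_of, sup_eq_left]
        exact (commutator_le_frattini hG).trans (frattini_le_coatom (isCoatom_of_index_prime hM))
      exact ⟨⟨M.map Abelianization.of, by rw [← index_comap_of_surjective _ sj, this, hM]⟩, Subtype.ext this⟩⟩)
  set A := Abelianization G
  have e2 : Nat.card {K : Subgroup A // K.index = p} = Nat.card {K : Subgroup (A →* ℂˣ) // Nat.card K = p} :=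
    Nat.card_congr (((CommGroup.subgroupOrderIsoSubgroupMonoidHom A ℂ).toEquiv.trans OrderDual.ofDual).subtypeEquiv
      fun K => by rw [index, ← CommGroup.card_subgroupOrderIsoSubgroupMonoidHom ℂ K]; rfl)
  obtain ⟨e⟩ := CommGroup.monoidHom_mulEquiv_of_hasEnoughRootsOfUnity A ℂ
  have : Finite (A →* ℂˣ) := Finite.of_equiv _ e.symm.toEquiv
  have pD : IsPGroup p (⊤ : Subgroup (A →* ℂˣ)) := ((hG.of_surjective _ sj).of_equiv e.symm).to_subgroup _
  have ea := omegaOne_ea_of_comm (p := p) (H := (⊤ : Subgroup (A →* ℂˣ))) inferInstance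
  have e3 := card_lines_ea ea
  rw [card_subtype_congr (Q := fun K : Subgroup (A →* ℂˣ) => Nat.card K = p) fun K => ⟨fun h => h.2, fun h =>
    ⟨fun x hx => mem_omegaOne (mem_top x) (by rw [← h]; exact congrArg Subtype.val (pow_card_eq_one' (x := (⟨x, hx⟩ : K)))), h⟩⟩, ← e2, e1] at e3
  have lt : p < Nat.card (omegaOne p (⊤ : Subgroup (A →* ℂˣ))) := by
    refine not_le.1 fun h => hn ?_
    have := isCyclic_of_comm_of_omegaOne pD inferInstance h
    have : IsCyclic A := isCyclic_of_surjective (e.toMonoidHom.comp (⊤ : Subgroup (A →* ℂˣ)).subtype)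
      (e.surjective.comp fun x => ⟨⟨x, mem_top x⟩, rfl⟩)
    obtain ⟨y, hy⟩ := IsCyclic.exists_generator (α := A)
    obtain ⟨x, rfl⟩ := sj y
    have t : zpowers x = ⊤ := by
      refine eq_top_of_sup_le_frattini (commutator_le_frattini hG) ?_
      rw [← Abelianization.ker_of, ← comap_map_eq, MonoidHom.map_zpowers, (eq_top_iff' _).2 hy, comap_top]
    exact ⟨⟨x, fun g => (eq_top_iff' _).1 t g⟩⟩
  obtain ⟨j, hj⟩ := IsPGroup.iff_card.1 (pD.to_le (K := ⊤) (H := omegaOne p ⊤) le_top)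
  rw [hj] at lt e3
  have j2 : 2 ≤ j := by
    by_contra h
    have : p ^ j ≤ p ^ 1 := Nat.pow_le_pow_right hp.out.pos (by omega)
    simp at this; omega
  obtain ⟨q, rfl⟩ : ∃ q, p = q + 1 := ⟨p - 1, by have := hp.out.pos; omega⟩
  obtain ⟨t, rfl⟩ := Nat.exists_eq_add_of_le j2
  rw [Nat.add_sub_cancel] at e3
  refine Nat.ModEq.cancel_right_of_coprime (c := q) (Nat.Coprime.pow_left 2 (by simp)) ?_
  refine Nat.ModEq.add_right_cancel' 1 ?_
  rw [e3, show (1 + (q + 1)) * q + 1 = (q + 1) ^ 2 by ring, pow_add]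
  exact (Nat.modEq_zero_iff_dvd.2 (dvd_mul_right _ _)).trans (Nat.modEq_zero_iff_dvd.2 dvd_rfl).symm

theorem nSub_noncyclic [hp : Fact p.Prime] {H : Subgroup G} {a : ℕ} (h : Nat.card H = p ^ (a + 1)) (hn : ¬ IsCyclic H) :
    nSub H (p ^ a) ≡ 1 + p [MOD p ^ 2] := by
  rw [nSub_sub, card_subtype_congr (Q := fun K : Subgroup H => K.index = p) fun K => ?_]
  · exact card_index_prime (IsPGroup.of_card h) hn
  · have := K.index_mul_card
    rw [h, pow_succ'] at this
    refine ⟨fun e => Nat.eq_of_mul_eq_mul_right (pow_pos hp.out.pos a) (by rw [← this, e]), fun e => ?_⟩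
    rw [e] at this
    exact Nat.eq_of_mul_eq_mul_left hp.out.pos this

/-- number of noncyclic subgroups of order `m` -/
noncomputable def nNC (G : Type*) [Group G] (m : ℕ) : ℕ := Nat.card {C : Subgroup G // ¬ IsCyclic C ∧ Nat.card C = m}

open Classical in
theorem nCyc_add (m : ℕ) : nCyc (⊤ : Subgroup G) m + nNC G m = nSub (⊤ : Subgroup G) m := by
  have := Fintype.ofFinite (Subgroup G)
  simp only [nCyc, nNC, nSub, Nat.card_eq_fintype_card (α := {_C : Subgroup G // _}), Fintype.card_subtype, le_top,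
    true_and]
  rw [← Finset.card_filter_add_card_filter_not (s := Finset.univ.filter fun K : Subgroup G => Nat.card K = m)
    (fun K => IsCyclic K), Finset.filter_filter, Finset.filter_filter]
  simp only [and_comm]

open Classical in
theorem sum_nSub [hp : Fact p.Prime] [Fintype (Subgroup G)] (a : ℕ) :
    ∑ H ∈ Finset.univ.filter fun H : Subgroup G => Nat.card H = p ^ (a + 1), nSub H (p ^ a) ≡
      nSub (⊤ : Subgroup G) (p ^ (a + 1)) + p * nNC G (p ^ (a + 1)) [MOD p ^ 2] := by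
  have : ∀ H ∈ Finset.univ.filter fun H : Subgroup G => Nat.card H = p ^ (a + 1),
      nSub H (p ^ a) ≡ 1 + p * if ¬ IsCyclic H then 1 else 0 [MOD p ^ 2] := fun H hH => by
    have h := (Finset.mem_filter.1 hH).2
    by_cases c : IsCyclic H
    · rw [nSub_cyclic c (h ▸ pow_dvd_pow p (by omega)), if_neg (not_not.2 c)]; rfl
    · rw [if_pos c, mul_one]; exact nSub_noncyclic h c
  refine (Nat.ModEq.sum this).trans (congrArg (· % p ^ 2) ?_)
  rw [Finset.sum_add_distrib, ← Finset.mul_sum, ← Finset.card_filter, Finset.filter_filter, nSub_top, nNC,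
    Nat.card_eq_fintype_card (α := {_C : Subgroup G // _}), Nat.card_eq_fintype_card (α := {_C : Subgroup G // _}),
    Fintype.card_subtype, Fintype.card_subtype]
  simp only [and_comm, Finset.sum_const, smul_eq_mul, mul_one]

theorem cong_aux [hp : Fact p.Prime] {a n : ℕ} (hG : Nat.card G = n * p ^ (a + 1)) :
    (n * p ^ (a + 1)).choose (p ^ (a + 1)) + n * (p * nNC G (p ^ (a + 1))) ≡
      n * (nSub (⊤ : Subgroup G) (p ^ a) * (n * p - 1).choose (p - 1)) [MOD n * p ^ 2] := by
  have := Fintype.ofFinite (Subgroup G)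
  have h := wielandt hG
  have n0 : 0 < n := Nat.pos_of_mul_pos_right (hG ▸ Nat.card_pos)
  have e : (n * p).choose p = n * (n * p - 1).choose (p - 1) := by
    have := Nat.add_one_mul_choose_eq (n * p - 1) (p - 1)
    rw [Nat.sub_add_cancel (Nat.mul_pos n0 hp.out.pos), Nat.sub_add_cancel hp.out.pos] at this
    exact Nat.eq_of_mul_eq_mul_right hp.out.pos (by rw [← this]; ring)
  have h2 := ((sum_nSub (G := G) (p := p) a).mul_left' (c := n)).add_left ((n * p ^ (a + 1)).choose (p ^ (a + 1)))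
  have h3 := h2.symm.trans h
  rw [e, mul_add, add_comm (n * _) (n * _), ← add_assoc, mul_left_comm _ n] at h3
  exact h3.add_right_cancel' _

theorem nSub_modEq [hp : Fact p.Prime] {a : ℕ} (h : p ^ (a + 1) ∣ Nat.card G) :
    nSub (⊤ : Subgroup G) (p ^ a) ≡ 1 + p * nNC G (p ^ (a + 1)) [MOD p ^ 2] := by
  obtain ⟨n, hG⟩ := h
  rw [mul_comm] at hG
  have n0 : 0 < n := Nat.pos_of_mul_pos_right (hG ▸ Nat.card_pos)
  have : NeZero (n * p ^ (a + 1)) := ⟨hG ▸ Nat.card_pos.ne'⟩
  have hZ : Nat.card (Multiplicative (ZMod (n * p ^ (a + 1)))) = n * p ^ (a + 1) := by simp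
  have h1 := cong_aux hG
  have h2 := cong_aux hZ
  have : IsEmpty {C : Subgroup (Multiplicative (ZMod (n * p ^ (a + 1)))) // ¬ IsCyclic C ∧ Nat.card C = p ^ (a + 1)} :=
    ⟨fun C => C.2.1 inferInstance⟩
  rw [nSub_cyclic inferInstance (by rw [card_top, hZ]; exact (pow_dvd_pow p (by omega)).mul_left _), nNC,
    Nat.card_of_isEmpty, mul_zero, mul_zero, add_zero, one_mul] at h2
  have h3 := (h2.add_right _).symm.trans h1
  rw [← mul_add] at h3
  have h4 := Nat.ModEq.mul_left_cancel' n0.ne' h3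
  set B := (n * p - 1).choose (p - 1)
  have hB : B ≡ 1 [MOD p] := by
    refine (Choose.choose_modEq_choose_mod_mul_choose_div_nat (p := p)).trans ?_
    have p0 := hp.out.pos
    obtain ⟨k, rfl⟩ : ∃ k, n = k + 1 := ⟨n - 1, by omega⟩
    rw [show (k + 1) * p - 1 = p - 1 + p * k by rw [add_mul, one_mul, mul_comm]; omega, Nat.add_mul_mod_self_left,
      Nat.choose_self, Nat.div_eq_of_lt (show p - 1 < p by omega), Nat.choose_zero_right]
  have hs : nSub (⊤ : Subgroup G) (p ^ a) ≡ 1 [MOD p] := by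
    rw [nSub_top]; exact card_psub_modEq (hG ▸ (pow_dvd_pow p (by omega)).mul_left _)
  rw [← Int.natCast_modEq_iff] at hB hs h4 ⊢
  obtain ⟨u, hu⟩ := hB.symm.dvd
  obtain ⟨v, hv⟩ := hs.symm.dvd
  obtain ⟨w, hw⟩ := h4.dvd
  push_cast at *
  refine Int.modEq_iff_dvd.2 ⟨u * v - w, ?_⟩
  rw [sub_eq_iff_eq_add] at hu hv
  rw [hu, hv] at hw
  rw [hv]
  linear_combination -hw

theorem nNC_modEq [hp : Fact p.Prime] {s : ℕ} (h : p ^ (s + 1) ∣ Nat.card G)
    (hd : p ^ (s + 1) ∣ Nat.card {x : G // orderOf x = p ^ (s + 1)}) : nNC G (p ^ (s + 1)) ≡ 1 [MOD p] := by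
  rw [← nOrd_top, nOrd_eq, Nat.totient_prime_pow_succ hp.out, pow_succ', mul_left_comm, mul_comm p,
    Nat.mul_dvd_mul_iff_left (pow_pos hp.out.pos s)] at hd
  have h1 : p ∣ nCyc (⊤ : Subgroup G) (p ^ (s + 1)) := by
    rw [pow_succ]
    exact ((Nat.Prime.dvd_mul hp.out).1 hd).resolve_right
      (Nat.not_dvd_of_pos_of_lt (by have := hp.out.one_lt; omega) (by have := hp.out.one_lt; omega))
  have h2 := card_psub_modEq h
  rw [← nSub_top, ← nCyc_add] at h2
  simpa using ((Nat.modEq_zero_iff_dvd.2 h1).add_right _).symm.trans h2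

theorem nSub_modEq' [hp : Fact p.Prime] {s : ℕ} (h : p ^ (s + 1) ∣ Nat.card G)
    (hd : p ^ (s + 1) ∣ Nat.card {x : G // orderOf x = p ^ (s + 1)}) :
    Nat.card {K : Subgroup G // Nat.card K = p ^ s} ≡ 1 + p [MOD p ^ 2] := by
  rw [← nSub_top]
  refine (nSub_modEq h).trans (Nat.ModEq.add_left 1 ?_)
  simpa [sq] using (nNC_modEq h hd).mul_left' (c := p)

end CfsgH9.KU
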