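import Cfsg.Agent.H9.KU1
import Cfsg.Agent.H2.CycSCN

/-! Elements of order `2 ^ j` in a noncyclic `2`-group not of maximal class. -/

set_option autoImplicit false
set_option linter.unusedSectionVars false

namespace CfsgH9.KU

open Subgroup Cfsg CfsgH1 CfsgH2
open scoped commutatorElement

variable {G : Type*} [Group G] [Finite G]

theorem card_quot (N : Subgroup G) (T : G ⧸ N → Prop) :
    Nat.card {x : G // T x} = Nat.card {q // T q} * Nat.card N := by
  refine card_of_fib (fun x : {x : G // T x} => (⟨x.1, x.2⟩ : {q // T q})) fun ⟨q, hq⟩ => ?_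
  obtain ⟨a, rfl⟩ := QuotientGroup.mk_surjective q
  simp only [Subtype.mk.injEq]
  rw [card_subtype_subtype (fun x : G => T x) fun g => (g : G ⧸ N) = (a : G ⧸ N)]
  refine (Nat.card_congr (Equiv.ofBijective (fun k : N => (⟨a * k, ?_⟩ :
    {g : G // T g ∧ (g : G ⧸ N) = (a : G ⧸ N)})) ⟨fun x y e => ?_, fun ⟨g, h1, h2⟩ => ?_⟩)).symm
  · have : ((a * k : G) : G ⧸ N) = (a : G ⧸ N) := QuotientGroup.mk_mul_of_mem a k.2
    exact ⟨this ▸ hq, this⟩
  · exact Subtype.ext (by simpa using e)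
  · exact ⟨⟨_, QuotientGroup.eq.1 h2.symm⟩, by simp⟩

theorem dvd_card_gen (N : Subgroup G) [N.Normal] (T : G → Prop) {n : ℕ} (h1 : ∀ a, T a → orderOf (a : G ⧸ N) = n)
    (h2 : ∀ a, T a → ∀ i : ℕ, n.Coprime i → ∀ v ∈ N, T (a ^ i * v)) : n.totient * Nat.card N ∣ Nat.card {x // T x} := by
  refine dvd_card_of_fiber (fun x : {x // T x} => zpowers (x.1 : G ⧸ N)) fun ⟨a, ha⟩ => dvd_of_eq ?_
  rw [card_subtype_subtype T fun x => zpowers (x : G ⧸ N) = zpowers (a : G ⧸ N),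
    ← nOrd_cyclic (H := zpowers (a : G ⧸ N)) inferInstance (by rw [Nat.card_zpowers, h1 a ha]), nOrd, ← card_quot]
  refine card_subtype_congr fun x => ⟨fun ⟨k1, k2⟩ => ⟨?_, CfsgH2.eq_of_le_of_card_le (zpowers_le.2 k1)
    (by rw [Nat.card_zpowers, Nat.card_zpowers, k2, h1 a ha])⟩, fun ⟨k1, k2⟩ => ⟨k2 ▸ mem_zpowers _, h1 x k1⟩⟩
  obtain ⟨i, hi⟩ := mem_powers_iff_mem_zpowers.2 k1
  have hi' : (a : G ⧸ N) ^ i = x := hi
  have co : n.Coprime i := by
    rw [← hi', orderOf_pow, h1 a ha] at k2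
    have n0 : 0 < n := h1 a ha ▸ orderOf_pos _
    exact (Nat.div_eq_self.1 k2).resolve_left n0.ne'
  rw [← QuotientGroup.mk_pow, QuotientGroup.eq] at hi'
  simpa using h2 a ha i co _ hi'

theorem card_inv_modEq (T : G → Prop) (h : ∀ x, T x → T x⁻¹) :
    Nat.card {x // T x} ≡ Nat.card {x // T x ∧ x * x = 1} [MOD 2] := by
  classical
  have := Fintype.ofFinite {x // T x}
  have := Equiv.Perm.card_fixedPoints_modEq (p := 2) (n := 1)
    (f := (fun x : {x // T x} => (⟨x.1⁻¹, h _ x.2⟩ : {x // T x}) : Function.End {x // T x}))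
    (funext fun x => Subtype.ext (inv_inv _))
  rw [← Nat.card_eq_fintype_card, ← Nat.card_eq_fintype_card] at this
  refine this.trans (congrArg (· % 2) ?_)
  rw [← card_subtype_subtype T fun x => x * x = 1]
  exact card_subtype_congr fun x => Subtype.ext_iff.trans (inv_eq_iff_mul_eq_one)

theorem exists_four (hG : IsPGroup 2 G) (hn : ¬ IsCyclic G) (hm : ¬ IsMC (⊤ : Subgroup G)) :
    ∃ E : Subgroup G, E.Normal ∧ Nat.card E = 2 ^ 2 ∧ ∀ x ∈ E, x ^ 2 = 1 := by
  have k : ∀ E : Subgroup G, E.Normal → (∀ x ∈ E, x ^ 2 = 1) → 2 ^ 2 ≤ Nat.card E →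
      ∃ E : Subgroup G, E.Normal ∧ Nat.card E = 2 ^ 2 ∧ ∀ x ∈ E, x ^ 2 = 1 := fun E b c d => by
    obtain ⟨W, h1, h2, h3⟩ := exists_normal_card' (hG.to_subgroup ⊤) le_top le_normalizer_of_normal d
    exact ⟨W, normalizer_eq_top_iff.1 (top_le_iff.1 h2), h3, fun x hx => c x (h1 hx)⟩
  obtain ⟨A, -, -, h1, h2, h3⟩ := exists_scn (hG.to_subgroup ⊤) le_rfl le_normalizer (A₀ := ⊥) bot_le
    (by rw [normalizer_eq_top]) inferInstance
  have : A.Normal := normalizer_eq_top_iff.1 (top_le_iff.1 h1)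
  by_cases c : UniqInv A
  · obtain ⟨u, rfl⟩ := isCyclic_iff_zpowers.1 (isCyclic_of_comm_of_uniqInv (hG.to_subgroup A) h2 c)
    rw [top_inf_eq, centralizer_zpowers'] at h3
    by_cases hna : IsMulCommutative G
    · exact absurd ⟨⟨u, fun g => h3 (mem_centralizer_singleton_iff.2 (hna.is_comm.comm _ _))⟩⟩ hn
    rcases cyc_scn hG hna u (le_antisymm h3 (zpowers_le.2 (mem_centralizer_singleton_iff.2 rfl))) with
      ⟨-, -, h⟩ | ⟨-, h4, h5, h6⟩
    · exact absurd h hm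
    · exact k _ inferInstance h4.2 h5.ge
  · simp only [UniqInv, not_forall] at c
    obtain ⟨x, hx, y, hy, x2, y2, c⟩ := c
    have kl := isKleinFour_closure x2 y2 c (mul_comm_of_isMulCommutative h2 hx hy)
    exact k (omegaOne 2 A) (normalizer_eq_top_iff.1 (top_le_iff.1 (h1.trans
      (normalizer_le_normalizer_omegaOne A)))) (omegaOne_ea_of_comm h2).2 ((isKleinFour_iff.1 kl).1.ge.trans
        (card_le_of_le ((closure_le _).2 (Set.pair_subset (mem_omegaOne hx (x2 ▸ pow_orderOf_eq_one x))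
          (mem_omegaOne hy (y2 ▸ pow_orderOf_eq_one y))))))

theorem dvd_nOrd_two (hG : IsPGroup 2 G) {E : Subgroup G} [E.Normal] (hc : Nat.card E = 2 ^ 2)
    (he : ∀ x ∈ E, x ^ 2 = 1) (hC : ¬ centralizer (E : Set G) ≤ E) (s : ℕ) :
    2 ^ (s + 2) ∣ Nat.card {x : G // orderOf x = 2 ^ (s + 2)} := by
  classical
  obtain ⟨z, zE, z1, z2, zc⟩ := exists_central_of_ne_bot (hG.to_subgroup ⊤) le_top (N := E) le_normalizer_of_normal
    (fun e => by simp [e] at hc)
  have zc' : ∀ g, Commute z g := fun g => (mem_centralizer_iff.1 zc g trivial).symm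
  have oz : orderOf z = 2 := orderOf_eq_prime z2 z1
  have mz : ∀ w ∈ zpowers z, w = 1 ∨ w = z := fun w hw => by
    rw [mem_zpowers_iff_mem_range_orderOf, oz] at hw
    simpa [Finset.range_add_one, or_comm] using hw
  have nz : (zpowers z).Normal := ⟨fun w hw g => by
    rcases mz w hw with rfl | rfl
    · simp
    · rw [← (zc' g).eq]; simp⟩
  have cm : ⁅E, (⊤ : Subgroup G)⁆ ≤ zpowers z := commutator_le_of_card_succ (hG.to_subgroup ⊤) le_top
    le_normalizer_of_normal le_normalizer_of_normal (zpowers_le.2 zE) (by rw [hc, Nat.card_zpowers, oz]; rfl)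
  have Ec : E ≤ centralizer (E : Set G) := le_centralizer_iff_isMulCommutative.2
    (isMulCommutative_of_card_le_sq (hG.to_subgroup E) hc.le)
  have vi : ∀ v ∈ E, v⁻¹ = v := fun v hv => inv_eq_of_mul_eq_one_right (sq v ▸ he v hv)
  have sqr : ∀ y : G, ∀ v ∈ E, (y * v) ^ 2 = y ^ 2 ∧ Commute y v ∨ (y * v) ^ 2 = y ^ 2 * z ∧ ¬ Commute y v := by
    intro y v hv
    have h : ⁅y⁻¹, v⁆ ∈ zpowers z := cm (commutator_comm_le _ _ (commutator_mem_commutator (mem_top _) hv))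
    have e : (y * v) ^ 2 = y ^ 2 * ⁅y⁻¹, v⁆ := by rw [commutatorElement_def, vi v hv]; simp [sq, mul_assoc]
    rcases mz _ h with h | h
    · exact Or.inl ⟨by rw [e, h, mul_one], by simpa using commutatorElement_eq_one_iff_commute.1 h⟩
    · exact Or.inr ⟨by rw [e, h], fun c => z1 (h ▸ commutatorElement_eq_one_iff_commute.2 c.inv_left)⟩
  have odd : ∀ (t : G) (i k : ℕ), t ^ 2 = 1 → (2 ^ (k + 1)).Coprime i → t ^ i = t := fun t i k ht hi => by
    obtain ⟨j, rfl⟩ : Odd i := Nat.coprime_two_left.1 (Nat.Coprime.coprime_dvd_left (dvd_pow_self 2 (by omega)) hi)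
    rw [pow_succ, pow_mul, ht, one_pow, one_mul]
  have zp : ∀ k, z ^ 2 ^ (k + 1) = 1 := fun k => by rw [pow_succ', pow_mul, z2, one_pow]
  have ord : ∀ x : G, orderOf x = 2 ^ (s + 2) ↔ x ^ 2 ^ (s + 1) ≠ 1 ∧ (x ^ 2 ^ (s + 1)) ^ 2 = 1 := fun x => by
    rw [← pow_mul, ← pow_succ]
    refine ⟨fun h => ⟨fun k => ?_, h ▸ pow_orderOf_eq_one x⟩, fun h => orderOf_eq_prime_pow h.1 h.2⟩
    rw [← orderOf_dvd_iff_pow_eq_one, h, Nat.pow_dvd_pow_iff_le_right one_lt_two] at k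
    omega
  have hA : 2 ^ (s + 2) ∣ Nat.card {x : G // orderOf x = 2 ^ (s + 2) ∧ ¬ x ^ 2 ^ (s + 1) = z} := by
    have := dvd_card_gen (zpowers z) (fun x => orderOf x = 2 ^ (s + 2) ∧ ¬ x ^ 2 ^ (s + 1) = z) (n := 2 ^ (s + 2))
      (fun a ha => orderOf_eq_prime_pow (fun k => by
        rw [← QuotientGroup.mk_pow, QuotientGroup.eq_one_iff] at k
        exact (mz _ k).elim ((ord a).1 ha.1).1 ha.2)
        (by rw [← QuotientGroup.mk_pow, ← ha.1, pow_orderOf_eq_one, QuotientGroup.mk_one])) fun a ha i hi v hv => by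
      have e : (a ^ i * v) ^ 2 ^ (s + 1) = a ^ 2 ^ (s + 1) := by
        have : (a ^ i) ^ 2 ^ (s + 1) = a ^ 2 ^ (s + 1) := by
          rw [← pow_mul, mul_comm, pow_mul, odd _ i _ ((ord a).1 ha.1).2 hi]
        rcases mz v hv with rfl | rfl
        · rwa [mul_one]
        · rw [(zc' _).symm.mul_pow, zp, mul_one, this]
      rw [ord, e, ← ord]
      exact ha
    rwa [Nat.totient_prime_pow_succ Nat.prime_two, Nat.card_zpowers, oz, Nat.add_one_sub_one, mul_one, ← pow_succ] at this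
  have hB : 2 ^ (s + 2) ∣ Nat.card {x : G // x ^ 2 ^ (s + 1) = z ∧ (s ≠ 0 ∨ x ∈ centralizer (E : Set G))} := by
    have := dvd_card_gen E (fun x => x ^ 2 ^ (s + 1) = z ∧ (s ≠ 0 ∨ x ∈ centralizer (E : Set G))) (n := 2 ^ (s + 1))
      (fun a ha => orderOf_eq_prime_pow (fun k => by
        rw [← QuotientGroup.mk_pow, QuotientGroup.eq_one_iff] at k
        exact z1 (by rw [← ha.1, pow_succ, pow_mul, he _ k]))
        (by rw [← QuotientGroup.mk_pow, ha.1, QuotientGroup.eq_one_iff]; exact zE)) fun a ha i hi v hv => by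
      refine ⟨?_, ha.2.imp_right fun h => mul_mem (pow_mem h i) (Ec hv)⟩
      have : ((a ^ i) ^ 2) ^ 2 ^ s = z := by
        rw [← pow_mul, ← pow_succ', ← pow_mul, mul_comm, pow_mul, ha.1, odd _ i _ z2 hi]
      rw [pow_succ', pow_mul]
      rcases sqr (a ^ i) v hv with h | h
      · rw [h.1, this]
      · obtain ⟨t, rfl⟩ := Nat.exists_eq_succ_of_ne_zero (ha.2.resolve_right fun k =>
          h.2 (mem_centralizer_iff.1 (pow_mem k i) v hv).symm)
        rw [h.1, (zc' _).symm.mul_pow, this, zp, mul_one]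
    rwa [Nat.totient_prime_pow_succ Nat.prime_two, hc, Nat.add_one_sub_one, mul_one, ← pow_add] at this
  have hD : 2 ^ (s + 2) ∣ Nat.card {x : G // x ^ 2 ^ (s + 1) = z ∧ ¬ (s ≠ 0 ∨ x ∈ centralizer (E : Set G))} := by
    rcases s with _ | s
    swap
    · have : IsEmpty {x : G // x ^ 2 ^ (s + 1 + 1) = z ∧ ¬ (s + 1 ≠ 0 ∨ x ∈ centralizer (E : Set G))} :=
        ⟨fun x => x.2.2 (Or.inl s.succ_ne_zero)⟩
      simp
    simp only [ne_eq, not_true_eq_false, false_or, zero_add, pow_one]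
    set M := centralizer (E : Set G)
    obtain ⟨e, eE, ez⟩ : ∃ e ∈ E, e ∉ zpowers z := SetLike.not_le_iff_exists.1 fun h => by
      have := card_le_of_le h
      rw [hc, Nat.card_zpowers, oz] at this
      omega
    have nc : ∀ y, y ∉ M → ∀ v ∈ E, Commute y v → v ∈ zpowers z := fun y hy v hv c => by
      by_contra h
      refine hy (mem_centralizer_iff.2 fun w hw => ?_)
      have lt : zpowers z < E ⊓ centralizer {y} := lt_of_le_of_ne (zpowers_le.2 ⟨zE, mem_centralizer_singleton_iff.2 (zc' y)⟩)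
        fun k => h (k ▸ ⟨hv, mem_centralizer_singleton_iff.2 c.symm⟩)
      have := CfsgH2.mul_card_le_of_lt (hG.to_subgroup _) lt
      rw [Nat.card_zpowers, oz] at this
      have := CfsgH2.eq_of_le_of_card_le (inf_le_left (a := E) (b := centralizer {y})) (by omega)
      exact mem_centralizer_singleton_iff.1 (inf_eq_left.1 this hw)
    have se : ∀ y, y ∉ M → (y * e) ^ 2 = y ^ 2 * z := fun y hy =>
      ((sqr y e eE).resolve_left fun h => ez (nc y hy e eE h.2)).1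
    have me : ∀ y, ∀ v ∈ E, y * v ∈ M ↔ y ∈ M := fun y v hv => mul_mem_cancel_right (Ec hv)
    have e1 : Nat.card {x : G // x ^ 2 = z ∧ x ∉ M} = Nat.card {x : G // x ^ 2 = 1 ∧ x ∉ M} :=
      Nat.card_congr ((Equiv.mulRight e).subtypeEquiv fun x => by
        rw [Equiv.coe_mulRight, me x e eE]
        refine and_congr_left fun h => ?_
        rw [se x h, mul_eq_one_iff_eq_inv, vi z zE])
    have e2 := card_add_card_not (fun x : G => x ^ 2 ∈ E ∧ x ∉ M) fun x => x ^ 2 = z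
    rw [card_subtype_congr (P := fun x : G => (x ^ 2 ∈ E ∧ x ∉ M) ∧ x ^ 2 = z) (Q := fun x => x ^ 2 = z ∧ x ∉ M)
      fun x => ⟨fun h => ⟨h.2, h.1.2⟩, fun h => ⟨⟨h.1 ▸ zE, h.2⟩, h.1⟩⟩,
      card_subtype_congr (P := fun x : G => (x ^ 2 ∈ E ∧ x ∉ M) ∧ ¬ x ^ 2 = z) (Q := fun x => x ^ 2 = 1 ∧ x ∉ M)
      fun x => ⟨fun h => ⟨(mz _ (nc x h.1.2 _ h.1.1 ((Commute.refl x).pow_right 2))).resolve_right h.2, h.1.2⟩,
        fun h => ⟨⟨h.1 ▸ one_mem E, h.2⟩, h.1 ▸ z1.symm⟩⟩, ← e1] at e2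
    have mq : ∀ x : G, (x : G ⧸ E) ∈ M.map (QuotientGroup.mk' E) ↔ x ∈ M := fun x => by
      rw [← QuotientGroup.mk'_apply, ← mem_comap, comap_map_eq, QuotientGroup.ker_mk', sup_eq_left.2 Ec]
    have e3 := card_quot E fun q => q ∉ M.map (QuotientGroup.mk' E) ∧ q * q = 1
    have e4 := card_quot E fun q => q ∉ M.map (QuotientGroup.mk' E)
    have e5 := card_inv_modEq (fun q => q ∉ M.map (QuotientGroup.mk' E)) fun q hq => by rwa [inv_mem_iff]
    simp only [mq, ← QuotientGroup.mk_mul, QuotientGroup.eq_one_iff, ← sq, ← QuotientGroup.mk_pow] at e3 e4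
    rw [card_subtype_congr fun x => and_comm, ← e2, hc] at e3
    have e6 := card_add_card_not (fun _ : G => True) (· ∈ M)
    simp only [true_and, Nat.card_congr (Equiv.subtypeUnivEquiv fun _ : G => trivial)] at e6
    have m8 : 8 ∣ Nat.card M := by
      obtain ⟨j, hj⟩ := IsPGroup.iff_card.1 (hG.to_subgroup M)
      have := CfsgH2.mul_card_le_of_lt (hG.to_subgroup M) (lt_of_le_not_ge Ec hC)
      rw [hc, hj, ← pow_succ, Nat.pow_le_pow_iff_right one_lt_two] at this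
      exact hj ▸ pow_dvd_pow 2 this
    have g8 := m8.trans (card_subgroup_dvd_card M)
    rw [e4, hc] at e6
    simp only [sq] at e3 ⊢
    unfold Nat.ModEq at e5
    have : Nat.card {x // x ∈ M} = Nat.card M := rfl
    omega
  rw [← card_add_card_not _ fun x => x ^ 2 ^ (s + 1) = z]
  refine dvd_add ?_ hA
  rw [card_subtype_congr (Q := fun x : G => x ^ 2 ^ (s + 1) = z) fun x => ⟨fun h => h.2, fun h =>
    ⟨(ord x).2 (h ▸ ⟨z1, z2⟩), h⟩⟩, ← card_add_card_not _ fun x => s ≠ 0 ∨ x ∈ centralizer (E : Set G)]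
  exact dvd_add hB hD

end CfsgH9.KU
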