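import Cfsg.Agent.H4.Ord3
import Cfsg.Agent.H2.PGroup

/-! Square roots of the identity in a `2`-group with many generators. -/

set_option autoImplicit false
set_option linter.unusedSectionVars false

namespace CfsgH9.KU

open Subgroup Cfsg CfsgH2 CfsgH3 CfsgH4 MulAction

theorem dvd_sum_orbits {Λ α : Type*} [Group Λ] [MulAction Λ α] [Fintype α] (f : α → ℤ) (hf : ∀ (g : Λ) x, f (g • x) = f x)
    {d : ℤ} (hd : ∀ x, d ∣ (stabilizer Λ x).index * f x) : d ∣ ∑ x, f x := by
  classical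
  rw [← Finset.sum_fiberwise Finset.univ (Quotient.mk (orbitRel Λ α))]
  refine Finset.dvd_sum fun q _ => ?_
  obtain ⟨x, rfl⟩ := Quotient.exists_rep q
  refine (hd x).trans (dvd_of_eq ?_)
  rw [Finset.sum_congr rfl (g := fun _ => f x) fun y hy => by
    obtain ⟨g, rfl⟩ := (Quotient.exact (Finset.mem_filter.1 hy).2 : y ∈ orbit Λ x)
    exact hf g x, Finset.sum_const, nsmul_eq_mul, index_stabilizer, ← Set.ncard_coe_finset]
  congr 3
  ext y
  simp only [Finset.coe_filter, Finset.mem_univ, true_and, Set.mem_setOf_eq, Quotient.eq]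
  rfl

theorem dvd_card_sq {G V : Type*} [Group G] [Finite G] [CommGroup V] [Finite V] (hG : IsPGroup 2 G) (π : G →* V)
    (hπ : Function.Surjective π) (h2 : ∀ g, π (g * g) = 1) {k : ℕ} (hk : 2 ^ (2 * k + 1) ≤ Nat.card V) :
    2 ^ (k + 1) ∣ Nat.card {x : G // x * x = 1} := by
  classical
  have := Fintype.ofFinite G
  letI : MulAction (V →* ℂˣ) (IrrCharacter G) :=
    { smul := fun l χ => ⟨_, χ.2.mul_linear (l.comp π)⟩
      one_smul := fun χ => Subtype.ext (funext fun g => mul_one _)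
      mul_smul := fun a b χ => Subtype.ext (funext fun g => by
        change χ.1 g * ((a (π g) * b (π g) : ℂˣ) : ℂ) = χ.1 g * b (π g) * a (π g)
        push_cast; ring) }
  have sm : ∀ (l : V →* ℂˣ) (χ : IrrCharacter G) g, (l • χ).1 g = χ.1 g * l (π g) := fun _ _ _ => rfl
  have : ∀ χ : IrrCharacter G, ∃ n : ℤ, (Nat.card G : ℂ)⁻¹ * ∑ g, χ.1 (g * g) = n := fun χ => by
    obtain ⟨s, a, h, -⟩ := fs_cases χ.2.isChar
    exact ⟨s - a, by rw [h]; push_cast; rfl⟩
  choose ν hν using this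
  have e : (Nat.card {x : G // x * x = 1} : ℤ) = ∑ χ, ν χ * charDegree χ.1 := by
    refine Int.cast_injective (α := ℂ) ?_
    push_cast
    rw [card_sqrt_eq]
    exact Finset.sum_congr rfl fun χ _ => by rw [hν, χ.2.isChar.conj_one, coe_charDegree χ.2.isChar]
  rw [← Int.natCast_dvd_natCast, e]
  refine dvd_sum_orbits (Λ := V →* ℂˣ) _ (fun l χ => Int.cast_injective (α := ℂ) ?_) fun χ => ?_
  · push_cast
    rw [← hν, ← hν, coe_charDegree χ.2.isChar, coe_charDegree (l • χ).2.isChar]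
    simp [sm, -map_mul, h2]
  rw [mul_left_comm]
  refine Dvd.dvd.mul_left ?_ _
  set S := stabilizer (V →* ℂˣ) χ
  obtain ⟨K, hK⟩ : ∃ K, K = (CommGroup.subgroupOrderIsoSubgroupMonoidHom V ℂ).symm (OrderDual.toDual S) := ⟨_, rfl⟩
  have iK : (K.comap π).index = Nat.card S := by
    rw [index_comap_of_surjective _ hπ, index, ← CommGroup.card_subgroupOrderIsoSubgroupMonoidHom ℂ K, hK,
      OrderIso.apply_symm_apply, OrderDual.ofDual_toDual]
  have van : ∀ g, g ∉ K.comap π → χ.1 g = 0 := fun g hg => by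
    by_contra h
    refine hg ?_
    rw [mem_comap, hK, CommGroup.mem_subgroupOrderIsoSubgroupMonoidHom_symm_iff]
    intro l hl
    have := congrFun (congrArg Subtype.val (mem_stabilizer_iff.1 hl)) g
    rw [sm, mul_eq_left₀ h] at this
    exact Units.ext this
  have le : Nat.card S ≤ charDegree χ.1 ^ 2 := by
    have h := sum_normSq_irr χ.2
    rw [← Finset.sum_subset (Finset.subset_univ (Finset.univ.filter (· ∈ K.comap π))) fun g _ hg => by
      rw [van g (by simpa using hg)]; simp] at h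
    have h3 := Finset.sum_le_card_nsmul (Finset.univ.filter (· ∈ K.comap π)) (fun g => ‖χ.1 g‖ ^ 2)
      ((charDegree χ.1 : ℝ) ^ 2) fun g _ => by
        rw [← norm_one_eq χ.2.isChar]; exact pow_le_pow_left₀ (norm_nonneg _) (χ.2.isChar.norm_le g) 2
    rw [h, ← Fintype.card_subtype, ← Nat.card_eq_fintype_card, nsmul_eq_mul, ← (K.comap π).card_mul_index, iK] at h3
    have h4 : Nat.card (K.comap π) * Nat.card S ≤ Nat.card (K.comap π) * charDegree χ.1 ^ 2 := by exact_mod_cast h3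
    exact Nat.le_of_mul_le_mul_left h4 Nat.card_pos
  obtain ⟨a, ha⟩ := charDegree_pgroup Nat.prime_two hG χ.2
  obtain ⟨d, hd⟩ := IsPGroup.iff_card.1 (hG.of_surjective π hπ)
  have h5 := S.index_mul_card
  rw [CommGroup.card_monoidHom_of_hasEnoughRootsOfUnity, hd] at h5
  obtain ⟨i, -, hi⟩ := (Nat.dvd_prime_pow Nat.prime_two).1 (Dvd.intro _ h5)
  obtain ⟨j, -, hj⟩ := (Nat.dvd_prime_pow Nat.prime_two).1 (Dvd.intro_left _ h5)
  rw [hi, hj, ← pow_add] at h5
  have h6 := Nat.pow_right_injective le_rfl h5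
  rw [hj, ha, ← pow_mul, Nat.pow_le_pow_iff_right one_lt_two] at le
  rw [hd, Nat.pow_le_pow_iff_right one_lt_two] at hk
  rw [hi, ha, ← Nat.cast_mul, ← pow_add, Int.natCast_dvd_natCast]
  exact pow_dvd_pow 2 (by omega)

end CfsgH9.KU
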