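import Cfsg.Agent.H9.MC
import Cfsg.Agent.H9.KInf
import Cfsg.Agent.H2.CD

/-! Metacyclic `p`-groups for odd `p`: subgroups. -/

set_option autoImplicit false

namespace CfsgH9

open Subgroup Cfsg CfsgH2 CfsgFT CfsgLead
open scoped IsMulCommutative commutatorElement

variable {G : Type*} [Group G] [Finite G] {p : ℕ} [hp : Fact p.Prime]

omit hp in
theorem cent_subgroupOf {H : Subgroup G} {y : G} (hy : y ∈ H) :
    (centralizer {y}).subgroupOf H = centralizer {(⟨y, hy⟩ : H)} := by
  ext g; simp [mem_subgroupOf, mem_centralizer_singleton_iff, Subtype.ext_iff]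

omit hp in
theorem relIndex_cent_le {H : Subgroup G} {y : G} (hy : y ∈ H) : (centralizer {y}).relIndex H ≤ Nat.card ↥⁅H, H⁆ := by
  rw [relIndex, cent_subgroupOf hy, index_cent_eq _ {x | ∃ z : H, ⁅z, (⟨y, hy⟩ : H)⁆ = x} fun _ => Iff.rfl]
  exact Nat.card_le_card_of_injective (fun x => ⟨x.1, let ⟨z, e⟩ := x.2; e ▸ commutator_mem_commutator z.2 hy⟩)
    fun x y e => Subtype.ext (Subtype.ext (Subtype.mk.inj e))

omit hp [Finite G] in
theorem card_comm_subgroupOf {L M : Subgroup G} (h : L ≤ M) :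
    Nat.card ↥⁅L.subgroupOf M, L.subgroupOf M⁆ = Nat.card ↥⁅L, L⁆ := by
  rw [← card_map_of_injective M.subtype_injective, map_commutator, subgroupOf_map_subtype, inf_eq_left.2 h]

omit hp [Finite G] in
theorem card_der_sub (M : Subgroup G) : Nat.card (_root_.commutator M) = Nat.card ↥⁅M, M⁆ := by
  rw [← card_comm_subgroupOf le_rfl, subgroupOf_self]; rfl

omit hp in
theorem eq_of_le_of_index_le' {H K : Subgroup G} (h : H ≤ K) (l : H.index ≤ K.index) : H = K :=
  eq_of_le_of_card_ge h (Nat.le_of_mul_le_mul_right (by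
    rw [card_mul_index, ← H.card_mul_index]; exact Nat.mul_le_mul_left _ l) (Nat.pos_of_ne_zero K.index_ne_zero_of_finite))

namespace MC
variable {a b : G} {k : ℤ} {n s : ℕ} (h : MC p a b k n)
include h

theorem frattini_eq (hn : 1 ≤ n) : frattini G = lev p (a ^ (k - 1)) 1 := by
  refine le_antisymm (frattini_le_of (p := p) ?_ fun x => ?_) ?_
  · obtain ⟨t, ht⟩ := h.k1
    rw [h.der, zpowers_le]
    simpa using (h.mem_lev' hn (i := k - 1) (j := 0)).2 ⟨⟨t, by simpa using ht⟩, dvd_zero _⟩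
  · exact (h.lev_eq hn).le (subset_closure ⟨x, by rw [pow_one]⟩)
  · rw [← h.lev_eq hn, closure_le]
    rintro _ ⟨y, rfl⟩
    rw [pow_one]; exact pow_mem_frattini h.pg y

theorem index_of_not_mem (hn : 1 ≤ n) {u : G} (hu : u ∉ frattini G) : (centralizer {u}).index = p ^ n :=
  h.index_cent n.zero_le ((h.mem_lev_iff n.zero_le).2 (by
    obtain ⟨t, t1, t2, t3⟩ := h.exists_lev u
    exact (h.index_cent t1 t2 t3).trans_le (Nat.pow_le_pow_right hp.out.pos (by omega)))) (.inr (h.frattini_eq hn ▸ hu))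

theorem card_der_max (hn : 1 ≤ n) {M : Subgroup G} (hM : M.index = p) : Nat.card ↥⁅M, M⁆ * p = p ^ n := by
  have := h.normal' 1
  have l : lev p (a ^ (k - 1)) 1 ≤ M := h.frattini_eq hn ▸ frattini_le_coatom (isCoatom_of_index_prime hM)
  obtain ⟨u, u1, u2⟩ := SetLike.exists_of_lt (l.lt_of_ne fun e => by
    have := h.index_lev hn
    rw [e, hM] at this
    exact absurd (Nat.pow_right_injective hp.out.two_le ((pow_one p).trans this)) (by decide))
  have e : lev p (a ^ (k - 1)) 1 ⊔ zpowers u = M := by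
    have l2 := sup_le l (zpowers_le.2 u1)
    obtain ⟨i, i1, i2⟩ := (Nat.dvd_prime_pow hp.out).1 ((index_dvd_of_le (le_sup_left (b := zpowers u))).trans (h.index_lev hn).dvd)
    refine eq_of_le_of_index_le' l2 ?_
    rw [hM, i2]
    refine (Nat.pow_le_pow_right hp.out.pos (by_contra fun c => u2 ?_)).trans (pow_one p).le
    exact (eq_of_le_of_index_le' (le_sup_left (b := zpowers u)) (by rw [i2, h.index_lev hn]; exact Nat.pow_le_pow_right hp.out.pos (by omega))).ge
      (mem_sup_right (mem_zpowers u))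
  have c1 : ∀ X : Subgroup G, ⁅lev p (a ^ (k - 1)) 1, X⁆ ≤ zpowers ((a ^ (k - 1)) ^ p ^ 1) := fun X =>
    commutator_le.2 fun g hg y _ => h.mem_lev.1 hg y
  have c2 : ⁅M, M⁆ ≤ zpowers ((a ^ (k - 1)) ^ p ^ 1) := by
    rw [← le_centMod_iff', ← e]
    refine sup_le (le_centMod_iff'.2 ((commutator_comm _ _).le.trans (c1 _))) (le_centMod_iff'.2 ?_)
    rw [commutator_comm, ← le_centMod_iff']
    exact sup_le (le_centMod_iff'.2 ((commutator_comm _ _).le.trans (c1 _))) (le_centMod_iff'.2 ((le_centralizer_iff_bot.1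
      (le_centralizer _)).trans_le bot_le))
  refine le_antisymm ((Nat.mul_le_mul_right _ (card_le_of_le c2)).trans ?_) ?_
  · rw [Nat.card_zpowers, orderOf_pow_of_dvd (pow_ne_zero _ hp.out.ne_zero) (h.ord ▸ pow_dvd_pow _ hn), h.ord, pow_one]
    exact Nat.div_mul_le_self ..
  · rw [← h.index_of_not_mem hn (h.frattini_eq hn ▸ u2), ← hM]
    refine le_trans ?_ (Nat.mul_le_mul_right _ (relIndex_cent_le u1))
    rw [← inf_relIndex_right, relIndex_mul_index inf_le_right]
    exact Nat.le_of_dvd (Nat.pos_of_ne_zero index_ne_zero_of_finite) (index_dvd_of_le inf_le_left)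

end MC

section
variable (hp2 : p ≠ 2) (hG : IsPGroup p G) (hm : IsMetacyclic G)
include hp2 hG hm

theorem exists_MC_sub (M : Subgroup G) : ∃ (a b : M) (k : ℤ) (n : ℕ), MC p a b k n :=
  exists_MC hp2 (hG.to_subgroup M) (isMetacyclic_of_injective M.subtype M.subtype_injective hm)

theorem mc_index_center : (center G).index = Nat.card (_root_.commutator G) ^ 2 := by
  obtain ⟨a, b, k, n, h⟩ := exists_MC hp2 hG hm
  rw [h.card_der, ← h.lev_n, h.index_lev le_rfl, ← pow_mul, mul_comm]

theorem mc_center (R : Subgroup G) : Nat.card (center R) * Nat.card ↥⁅R, R⁆ ^ 2 = Nat.card R := by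
  rw [← card_der_sub, ← mc_index_center hp2 (hG.to_subgroup R) (isMetacyclic_of_injective R.subtype R.subtype_injective hm),
    card_mul_index]

theorem mc_card (L : Subgroup G) : Nat.card L ≤ (_root_.commutator G).index * Nat.card ↥⁅L, L⁆ ∧
    (⁅L, L⁆ ≠ ⊥ → Nat.card L = (_root_.commutator G).index * Nat.card ↥⁅L, L⁆) := by
  induction L using WellFoundedGT.induction with
  | ind L ih =>
  rcases eq_or_ne L ⊤ with rfl | ne
  · have : Nat.card (⊤ : Subgroup G) = (_root_.commutator G).index * Nat.card ↥⁅(⊤ : Subgroup G), (⊤ : Subgroup G)⁆ := by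
      rw [card_top, ← (_root_.commutator G).index_mul_card]; rfl
    exact ⟨this.le, fun _ => this⟩
  obtain ⟨i, hi⟩ := (hG.to_subgroup L).exists_card_eq
  obtain ⟨j, hj⟩ := hG.index L
  obtain ⟨M, m1, m2⟩ := Sylow.exists_subgroup_card_pow_succ (G := G) (p := p) (n := i) (by
    rw [← L.card_mul_index, hi, hj, pow_succ]
    exact Nat.mul_dvd_mul_left _ (dvd_pow_self p fun e => ne (index_eq_one.1 (by rw [hj, e, pow_zero])))) hi
  have l : L < M := m2.lt_of_ne fun e => by
    rw [← e, hi] at m1; exact absurd (Nat.pow_right_injective hp.out.two_le m1) (by omega)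
  obtain ⟨k1, k2⟩ := ih M l
  by_cases c : ⁅M, M⁆ = ⊥
  · have := eq_bot_iff.2 ((commutator_mono m2 m2).trans c.le)
    exact ⟨by rw [this, ← c]; exact (card_le_of_le m2).trans k1, fun e => (e this).elim⟩
  obtain ⟨a, b, k, n, h⟩ := exists_MC_sub hp2 hG hm M
  have d := h.card_der
  rw [card_der_sub] at d
  have e := h.card_der_max (M := L.subgroupOf M) (Nat.pos_of_ne_zero fun z => c (card_eq_one.1 (by rw [d, z, pow_zero])))
    (Nat.eq_of_mul_eq_mul_left (pow_pos hp.out.pos i) (by
      rw [← pow_succ, ← m1, ← hi, ← card_mul_index (L.subgroupOf M), Nat.card_congr (subgroupOfEquivOfLe m2).toEquiv]))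
  have : Nat.card L = (_root_.commutator G).index * Nat.card ↥⁅L, L⁆ := Nat.eq_of_mul_eq_mul_right hp.out.pos (by
    rw [mul_assoc, ← card_comm_subgroupOf m2, e, ← d, ← k2 c, m1, hi, pow_succ])
  exact ⟨this.le, fun _ => this⟩

theorem mc_comm_iff (L : Subgroup G) : IsMulCommutative L ↔ Nat.card L ≤ (_root_.commutator G).index := by
  obtain ⟨k1, k2⟩ := mc_card hp2 hG hm L
  rw [isMulCommutative_iff_le_centralizer, le_centralizer_iff_bot]
  refine ⟨fun e => by simpa [e] using k1, fun e => by_contra fun c => c (card_eq_one.1 (le_antisymm ?_ Nat.card_pos))⟩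
  exact Nat.le_of_mul_le_mul_left (by rwa [← k2 c, mul_one]) (Nat.pos_of_ne_zero index_ne_zero_of_finite)

theorem mc_max_iff (L : Subgroup G) :
    Maximal (fun K : Subgroup G => IsMulCommutative K) L ↔ Nat.card L = (_root_.commutator G).index := by
  refine ⟨fun e => le_antisymm ((mc_comm_iff hp2 hG hm L).1 e.1) (not_lt.1 fun l => ?_), fun e =>
    ⟨(mc_comm_iff hp2 hG hm L).2 e.le, fun K hK l => (eq_of_le_of_card_ge l (e ▸ (mc_comm_iff hp2 hG hm K).1 hK)).ge⟩⟩
  obtain ⟨i, hi⟩ := (hG.to_subgroup L).exists_card_eq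
  obtain ⟨j, hj⟩ := hG.index (_root_.commutator G)
  rw [hi, hj, Nat.pow_lt_pow_iff_right hp.out.one_lt] at l
  obtain ⟨M, m1, m2⟩ := Sylow.exists_subgroup_card_pow_succ (G := G) (p := p) (n := i)
    ((pow_dvd_pow p l).trans (hj ▸ index_dvd_card _)) hi
  have := card_le_of_le (e.2 ((mc_comm_iff hp2 hG hm M).2 (by rw [m1, hj]; exact Nat.pow_le_pow_right hp.out.pos l)) m2)
  rw [m1, hi, Nat.pow_le_pow_iff_right hp.out.one_lt] at this
  omega

theorem mc_prod {R : Subgroup G} (h : ¬ IsMulCommutative R) :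
    Nat.card R * Nat.card (center R) = (_root_.commutator G).index ^ 2 := by
  rw [isMulCommutative_iff_le_centralizer, le_centralizer_iff_bot] at h
  refine Nat.eq_of_mul_eq_mul_right (pow_pos (Nat.card_pos (α := ↥⁅R, R⁆)) 2) ?_
  rw [mul_assoc, mc_center hp2 hG hm, ← mul_pow, ← (mc_card hp2 hG hm R).2 h, sq]

theorem mc_prod_le (R : Subgroup G) : Nat.card R * Nat.card (center R) ≤ (_root_.commutator G).index ^ 2 := by
  by_cases h : IsMulCommutative R
  · have := (mc_comm_iff hp2 hG hm R).1 h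
    exact sq (_root_.commutator G).index ▸ Nat.mul_le_mul this ((card_le_card_group _).trans this)
  · exact (mc_prod hp2 hG hm h).le

theorem mc_relIndex_le {H : Subgroup G} {y : G} (hy : y ∈ H) {t : ℕ} (e : y ^ p ^ t ∈ centralizer (H : Set G)) :
    (centralizer {y}).relIndex H ≤ p ^ t := by
  obtain ⟨a, b, k, n, h⟩ := exists_MC_sub hp2 hG hm H
  rw [relIndex, cent_subgroupOf hy]
  rcases le_total t n with l | l
  · obtain ⟨s, rfl⟩ := Nat.exists_eq_add_of_le' l
    simpa using (h.mem_lev_iff (s := s) (by omega)).1 ((h.pow_mem_lev le_rfl).1 (h.lev_n.ge (mem_center_iff.2 fun g =>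
      Subtype.ext (e g g.2))))
  · obtain ⟨s, t1, t2, t3⟩ := h.exists_lev ⟨y, hy⟩
    exact (h.index_cent t1 t2 t3).trans_le (Nat.pow_le_pow_right hp.out.pos (by omega))

theorem mc_sq : (_root_.commutator G).index ^ 2 = Nat.card G * Nat.card (center G) := by
  refine Nat.eq_of_mul_eq_mul_right (pow_pos (Nat.card_pos (α := _root_.commutator G)) 2) ?_
  rw [← mul_pow, index_mul_card, mul_assoc, ← mc_index_center hp2 hG hm, card_mul_index, sq]

theorem mc_cent_cent {K : Subgroup G} (hK : IsMulCommutative K) (hZ : center G ≤ K) :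
    K = centralizer (K : Set G) ⊓ centralizer (centralizer (K : Set G) : Set G) := by
  have c := isMulCommutative_iff_le_centralizer.1 hK
  obtain ⟨N, n1, -, n2, y, y1, e⟩ := isMetacyclic_iff.1 (isMetacyclic_of_injective K.subtype K.subtype_injective hm)
  obtain ⟨x, rfl⟩ := isCyclic_iff_zpowers.1 n2
  have x1 := n1 (mem_zpowers x)
  obtain ⟨t1, h1⟩ := (hG.to_subgroup _).index ((center G).subgroupOf (center G ⊔ zpowers x))
  obtain ⟨t2, h2⟩ := (hG.to_subgroup _).index ((center G ⊔ zpowers x).subgroupOf K)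
  have i1 := mc_relIndex_le hp2 hG hm (mem_top x) (t := t1) (center_le_centralizer _
    (h1 ▸ pow_relIndex_mem _ (mem_sup_right (mem_zpowers x))))
  have i2 := mc_relIndex_le hp2 hG hm (H := centralizer {x}) (mem_centralizer_singleton_iff.2 (c x1 y y1)) (t := t2)
    (sup_le (center_le_centralizer _) (zpowers_le.2 fun g hg => mem_centralizer_singleton_iff.1 hg)
      (h2 ▸ mem_subgroupOf.1 (pow_index_mem ((center G ⊔ zpowers x).subgroupOf K) ⟨y, y1⟩)))
  have e2 : centralizer (K : Set G) = centralizer {y} ⊓ centralizer {x} := by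
    rw [← e, cent_sup, inf_comm, cent_zpowers, cent_zpowers]
  have i3 : (centralizer (K : Set G)).index ≤ (center G).relIndex K := by
    rw [e2, ← relIndex_mul_index inf_le_right, inf_relIndex_right, ← relIndex_mul_relIndex _ _ _ le_sup_left (sup_le hZ n1),
      mul_comm, ← relIndex_top_right]
    exact Nat.mul_le_mul (i1.trans h1.ge) (i2.trans h2.ge)
  refine eq_of_le_of_card_ge (le_inf c (le_centralizer_iff.1 le_rfl)) (Nat.le_of_mul_le_mul_left ?_
    (Nat.card_pos (α := centralizer (K : Set G))))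
  rw [← card_center_eq]
  refine (mc_prod_le hp2 hG hm _).trans ?_
  rw [mc_sq hp2 hG hm, ← (centralizer (K : Set G)).card_mul_index, mul_assoc, ← card_mul_index ((center G).subgroupOf K),
    Nat.card_congr (subgroupOfEquivOfLe hZ).toEquiv, mul_comm (Nat.card (center G))]
  exact Nat.mul_le_mul_left _ (Nat.mul_le_mul_right _ i3)

end

end CfsgH9
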