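import Mathlib

/-! Abstract systems of transvections (McLaughlin's theorem). -/

set_option autoImplicit false

namespace CfsgH9.ML

variable {F : Type*} [Field F] {V W : Type*} [AddCommGroup V] [Module F V] [AddCommGroup W] [Module F W]

/-- A system of transvections. -/
structure TS (B : V →ₗ[F] W →ₗ[F] F) (S : V → W → Prop) : Prop where
  zero : ∀ {p φ}, S p φ → B p φ = 0
  zl : ∀ φ, S 0 φ
  zr : ∀ p, S p 0
  smulL : ∀ {p φ} (c : F), S p φ → S (c • p) φ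
  smulR : ∀ {p φ} (c : F), S p φ → S p (c • φ)
  addL : ∀ {p q φ}, S p φ → S q φ → S (p + q) φ
  addR : ∀ {p φ ψ}, S p φ → S p ψ → S p (φ + ψ)
  conj : ∀ {p φ q ψ}, S p φ → S q ψ → S (p + B p ψ • q) (φ - B q φ • ψ)
  opp : ∀ {p φ}, S p φ → p ≠ 0 → φ ≠ 0 → ∃ q ψ, S q ψ ∧ B p ψ ≠ 0 ∧ B q φ ≠ 0
  rad : ∀ {p φ q ψ}, S p φ → S q ψ → p ≠ 0 → φ ≠ 0 → (∀ s σ, S s σ → s ≠ 0 → B (p - q) σ = 0) →
    (∀ s σ, S s σ → σ ≠ 0 → B s (φ - ψ) = 0) → p = q ∧ φ = ψ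

/-- Centres. -/
def Pt (S : V → W → Prop) (p : V) : Prop := p ≠ 0 ∧ ∃ φ, φ ≠ 0 ∧ S p φ
/-- Adjacent centres. -/
def Ad (B : V →ₗ[F] W →ₗ[F] F) (S : V → W → Prop) (p q : V) : Prop := Pt S p ∧ q ≠ 0 ∧ ∃ ψ, S q ψ ∧ B p ψ ≠ 0
/-- Centres with a common neighbour. -/
def Rel (B : V →ₗ[F] W →ₗ[F] F) (S : V → W → Prop) (p q : V) : Prop := ∃ s, Ad B S p s ∧ Ad B S q s
/-- Connectedness. -/
def Con (B : V →ₗ[F] W →ₗ[F] F) (S : V → W → Prop) : Prop := ∀ p q, Pt S p → Pt S q → Rel B S p q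

variable {B : V →ₗ[F] W →ₗ[F] F} {S : V → W → Prop} {p q r s : V} {φ ψ ρ σ : W}

theorem nl (h : B p φ ≠ 0) : p ≠ 0 := by rintro rfl; simp at h
theorem nr (h : B p φ ≠ 0) : φ ≠ 0 := by rintro rfl; simp at h
theorem Ad.pt (h : Ad B S p q) : Pt S q := let ⟨_, h0, ψ, h1, h2⟩ := h; ⟨h0, ψ, nr h2, h1⟩
theorem Rel.symm (h : Rel B S p q) : Rel B S q p := h.imp fun _ h => h.symm
theorem Rel.pt (h : Rel B S p q) : Pt S p := let ⟨_, h, _⟩ := h; h.1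
theorem nad (hp : Pt S p) (h : ¬ Ad B S p q) (h0 : q ≠ 0) (h1 : S q ψ) : B p ψ = 0 := by
  by_contra e; exact h ⟨hp, h0, ψ, h1, e⟩

namespace TS
variable (T : TS B S)
include T

theorem flip : TS B.flip fun φ p => S p φ :=
  ⟨T.zero, T.zr, T.zl, T.smulR, T.smulL, T.addR, T.addL, fun h1 h2 => by simpa [sub_eq_add_neg] using T.conj h1 (T.smulL (-1) h2),
    fun h a b => let ⟨q, ψ, h⟩ := T.opp h b a; ⟨ψ, q, h.1, h.2.2, h.2.1⟩,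
    fun h1 h2 a b c d => (T.rad h1 h2 b a (fun s σ => d σ s) fun s σ => c σ s).symm⟩

theorem comm (h1 : S p φ) (h2 : S q ψ) (a : B q φ ≠ 0) (b : B p ψ = 0) : S p ψ := by
  have := T.conj h2 h1
  rw [b, zero_smul, sub_zero] at this
  simpa [smul_smul, a] using T.smulL (B q φ)⁻¹ (T.addL (T.smulL (-1) h2) this)

theorem norm (h : S q ψ) (a : B p ψ ≠ 0) (c : F) : ∃ χ, S q χ ∧ B p χ = c := ⟨_, T.smulR (c / B p ψ) h, by simp [a]⟩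

theorem subR (h1 : S p φ) (h2 : S p ψ) (c : F) : S p (φ - c • ψ) := by
  simpa [sub_eq_add_neg] using T.addR h1 (T.smulR (-c) h2)

theorem pt_smul (h : Pt S p) {c : F} (hc : c ≠ 0) : Pt S (c • p) :=
  let ⟨h0, φ, h1, h2⟩ := h; ⟨smul_ne_zero hc h0, φ, h1, T.smulL c h2⟩

theorem symm (h : Ad B S p q) : Ad B S q p := by
  refine ⟨h.pt, h.1.1, ?_⟩
  obtain ⟨⟨p0, χ, χ0, h1⟩, q0, ψ, h2, a⟩ := h
  by_contra! H
  obtain ⟨s, σ, h3, b, c⟩ := T.opp (T.comm h2 h1 a (H _ h1)) q0 χ0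
  have := T.comm h1 (T.conj h3 (T.smulR (B p σ / (B q σ * B p ψ)) h2)) (by simpa [H _ h1] using c) (by simp; field_simp; simp)
  exact b (by simpa [T.zero h2] using H _ this)

theorem line (h : Ad B S p q) (c : F) : Pt S (p + c • q) := by
  obtain ⟨-, -, φ, h1, a⟩ := T.symm h
  obtain ⟨-, -, ψ, h2, b⟩ := h
  obtain ⟨χ, h3, rfl⟩ := T.norm h2 b c
  exact ⟨nl (B := B) (φ := ψ) (by simpa [T.zero h2] using b), _, nr (B := B) (p := q) (by simpa [T.zero h3] using a), T.conj h1 h3⟩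

theorem refl (h : Pt S p) : Rel B S p p := by
  obtain ⟨p0, φ, h1, h2⟩ := id h
  obtain ⟨q, ψ, h3, a, b⟩ := T.opp h2 p0 h1
  exact ⟨q, ⟨h, nl b, ψ, h3, a⟩, ⟨h, nl b, ψ, h3, a⟩⟩

theorem rel (h : Ad B S p q) : Rel B S p q := by
  obtain ⟨hq, -, φ, h1, a⟩ := T.symm h
  obtain ⟨hp, -, ψ, h2, b⟩ := h
  have n : p + B p ψ • q ≠ 0 := nl (B := B) (φ := ψ) (by simpa [T.zero h2] using b)
  exact ⟨_, ⟨hp, n, _, T.conj h1 h2, by simp [T.zero h1, a, b]⟩, ⟨hq, n, _, T.conj h1 h2, by simp [T.zero h2, a]⟩⟩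

theorem step (h : Rel B S p r) (h' : Ad B S r q) : Rel B S p q := by
  obtain ⟨a, h1, h2⟩ := h
  by_cases e1 : Ad B S p r
  · exact ⟨r, e1, T.symm h'⟩
  by_cases e2 : Ad B S a q
  · exact ⟨a, h1, T.symm e2⟩
  obtain ⟨ha, r0, β, h3, b⟩ := T.symm h2
  obtain ⟨hp, -, α, h4, c⟩ := h1
  obtain ⟨hr, q0, ψ, h5, d⟩ := h'
  have n : B (a + B a β • r) ψ ≠ 0 := by simp [nad ha e2 q0 h5, b, d]
  have m : B p (α - B r α • β) ≠ 0 := by simp [nad hp e1 r0 h3, c]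
  exact ⟨_, ⟨hp, nl n, _, T.conj h4 h3, m⟩, T.symm ⟨⟨nl n, _, nr m, T.conj h4 h3⟩, q0, ψ, h5, n⟩⟩

theorem trans (h : Rel B S p q) (h' : Rel B S q r) : Rel B S p r :=
  let ⟨_, a, b⟩ := h'; T.step (T.step h a) (T.symm b)

theorem con_flip (h : Con B S) : Con B.flip fun φ p => S p φ := by
  have a : ∀ {p φ ψ}, p ≠ 0 → φ ≠ 0 → ψ ≠ 0 → S p φ → S p ψ → Rel B.flip (fun φ p => S p φ) φ ψ := fun p0 a b h1 h2 => by
    obtain ⟨s, σ, h3, c, d⟩ := T.opp h1 p0 a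
    exact ⟨σ, T.flip.symm ⟨⟨nr c, s, nl d, h3⟩, a, _, h1, c⟩, T.flip.symm ⟨⟨nr c, s, nl d, h3⟩, b, _, h2, c⟩⟩
  rintro φ ψ ⟨φ0, p, p0, h1⟩ ⟨ψ0, q, q0, h2⟩
  obtain ⟨s, ⟨-, s0, σ, h3, c⟩, -, -, τ, h4, d⟩ := h p q ⟨p0, φ, φ0, h1⟩ ⟨q0, ψ, ψ0, h2⟩
  exact T.flip.step (T.flip.step (a s0 (nr c) (nr d) h3 h4) ⟨⟨nr d, s, s0, h4⟩, ψ0, q, h2, d⟩).symm ⟨⟨nr c, s, s0, h3⟩, φ0, p, h1, c⟩ |>.symm

theorem key (h1 : Ad B S r p) (h2 : Ad B S q r) (n : ¬ Ad B S q p) (h3 : S r ρ) (a : B (p + q) ρ ≠ 0) : Pt S (p + q) := by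
  obtain ⟨hr, p0, φ, h4, b⟩ := h1
  have := T.line ⟨T.line h2 1, p0, φ, h4, by simp [nad h2.1 n p0 h4, b]⟩ 1
  have := T.line ⟨this, hr.1, ρ, h3, by simpa [T.zero h3, add_comm] using a⟩ (-1)
  convert this using 1; module

theorem add (h : Con B S) {c : F} (c0 : c ≠ 0) (c1 : c ≠ 1) (hp : Pt S p) (hq : Pt S q) (h0 : p + q ≠ 0) : Pt S (p + q) := by
  by_cases n : Ad B S p q
  · simpa using T.line n 1
  by_contra H
  have n' : ¬ Ad B S q p := fun h => n (T.symm h)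
  obtain ⟨r, h1, h2⟩ := h p q hp hq
  have k : ∀ {r ρ}, Ad B S p r → Ad B S q r → S r ρ → B (p + q) ρ = 0 := fun h1 h2 h3 => by
    by_contra a; exact H (T.key (T.symm h1) h2 n' h3 a)
  have aux : ∀ {p q s σ}, Ad B S p r → Ad B S q r → ¬ Ad B S q p → ¬ Pt S (p + q) → S s σ → s ≠ 0 → ¬ Ad B S q s → B p σ = 0 := by
    intro p q s σ h1 h2 n H h3 s0 m
    by_contra a
    obtain ⟨hq, r0, ρ, h4, b⟩ := id h2
    have e : B p ρ = -B q ρ := by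
      by_contra e; exact H (T.key (T.symm h1) h2 n h4 (by rwa [map_add, LinearMap.add_apply, Ne, add_eq_zero_iff_eq_neg]))
    have z := nad hq m s0 h3
    have nq : ∀ φ, S p φ → B q φ = 0 := fun φ => nad hq n h1.1.1
    have c' : 1 - c⁻¹ ≠ 0 := by rw [sub_ne_zero, eq_comm.ne, Ne, inv_eq_one]; exact c1
    have p' : Pt S (p + c • q) := T.key (T.symm h1) ⟨T.pt_smul hq c0, r0, ρ, h4, by simp [c0, b]⟩
      (fun ⟨_, _, φ, h5, d⟩ => d (by simp [nq φ h5])) h4 (by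
        simp only [map_add, map_smul, LinearMap.add_apply, LinearMap.smul_apply, e, smul_eq_mul]
        rw [neg_add_eq_sub, ← sub_one_mul]; exact mul_ne_zero (sub_ne_zero.2 c1) b)
    have := T.key (T.symm ⟨T.pt_smul h1.1 c', s0, σ, h3, by simp [c', a]⟩) ⟨T.pt_smul p' (inv_ne_zero c0), s0, σ, h3, by simp [c0, a, z]⟩
      (fun ⟨_, _, φ, h5, d⟩ => by
        have h6 := T.smulL (1 - c⁻¹)⁻¹ h5
        rw [inv_smul_smul₀ c'] at h6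
        exact d (by simp [T.zero h6, nq φ h6])) h3 (by simpa [z, ← add_mul] using a)
    exact H (by convert this using 1; match_scalars <;> field_simp <;> ring)
  have x : ∀ s σ, S s σ → s ≠ 0 → B (p + q) σ = 0 := fun s σ h3 s0 => by
    by_cases a : Ad B S p s <;> by_cases b : Ad B S q s
    · exact k a b h3
    · simp [aux h1 h2 n' H h3 s0 b, nad hq b s0 h3]
    · simp [aux h2 h1 n (by rwa [add_comm]) h3 s0 a, nad hp a s0 h3]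
    · simp [nad hq b s0 h3, nad hp a s0 h3]
  have aux2 : ∀ {p q s χ ψ}, (∀ s σ, S s σ → s ≠ 0 → B (p + q) σ = 0) → p + q ≠ 0 → Pt S p → q ≠ 0 → ¬ Ad B S p q → Pt S s → S p χ → S q ψ →
      B s χ ≠ 0 → ψ ≠ 0 → B s ψ ≠ 0 := by
    intro p q s χ ψ x h0 hp q0 n hs h3 h4 a ψ0 b
    obtain ⟨-, s0, σ, h5, d⟩ := T.symm ⟨hs, hp.1, χ, h3, a⟩
    have e : B q σ = -B p σ := by simpa [add_comm (B p σ), add_eq_zero_iff_eq_neg] using x s σ h5 s0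
    have h6 := T.comm h5 h4 (by simpa [e] using d) b
    obtain ⟨t, τ, h7, f, g⟩ := T.opp (T.addL (T.comm h3 h6 a (nad hp n q0 h4)) h4) h0 ψ0
    exact f (x t τ h7 (nl g))
  obtain ⟨hr, -, φ, h3, a⟩ := T.symm h1
  obtain ⟨φ, h3, a⟩ := T.norm h3 a 1
  obtain ⟨-, -, ψ, h4, b⟩ := T.symm h2
  obtain ⟨ψ, h4, b⟩ := T.norm h4 b 1
  have φ0 : φ ≠ 0 := nr (a ▸ one_ne_zero)
  have z : ∀ s, Pt S s → B s φ = 0 → B s ψ = 0 := fun s hs e => by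
    by_contra f; exact aux2 (by simpa [add_comm] using x) (by rwa [add_comm]) hq hp.1 n' hs h4 h3 f φ0 e
  suffices y : ∀ s σ, S s σ → σ ≠ 0 → B s (φ - ψ) = 0 from
    h0 (by simpa [eq_neg_iff_add_eq_zero] using (T.rad h3 (T.smulL (-1) h4) hp.1 φ0 (by simpa using x) y).1)
  intro s σ h5 σ0
  rcases eq_or_ne s 0 with rfl | s0
  · simp
  have hs : Pt S s := ⟨s0, σ, σ0, h5⟩
  by_cases e : B s φ = 0
  · simp [e, z s hs e]
  obtain ⟨t, h6, a', b'⟩ : ∃ t, Ad B S s t ∧ B t φ = 1 ∧ B t ψ = 1 := by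
    by_cases m : Ad B S s r
    · exact ⟨r, m, a, b⟩
    obtain ⟨-, -, τ, h7, d⟩ := T.symm ⟨hs, hp.1, φ, h3, e⟩
    exact ⟨r + (1 : F) • p, T.symm ⟨T.line (T.symm h1) 1, s0, τ, h7, by simp [nad hr (fun h => m (T.symm h)) s0 h7, d]⟩,
      by simp [a, T.zero h3], by simp [b, nad hp n hq.1 h4]⟩
  have := z _ (T.line h6 (-B s φ)) (by simp [a'])
  simp only [map_add, map_smul, map_sub, LinearMap.add_apply, LinearMap.smul_apply, b', smul_eq_mul] at this ⊢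
  linear_combination -this

/-- The subspace of centres. -/
def sp (h : Con B S) {c : F} (c0 : c ≠ 0) (c1 : c ≠ 1) : Submodule F V where
  carrier := {p | p ≠ 0 → Pt S p}
  zero_mem' := fun h => (h rfl).elim
  add_mem' := fun {p q} hp hq h0 => by
    rcases eq_or_ne p 0 with rfl | p0
    · simpa using hq (by simpa using h0)
    rcases eq_or_ne q 0 with rfl | q0
    · simpa using hp p0
    exact T.add h c0 c1 (hp p0) (hq q0) h0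
  smul_mem' := fun a p hp h0 => T.pt_smul (hp (right_ne_zero_of_smul h0)) (left_ne_zero_of_smul h0)

theorem full (h : Con B S) (h1 : S r ρ) (h2 : S s σ) (a : B r σ ≠ 0) (s0 : s ≠ 0)
    (ρ0 : ρ ≠ 0) (b : B s ρ = 0) (hp : Pt S p) (h3 : S q φ) (q0 : q ≠ 0) (c : B p φ = 0) : S p φ := by
  have two : ∀ {p q}, Ad B S p q → (∀ v, ∃ χ, χ ≠ 0 ∧ S p χ ∧ B v χ = 0) → ∀ v, ∃ χ, χ ≠ 0 ∧ S q χ ∧ B v χ = 0 := by
    rintro p q ⟨-, -, ψ, h4, d⟩ H v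
    obtain ⟨χ, χ0, h5, e⟩ := H q
    have h6 := T.comm h4 h5 d e
    by_cases f : B v χ = 0
    · exact ⟨χ, χ0, h6, f⟩
    exact ⟨_, nr (B := B) (p := p) (by simpa [T.zero h5] using d), T.subR h4 h6 (B v ψ / B v χ), by simp [f]⟩
  have t : ∀ v, ∃ χ, χ ≠ 0 ∧ S s χ ∧ B v χ = 0 := fun v => by
    have h6 := T.comm h2 h1 a b
    by_cases f : B v ρ = 0
    · exact ⟨ρ, ρ0, h6, f⟩
    exact ⟨_, nr (B := B) (p := r) (by simpa [T.zero h1] using a), T.subR h2 h6 (B v σ / B v ρ), by simp [f]⟩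
  rcases eq_or_ne φ 0 with rfl | φ0
  · exact T.zr p
  have hq : Pt S q := ⟨q0, φ, φ0, h3⟩
  obtain ⟨u, a1, a2⟩ := h s p ⟨s0, σ, nr a, h2⟩ hp
  have t := two (T.symm a2) (two a1 t)
  by_cases n : Ad B S q p
  · obtain ⟨-, -, χ, h4, d⟩ := n
    exact T.comm h4 h3 d c
  obtain ⟨w, ⟨-, w0, τ, h4, d⟩, b2⟩ := h p q hp hq
  obtain ⟨-, -, ψ, h5, e⟩ := T.symm b2
  obtain ⟨χ, χ0, h6, f⟩ := t w
  have h7 := T.comm h5 (T.comm h4 h6 d f) e (nad hq n hp.1 h6)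
  obtain ⟨y, η, h8, g, i⟩ := T.opp h6 hp.1 χ0
  have h9 := T.addL h7 (T.smulL (-(B q η / B p η)) h6)
  by_cases x0 : q + -(B q η / B p η) • p = 0
  · have e : q = (B q η / B p η) • p := by rwa [neg_smul, add_neg_eq_zero] at x0
    have : B q η / B p η ≠ 0 := fun z => q0 (by rw [e, z, zero_smul])
    simpa only [inv_smul_smul₀ this] using T.smulL (B q η / B p η)⁻¹ (e ▸ h3 : S ((B q η / B p η) • p) φ)
  obtain ⟨-, -, ξ, j, l⟩ := T.symm ⟨hp, x0, η, T.comm h9 h8 i (by simp [g]), g⟩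
  exact (l (by simp [T.zero j, nad hq n hp.1 j])).elim

theorem form (U : Submodule F V) (hU : ∀ p, p ∈ U ↔ (p ≠ 0 → Pt S p)) (hp : Pt S p)
    (H : ∀ {r ρ s σ}, S r ρ → S s σ → B r σ ≠ 0 → s ≠ 0 → ρ ≠ 0 → B s ρ ≠ 0) :
    ∃ β : LinearMap.BilinForm F U, β.IsAlt ∧ ∀ (y : U) φ, y ≠ 0 → φ ≠ 0 → S y φ → ∃ c, c ≠ 0 ∧ ∀ x : U, β x y = c * B x φ := by
  obtain ⟨p0, φ, φ0, h0⟩ := id hp
  have one : ∀ {q ψ χ v}, q ≠ 0 → S q ψ → S q χ → B v ψ ≠ 0 → χ = (B v χ / B v ψ) • ψ := by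
    intro q ψ χ v q0 h1 h2 a
    obtain ⟨s, σ, h3, b, c⟩ := T.opp h1 q0 (nr a)
    have : χ - (B s χ / B s ψ) • ψ = 0 := by
      by_contra e; exact H (T.subR h2 h1 _) h3 b (nl c) e (by simp [c])
    rw [sub_eq_zero.1 this]; simp [a]
  have : ∀ q : U, ∃ ψ, B q φ ≠ 0 → S q ψ ∧ B p ψ = -B q φ := fun q => by
    by_cases a : B q φ = 0
    · exact ⟨0, fun h => (h a).elim⟩
    obtain ⟨-, -, ψ, h1, b⟩ := T.symm ⟨(hU q).1 q.2 (nl a), p0, φ, h0, a⟩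
    exact (T.norm h1 b _).imp fun _ h _ => h
  choose θ hθ using this
  have θ0 : ∀ {q : U}, B q φ ≠ 0 → B p (θ q) ≠ 0 := fun a => by rw [(hθ _ a).2]; exact neg_ne_zero.2 a
  have sy : ∀ {r ρ s σ}, S r ρ → S s σ → B s ρ = 0 → s ≠ 0 → ρ ≠ 0 → B r σ = 0 := fun h1 h2 a b c => by
    by_contra e; exact H h1 h2 e b c a
  have anti : ∀ q r : U, B q φ ≠ 0 → B r φ ≠ 0 → B r (θ q) = -B q (θ r) := fun q r a b => by
    have h1 := T.conj (hθ q a).1 (T.smulR (B q (θ r) / B r φ / B q φ) h0)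
    by_cases e : B r (θ q - B p (θ q) • (B q (θ r) / B r φ / B q φ) • φ) = 0
    · simp only [map_sub, map_smul, smul_eq_mul, (hθ q a).2] at e
      field_simp at e
      linear_combination e
    exact (H (hθ r b).1 h1 e (nl (B := B) (φ := φ) (by simpa [T.zero h0] using a)) (nr (θ0 b)) (by simp [(hθ r b).2]; field_simp; simp)).elim
  obtain ⟨q, ψ, h1, a, b⟩ := T.opp h0 p0 φ0
  let q0 : U := ⟨q, (hU q).2 fun q0 => ⟨q0, ψ, nr a, h1⟩⟩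
  have ext : ∀ f g : U →ₗ[F] F, (∀ x : U, B x φ ≠ 0 → f x = g x) → f = g := fun f g h => LinearMap.ext fun x => by
    by_cases e : B x φ = 0
    · have := h (x + q0) (by simpa [e] using b)
      rwa [map_add, map_add, h q0 b, add_left_inj] at this
    · exact h x e
  have : ∀ y : U, ∃ f : U →ₗ[F] F, ∀ x : U, B x φ ≠ 0 → f x = -B y (θ x) := fun y => by
    by_cases e : B y φ = 0
    · exact ⟨B.flip (θ (y + q0) - θ q0) ∘ₗ U.subtype, fun x h => by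
        simp [anti (y + q0) x (by simpa [e] using b) h, anti q0 x b h]⟩
    · exact ⟨B.flip (θ y) ∘ₗ U.subtype, fun x h => by simp [anti y x e h]⟩
  choose L hL using this
  let L' : U →ₗ[F] U →ₗ[F] F := ⟨⟨L, fun y z => ext _ _ fun x h => by simp [hL _ x h, add_comm]⟩, fun c y => ext _ _ fun x h => by simp [hL _ x h]⟩
  have LD : ∀ y x : U, B y φ ≠ 0 → L' y x = B x (θ y) := fun y x e =>
    LinearMap.congr_fun (ext (L y) (B.flip (θ y) ∘ₗ U.subtype) fun x h => by simp [hL _ x h, anti y x e h]) x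
  have fin : ∀ (y : U) ψ, y ≠ 0 → ψ ≠ 0 → S y ψ → ∃ c, c ≠ 0 ∧ ∀ x : U, L'.flip x y = c * B x ψ := fun y ψ y0 ψ0 h2 => by
    have y1 : (y : V) ≠ 0 := by simpa using y0
    by_cases e : B y φ = 0
    swap
    · have d := H h2 h0 e p0 ψ0
      exact ⟨_, div_ne_zero (θ0 e) d, fun x => by rw [LinearMap.flip_apply, LD y x e]; nth_rw 1 [one y1 h2 (hθ y e).1 d]; simp⟩
    obtain ⟨r, hr, d⟩ : ∃ r : U, B r φ ≠ 0 ∧ B r ψ ≠ 0 := by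
      by_contra! G
      obtain ⟨s, σ, h3, f, g⟩ := T.opp h2 y1 ψ0
      exact g (LinearMap.congr_fun (ext (B.flip ψ ∘ₗ U.subtype) 0 G) ⟨s, (hU s).2 fun s0 => ⟨s0, σ, nr f, h3⟩⟩)
    have h3 := T.conj (hθ r hr).1 (T.smulR (B r ψ)⁻¹ h2)
    have f : B (r + y : U) φ ≠ 0 := by simpa [e] using hr
    have g : B p ψ = 0 := sy h0 h2 e y1 φ0
    simp only [map_smul, smul_eq_mul, inv_mul_cancel₀ d, one_smul] at h3
    have i := one (v := p) (nl f) h3 (hθ _ f).1 (by simpa [g] using θ0 hr)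
    have j : B p (θ (r + y)) = B p (θ r) := by rw [(hθ _ f).2, (hθ _ hr).2]; simp [e]
    simp only [map_sub, map_smul, g, smul_zero, sub_zero, j, div_self (θ0 hr), one_smul] at i
    refine ⟨-(B y (θ r) * (B r ψ)⁻¹), neg_ne_zero.2 (mul_ne_zero (H (hθ r hr).1 h2 d y1 (nr (θ0 hr))) (inv_ne_zero d)), fun x => ?_⟩
    have := LD _ x f
    rw [map_add, LinearMap.add_apply, LD r x hr, i] at this
    simp only [map_sub, map_smul, smul_eq_mul] at this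
    rw [LinearMap.flip_apply]; linear_combination this
  refine ⟨L'.flip, fun y => ?_, fin⟩
  rcases eq_or_ne y 0 with rfl | y0
  · simp
  obtain ⟨-, ψ, ψ0, h2⟩ := (hU y).1 y.2 (by simpa using y0)
  obtain ⟨c, -, e⟩ := fin y ψ y0 ψ0 h2
  rw [e, T.zero h2, mul_zero]

theorem res {C : Set V} (hC : ∀ p ∈ C, ∀ q, Ad B S p q → q ∈ C) : TS B fun p φ => S p φ ∧ (p ≠ 0 → φ ≠ 0 → p ∈ C) := by
  have op : ∀ {p φ}, S p φ ∧ (p ≠ 0 → φ ≠ 0 → p ∈ C) → p ≠ 0 → φ ≠ 0 → ∃ q ψ, (S q ψ ∧ (q ≠ 0 → ψ ≠ 0 → q ∈ C)) ∧ B p ψ ≠ 0 ∧ B q φ ≠ 0 :=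
    fun h a b => let ⟨q, ψ, h1, c, d⟩ := T.opp h.1 a b; ⟨q, ψ, ⟨h1, fun q0 _ => hC _ (h.2 a b) _ ⟨⟨a, _, b, h.1⟩, q0, ψ, h1, c⟩⟩, c, d⟩
  have tr : ∀ {p q φ}, p ∈ C → p ≠ 0 → S p φ → S q φ → q ≠ 0 → φ ≠ 0 → q ∈ C := fun hp p0 h1 h2 q0 φ0 => by
    obtain ⟨s, σ, h3, c, d⟩ := T.opp h2 q0 φ0
    have hs : Pt S s := ⟨nl d, σ, nr c, h3⟩
    exact hC _ (hC _ hp _ (T.symm ⟨hs, p0, _, h1, d⟩)) _ ⟨hs, q0, _, h2, d⟩
  refine ⟨fun h => T.zero h.1, fun φ => ⟨T.zl φ, fun h => (h rfl).elim⟩, fun φ => ⟨T.zr φ, fun _ h => (h rfl).elim⟩,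
    fun c h => ⟨T.smulL c h.1, fun a b => tr (h.2 (right_ne_zero_of_smul a) b) (right_ne_zero_of_smul a) h.1 (T.smulL c h.1) a b⟩,
    fun c h => ⟨T.smulR c h.1, fun a b => h.2 a (right_ne_zero_of_smul b)⟩, fun {p q φ} h1 h2 => ⟨T.addL h1.1 h2.1, fun a b => ?_⟩,
    fun {p φ ψ} h1 h2 => ⟨T.addR h1.1 h2.1, fun a b => ?_⟩, fun {p φ q ψ} h1 h2 => ⟨T.conj h1.1 h2.1, fun a b => ?_⟩, op,
    fun {p φ q ψ} h1 h2 a b c d => ?_⟩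
  · rcases eq_or_ne p 0 with rfl | p0
    · simpa using h2.2 (by simpa using a) b
    · exact tr (h1.2 p0 b) p0 h1.1 (T.addL h1.1 h2.1) a b
  · rcases eq_or_ne φ 0 with rfl | φ0
    · exact h2.2 a (by simpa using b)
    · exact h1.2 a φ0
  · by_cases e : B p ψ = 0
    · rw [e, zero_smul, add_zero] at a ⊢
      rcases eq_or_ne φ 0 with rfl | φ0
      · simp at b
      · exact h1.2 a φ0
    rcases eq_or_ne q 0 with rfl | q0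
    · simpa using h1.2 (nl e) (by simpa using b)
    exact hC _ (h2.2 q0 (nr e)) _ (T.symm ⟨⟨a, _, b, T.conj h1.1 h2.1⟩, q0, ψ, h2.1, by simpa [T.zero h2.1] using e⟩)
  obtain ⟨s, σ, h3, e, f⟩ := op h1 a b
  have q0 : q ≠ 0 := by rintro rfl; exact e (by simpa using c s σ h3 (nl f))
  have ψ0 : ψ ≠ 0 := by rintro rfl; exact f (by simpa using d s σ h3 (nr e))
  have k : ∀ {p φ s σ}, S p φ → p ≠ 0 → φ ≠ 0 → p ∈ C → S s σ → s ∉ C → (s ≠ 0 → B p σ = 0) ∧ (σ ≠ 0 → B s φ = 0) :=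
    fun h1 a b c h2 d => ⟨fun s0 => nad ⟨a, _, b, h1⟩ (fun h => d (hC _ c _ h)) s0 h2, fun σ0 => by
      by_contra e; exact d (hC _ c _ (T.symm ⟨⟨nl e, _, σ0, h2⟩, a, _, h1, e⟩))⟩
  refine T.rad h1.1 h2.1 a b (fun s σ h4 s0 => ?_) fun s σ h4 σ0 => ?_
  · by_cases g : s ∈ C
    · exact c s σ ⟨h4, fun _ _ => g⟩ s0
    · simp [(k h1.1 a b (h1.2 a b) h4 g).1 s0, (k h2.1 q0 ψ0 (h2.2 q0 ψ0) h4 g).1 s0]
  · by_cases g : s ∈ C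
    · exact d s σ ⟨h4, fun _ _ => g⟩ σ0
    · simp [(k h1.1 a b (h1.2 a b) h4 g).2 σ0, (k h2.1 q0 ψ0 (h2.2 q0 ψ0) h4 g).2 σ0]

theorem con_res {C : Set V} (hC : ∀ p ∈ C, C = {q | Rel B S p q}) :
    (∀ p ∈ C, ∀ q, Ad B S p q → q ∈ C) ∧ Con B fun p φ => S p φ ∧ (p ≠ 0 → φ ≠ 0 → p ∈ C) := by
  have cl : ∀ p ∈ C, ∀ q, Ad B S p q → q ∈ C := fun p hp q h => (hC p hp).ge (T.rel h)
  refine ⟨cl, ?_⟩
  rintro p q ⟨p0, φ, φ0, h1⟩ ⟨q0, ψ, ψ0, h2⟩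
  obtain ⟨s, a, b⟩ := (hC p (h1.2 p0 φ0)).le (h2.2 q0 ψ0)
  have := cl _ (h1.2 p0 φ0) _ a
  obtain ⟨-, s0, σ, h3, c⟩ := a
  obtain ⟨-, -, τ, h4, d⟩ := b
  exact ⟨s, ⟨⟨p0, φ, φ0, h1⟩, s0, σ, ⟨h3, fun _ _ => this⟩, c⟩, ⟨q0, ψ, ψ0, h2⟩, s0, τ, ⟨h4, fun _ _ => this⟩, d⟩

end TS

end CfsgH9.ML
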