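import Cfsg.Agent.H9.ML1
import Cfsg.Agent.H5.Sp
import Cfsg.Agent.H5.Lin
import Cfsg.Prelude.Def_Solvable

/-! Groups generated by transvections over a prime field. -/

set_option autoImplicit false

namespace CfsgH9.ML

open CfsgH5 Module Subgroup

variable {p : ℕ} [Fact p.Prime] {V : Type*} [AddCommGroup V] [Module (ZMod p) V] [Finite V] {H : Subgroup (V ≃ₗ[ZMod p] V)}

theorem chain (hp : Odd p) (hO : Cfsg.pCore p H = ⊥) {A C : Submodule (ZMod p) V} (hA : ∀ g ∈ H, ∀ v ∈ A, g v ∈ A) (hC : ∀ g ∈ H, ∀ v ∈ C, g v ∈ C)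
    {h : V ≃ₗ[ZMod p] V} (hh : h ∈ H) (h1 : ∀ v, h v - v ∈ A) (h2 : ∀ v ∈ A, h v - v ∈ C) (h3 : ∀ v ∈ C, h v = v) : h = 1 := by
  let N : Subgroup H :=
    { carrier := {h | (∀ v, h.1 v - v ∈ A) ∧ (∀ v ∈ A, h.1 v - v ∈ C) ∧ ∀ v ∈ C, h.1 v = v}
      one_mem' := by simp
      mul_mem' := fun {a b} ha hb => ⟨fun v => by simpa using A.add_mem (ha.1 (b.1 v)) (hb.1 v),
        fun v hv => by simpa using C.add_mem (ha.2.1 (b.1 v) (hA _ b.2 v hv)) (hb.2.1 v hv), fun v hv => by simp [ha.2.2 v hv, hb.2.2 v hv]⟩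
      inv_mem' := fun {a} ha => ⟨fun v => by simpa using A.neg_mem (ha.1 (a.1⁻¹ v)),
        fun v hv => by simpa using C.neg_mem (ha.2.1 (a.1⁻¹ v) (hA _ (H.inv_mem a.2) v hv)), fun v hv => by
          nth_rw 1 [← ha.2.2 v hv]; simp⟩ }
  have n : N.Normal := ⟨fun a ha g => ⟨fun v => by simpa using hA _ g.2 _ (ha.1 (g.1⁻¹ v)),
    fun v hv => by simpa using hC _ g.2 _ (ha.2.1 (g.1⁻¹ v) (hA _ (H.inv_mem g.2) v hv)), fun v hv => by
      show g.1 (a.1 (g.1⁻¹ v)) = v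
      rw [ha.2.2 _ (hC _ (H.inv_mem g.2) v hv), apply_inv_apply]⟩⟩
  have pg : IsPGroup p N := fun ⟨a, ha⟩ => ⟨1, Subtype.ext (Subtype.ext (LinearEquiv.toLinearMap_injective (by
    obtain ⟨r, e⟩ := (Commute.one_left ((a.1 : End (ZMod p) V) - 1)).exists_add_pow_prime_eq Fact.out (p := p)
    have z : ((a.1 : End (ZMod p) V) - 1) ^ 3 = 0 := LinearMap.ext fun v => by
      simpa [pow_succ, sub_eq_zero] using ha.2.2 _ (ha.2.1 _ (ha.1 v))
    have p0 : (p : End (ZMod p) V) = 0 := by rw [← map_natCast (algebraMap (ZMod p) _), ZMod.natCast_self, map_zero]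
    rw [pow_eq_zero_of_le ((Fact.out : p.Prime).two_le.lt_of_ne fun e => by simp [← e] at hp; exact absurd hp (by decide)) z, p0] at e
    refine LinearMap.ext fun v => ?_
    simpa [End.pow_apply, LinearEquiv.pow_apply] using LinearMap.congr_fun e v)))⟩
  have l : N ≤ ⊥ := hO ▸ le_sSup ⟨n, pg⟩
  exact Subtype.ext_iff.1 (mem_bot.1 (l (show ⟨h, hh⟩ ∈ N from ⟨h1, h2, h3⟩)))

theorem span_inv {s : Set V} {g : V ≃ₗ[ZMod p] V} (h : ∀ x ∈ s, g x ∈ s) : ∀ v ∈ Submodule.span (ZMod p) s, g v ∈ Submodule.span (ZMod p) s :=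
  (Submodule.span_le (p := (Submodule.span (ZMod p) s).comap g.toLinearMap)).2 fun x hx => Submodule.subset_span (h x hx)

/-- The transvections in `H`. -/
def SS (H : Subgroup (V ≃ₗ[ZMod p] V)) (v : V) (φ : Dual (ZMod p) V) : Prop := φ v = 0 ∧ tr φ v ∈ H

theorem SS.conj {v : V} {φ : Dual (ZMod p) V} (h : SS H v φ) {g : V ≃ₗ[ZMod p] V} (hg : g ∈ H) : SS H (g v) (dact g φ) :=
  ⟨by rw [dact_apply_apply, h.1], conj_tr_mem hg h.2⟩

theorem SS.smul {v : V} {φ : Dual (ZMod p) V} (c : ZMod p) (h : SS H v φ) : SS H (c • v) φ := by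
  obtain ⟨n, rfl⟩ := ZMod.natCast_zmod_surjective c
  refine ⟨by simp [h.1], ?_⟩
  induction n with
  | zero => simp [tr_zero_right]
  | succ n ih => rw [Nat.cast_succ, add_smul, one_smul, ← tr_mul_right (by simp [h.1]) h.1]; exact mul_mem ih h.2

theorem ts (hp : Odd p) (hO : Cfsg.pCore p H = ⊥) : TS (Dual.eval (ZMod p) V) (SS H) := by
  have op : ∀ {v φ}, SS H v φ → v ≠ 0 → φ ≠ 0 → ∃ q ψ, SS H q ψ ∧ ψ v ≠ 0 ∧ φ q ≠ 0 := fun {v φ} h a b => by
    by_contra! G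
    have z : ∀ g ∈ H, φ (g v) = 0 := fun g hg => by
      by_contra e
      have := Finite.of_injective _ (DFunLike.coe_injective (F := Dual (ZMod p) V))
      have c : ∀ ψ, SS H (g v) ψ → SS H v ψ := fun ψ h1 => by
        have z : ψ v = 0 := by by_contra z; exact e (G _ ψ h1 z)
        simpa [e] using SS.smul (φ (g v))⁻¹ ⟨by simp [z], commutator_tr_mem h.1 h1.1 z h.2 h1.2⟩
      obtain ⟨χ, d⟩ := Finite.surjective_of_injective (f := fun χ : {χ // SS H v χ} => (⟨dact g χ, c _ (χ.2.conj hg)⟩ : {χ // SS H v χ}))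
        (fun x y e => Subtype.ext (by simpa [dact_inv_dact] using congrArg (fun t => dact g⁻¹ t.1) e)) ⟨φ, h⟩
      exact e (by rw [← show dact g χ.1 = φ from congrArg Subtype.val d, dact_apply_apply, χ.2.1])
    have := chain hp hO (A := Submodule.span _ {x | ∃ g ∈ H, x = g v}) (C := ⊥) 
      (fun g hg => span_inv (by rintro _ ⟨k, hk, rfl⟩; exact ⟨g * k, mul_mem hg hk, rfl⟩)) (by simp) h.2
      (fun x => by simpa [tr_apply h.1] using Submodule.smul_mem _ _ (Submodule.subset_span (s := {x | ∃ g ∈ H, x = g v}) ⟨1, one_mem _, rfl⟩))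
      (fun x hx => by
        have : φ x = 0 := (Submodule.span_le (p := LinearMap.ker φ)).2 (by rintro _ ⟨g, hg, rfl⟩; exact z g hg) hx
        simp [tr_fix v this]) (by simp)
    exact ((tr_eq_one_iff h.1).1 this).elim b a
  refine ⟨fun h => h.1, fun φ => ⟨map_zero φ, by simp [tr_zero_right]⟩, fun v => ⟨rfl, by simp [tr_zero_left]⟩, SS.smul,
    fun c h => ⟨by simp [h.1], tr_smul h.1 c ▸ (h.smul c).2⟩, fun h1 h2 => ⟨by simp [h1.1, h2.1], tr_mul_right h1.1 h2.1 ▸ mul_mem h1.2 h2.2⟩,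
    fun h1 h2 => ⟨by simp [h1.1, h2.1], tr_mul_left h1.1 h2.1 ▸ mul_mem h1.2 h2.2⟩,
    fun h1 h2 => by simpa [tr_apply h2.1, dact_tr h2.1] using h1.conj h2.2, op, fun {v φ q ψ} h1 h2 a b c d => ?_⟩
  simp only [Dual.eval_apply] at c d
  obtain ⟨s, σ, h3, e, f⟩ := op h1 a b
  have s0 : s ≠ 0 := by rintro rfl; simp at f
  have σ0 : σ ≠ 0 := by rintro rfl; simp at e
  have q0 : q ≠ 0 := by rintro rfl; exact e (by simpa using c s σ h3 s0)
  have ψ0 : ψ ≠ 0 := by rintro rfl; exact f (by simpa using d s σ h3 σ0)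
  have i : φ q = 0 := by simpa [h2.1] using d q ψ h2 ψ0
  have val : ∀ x, (tr φ v * (tr ψ q)⁻¹) x - x = φ x • v - ψ x • q := fun x => by
    rw [tr_inv h2.1, LinearEquiv.mul_apply, tr_apply h1.1, tr_apply (by simp [h2.1])]; simp [i]; abel
  have := chain hp hO (A := Submodule.span _ {x | ∃ σ, σ ≠ 0 ∧ SS H x σ}) (C := ⨅ σ ∈ {σ | ∃ s, s ≠ 0 ∧ SS H s σ}, LinearMap.ker σ)
    (fun g hg => span_inv fun _ ⟨k, hk, h⟩ => ⟨_, dact_ne_zero g hk, h.conj hg⟩)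
    (fun g hg x hx => by
      simp only [Submodule.mem_iInf, LinearMap.mem_ker] at hx ⊢
      rintro τ ⟨t, t0, h⟩
      simpa [dact_apply] using hx _ ⟨_, by simpa using t0, h.conj (inv_mem hg)⟩) (mul_mem h1.2 (inv_mem h2.2))
    (fun x => val x ▸ sub_mem (Submodule.smul_mem _ _ (Submodule.subset_span ⟨_, b, h1⟩)) (Submodule.smul_mem _ _ (Submodule.subset_span ⟨_, ψ0, h2⟩)))
    (fun x hx => by
      have : (φ - ψ) x = 0 := (Submodule.span_le (p := LinearMap.ker (φ - ψ))).2 (by rintro _ ⟨g, hg, h⟩; exact d _ g h hg) hx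
      rw [val, sub_eq_zero.1 this, ← smul_sub]
      refine Submodule.smul_mem _ _ ?_
      simp only [Submodule.mem_iInf, LinearMap.mem_ker]
      rintro τ ⟨t, t0, h⟩; exact c t τ h t0)
    (fun x hx => by
      simp only [Submodule.mem_iInf, LinearMap.mem_ker] at hx
      rw [← sub_eq_zero, val, hx φ ⟨v, a, h1⟩, hx ψ ⟨q, q0, h2⟩]; simp)
  have val : ∀ x, φ x • v = ψ x • q := fun x => sub_eq_zero.1 (by simpa [this] using (val x).symm)
  obtain rfl : v = q := smul_right_injective V f (by simpa only [← sub_eq_zero.1 (d s σ h3 σ0)] using val s)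
  exact ⟨rfl, LinearMap.ext fun x => smul_left_injective _ a (val x)⟩

theorem exists_tr {t : V ≃ₗ[ZMod p] V} (h1 : orderOf t = p)
    (h2 : finrank (ZMod p) (LinearMap.ker ((t : V →ₗ[ZMod p] V) - LinearMap.id)) + 1 = finrank (ZMod p) V) : ∃ v φ, φ v = 0 ∧ t = tr φ v := by
  obtain ⟨φ, v, e⟩ := LinearEquiv.mem_dilatransvections_iff_finrank.2 (show finrank (ZMod p) (LinearMap.range ((t : V →ₗ[ZMod p] V) - LinearMap.id)) ≤ 1 by
    have := LinearMap.finrank_range_add_finrank_ker ((t : V →ₗ[ZMod p] V) - LinearMap.id); omega)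
  have e' : ∀ x, t x = x + φ x • v := fun x => LinearMap.congr_fun e x
  have pw : ∀ n, (t ^ n) v = (1 + φ v) ^ n • v := fun n => by
    induction n with
    | zero => simp
    | succ n ih => rw [pow_succ', LinearEquiv.mul_apply, ih, map_smul, e', pow_succ, mul_smul, add_smul, one_smul]
  have z : φ v = 0 := by
    have := pw p
    rw [ZMod.pow_card, show t ^ p = 1 by rw [← orderOf_dvd_iff_pow_eq_one, h1]] at this
    rcases (by simpa [add_smul] using this : φ v = 0 ∨ v = 0) with h | h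
    exacts [h, by simp [h]]
  exact ⟨v, φ, z, LinearEquiv.ext fun x => by rw [e', tr_apply z]⟩

theorem comp {F : Type*} [Field F] {V : Type*} [AddCommGroup V] [Module F V] [FiniteDimensional F V] {S : V → Dual F V → Prop}
    (T : TS (Dual.eval F V) S) (h : Con (Dual.eval F V) S) {c : F} (c0 : c ≠ 0) (c1 : c ≠ 1) :
    ∃ (U : Submodule F V) (D : Submodule F (Dual F V)), (∀ v, v ∈ U ↔ (v ≠ 0 → Pt S v)) ∧ (∀ φ, φ ∈ D ↔ (φ ≠ 0 → ∃ v, v ≠ 0 ∧ S v φ)) ∧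
      (∀ x ∈ U, (∀ φ ∈ D, φ x = 0) → x = 0) ∧ (∀ v, ∃ x ∈ U, ∀ φ ∈ D, φ x = φ v) ∧
      ∀ (K : Subgroup (V ≃ₗ[F] V)), K = closure {g | ∃ v ∈ U, ∃ φ ∈ D, S v φ ∧ g = tr φ v} → ∃ ρ : K →* (U ≃ₗ[F] U), (∀ (h : K) (v : U), (ρ h v : V) = h.1 v) ∧
        ((ρ.range : Set (U ≃ₗ[F] U)) = {f : U ≃ₗ[F] U | LinearMap.det (f : U →ₗ[F] U) = 1} ∨
          ∃ B : LinearMap.BilinForm F U, B.IsAlt ∧ B.Nondegenerate ∧ (ρ.range : Set (U ≃ₗ[F] U)) = {f : U ≃ₗ[F] U | ∀ x y, B (f x) (f y) = B x y}) := by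
  obtain ⟨U, hU⟩ : ∃ U : Submodule F V, ∀ v, v ∈ U ↔ (v ≠ 0 → Pt S v) := ⟨T.sp h c0 c1, fun _ => Iff.rfl⟩
  obtain ⟨D, hD⟩ : ∃ D : Submodule F (Dual F V), ∀ φ, φ ∈ D ↔ (φ ≠ 0 → ∃ v, v ≠ 0 ∧ S v φ) :=
    ⟨T.flip.sp (T.con_flip h) c0 c1, fun _ => forall_congr' fun a => and_iff_right a⟩
  have m3 : ∀ x ∈ U, (∀ φ ∈ D, φ x = 0) → x = 0 := fun x hx H => by
    by_contra x0
    obtain ⟨-, φ, a, h1⟩ := (hU x).1 hx x0
    obtain ⟨q, ψ, h2, b, d⟩ := T.opp h1 x0 a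
    exact b (H ψ ((hD ψ).2 fun _ => ⟨q, nl d, h2⟩))
  have m4 : ∀ φ ∈ D, (∀ x ∈ U, φ x = 0) → φ = 0 := fun φ hx H => by
    by_contra x0
    obtain ⟨x, a, h1⟩ := (hD φ).1 hx x0
    obtain ⟨q, ψ, h2, b, d⟩ := T.opp h1 a x0
    exact d (H q ((hU q).2 fun q0 => ⟨q0, ψ, nr b, h2⟩))
  let β := (Dual.eval F V).domRestrict₁₂ U D
  have i1 : Function.Injective β := (injective_iff_map_eq_zero _).2 fun x e => Subtype.ext (m3 _ x.2 fun φ hφ => LinearMap.congr_fun e ⟨φ, hφ⟩)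
  have i2 : Function.Injective β.flip := (injective_iff_map_eq_zero _).2 fun x e => Subtype.ext (m4 _ x.2 fun φ hφ => LinearMap.congr_fun e ⟨φ, hφ⟩)
  refine ⟨U, D, hU, hD, m3, fun v => ?_, ?_⟩
  · obtain ⟨x, e⟩ := (LinearMap.flip_injective_iff₁ (K := F) (V₁ := U) (V₂ := D) (B := β)).1 i2 ((Dual.eval F V v).domRestrict D)
    exact ⟨x, x.2, fun φ hφ => LinearMap.congr_fun e ⟨φ, hφ⟩⟩
  rintro K rfl
  have l : closure {g | ∃ v ∈ U, ∃ φ ∈ D, S v φ ∧ g = tr φ v} ≤ stab F (U : Set V) := (closure_le _).2 (by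
    rintro _ ⟨v, hv, φ, -, -, rfl⟩; exact tr_mem_stab_of_mem φ hv)
  refine ⟨(stabRes U).comp (inclusion l), fun _ _ => stabRes_apply .., ?_⟩
  have rg : ((stabRes U).comp (inclusion l)).range = closure {g | ∃ v : U, ∃ φ ∈ D, S v φ ∧ g = tr (φ ∘ₗ U.subtype) v} := by
    have k : ∀ (v : U) φ (a : φ ∈ D) (b : S v φ), (stabRes U).comp (inclusion l) ⟨_, subset_closure ⟨v, v.2, φ, a, b, rfl⟩⟩ = tr (φ ∘ₗ U.subtype) v :=
      fun v φ a b => LinearEquiv.ext fun x => Subtype.ext (by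
        have : φ v = 0 := T.zero b
        rw [tr_apply (by simpa using this)]; exact (stabRes_apply ..).trans (tr_apply this x))
    refine le_antisymm ?_ ((closure_le _).2 ?_)
    · rintro _ ⟨⟨g, hg⟩, rfl⟩
      induction hg using closure_induction with
      | mem g hg => obtain ⟨v, hv, φ, a, b, rfl⟩ := hg; exact k ⟨v, hv⟩ φ a b ▸ subset_closure ⟨_, φ, a, b, rfl⟩
      | one => exact (map_one ((stabRes U).comp (inclusion l))).symm ▸ one_mem _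
      | mul x y hx hy a b => exact (map_mul ((stabRes U).comp (inclusion l)) ⟨x, hx⟩ ⟨y, hy⟩).symm ▸ mul_mem a b
      | inv x hx a => exact (map_inv ((stabRes U).comp (inclusion l)) ⟨x, hx⟩).symm ▸ inv_mem a
    · rintro _ ⟨v, φ, a, b, rfl⟩; exact ⟨_, k v φ a b⟩
  rw [rg]
  by_cases H : (∃ p, Pt S p) ∧ ∀ {r ρ s σ}, S r ρ → S s σ → Dual.eval F V r σ ≠ 0 → s ≠ 0 → ρ ≠ 0 → Dual.eval F V s ρ ≠ 0
  · obtain ⟨⟨p, hp⟩, H⟩ := H
    obtain ⟨B, alt, hB⟩ := T.form U hU hp H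
    have nd : ∀ y, (∀ x, B x y = 0) → y = 0 := fun y e => by
      by_contra y0
      obtain ⟨-, φ, a, h1⟩ := (hU y).1 y.2 (by simpa using y0)
      obtain ⟨c, c0, f⟩ := hB y φ y0 a h1
      exact a (m4 φ ((hD φ).2 fun _ => ⟨y, by simpa using y0, h1⟩) fun x hx => by simpa [c0, e] using f ⟨x, hx⟩)
    let Φ := Form.ofAlt (fun x y => B x y) (by simp) (by simp) (fun x y => (alt.neg_eq x y).symm) alt
    refine .inr ⟨B, alt, ⟨fun y e => nd y fun x => alt.isRefl _ _ (e x), nd⟩, ?_⟩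
    rw [show {f : U ≃ₗ[F] U | ∀ x y, B (f x) (f y) = B x y} = Φ.isom from Set.ext fun _ => (spParam_isMax.mem_isom Φ).symm, SetLike.coe_set_eq]
    have k : ∀ (v : U) φ c a, S v φ → (∀ x : U, B x v = c * φ x) → Φ.tv v a = tr (((a * c) • φ) ∘ₗ U.subtype) v := fun v φ c a h1 e =>
      LinearEquiv.ext fun x => by
        have : φ v = 0 := T.zero h1
        rw [Form.tv_apply, tr_apply (by simp [this])]; simp [Φ, Form.ofAlt, e, mul_assoc]
    refine le_antisymm ((closure_le _).2 ?_) (Form.Nondeg.sp_isom_le (S := Φ) nd fun v a => ?_)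
    · rintro _ ⟨v, φ, -, b, rfl⟩
      rcases eq_or_ne v 0 with rfl | v0
      · simp [tr_zero_right]
      rcases eq_or_ne φ 0 with rfl | φ0
      · simp [tr_zero_left]
      obtain ⟨c, c0, f⟩ := hB v φ v0 φ0 b
      have := Φ.tv_mem v c⁻¹
      rwa [k v φ c _ b f, inv_mul_cancel₀ c0, one_smul] at this
    · rcases eq_or_ne v 0 with rfl | v0
      · simp [Form.tv_zero_left]
      obtain ⟨v1, φ, φ0, b⟩ := (hU v).1 v.2 (by simpa using v0)
      obtain ⟨c, c0, f⟩ := hB v φ v0 φ0 b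
      exact k v φ c a b f ▸ subset_closure ⟨v, _, D.smul_mem _ ((hD φ).2 fun _ => ⟨v, v1, b⟩), T.smulR _ b, rfl⟩
  left
  rw [show {f : U ≃ₗ[F] U | LinearMap.det (f : U →ₗ[F] U) = 1} = slSub F U from Set.ext fun _ => mem_slSub.symm, SetLike.coe_set_eq]
  refine le_antisymm ((closure_le _).2 ?_) (sl_le fun f v e => ?_)
  · rintro _ ⟨v, φ, -, -, rfl⟩; exact tr_mem_sl ..
  obtain ⟨φ, rfl⟩ := (LinearMap.flip_surjective_iff₁ (K := F) (V₁ := U) (V₂ := D) (B := β)).2 i1 f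
  refine subset_closure ⟨v, φ, φ.2, ?_, rfl⟩
  rcases eq_or_ne (v : V) 0 with v0 | v0
  · exact v0 ▸ T.zl _
  rcases eq_or_ne φ.1 0 with φ0 | φ0
  · exact φ0 ▸ T.zr _
  obtain ⟨q, q0, h1⟩ := (hD φ).1 φ.2 φ0
  push Not at H
  obtain ⟨r, ρ, s, σ, h2, h3, a, b, c, d⟩ := H ⟨_, (hU v).1 v.2 v0⟩
  exact T.full h h2 h3 a b c d ((hU v).1 v.2 v0) h1 q0 e

end CfsgH9.ML
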