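import Cfsg.Agent.H5.Mx4

/-! Overgroups of the monomial group in `SL_n(q)`, `q ≥ 5`: homologies. -/

open Module Polynomial CfsgH5

namespace CfsgH9.MX

variable {F : Type*} [Field F] {V : Type*} [AddCommGroup V] [Module F V] {ι : Type*} [Fintype ι] [DecidableEq ι]
  {φ ψ : Dual F V} {u v : V} {a : Fˣ} {K : Subgroup (V ≃ₗ[F] V)}

open Classical in
/-- the homology with axis `φ` and centre `u` -/
noncomputable def hm (φ : Dual F V) (u : V) (a : Fˣ) : V ≃ₗ[F] V :=
  if h : φ u = 1 then dl ((a.1 - 1) • φ) u (by simp [h]) else 1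

theorem hm_apply (h : φ u = 1) (x : V) : hm φ u a x = x + ((a - 1) * φ x) • u := by simp [hm, h, dl_apply]

theorem hm_inv (h : φ u = 1) : (hm φ u a)⁻¹ = hm φ u a⁻¹ := inv_eq_of_mul_eq_one_right (LinearEquiv.ext fun x => by
  simp only [LinearEquiv.mul_apply, hm_apply h, map_add, map_smul, h, Units.val_inv_eq_inv_val, LinearEquiv.coe_one, id, smul_eq_mul]
  match_scalars <;> field_simp <;> ring)

theorem hm_inv_apply (h : φ u = 1) (x : V) : (hm φ u a)⁻¹ x = x + (((a : F)⁻¹ - 1) * φ x) • u := by simp [hm_inv h, hm_apply h]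

theorem det_hm [FiniteDimensional F V] (h : φ u = 1) : LinearEquiv.det (hm φ u a) = a :=
  Units.ext (by simp [hm, h, LinearEquiv.coe_det, det_dl])

theorem mem_of_eq {x y : V ≃ₗ[F] V} (h : x ∈ K) (e : ∀ v, x v = y v) : y ∈ K := LinearEquiv.ext e ▸ h

theorem exists_ev [Fintype F] {p : F[X]} (h : p ≠ 0) (hd : p.natDegree < Fintype.card F) : ∃ a, p.eval a ≠ 0 := by
  by_contra! H
  exact h (eq_zero_of_natDegree_lt_card_of_eval_eq_zero p Function.injective_id H hd)

theorem ne_of_ev {p : F[X]} (a : F) (h : p.eval a ≠ 0) : p ≠ 0 := by rintro rfl; simp at h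

theorem exists_val [Fintype F] (h5 : 5 ≤ Fintype.card F) {x y z : F} (h : x + y + z ≠ 0) :
    ∃ a : Fˣ, a.1 - 1 ≠ 0 ∧ x * a ^ 2 + y * a + z ≠ 0 := by
  obtain ⟨a, ha⟩ := exists_ev (p := X * (X - 1) * (C x * X ^ 2 + C y * X + C z))
    (mul_ne_zero (mul_ne_zero X_ne_zero (ne_of_ev 0 (by simp))) (ne_of_ev 1 (by simpa using h))) (lt_of_le_of_lt (b := 4) (by compute_degree) h5)
  simp only [eval_mul, mul_ne_zero_iff] at ha
  exact ⟨.mk0 a (by simpa using ha.1.1), by simpa using ha.1.2, by simpa using ha.2⟩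

theorem exists_sq [Fintype F] (h5 : 5 ≤ Fintype.card F) : ∃ a : Fˣ, a.1 - 1 ≠ 0 ∧ a.1 + 1 ≠ 0 := by
  by_cases h : (2 : F) = 0
  · obtain ⟨a, h1, -⟩ := exists_val h5 (x := 0) (y := 0) (z := 1) (by simp)
    exact ⟨a, h1, fun e => h1 (by linear_combination e - h)⟩
  · simpa using exists_val h5 (x := 0) (y := 1) (z := 1) (by simpa [one_add_one_eq_two] using h)

theorem num [Fintype F] (h5 : 5 ≤ Fintype.card F) {β : F} (h0 : β ≠ 0) (h : ∀ a : Fˣ, a.1 - 1 ≠ 0 →
    (a - 1) * ((a : F)⁻¹ - 1) * β = 1 ∨ 2 * ((a - 1) * ((a : F)⁻¹ - 1) * β) = 1) : β = -1 ∧ (5 : F) = 0 := by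
  by_cases h7 : 7 ≤ Fintype.card F
  · obtain ⟨a, ha⟩ := exists_ev (p := X * (X - 1) * (C β * (X - 1) ^ 2 + X) * (C (2 * β) * (X - 1) ^ 2 + X))
      (mul_ne_zero (mul_ne_zero (mul_ne_zero X_ne_zero (ne_of_ev 0 (by simp))) (ne_of_ev 1 (by simp))) (ne_of_ev 1 (by simp)))
      (lt_of_le_of_lt (b := 6) (by compute_degree) h7)
    simp only [eval_mul, mul_ne_zero_iff, eval_add, eval_sub, eval_pow, eval_X, eval_C, eval_one] at ha
    obtain ⟨⟨⟨h1, h2⟩, h3⟩, h4⟩ := ha
    rcases h (.mk0 a h1) h2 with e | e <;> simp only [Units.val_mk0] at e <;> field_simp at e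
    exacts [absurd (by linear_combination -e) h3, absurd (by linear_combination -e) h4]
  obtain ⟨p, hp⟩ := CharP.exists F
  obtain ⟨n, h1, h2⟩ := FiniteField.card F p
  have h6 : Fintype.card F = 5 := by
    by_contra h6
    exact absurd ((isPrimePow_nat_iff _).2 ⟨p, n, h1, n.2, h2.symm⟩) (by rw [show Fintype.card F = 6 by omega]; decide)
  have e5 : (5 : F) = 0 := by exact_mod_cast h6 ▸ FiniteField.cast_card_eq_zero F
  have e2 : (2 : F) ≠ 0 := fun e => one_ne_zero (by linear_combination e5 - 2 * e : (1 : F) = 0)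
  have i1 := h (.mk0 2 e2) (by simpa using fun e => one_ne_zero (by linear_combination e : (1 : F) = 0))
  have i2 := h (-1) (by simpa using fun e => e2 (by linear_combination -e))
  rw [Units.val_mk0, show (2 : F)⁻¹ = 3 from inv_eq_of_mul_eq_one_right (by linear_combination e5)] at i1
  simp only [Units.val_neg, Units.val_one, inv_neg, inv_one] at i2
  refine ⟨?_, e5⟩
  grind

/-- a basis with its dual basis -/
structure Fr (e : ι → V) (f : ι → Dual F V) : Prop where
  ap : ∀ i j, f i (e j) = if i = j then 1 else 0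
  sum : ∀ v, ∑ i, f i v • e i = v

variable {e : ι → V} {f : ι → Dual F V}

namespace Fr
variable (h : Fr e f)
include h

theorem one (i : ι) : f i (e i) = 1 := by simp [h.ap]

theorem ext (H : ∀ i, f i u = f i v) : u = v := by rw [← h.sum u, ← h.sum v]; simp [H]

theorem exists_ne (H : φ u ≠ 0) : ∃ l, f l u ≠ 0 ∧ φ (e l) ≠ 0 := by
  by_contra! H'
  refine H (by rw [← h.sum u, map_sum]; exact Finset.sum_eq_zero fun i _ => by simpa [or_iff_not_imp_left] using H' i)

theorem eq_smul {i : ι} (H : ∀ k, k ≠ i → f k u = 0) : u = f i u • e i :=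
  h.ext fun k => by by_cases e : k = i <;> simp [h.ap, e, H]

end Fr

/-- an overgroup of the monomial group on the indices other than `m`, without elementary transvections -/
structure Bo [Fintype F] (e : ι → V) (f : ι → Dual F V) (m : ι) (K : Subgroup (V ≃ₗ[F] V)) : Prop extends Fr e f where
  h5 : 5 ≤ Fintype.card F
  hι : 4 ≤ Fintype.card ι
  hD : ∀ k a, k ≠ m → hm (f k) (e k) a ∈ K
  hW : ∀ i j, i ≠ m → j ≠ m → i ≠ j → ∃ w ∈ K, ∀ v, w v = v - (f i v - f j v) • (e i - e j)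
  hT : ∀ k l, k ≠ m → l ≠ m → k ≠ l → ∀ c : F, c ≠ 0 → tr (f l) (c • e k) ∉ K

/-- a full homology group in `K` -/
structure HP (e : ι → V) (f : ι → Dual F V) (m : ι) (K : Subgroup (V ≃ₗ[F] V)) (u : V) (φ : Dual F V) : Prop where
  one : φ u = 1
  z1 : f m u = 0
  z2 : φ (e m) = 0
  mem : ∀ a, hm φ u a ∈ K

variable {m k i j : ι}

theorem HP.cj {g : V ≃ₗ[F] V} (h : HP e f m K u φ) (hg : g ∈ K) (h1 : f m (g u) = 0) (h2 : g (e m) = e m) (h3 : ∀ x, ψ (g x) = φ x) :
    HP e f m K (g u) ψ := ⟨(h3 u).trans h.one, h1, h2 ▸ (h3 _).trans h.z2, fun a =>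
  mem_of_eq (mul_mem (mul_mem hg (h.mem a)) (inv_mem hg)) fun x => by simp [hm_apply h.one, hm_apply ((h3 u).trans h.one), ← h3]⟩

theorem HP.cj' (h : HP e f m K u φ) (h' : HP e f m K v ψ) (a : Fˣ) :
    HP e f m K (v + ((a - 1) * φ v) • u) (ψ + (((a : F)⁻¹ - 1) * ψ u) • φ) :=
  hm_apply h.one v ▸ h'.cj (h.mem a) (by simp [hm_apply h.one, h.z1, h'.z1]) (by simp [hm_apply h.one, h.z2])
    fun x => by simp [hm_apply h.one, h.one]; field_simp; ring

namespace Bo
variable [Fintype F] (h : Bo e f m K)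
include h

theorem std (hk : k ≠ m) : HP e f m K (e k) (f k) := ⟨h.one k, by simp [h.ap, hk.symm], by simp [h.ap, hk], fun _ => h.hD _ _ hk⟩

theorem sup1 (H : HP e f m K u φ) (hk : f k u ≠ 0) : φ (e k) ≠ 0 := fun h0 => by
  have km : k ≠ m := by rintro rfl; exact hk H.z1
  obtain ⟨a, ha, -⟩ := exists_sq h.h5
  obtain ⟨l, -, hl⟩ := h.exists_ne (H.one ▸ one_ne_zero)
  have lk : k ≠ l := by rintro rfl; exact hl h0
  have lm : l ≠ m := by rintro rfl; exact hl H.z2
  have h1 : tr φ (((a.1 - 1) * (a - 1) * f k u) • e k) ∈ K := mem_of_eq (mul_mem (inv_mem (H.mem a)) (((h.std km).cj' H a).mem a)) fun x => by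
    rw [LinearEquiv.mul_apply, hm_apply ((h.std km).cj' H a).one, hm_inv_apply H.one, tr_apply (by simp [h0])]
    simp [h0, H.one]; match_scalars <;> field_simp <;> ring
  refine h.hT k l km lm lk ((((a : F)⁻¹ - 1) * φ (e l)) * ((a.1 - 1) * (a - 1) * f k u)) (by simp [sub_eq_zero, *]; simpa [sub_eq_zero] using ha)
    (mem_of_eq (mul_mem (inv_mem h1) (conj_tr_mem (h.hD l a lm) h1)) fun x => ?_)
  rw [LinearEquiv.mul_apply, tr_inv (by simp [h0]), tr_apply (by simp [h0]), tr_apply (by rw [dact_apply_apply]; simp [h0]), tr_apply (by simp [h.ap, lk.symm])]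
  simp [dact_apply, hm_inv_apply (h.one _), hm_apply (h.one _), h.ap, lk.symm, h0]; module

theorem sup2 (H : HP e f m K u φ) (hk : φ (e k) ≠ 0) : f k u ≠ 0 := fun h0 => by
  have km : k ≠ m := by rintro rfl; exact hk H.z2
  obtain ⟨a, ha, -⟩ := exists_sq h.h5
  obtain ⟨l, hl, -⟩ := h.exists_ne (H.one ▸ one_ne_zero)
  have lk : l ≠ k := by rintro rfl; exact hl h0
  have lm : l ≠ m := by rintro rfl; exact hl H.z1
  have h1 : tr (f k) (((a.1 - 1) * ((a : F)⁻¹ - 1) * φ (e k)) • u) ∈ K := mem_of_eq (mul_mem (((h.std km).cj' H a).mem a) (inv_mem (H.mem a))) fun x => by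
    rw [LinearEquiv.mul_apply, hm_apply ((h.std km).cj' H a).one, hm_inv_apply H.one, tr_apply (by simp [h0])]
    simp [h0, H.one]; match_scalars <;> field_simp <;> ring
  refine h.hT l k lm km lk (((a.1 - 1) * ((a : F)⁻¹ - 1) * φ (e k)) * ((a.1 - 1) * f l u)) (by simp [sub_eq_zero, *]; simpa [sub_eq_zero] using ha)
    (mem_of_eq (mul_mem (inv_mem h1) (conj_tr_mem (h.hD l a lm) h1)) fun x => ?_)
  rw [LinearEquiv.mul_apply, tr_inv (by simp [h0]), tr_apply (by simp [h0]), tr_apply (by rw [dact_apply_apply]; simp [h0]), tr_apply (by simp [h.ap, lk.symm])]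
  simp [dact_apply, hm_inv_apply (h.one _), hm_apply (h.one _), h.ap, lk.symm, h0]; module

theorem val (H : HP e f m K u φ) (hk : f k u ≠ 0) : f k u * φ (e k) = 1 ∨ 2 * (f k u * φ (e k)) = 1 := by
  have km : k ≠ m := by rintro rfl; exact hk H.z1
  have h1 := mul_ne_zero hk (h.sup1 H hk)
  refine or_iff_not_imp_left.2 fun h2 => ?_
  have h3 : 1 - (f k u * φ (e k))⁻¹ ≠ 0 := by rwa [sub_ne_zero, Ne, eq_comm, inv_eq_one]
  have h4 := mt (h.sup2 (k := k) (H.cj' (h.std km) (.mk0 _ h3))) (by simp [h.ap]; field_simp [hk, h.sup1 H hk]; ring)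
  simp only [Units.val_mk0, ne_eq, not_not, LinearMap.add_apply, h.one, LinearMap.smul_apply, smul_eq_mul, mul_assoc] at h4
  generalize f k u * φ (e k) = α at *
  have : α - 1 ≠ 0 := sub_ne_zero.2 h2
  field_simp at h4
  linear_combination h4

theorem pair (H : HP e f m K u φ) (H' : HP e f m K v ψ) (h1 : f j v = 0) (h2 : ψ (e j) = 0) (h3 : φ v * ψ u * (f j u * φ (e j)) ≠ 0) :
    φ v * ψ u * (f j u * φ (e j)) = -1 ∧ (5 : F) = 0 := num h.h5 h3 fun a ha => by
  have := h.val (k := j) (H.cj' H' a) (by simp only [mul_ne_zero_iff] at h3; simp [h1, ha, h3])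
  simp only [map_add, map_smul, h1, h2, LinearMap.add_apply, LinearMap.smul_apply, smul_eq_mul, zero_add] at this
  convert this using 2 <;> ring

theorem three (H : HP e f m K u φ) (hi : f i u ≠ 0) (hj : f j u ≠ 0) (n : i ≠ j) : f i u * φ (e i) = 3 ∧ (5 : F) = 0 := by
  obtain ⟨h1, h2⟩ := h.pair (j := j) H (h.std (k := i) (by rintro rfl; exact hi H.z1)) (by simp [h.ap, n.symm]) (by simp [h.ap, n])
    (by simp [hi, hj, h.sup1 H])
  refine ⟨?_, h2⟩
  rw [mul_comm (φ _)] at h1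
  have h3 := h.val H hi
  have h4 := h.val H hj
  generalize f i u * φ (e i) = α, f j u * φ (e j) = β at *
  grind

theorem out (H : HP e f m K u φ) (hi : f i u ≠ 0) (hj : f j u ≠ 0) (n : i ≠ j) (km : k ≠ m) : f k u ≠ 0 := fun hk => by
  obtain ⟨h1, h2⟩ := h.three H hi hj n
  have im : i ≠ m := by rintro rfl; exact hi H.z1
  have ik : i ≠ k := by rintro rfl; exact hi hk
  have hk' : φ (e k) = 0 := by_contra fun e => h.sup2 H e hk
  obtain ⟨w, hw, h3⟩ := h.hW i k im km ik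
  have H' := H.cj (ψ := φ - φ (e i) • (f i - f k)) hw (by simp [h3, h.ap, H.z1, im.symm, km.symm]) (by simp [h3, h.ap, im, km])
    fun x => by simp [h3, h.ap, ik, ik.symm, hk']; ring
  have e1 : φ (w u) = -2 := by simp [h3, H.one, hk, hk']; linear_combination -h1
  have e2 : (φ - φ (e i) • (f i - f k)) u = -2 := by simp [H.one, hk]; linear_combination -h1
  have := h.pair (j := i) H H' (by simp [h3, h.ap, ik, hk]) (by simp [h.ap, ik.symm])
  rw [e1, e2, h1] at this
  exact one_ne_zero (α := F) (by linear_combination 2 * (this fun e => one_ne_zero (α := F) (by linear_combination 3 * e - 7 * h2)).1 - 5 * h2)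

theorem uniq (H : HP e f m K u φ) (hi : f i u ≠ 0) (hj : f j u ≠ 0) : i = j := by_contra fun n => by
  classical
  obtain ⟨k, hk⟩ : ∃ k, k ∉ ({i, j, m} : Finset ι) := by
    by_contra! H
    have := (Finset.card_le_card (fun x _ => H x : Finset.univ ⊆ _)).trans Finset.card_le_three
    have := h.hι; simp_all; omega
  simp only [Finset.mem_insert, Finset.mem_singleton, not_or] at hk
  obtain ⟨h1, h2⟩ := h.three H hi hj n
  have im : i ≠ m := by rintro rfl; exact hi H.z1
  have e2 : (2 : F) ≠ 0 := fun e => one_ne_zero (by linear_combination h2 - 2 * e : (1 : F) = 0)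
  have h3 : ∀ l, l ≠ i → f l u ≠ 0 → f l (e i + (((-1 : Fˣ) - 1 : F) * φ (e i)) • u) ≠ 0 := fun l n hl => by
    simpa [h.ap, n, hl, h.sup1 H hi] using fun e => e2 (by linear_combination -e)
  exact h.out (H.cj' (h.std im) (-1)) (h3 j (Ne.symm n) hj) (h3 k hk.1 (h.out H hi hj n hk.2.2)) (Ne.symm hk.2.1) im
    (by simp [h.ap]; linear_combination -2 * h1 - h2)

end Bo

end CfsgH9.MX
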