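import Cfsg.Agent.H9.MX1

/-! Overgroups of the monomial group in `SL_n(q)`, `q ≥ 5`, `n ≥ 13`. -/

open Module CfsgH5

namespace CfsgH9.MX

variable {F : Type*} [Field F] {V : Type*} [AddCommGroup V] [Module F V] {ι : Type*} [Fintype ι] [DecidableEq ι]
  {e : ι → V} {f : ι → Dual F V} {H G : Subgroup (V ≃ₗ[F] V)} {g x z : V ≃ₗ[F] V} {m k l i j o : ι} {a : Fˣ}

omit [DecidableEq ι] in
theorem exists_out (S : Finset ι) (h : S.card < Fintype.card ι) : ∃ l, l ∉ S := by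
  by_contra! H
  exact absurd (Finset.card_le_card (fun x _ => H x : Finset.univ ⊆ S)) (by simpa using h)

/-- a diagonal element of determinant one -/
noncomputable def dd (e : ι → V) (f : ι → Dual F V) (k l : ι) (a : Fˣ) : V ≃ₗ[F] V := hm (f k) (e k) a * hm (f l) (e l) a⁻¹

theorem Fr.dd_apply (h : Fr e f) (n : k ≠ l) (v : V) :
    dd e f k l a v = v + ((a - 1) * f k v) • e k + (((a : F)⁻¹ - 1) * f l v) • e l := by
  simp [dd, hm_apply (h.one _), h.ap, n, add_right_comm]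

theorem Fr.dd_inv (h : Fr e f) (n : k ≠ l) : (dd e f k l a)⁻¹ = dd e f k l a⁻¹ := LinearEquiv.ext fun v => by
  simp [dd, hm_inv (h.one _), hm_apply (h.one _), h.ap, n, n.symm, add_right_comm]

variable [FiniteDimensional F V] [Fintype F]

/-- an overgroup `G` of the monomial group `H ∩ SL` without elementary transvections -/
structure MG (e : ι → V) (f : ι → Dual F V) (H G : Subgroup (V ≃ₗ[F] V)) : Prop extends Fr e f where
  h5 : 5 ≤ Fintype.card F
  hι : 13 ≤ Fintype.card ι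
  hH : ∀ g, g ∈ H ↔ ∀ j, ∃ i, ∃ c : F, g (e j) = c • e i
  hG : ∀ g ∈ H, LinearEquiv.det g = 1 → g ∈ G
  hT : ∀ k l, k ≠ l → ∀ c : F, c ≠ 0 → tr (f l) (c • e k) ∉ G

namespace MG
variable (h : MG e f H G)
include h

theorem hm_mem (k : ι) (a : Fˣ) : hm (f k) (e k) a ∈ H := (h.hH _).2 fun j => ⟨j, if k = j then a else 1, by
  rw [hm_apply (h.one _), h.ap]; split_ifs with e
  · subst e; module
  · simp⟩

theorem dd_mem (k l : ι) (a : Fˣ) : dd e f k l a ∈ G :=
  h.hG _ (mul_mem (h.hm_mem _ _) (h.hm_mem _ _)) (by simp [dd, det_hm (h.one _)])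

theorem sw (n : i ≠ j) {c : F} (hc : c ≠ 0) : ∃ w ∈ H, LinearEquiv.det w = -1 ∧ ∀ v, w v = v - (f i v - c⁻¹ * f j v) • (e i - c • e j) := by
  have e1 : 1 + (c⁻¹ • f j - f i) (e i - c • e j) = -1 := by simp [h.ap, n, n.symm, hc]
  have e2 : ∀ v, dl (c⁻¹ • f j - f i) (e i - c • e j) (by rw [e1]; simp) v = v - (f i v - c⁻¹ * f j v) • (e i - c • e j) := fun v => by
    simp [dl_apply]; module
  refine ⟨_, (h.hH _).2 fun k => ?_, Units.ext (by rw [LinearEquiv.coe_det, det_dl, e1]; rfl), e2⟩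
  by_cases h1 : i = k
  · exact ⟨j, c, by simp [e2, h.ap, ← h1, n.symm]⟩
  by_cases h2 : j = k
  · exact ⟨i, c⁻¹, by simp [e2, h.ap, ← h2, n, smul_sub, hc]⟩
  exact ⟨k, 1, by simp [e2, h.ap, h1, h2]⟩

theorem step (hx : x ∈ G) (n : l ≠ o) (h1 : ∀ v, f l (x v) = f l v) (h2 : ∀ v, f o (x v) = f o v) (a : Fˣ) : ∃ y ∈ G, ∀ v,
    y v = v + (((a : F)⁻¹ - 1) * f l v) • (e l - x⁻¹ (e l)) + ((a - 1) * f o v) • (e o - x⁻¹ (e o)) :=
  ⟨_, mul_mem (inv_mem hx) (mul_mem (mul_mem (h.dd_mem l o a) hx) (inv_mem (h.dd_mem l o a))), fun v => x.injective (by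
    simp [h.dd_inv n, h.dd_apply n, h1, h2, h.ap, n, n.symm]; match_scalars <;> field_simp <;> ring)⟩

theorem fix (hx : x ∈ G) (S : Finset ι) (hS : S.card ≤ 10) (h1 : ∀ i ∉ S, ∀ v, f i (x v) = f i v) (hl : l ∉ S) : x (e l) = e l := by
  have := h.hι
  obtain ⟨o, ho⟩ := exists_out (insert l S) ((Finset.card_insert_le _ _).trans_lt (by omega))
  obtain ⟨k, hk⟩ := exists_out (insert o (insert l S)) ((Finset.card_insert_le _ _).trans_lt (by have := Finset.card_insert_le l S; omega))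
  simp only [Finset.mem_insert, not_or] at ho hk
  obtain ⟨a, ha, -⟩ := exists_sq h.h5
  have ha' : (a : F)⁻¹ - 1 ≠ 0 := by simpa [sub_eq_zero] using ha
  have h2 : ∀ i ∉ S, ∀ v, f i (x.symm v) = f i v := fun i hi v => by rw [← h1 i hi]; simp
  obtain ⟨y, hy, h3⟩ := h.step hx (Ne.symm ho.1) (h1 l hl) (h1 o ho.2) a
  obtain ⟨t, ht, h4⟩ := h.step hy (Ne.symm hk.2.1) (by simp [h3, h2, hl]) (by simp [h3, h2, hk.2.2]) a
  have e1 : y.symm (e k) = e k := y.symm_apply_eq.2 (by simp [h3, h.ap, Ne.symm hk.1, Ne.symm hk.2.1])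
  have e2 : y.symm (e l) = e l - ((a : F)⁻¹ - 1) • (e l - x⁻¹ (e l)) := y.symm_apply_eq.2 (by simp [h3, h.ap, h2, hl, ho])
  refine x.symm_apply_eq.1 ?_ |>.symm
  refine h.ext fun i => by_contra fun n => ?_
  have hi : i ∈ S := by_contra fun hi => n (h2 i hi _)
  have il : i ≠ l := by rintro rfl; exact hl hi
  have io : i ≠ o := by rintro rfl; exact ho.2 hi
  refine h.hT i l il (((a : F)⁻¹ - 1) * ((a : F)⁻¹ - 1) * ((a - 1) * f i (e l - x⁻¹ (e l)))) (by
    simpa [ha, ha', sub_eq_zero] using Ne.symm n) (mem_of_eq (mul_mem (inv_mem ht) (mul_mem (mul_mem (h.dd_mem i o a) ht) (inv_mem (h.dd_mem i o a))))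
      fun v => t.symm_apply_eq.2 ?_)
  rw [tr_apply (by simp [h.ap, il.symm])]
  simp [h.dd_inv io, h.dd_apply io, h4, e1, e2, h.ap, h2, hl, ho.2, io, io.symm, il, il.symm, ho.1, Ne.symm ho.1]
  match_scalars <;> field_simp <;> ring

/-- elements agreeing with an element of `G` modulo `e m` -/
def tl (h : Fr e f) (m : ι) (G : Subgroup (V ≃ₗ[F] V)) : Subgroup (V ≃ₗ[F] V) where
  carrier := {y | (∀ i, i ≠ m → f i (y (e m)) = 0) ∧ ∃ x ∈ G, ∀ v i, i ≠ m → f i (x v) = f i (y v)}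
  one_mem' := ⟨fun i n => by simp [h.ap, n], 1, one_mem _, fun _ _ _ => rfl⟩
  mul_mem' := fun {y y'} ⟨h1, x, h2, h3⟩ ⟨h4, x', h5, h6⟩ => ⟨fun i n => by
    rw [LinearEquiv.mul_apply, h.eq_smul h4]; simp [h1 i n], _, mul_mem h2 h5, fun v i n => by
    have := h.eq_smul (u := x' v - y' v) (i := m) fun k n => by simp [h6 v k n]
    rw [LinearEquiv.mul_apply, h3 _ i n, sub_eq_iff_eq_add.1 this]; simp [h1 i n]⟩
  inv_mem' := fun {y} ⟨h1, x, h2, h3⟩ => by
    have h4 : ∀ i, i ≠ m → f i (y.symm (e m)) = 0 := fun i n => by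
      have h5 := congrArg (fun v => f i (y⁻¹ v)) (h.eq_smul h1)
      have h6 : f m (y (e m)) ≠ 0 := fun e => by
        have := h.eq_smul h1; rw [e, zero_smul, map_eq_zero_iff _ y.injective] at this; simpa [this] using h.one m
      simpa [h.ap, n, h6] using h5.symm
    refine ⟨h4, _, inv_mem h2, fun v i n => ?_⟩
    have := h.eq_smul (u := y (x⁻¹ v) - v) (i := m) fun k n => by simp [← h3 _ k n]
    have := congrArg (fun v => f i (y⁻¹ v)) (sub_eq_iff_eq_add.1 this)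
    simpa [h4 i n] using this

theorem bo (m : ι) : Bo e f m (tl h.toFr m G) where
  toFr := h.toFr
  h5 := h.h5
  hι := by have := h.hι; omega
  hD k a n := ⟨fun i n' => by simp [hm_apply (h.one _), h.ap, n, n'], _, h.dd_mem k m a, fun v i n' => by
    simp [h.dd_apply n, hm_apply (h.one _), h.ap, n']⟩
  hW i j h1 h2 n := by
    obtain ⟨w, h3, h4, h5⟩ := h.sw n one_ne_zero
    exact ⟨w, ⟨fun k n => by simp [h5, h.ap, h1, h2, n], _, h.hG _ (mul_mem (h.hm_mem m (-1)) h3) (by simp [h4, det_hm (h.one _)]),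
      fun v k n => by simp [hm_apply (h.one _), h.ap, n]⟩, by simpa using h5⟩
  hT k l h1 h2 n c hc := fun ⟨_, x, h3, h4⟩ => by
    have h5 : f l (c • e k) = 0 := by simp [h.ap, n.symm]
    have := h4 (e l) k h1
    rw [h.fix h3 {k, m} (Finset.card_le_two.trans (by omega)) (fun i hi v => by
      simp only [Finset.mem_insert, Finset.mem_singleton, not_or] at hi; simp [h4 v i hi.2, tr_apply h5, h.ap, hi.1]) (by simp [n.symm, h2])] at this
    simp [tr_apply h5, h.ap, hc] at this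

theorem par0 (hg : g ∈ G) {c : F} (h1 : g (e m) = c • e m) : g ∈ H := (h.hH _).2 fun j => by
  by_cases n : j = m
  · exact ⟨m, c, n ▸ h1⟩
  have h0 : dact g (f m) (e m) * c = 1 := by simpa [h1, h.ap, mul_comm] using dact_apply_apply g (f m) (e m)
  have h2 : dact g (f j) (e m) = 0 := by simpa [h1, h.ap, n, right_ne_zero_of_mul_eq_one h0] using dact_apply_apply g (f j) (e m)
  have h3 : ∀ a v, (g * dd e f j m a * g⁻¹) v = v + ((a - 1) * dact g (f j) v) • g (e j) + (((a : F)⁻¹ - 1) * dact g (f m) v) • c • e m :=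
    fun a v => by simp [h.dd_apply n, dact_apply, h1]
  have h4 : dact g (f j) (g (e j) - f m (g (e j)) • e m) = 1 := by simp [h2, h.ap]
  have P : HP e f m (tl h.toFr m G) (g (e j) - f m (g (e j)) • e m) (dact g (f j)) := ⟨h4, by simp [h.ap], h2, fun a =>
    ⟨fun i n => by simp [hm_apply h4, h2, h.ap, n], _, mul_mem (mul_mem hg (h.dd_mem j m a)) (inv_mem hg), fun v i n => by
      simp only [h3]; simp [hm_apply h4, h.ap, n]⟩⟩
  obtain ⟨i, h5, -⟩ := h.exists_ne (h4 ▸ one_ne_zero)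
  have im : i ≠ m := by rintro rfl; exact h5 P.z1
  obtain ⟨s, θ, h6⟩ : ∃ s θ : F, g (e j) = s • e i + θ • e m :=
    ⟨_, _, sub_eq_iff_eq_add.1 (h.eq_smul (i := i) fun k n => by_contra fun e => n ((h.bo m).uniq P e h5))⟩
  have h7 : ∀ v, dact g (f j) v = f i v * dact g (f j) (e i) := fun v => by
    conv_lhs => rw [← h.sum v, map_sum, Finset.sum_eq_single i (fun k _ n => by
      simp [show dact g (f j) (e k) = 0 from by_contra fun e => n ((h.bo m).uniq P ((h.bo m).sup2 P e) h5)]) (by simp)]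
    simp
  have h8 := dact_apply_apply g (f m) (e j)
  have h9 := h7 (g (e j))
  obtain ⟨a, ha, ha'⟩ := exists_sq h.h5
  rw [dact_apply_apply] at h9
  simp only [h6, map_add, map_smul, h.ap, im, if_true, if_false, Ne.symm n, smul_eq_mul] at h8 h9
  have := congrArg (f m) (h.fix (mul_mem (mul_mem (mul_mem hg (h.dd_mem j m a)) (inv_mem hg)) (inv_mem (h.dd_mem i m a))) {m} (by simp)
    (fun k hk v => by
      rw [LinearEquiv.mul_apply, h3, h7, h.dd_inv im, h6]
      by_cases e : k = i <;> simp [h.dd_apply im, h.ap, e, im, Finset.notMem_singleton.1 hk]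
      field_simp; linear_combination (f i v * (1 - a)) * h9) (l := i) (by simpa))
  rw [LinearEquiv.mul_apply, h3, h.dd_inv im, h6] at this
  simp [h.dd_apply im, h.ap, im, im.symm] at this
  have := a.ne_zero
  exact ⟨i, s, by rw [h6, show θ = 0 by grind]; simp⟩

theorem par (hg : g ∈ G) {c : F} (h1 : g (e m) = c • e k) : g ∈ H := by
  by_cases n : k = m
  · exact h.par0 hg (n ▸ h1)
  obtain ⟨w, h3, h4, h5⟩ := h.sw n one_ne_zero
  have h6 := mul_mem (h.hm_mem k (-1)) h3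
  exact (mul_mem_cancel_left h6).1 (h.par0 (m := m) (c := c) (mul_mem (h.hG _ h6 (by simp [h4, det_hm (h.one _)])) hg)
    (by simp [h1, h5, hm_apply (h.one _), h.ap, n, Ne.symm n]))

theorem two (n : k ≠ l) (h1 : ∀ a, g⁻¹ * dd e f k l a * g ∈ H) (j : ι) :
    ∃ (a : Fˣ) (c : F), (a * f k (g (e j))) • g.symm (e k) - f l (g (e j)) • g.symm (e l) = c • e j := by
  obtain ⟨a, ha, h2⟩ := exists_val h.h5 (x := f k (g (e j)) * f j (g.symm (e k))) (z := f l (g (e j)) * f j (g.symm (e l)))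
    (y := 1 - f k (g (e j)) * f j (g.symm (e k)) - f l (g (e j)) * f j (g.symm (e l))) (by ring_nf; simp)
  obtain ⟨i, c, h3⟩ := (h.hH _).1 (h1 a) j
  simp only [LinearEquiv.mul_apply, h.dd_apply n, map_add, map_smul, LinearEquiv.coe_inv, LinearEquiv.symm_apply_apply] at h3
  obtain rfl : j = i := by_contra fun n => h2 (by
    have := congrArg (f j) h3
    simp [h.ap, n] at this
    field_simp at this
    linear_combination this)
  refine ⟨a, (c - 1) * a / (a - 1), smul_right_injective V (r := ((a - 1) / a : F)) (by simp [ha]) ?_⟩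
  have : ((a - 1) / a * ((c - 1) * a / (a - 1)) : F) = c - 1 := by field_simp
  simp only [smul_smul, this, sub_smul c, ← h3]
  match_scalars <;> field_simp <;> ring

theorem col (hg : g ∈ G) (n1 : k ≠ l) (n2 : k ≠ o) (n3 : l ≠ o) (h1 : f k (g (e m)) = 0) (h2 : f l (g (e m)) = 0) (h3 : f o (g (e m)) = 0) :
    g ∈ H := by
  have h4 : ∀ {l}, k ≠ l → f l (g (e m)) = 0 → ∀ a, g⁻¹ * dd e f k l a * g ∈ H := fun n h2 a =>
    h.par (m := m) (k := m) (c := 1) (mul_mem (mul_mem (inv_mem hg) (h.dd_mem _ _ _)) hg) (by simp [h.dd_apply n, h1, h2])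
  obtain ⟨j, -, hj⟩ := h.exists_ne (φ := f k ∘ₗ g.toLinearMap) (u := g.symm (e k)) (by simp [h.ap])
  obtain ⟨a, c, h5⟩ := h.two n1 (h4 n1 h2) j
  obtain ⟨b, d, h6⟩ := h.two n2 (h4 n2 h3) j
  have h7 := congrArg (fun v => f k (g v)) h5
  have h8 := congrArg (fun v => f o (g v)) h5
  replace hj : f k (g (e j)) ≠ 0 := hj
  simp [h.ap, n1, n2.symm, n3.symm, hj] at h7 h8
  rw [h8.resolve_left (h7 ▸ a.ne_zero), zero_smul, sub_zero] at h6
  exact inv_mem_iff.1 (h.par (inv_mem hg) (m := k) (k := j) (c := (b * f k (g (e j)))⁻¹ * d) (by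
    rw [mul_smul, ← h6, inv_smul_smul₀ (by simp [hj])]; rfl))

theorem of_supp (hg : g ∈ G) (S : Finset ι) (hS : S.card ≤ 10) (h1 : ∀ i ∉ S, f i (g (e m)) = 0) : g ∈ H := by
  obtain ⟨k, l, o, h2, h3, h4, n1, n2, n3⟩ := Finset.two_lt_card_iff.1 (show 2 < Sᶜ.card by have := h.hι; rw [Finset.card_compl]; omega)
  exact h.col hg n1 n2 n3 (h1 _ (by simpa using h2)) (h1 _ (by simpa using h3)) (h1 _ (by simpa using h4))

theorem zs (hg : g ∈ G) (hn : g ∉ H) (m : ι) : ∃ Z : Finset ι, Z.card ≤ 2 ∧ ∀ i ∉ Z, f i (g (e m)) ≠ 0 := by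
  classical
  refine ⟨Finset.univ.filter fun i => f i (g (e m)) = 0, not_lt.1 fun h1 => ?_, by simp⟩
  obtain ⟨k, l, o, h2, h3, h4, n1, n2, n3⟩ := Finset.two_lt_card_iff.1 h1
  exact hn (h.col hg n1 n2 n3 (by simpa using h2) (by simpa using h3) (by simpa using h4))

theorem small (hz : z ∈ H) {b b' : V} (h1 : ∀ v, ∃ s t : F, z v - v = s • b + t • b') :
    ∃ S : Finset ι, S.card ≤ 4 ∧ ∀ v, ∀ i ∉ S, f i (z v - v) = 0 := by
  choose σ c h2 using (h.hH _).1 hz
  have h3 : ∀ l, z (e l) ≠ e l → f l (z (e l) - e l) ≠ 0 := fun l n e0 => by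
    by_cases e1 : l = σ l
    · rw [h2, ← e1] at n e0; simp [h.ap, sub_eq_zero] at e0; simp [e0] at n
    · simp [h2, h.ap, e1] at e0
  have h4 : ∀ l i, i ≠ l → i ≠ σ l → f i (z (e l) - e l) = 0 := fun l i n n' => by simp [h2, h.ap, n, n']
  obtain ⟨S, h5, h6⟩ : ∃ S : Finset ι, S.card ≤ 4 ∧ ∀ l, z (e l) ≠ e l → l ∈ S := by
    by_contra! H
    obtain ⟨l1, a1, -⟩ := H ∅ (by simp)
    obtain ⟨l2, a2, b2⟩ := H {l1, σ l1} (Finset.card_le_two.trans (by omega))
    obtain ⟨l3, a3, b3⟩ := H {l1, σ l1, l2, σ l2} Finset.card_le_four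
    simp only [Finset.mem_insert, Finset.mem_singleton, not_or] at b2 b3
    have i1 := h3 _ a1
    have i2 := h3 _ a2
    have i3 := h3 _ a3
    have i4 := h4 _ _ b2.1 b2.2
    have i5 := h4 _ _ b3.1 b3.2.1
    have i6 := h4 _ _ b3.2.2.1 b3.2.2.2
    obtain ⟨s1, t1, e1⟩ := h1 (e l1)
    obtain ⟨s2, t2, e2⟩ := h1 (e l2)
    obtain ⟨s3, t3, e3⟩ := h1 (e l3)
    simp only [e1, e2, e3, map_add, map_smul, smul_eq_mul] at i1 i2 i3 i4 i5 i6
    refine mul_ne_zero (mul_ne_zero i1 i2) i3 ?_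
    grind
  refine ⟨S, h5, fun v i hi => ?_⟩
  rw [← h.sum v, map_sum, ← Finset.sum_sub_distrib, map_sum]
  refine Finset.sum_eq_zero fun l _ => ?_
  rw [map_smul, ← smul_sub, map_smul]
  by_cases n : z (e l) = e l
  · simp [n]
  rw [h4 l i (by rintro rfl; exact hi (h6 _ n)) ?_, smul_zero]
  rintro rfl
  refine hi (h6 _ fun e1 => n ?_)
  rw [z.injective (show z (e l) = z (c l • e (σ l)) by rw [map_smul, e1, h2]), map_smul, e1]

theorem diff (hg : g ∈ G) (hn : g ∉ H) (n : i ≠ j) (hi : f i (g (e m)) ≠ 0) (hj : f j (g (e m)) ≠ 0) :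
    ∃ S : Finset ι, S.card ≤ 4 ∧ ∀ o ∉ S, f i (g (e m)) * f o (g.symm (e i)) = f j (g (e m)) * f o (g.symm (e j)) := by
  have := h.hι
  obtain ⟨Z, h1, h2⟩ := h.zs hg hn m
  have c1 := Finset.card_union_le {i, j} Z
  have c2 := Finset.card_le_two (a := i) (b := j)
  obtain ⟨k, hk⟩ := exists_out ({i, j} ∪ Z) (by omega)
  obtain ⟨l, hl⟩ := exists_out (insert k ({i, j} ∪ Z)) ((Finset.card_insert_le _ _).trans_lt (by omega))
  simp only [Finset.mem_insert, Finset.mem_union, Finset.mem_singleton, not_or] at hk hl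
  have := h2 k hk.2
  have := h2 l hl.2.2
  obtain ⟨w, w1, w2, w3⟩ := h.sw n (c := f j (g (e m)) / f i (g (e m))) (by simp [*])
  obtain ⟨w', w4, w5, w6⟩ := h.sw (Ne.symm hl.1) (c := f l (g (e m)) / f k (g (e m))) (by simp [*])
  obtain ⟨S, h3, h4⟩ := h.small (h.par (m := m) (k := m) (c := 1) (mul_mem (mul_mem (inv_mem hg) (h.hG _ (mul_mem w1 w4) (by simp [w2, w5]))) hg)
    (by simp [w3, w6, *])) (b := g.symm (e i - (f j (g (e m)) / f i (g (e m))) • e j)) (b' := g.symm (e k - (f l (g (e m)) / f k (g (e m))) • e l))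
    fun v => ⟨-(f i (w' (g v)) - (f j (g (e m)) / f i (g (e m)))⁻¹ * f j (w' (g v))), -(f k (g v) - (f l (g (e m)) / f k (g (e m)))⁻¹ * f l (g v)), by
      rw [LinearEquiv.mul_apply, LinearEquiv.mul_apply, LinearEquiv.mul_apply, w3]
      generalize f i (w' (g v)) - _ = s
      simp [w6]; module⟩
  refine ⟨S, h3, fun o ho => ?_⟩
  have := h4 (g.symm (e i)) o ho
  simp [w3, w6, h.ap, hk.1.1, hl.2.1.1, n.symm] at this
  field_simp at this
  linear_combination -this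

theorem minor (hg : g ∈ G) (hn : g ∉ H) (n : i ≠ j) (h1 : f i (g (e m)) ≠ 0) (h2 : f j (g (e m)) ≠ 0) (h3 : f i (g (e k)) ≠ 0)
    (h4 : f j (g (e k)) ≠ 0) : f i (g (e m)) * f j (g (e k)) = f j (g (e m)) * f i (g (e k)) := by_contra fun n' => by
  obtain ⟨S, h5, h6⟩ := h.diff hg hn n h1 h2
  obtain ⟨S', h7, h8⟩ := h.diff hg hn n h3 h4
  refine hn (inv_mem_iff.1 (h.of_supp (m := i) (inv_mem hg) (S ∪ S') ((Finset.card_union_le _ _).trans (by omega)) fun o ho => ?_))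
  rw [Finset.mem_union, not_or] at ho
  exact (mul_eq_zero.1 (by linear_combination f j (g (e k)) * h6 o ho.1 - f j (g (e m)) * h8 o ho.2)).resolve_left (sub_ne_zero.2 n')

theorem le : G ≤ H := fun g hg => by_contra fun hn => by
  have := h.hι
  obtain ⟨J, -, hJ⟩ := Finset.exists_subset_card_eq (show 5 ≤ (Finset.univ : Finset ι).card by simpa using by omega)
  choose Z z1 z2 using h.zs (inv_mem hg) (mt inv_mem_iff.1 hn)
  have c1 := Finset.card_biUnion_le_card_mul J Z 2 fun j _ => z1 j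
  obtain ⟨k, hk⟩ := exists_out (J.biUnion Z) (by omega)
  obtain ⟨l, hl⟩ := exists_out (insert k (J.biUnion Z)) ((Finset.card_insert_le _ _).trans_lt (by omega))
  simp only [Finset.mem_insert, Finset.mem_biUnion, not_or, not_exists, not_and] at hk hl
  obtain ⟨X, x1, x2⟩ := h.zs hg hn k
  obtain ⟨Y, y1, y2⟩ := h.zs hg hn l
  have c2 := Finset.card_union_le X Y
  obtain ⟨i, hi, i0⟩ := Finset.exists_mem_notMem_of_card_lt_card (show (X ∪ Y).card < J.card by omega)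
  obtain ⟨j, hj, j0⟩ := Finset.exists_mem_ne (show 1 < J.card by omega) i
  have c3 := Finset.card_union_le {i, j} (X ∪ Y)
  have c4 := Finset.card_le_two (a := i) (b := j)
  obtain ⟨o, ho⟩ := exists_out ({i, j} ∪ (X ∪ Y)) (by omega)
  obtain ⟨o', ho'⟩ := exists_out (insert o ({i, j} ∪ (X ∪ Y))) ((Finset.card_insert_le _ _).trans_lt (by omega))
  simp only [Finset.mem_insert, Finset.mem_union, Finset.mem_singleton, not_or] at i0 ho ho'
  have n := Ne.symm hl.1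
  have m0 : ∀ a, g * dd e f k l a * g⁻¹ ∈ G := fun a => mul_mem (mul_mem hg (h.dd_mem _ _ _)) (inv_mem hg)
  have u1 := x2 i i0.1
  have u2 := y2 i i0.2
  have u3 := z2 i k (hk i hi)
  have u4 := z2 i l (hl.2 i hi)
  have u5 := z2 j l (hl.2 j hj)
  have u6 := h.minor (inv_mem hg) (mt inv_mem_iff.1 hn) n u3 u4 (z2 j k (hk j hj)) u5
  obtain ⟨κ, hκ⟩ : ∃ κ : Fˣ, κ = f i (g (e k)) * f k (g⁻¹ (e i)) / (f i (g (e l)) * f l (g⁻¹ (e i))) := ⟨.mk0 _ (div_ne_zero (mul_ne_zero u1 u3) (mul_ne_zero u2 u4)), rfl⟩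
  have key : ∀ (a : Fˣ) o t, o ∉ X → o ∉ Y → t = i ∨ t = j → f o ((g * dd e f k l a * g⁻¹) (e t)) = f o (e t) +
      ((a - 1) * κ + ((a : F)⁻¹ - 1)) * f o (g (e l)) * f l (g⁻¹ (e t)) := fun a o t h1 h2 h3 => by
    have : f o (g (e k)) * f i (g (e l)) = f i (g (e k)) * f o (g (e l)) := by
      by_cases e : o = i
      exacts [by rw [e], h.minor hg hn e (x2 o h1) u1 (y2 o h2) u2]
    simp only [LinearEquiv.mul_apply, h.dd_apply n, map_add, map_smul, smul_eq_mul, hκ, show ∀ v, g (g⁻¹ v) = v from g.apply_symm_apply]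
    rcases h3 with rfl | rfl <;> field_simp <;> grind
  have k1 : ∀ a : Fˣ, (a - 1) * κ + ((a : F)⁻¹ - 1) = 0 ↔ g * dd e f k l a * g⁻¹ ∈ H := fun a => ⟨fun e0 =>
    h.of_supp (m := i) (m0 a) (insert i (X ∪ Y)) ((Finset.card_insert_le _ _).trans (by omega)) fun o ho => by
      simp only [Finset.mem_insert, Finset.mem_union, not_or] at ho
      simp only [key a o i ho.2.1 ho.2.2 (.inl rfl), e0, h.ap, ho.1]; simp, fun h1 => by_contra fun e0 => by
    obtain ⟨t, c, h2⟩ := (h.hH _).1 h1 i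
    have h3 : ∀ o, o ≠ i → o ∉ X → o ∉ Y → o = t := fun o a1 a2 a3 => by_contra fun a4 => by
      have := key a o i a2 a3 (.inl rfl)
      rw [h2, map_smul, h.ap, h.ap, if_neg a4, if_neg a1, smul_zero, zero_add] at this
      exact mul_ne_zero (mul_ne_zero e0 (y2 o a3)) u4 this.symm
    exact ho'.1 ((h3 _ ho'.2.1.1 ho'.2.2.1 ho'.2.2.2).trans (h3 _ ho.1.1 ho.2.1 ho.2.2).symm)⟩
  have k2 : ∀ a : Fˣ, (a - 1) * κ + ((a : F)⁻¹ - 1) ≠ 0 → 1 + ((a - 1) * κ + ((a : F)⁻¹ - 1)) * f i (g (e l)) * f l (g⁻¹ (e i)) = 0 :=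
    fun a e0 => by_contra fun e1 => by
      have := y2 o ho.2.2
      have := h.minor (m0 a) (mt (k1 a).2 e0) (i := i) (j := o) (m := i) (k := j) (Ne.symm ho.1.1)
      rw [key a i i i0.1 i0.2 (.inl rfl), key a o i ho.2.1 ho.2.2 (.inl rfl), key a i j i0.1 i0.2 (.inr rfl), key a o j ho.2.1 ho.2.2 (.inr rfl)] at this
      simp only [h.ap, if_true, ho.1, j0.symm, if_false, zero_add] at this
      have := this e1 (by simp only [mul_ne_zero_iff]; tauto) (by simp only [mul_ne_zero_iff]; tauto) (by simp only [mul_ne_zero_iff]; tauto)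
      grind
  have k3 := (k1 κ).2 (by simpa [← h.dd_inv n, mul_assoc] using inv_mem ((k1 κ⁻¹).1 (by simp; field_simp; ring)))
  by_cases h1 : (κ : F) = 1
  · obtain ⟨a, h2, h3⟩ := exists_val h.h5 (x := f i (g (e l)) * f l (g⁻¹ (e i))) (z := f i (g (e l)) * f l (g⁻¹ (e i)))
      (y := 1 - 2 * (f i (g (e l)) * f l (g⁻¹ (e i)))) (by ring_nf; simp)
    have := a.ne_zero
    have := k2 a (by rw [h1]; grind)
    grind
  · obtain ⟨a, h2, h3⟩ := exists_sq h.h5
    have := a.ne_zero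
    have := κ.ne_zero
    have h4 : (κ : F) = -1 := by grind
    have h5 := k2 a (by grind)
    have h6 := k2 a⁻¹ (by simp; grind)
    rw [Units.val_inv_eq_inv_val, inv_inv] at h6
    exact h1 (by rw [h4] at h5 h6 ⊢; linear_combination -h5 - h6)

end MG

end CfsgH9.MX
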