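import Cfsg.Agent.H9.MX2
import Cfsg.Agent.H5.El2

/-! The stabilizer of a direct decomposition is maximal in `SL_n(q)`. -/

open Module CfsgH5

namespace CfsgH9.MX

variable {F : Type*} [Field F] {V : Type*} [AddCommGroup V] [Module F V] [FiniteDimensional F V] {τ : Type*} [Fintype τ] [DecidableEq τ]
  {D : τ → Submodule F V} {p : τ → V →ₗ[F] V} {G : Subgroup (V ≃ₗ[F] V)} {m : ℕ} {g : V ≃ₗ[F] V} {i j k : τ} {u w x : V} {φ χ : Dual F V}

/-- an overgroup of the stabilizer of a decomposition -/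
structure DG (D : τ → Submodule F V) (p : τ → V →ₗ[F] V) (m : ℕ) (G : Subgroup (V ≃ₗ[F] V)) : Prop where
  ind : iSupIndep D
  top : iSup D = ⊤
  dim : ∀ i, finrank F (D i) = m
  pos : 0 < m
  mem : ∀ i v, p i v ∈ D i
  ap : ∀ i j, ∀ v ∈ D j, p i v = if i = j then v else 0
  sum : ∀ v, ∑ i, p i v = v
  le : ∀ g ∈ dstab D, LinearEquiv.det g = 1 → g ∈ G

omit [FiniteDimensional F V] in
theorem exists_proj (h1 : iSupIndep D) (h2 : iSup D = ⊤) :
    ∃ p : τ → V →ₗ[F] V, (∀ i v, p i v ∈ D i) ∧ (∀ i j, ∀ v ∈ D j, p i v = if i = j then v else 0) ∧ ∀ v, ∑ i, p i v = v := by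
  have h3 : ∀ i, IsCompl (D i) (⨆ (j) (_ : j ≠ i), D j) := fun i => ⟨h1 i, codisjoint_iff.2 (by rw [← h2, iSup_split_single D i])⟩
  have h4 : ∀ i j, ∀ v ∈ D j, (D i).projection _ (h3 i) v = if i = j then v else 0 := fun i j v hv => by
    split_ifs with e
    · exact Submodule.projection_apply_of_mem_left (h3 i) (e ▸ hv)
    · exact (Submodule.projection_apply_eq_zero_iff (h3 i)).2 (Submodule.mem_iSup_of_mem j (Submodule.mem_iSup_of_mem (Ne.symm e) hv))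
  refine ⟨fun i => (D i).projection _ (h3 i), fun i v => Submodule.projection_apply_mem (h3 i) v, h4, fun v => ?_⟩
  exact Submodule.iSup_induction D (motive := fun v => ∑ i, (D i).projection _ (h3 i) v = v) (h2 ▸ Submodule.mem_top (x := v))
    (fun j v hv => by simp [h4 _ j v hv]) (by simp) fun x y a b => by simp [Finset.sum_add_distrib, a, b]

/-- a root subgroup in `G` -/
def RP (G : Subgroup (V ≃ₗ[F] V)) (χ : Dual F V) (w : V) : Prop := χ w = 0 ∧ ∀ c : F, tr χ (c • w) ∈ G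

omit [FiniteDimensional F V] in
theorem RP.cj (h : RP G χ w) (hg : g ∈ G) : RP G (dact g χ) (g w) := ⟨by simp [h.1], fun c => map_smul g c w ▸ conj_tr_mem hg (h.2 c)⟩

omit [FiniteDimensional F V] in
theorem RP.mv (h : RP G χ w) (hg : g ∈ G) (e : ∀ v, χ (g v) = χ v) : RP G χ (g w - w) := ⟨by simp [e], fun c => by
  have := mul_mem ((h.cj hg).2 c) (h.2 (-c))
  rwa [dact_eq_self e, tr_mul_right (by simp [e, h.1]) (by simp [h.1]), neg_smul, ← sub_eq_add_neg, ← smul_sub] at this⟩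

omit [FiniteDimensional F V] in
theorem RP.mv' (h : RP G χ w) (hg : g ∈ G) (e : g w = w) : RP G (χ - dact g χ) w := by
  have h1 := e ▸ h.cj hg
  refine ⟨by simp [h1.1, h.1], fun c => ?_⟩
  have := mul_mem (h.2 c) (inv_mem (h1.2 c))
  rwa [tr_inv' (by simp [h1.1]), tr_mul_left (by simp [h.1]) (by simp [h1.1]), ← sub_eq_add_neg] at this

omit [FiniteDimensional F V] in
theorem RP.smul (h : RP G χ w) (c d : F) : RP G (c • χ) (d • w) :=
  ⟨by simp [h.1], fun a => by rw [tr_smul (by simp [h.1]), smul_smul, smul_smul]; exact h.2 _⟩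

namespace DG
variable (h : DG D p m G)
include h

theorem exists_ne (i : τ) : ∃ x ∈ D i, x ≠ 0 := (Submodule.ne_bot_iff _).1 fun e => by
  have := h.dim i; have := h.pos; rw [e, finrank_bot] at *; omega

theorem inj : Function.Injective D := fun i j e => by_contra fun n => by
  obtain ⟨x, h1, h2⟩ := h.exists_ne i
  simpa [n, h2] using (h.ap i i x h1).symm.trans (h.ap i j x (e ▸ h1))

theorem blk (hu : u ∈ D i) {c : V → F} (e : ∀ v, g v = v + c v • φ (p i v) • u) : g ∈ dstab D :=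
  mem_dstab_of_le h.dim h.inj fun j => ⟨j, by
    rintro _ ⟨v, hv, rfl⟩
    rw [LinearEquiv.coe_coe, e, h.ap i j v hv]
    split_ifs with e
    · exact add_mem hv (Submodule.smul_mem _ _ (Submodule.smul_mem _ _ (e ▸ hu)))
    · simpa using hv⟩

theorem rp (hu : u ∈ D i) (h0 : φ u = 0) : RP G (φ ∘ₗ p i) u := by
  have : ∀ c : F, (φ ∘ₗ p i) (c • u) = 0 := fun c => by simp [h.ap _ _ _ hu, h0]
  exact ⟨by simpa using this 1, fun c => h.le _ (h.blk (φ := φ) (c := fun _ => c) hu fun v => by rw [tr_apply (this c), smul_comm]; rfl) (tr_mem_sl _ _)⟩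

theorem tr_mem (hu : u ∈ D i) (h0 : φ u = 0) : tr (φ ∘ₗ p i) u ∈ G := by simpa using (h.rp hu h0).2 1

theorem one (hu : u ∈ D i) (h1 : φ u = 1) : (φ ∘ₗ p i) u = 1 := by simp [h.ap _ _ _ hu, h1]

theorem hm_mem (hu : u ∈ D i) (h1 : φ u = 1) (a : Fˣ) : hm (φ ∘ₗ p i) u a ∈ dstab D :=
  h.blk (φ := φ) (c := fun _ => a - 1) hu fun v => by rw [hm_apply (h.one hu h1), mul_smul]; rfl

theorem hh (hu : u ∈ D i) (h1 : φ u = 1) (hx : x ∈ D j) (h2 : χ x = 1) (a : Fˣ) : hm (φ ∘ₗ p i) u a * hm (χ ∘ₗ p j) x a⁻¹ ∈ G :=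
  h.le _ (mul_mem (h.hm_mem hu h1 _) (h.hm_mem hx h2 _)) (by simp [det_hm (h.one hu h1), det_hm (h.one hx h2)])

theorem all_vec (H : RP G (χ ∘ₗ p j) u) (hu : u ∈ D i) (h0 : u ≠ 0) (n : i ≠ j) (hx : x ∈ D i) : RP G (χ ∘ₗ p j) x := by
  by_cases h1 : u ∈ Submodule.span F {x}
  · obtain ⟨c, rfl⟩ := Submodule.mem_span_singleton.1 h1
    simpa [left_ne_zero_of_smul h0] using H.smul 1 c⁻¹
  obtain ⟨ψ, h2, h3⟩ := exists_dual_pair h1
  simpa [tr_apply (h.rp hx h3).1, h.ap _ _ _ hu, h2] using H.mv (h.tr_mem hx h3) fun v => by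
    simp [tr_apply (h.rp hx h3).1, h.ap _ _ _ hx, n.symm]

theorem all_dual (H : RP G χ u) (hu : u ∈ D i) (n : i ≠ j) (hx : x ∈ D j) (h1 : χ x ≠ 0) (h2 : φ x = 0) : RP G (φ ∘ₗ p j) u := by
  have := (H.mv' (h.tr_mem hx h2) (tr_fix _ (by simp [h.ap _ _ _ hu, n.symm]))).smul (χ x)⁻¹ 1
  rwa [dact_tr (h.rp hx h2).1, sub_sub_cancel, inv_smul_smul₀ h1, one_smul] at this

theorem all_dual' (H : RP G (χ ∘ₗ p j) u) (hu : u ∈ D i) (n : i ≠ j) (h0 : χ ∘ₗ p j ≠ 0) (φ : Dual F V) : RP G (φ ∘ₗ p j) u := by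
  by_cases h1 : ∃ x ∈ D j, χ x ≠ 0 ∧ φ x = 0
  · obtain ⟨x, h1, h2, h3⟩ := h1
    exact h.all_dual H hu n h1 (by simpa [h.ap _ _ _ h1]) h3
  push Not at h1
  obtain ⟨y, hy⟩ := exists_apply_one h0
  have h2 := h1 _ (h.mem j y) (hy ▸ one_ne_zero)
  have := H.smul (φ (p j y)) 1
  rw [one_smul] at this
  convert this
  ext v
  by_contra e
  refine h1 (φ (p j y) • p j v - φ (p j v) • p j y) (sub_mem (Submodule.smul_mem _ _ (h.mem _ _)) (Submodule.smul_mem _ _ (h.mem _ _)))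
    (fun e' => e ?_) (by simp [mul_comm])
  simp only [LinearMap.comp_apply] at hy
  simp [hy, sub_eq_zero] at e' ⊢
  exact e'.symm

theorem sl_le (H : RP G (χ ∘ₗ p j) u) (hu : u ∈ D i) (h0 : u ≠ 0) (n : i ≠ j) (h1 : χ ∘ₗ p j ≠ 0) : slSub F V ≤ G := by
  have key : ∀ k l, k ≠ l → ∀ x ∈ D k, ∀ φ : Dual F V, RP G (φ ∘ₗ p l) x := fun k l n' x hx φ => by
    obtain ⟨σ, h2, h3⟩ : ∃ σ : Equiv.Perm τ, σ i = k ∧ σ j = l :=
      ⟨Equiv.swap (Equiv.swap i k j) l * Equiv.swap i k, by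
        simpa using Equiv.swap_apply_of_ne_of_ne (by rw [Ne, eq_comm, Equiv.swap_apply_eq_iff]; simpa using n.symm) n', by simp⟩
    obtain ⟨g, hg⟩ := exists_glue (E := D ∘ σ) h.ind h.top (h.ind.comp σ.injective) (σ.iSup_comp.trans h.top)
      fun j => .ofFinrankEq _ _ (by simp [h.dim])
    have h4 : ∀ j, ∀ v ∈ D j, g v ∈ D (σ j) := fun j v hv => hg j ⟨v, hv⟩ ▸ Subtype.prop _
    obtain ⟨ψ, h5⟩ := exists_dual_one (F := F) h0
    have h6 := h.hm_mem hu h5 (LinearEquiv.det g)⁻¹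
    have h7 : ∀ j, ∀ v ∈ D j, (g * hm (ψ ∘ₗ p i) u (LinearEquiv.det g)⁻¹) v ∈ D (σ j) := fun j v hv => h4 j (hm _ _ _ v) (by
      rw [hm_apply (h.one hu h5), LinearMap.comp_apply, h.ap i j v hv]
      split_ifs with e
      · exact add_mem hv (Submodule.smul_mem _ _ (e ▸ hu))
      · simpa using hv)
    have h8 := h.le _ (mem_dstab_of_le h.dim h.inj fun j => ⟨σ j, by rintro _ ⟨v, hv, rfl⟩; exact h7 j v hv⟩) (by simp [det_hm (h.one hu h5)])
    generalize g * _ = s at h7 h8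
    have h9 : dact s (χ ∘ₗ p j) ∘ₗ p l = dact s (χ ∘ₗ p j) := LinearMap.ext fun v => by
      obtain ⟨v, rfl⟩ := s.surjective v
      conv_lhs => rw [← h.sum v, map_sum, map_sum, Finset.sum_eq_single j (fun k _ n => by
        simp [h.ap _ _ _ (h7 _ _ (h.mem k v)), ← h3, n.symm]) (by simp)]
      simp [h.ap _ _ _ (h7 _ _ (h.mem j v)), h3, h.ap _ _ _ (h.mem j v)]
    exact h.all_dual' (h.all_vec (h9.symm ▸ H.cj h8) (h2 ▸ h7 _ _ hu) (by simpa) n' hx) hx n' (h9.symm ▸ dact_ne_zero _ h1) φ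
  refine sl_le_of_centres (eq_top_iff.2 (h.top ▸ iSup_le fun k x hx => mem_centres.2 fun φ h2 => ?_))
  have h3 : ∀ l, RP G (φ ∘ₗ p l) x := fun l => if e : k = l then e ▸ h.rp hx h2 else key k l e x hx φ
  have : ∀ s : Finset τ, (∑ l ∈ s, φ ∘ₗ p l) x = 0 ∧ tr (∑ l ∈ s, φ ∘ₗ p l) x ∈ G := fun s => by
    induction s using Finset.induction_on with
    | empty => simp [tr_zero_left, one_mem]
    | insert a s ha ih =>
      rw [Finset.sum_insert ha, ← tr_mul_left (h3 a).1 ih.1]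
      exact ⟨by rw [LinearMap.add_apply, (h3 a).1, ih.1, add_zero], mul_mem (by simpa using (h3 a).2 1) ih.2⟩
  convert (this Finset.univ).2
  ext v; simp [← map_sum, h.sum]

theorem exists_ker (hm : 2 ≤ m) (χ : Dual F V) (k : τ) : ∃ x ∈ D k, x ≠ 0 ∧ χ x = 0 := by
  obtain ⟨x, h1, h2⟩ := (Submodule.ne_bot_iff _).1 (LinearMap.ker_ne_bot_of_finrank_lt (f := χ ∘ₗ (D k).subtype) (by simp [h.dim]; omega))
  exact ⟨x, x.2, by simpa using h2, h1⟩

theorem comp (H : RP G χ w) (h1 : p i w ≠ 0) (h2 : χ (p i w) = 0) {a : Fˣ} (ha : a.1 - 1 ≠ 0) (n : i ≠ k) (hx : x ∈ D k) (h3 : χ x = 0)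
    (h4 : φ x = 1) : RP G χ ((a.1 - 1) • p i w + (((a : F)⁻¹ - 1) * φ (p k w)) • x) := by
  obtain ⟨ψ, h5⟩ := exists_dual_one (F := F) h1
  convert H.mv (h.hh (h.mem i w) h5 hx h4 a) fun v => by simp [hm_apply (h.one hx h4), hm_apply (h.one (h.mem i w) h5), h2, h3] using 1
  simp [hm_apply (h.one hx h4), hm_apply (h.one (h.mem i w) h5), h5, h.ap _ _ _ hx, n]; abel

theorem good (hm : 2 ≤ m) (hx : m = 2 → 3 ≤ Fintype.card τ ∧ ∃ a : Fˣ, a.1 - 1 ≠ 0) (H : RP G χ w) (h1 : p i w ≠ 0) :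
    ∃ u ∈ D i, u ≠ 0 ∧ RP G χ u := by
  have b0 : ∀ {w k}, (∀ x ∈ D k, χ x = 0 → x ∈ Submodule.span F {p k w}) → p k w ≠ 0 ∧ χ (p k w) = 0 := fun {w k} H => by
    obtain ⟨x, h1, h2, h3⟩ := h.exists_ker hm χ k
    obtain ⟨c, rfl⟩ := Submodule.mem_span_singleton.1 (H x h1 h3)
    exact ⟨right_ne_zero_of_smul h2, by simpa [left_ne_zero_of_smul h2] using h3⟩
  by_cases c1 : ∀ x ∈ D i, χ x = 0 → x ∈ Submodule.span F {p i w}
  swap
  · push Not at c1
    obtain ⟨x, h2, h3, h4⟩ := c1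
    obtain ⟨φ, h5, h6⟩ := exists_dual_pair h4
    obtain ⟨θ, h7⟩ := exists_dual_one (F := F) h1
    have h8 : (θ - θ x • φ) x = 0 := by simp [h5]
    exact ⟨x, h2, by rintro rfl; simp at h4, by
      simpa [tr_apply (h.rp h2 h8).1, h6, h7] using H.mv (h.tr_mem h2 h8) fun v => by simp [tr_apply (h.rp h2 h8).1, h3]⟩
  obtain ⟨h3, a, ha⟩ := hx (by
    by_contra h3
    have h4 := (χ ∘ₗ (D i).subtype).finrank_range_add_finrank_ker
    have h5 := (Submodule.finrank_map_subtype_eq _ _).symm.trans_le ((Submodule.finrank_mono (s := (LinearMap.ker (χ ∘ₗ (D i).subtype)).map (D i).subtype)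
      (by rintro _ ⟨x, hx, rfl⟩; exact c1 _ x.2 hx)).trans (finrank_span_singleton h1).le)
    have := (LinearMap.range (χ ∘ₗ (D i).subtype)).finrank_le
    rw [h.dim] at h4; simp at this; omega)
  have b1 : ∀ {w k}, RP G χ w → p i w ≠ 0 → χ (p i w) = 0 → i ≠ k → ¬ (∀ x ∈ D k, χ x = 0 → x ∈ Submodule.span F {p k w}) →
      ∃ u ∈ D i, u ≠ 0 ∧ RP G χ u := fun {w k} H h1 h2 n c => by
    push Not at c
    obtain ⟨x, h4, h5, h6⟩ := c
    obtain ⟨φ, h7, h8⟩ := exists_dual_pair h6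
    exact ⟨_, Submodule.smul_mem _ _ (h.mem i w), smul_ne_zero ha h1, by simpa [h8] using h.comp H h1 h2 ha n h4 h5 h7⟩
  obtain ⟨j, hj⟩ := exists_out {i} (by simp; omega)
  obtain ⟨k, hk⟩ := exists_out {i, j} (Finset.card_le_two.trans_lt h3)
  simp only [Finset.mem_insert, Finset.mem_singleton, not_or] at hj hk
  by_contra c
  have c2 := b0 (by_contra fun c' => c (b1 H h1 (b0 c1).2 (Ne.symm hj) c'))
  obtain ⟨φ, h4⟩ := exists_dual_one (F := F) c2.1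
  refine c (b1 (h.comp H h1 (b0 c1).2 ha (Ne.symm hj) (h.mem j w) c2.2 h4) ?_ ?_ (Ne.symm hk.1) fun c' => (b0 c').1 ?_) <;>
    simp [h.ap _ _ _ (h.mem _ w), Ne.symm hj, hk, ha, h1, (b0 c1).2]

theorem two (hm : 2 ≤ m) (hx : m = 2 → 3 ≤ Fintype.card τ ∧ ∃ a : Fˣ, a.1 - 1 ≠ 0) (hg : g ∈ G) (hn : g ∉ dstab D) : slSub F V ≤ G := by
  obtain ⟨k, u, hu, h1⟩ : ∃ k, ∃ u ∈ D k, ∀ j, g u ∉ D j := by
    by_contra! H
    refine hn (mem_dstab_of_le h.dim h.inj fun i => ?_)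
    obtain ⟨x, h1, h2⟩ := h.exists_ne i
    obtain ⟨j, h3⟩ := H i x h1
    refine ⟨j, ?_⟩
    rintro _ ⟨u, hu, rfl⟩
    obtain ⟨k, h4⟩ := H i u hu
    obtain ⟨l, h5⟩ := H i _ (add_mem hu h1)
    by_cases e : j = k
    · exact e ▸ h4
    by_cases e' : j = l
    · rw [map_add, ← e'] at h5; exact (add_mem_cancel_right h3).1 h5
    simpa [h.ap _ _ _ h4, h.ap _ _ _ h3, e, e', h2] using h.ap j l _ h5
  have u0 : u ≠ 0 := by rintro rfl; exact h1 k (by simp)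
  obtain ⟨x, hx', φ, h2, h3⟩ : ∃ x ∈ D k, ∃ φ : Dual F V, φ x = 1 ∧ φ u = 0 := by
    obtain ⟨θ, h4⟩ := exists_dual_one (F := F) u0
    obtain ⟨x, h5, h6, h7⟩ := h.exists_ker hm θ k
    exact ⟨x, h5, exists_dual_pair fun h8 => by
      obtain ⟨c, rfl⟩ := Submodule.mem_span_singleton.1 h8
      simp [h4] at h7; simp [h7] at h6⟩
  have H := (h.rp hu h3).cj hg
  have h4 : dact g (φ ∘ₗ p k) ≠ 0 := dact_ne_zero _ fun e => by simpa [e] using h.one hx' h2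
  generalize dact g _ = χ, g u = w at H h4 h1
  obtain ⟨j, y, hj⟩ : ∃ j y, χ (p j y) ≠ 0 := by
    by_contra! H
    exact h4 (LinearMap.ext fun v => by rw [← h.sum v, map_sum]; simp [H])
  obtain ⟨i, n, hi⟩ : ∃ i, i ≠ j ∧ p i w ≠ 0 := by
    by_contra! H
    exact h1 j (by rw [← h.sum w, Finset.sum_eq_single j (fun i _ => H i) (by simp)]; exact h.mem _ _)
  obtain ⟨v, h5, h6, h7⟩ := h.good hm hx H hi
  obtain ⟨θ, h8⟩ := exists_dual_one (F := F) (x := p j y) fun e => hj (by simp [e])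
  obtain ⟨z, h9, h10, h11⟩ := h.exists_ker hm θ j
  obtain ⟨ψ, h12, h13⟩ := exists_dual_pair (F := F) (x := z) (y := p j y) fun h8' => by
    obtain ⟨c, rfl⟩ := Submodule.mem_span_singleton.1 h8'
    simp [h8] at h11; simp [h11] at h10
  exact h.sl_le (h.all_dual h7 h5 n (h.mem j y) hj h13) h5 h6 n fun e => by simpa [e] using h.one h9 h12

theorem not_mem (n : i ≠ j) : ∃ g ∈ slSub F V, g ∉ dstab D := by
  obtain ⟨x, h1, h2⟩ := h.exists_ne i
  obtain ⟨u, h3, h4⟩ := h.exists_ne j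
  obtain ⟨φ, h5⟩ := exists_dual_one (F := F) h2
  refine ⟨_, tr_mem_sl (φ ∘ₗ p i) u, fun ⟨σ, h6⟩ => ?_⟩
  have h7 : x + u ∈ D (σ i) := h6 i ▸ ⟨x, h1, by
    rw [LinearEquiv.coe_coe, tr_apply (by simp [h.ap _ _ _ h3, n]), h.one h1 h5, one_smul]⟩
  have a1 := h.ap i _ _ h7
  have a2 := h.ap j _ _ h7
  simp only [map_add, h.ap _ _ _ h1, h.ap _ _ _ h3, n, n.symm, if_true, if_false] at a1 a2
  by_cases e : i = σ i
  · rw [if_neg fun e' => n (e.trans e'.symm)] at a2; exact h4 (by simpa using a2)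
  · rw [if_neg e] at a1; exact h2 (by simpa using a1)

theorem mono [Fintype F] (hm : m = 1) (h5 : 5 ≤ Fintype.card F) (hι : 13 ≤ Fintype.card τ) (hg : g ∈ G) (hn : g ∉ dstab D) : slSub F V ≤ G := by
  choose e e1 e2 using h.exists_ne
  choose φ e3 using fun i => exists_dual_one (F := F) (e2 i)
  have e4 : ∀ i, D i = Submodule.span F {e i} := fun i =>
    (Submodule.eq_of_le_of_finrank_eq (by simpa using e1 i) (by rw [finrank_span_singleton (e2 i), h.dim, hm])).symm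
  have fr : Fr e fun i => φ i ∘ₗ p i := ⟨fun i j => by by_cases c : i = j <;> simp [h.ap _ _ _ (e1 j), c, e3], fun v => by
    conv_rhs => rw [← h.sum v]
    refine Finset.sum_congr rfl fun i _ => ?_
    obtain ⟨c, hc⟩ := Submodule.mem_span_singleton.1 (e4 i ▸ h.mem i v)
    simp [← hc, e3]⟩
  by_contra c
  refine hn (MG.le (H := dstab D) ⟨fr, h5, hι, fun g => ⟨fun h1 j => (mem_dstab.1 h1).elim fun σ h1 => ⟨σ j, ?a⟩, fun h1 => mem_dstab_of_le h.dim h.inj fun j => (h1 j).imp fun i h2 => ?b⟩,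
    h.le, fun k l n a ha h1 => c ?_⟩ hg)
  case a => simpa [eq_comm] using Submodule.mem_span_singleton.1 (e4 _ ▸ h1 j ▸ Submodule.mem_map_of_mem (e1 j))
  case b => obtain ⟨c, h2⟩ := h2; rw [e4 j, Submodule.map_span, Submodule.span_le]; simpa [h2] using Submodule.smul_mem _ _ (e1 i)
  obtain ⟨o, ho⟩ := exists_out {k, l} (Finset.card_le_two.trans_lt (by omega))
  simp only [Finset.mem_insert, Finset.mem_singleton, not_or] at ho
  refine h.sl_le (χ := φ l) ⟨by simpa [n.symm] using fr.ap l k, fun b => ?_⟩ (e1 k) (e2 k) n fun e => by simpa [e] using fr.one l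
  by_cases hb : b = 0
  · simp [hb, tr_zero_right, one_mem]
  have := conj_tr_mem (h.hh (e1 k) (e3 k) (e1 o) (e3 o) (.mk0 (b / a) (by simp [*]))) h1
  rw [dact_eq_self fun v => by simp [hm_apply (h.one (e1 _) (e3 _)), h.ap _ _ _ (e1 _), n.symm, Ne.symm ho.2]] at this
  convert this using 2
  simp [hm_apply (h.one (e1 _) (e3 _)), h.ap _ _ _ (e1 _), ho.1, e3]
  match_scalars; field_simp; ring

end DG

end CfsgH9.MX
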