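import Cfsg.Agent.H2.Cls
import Cfsg.Agent.H2.PGroup
import Cfsg.Agent.H1.Cores

set_option autoImplicit false
set_option linter.unusedSectionVars false
open Cfsg Subgroup CfsgH1 CfsgH2
open scoped commutatorElement

/-! Mann's lemma on class sizes. -/
namespace CfsgH9
variable {G : Type*} [Group G] [Finite G]

theorem mann_lt {A : Subgroup G} [hn : A.Normal] (hA : IsMulCommutative A) {x a : G} (ha : a ∈ A)
    (hy : a * x * a⁻¹ * x⁻¹ ≠ 1) :
    (centralizer ({a * x * a⁻¹ * x⁻¹} : Set G)).index < (centralizer ({x} : Set G)).index := by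
  set y := a * x * a⁻¹ * x⁻¹ with hyd
  have h1 := card_cls_in A x
  have h2 := card_cls_in (centralizer ({x} : Set G) ⊔ A) y
  have h3 := CfsgH1.card_sup_mul_card_inf (centralizer ({x} : Set G)) A
  rw [inf_comm] at h3
  set s := Nat.card {y // ∃ a ∈ A, a * x * a⁻¹ = y} with hs
  set t := Nat.card {w // ∃ h ∈ centralizer ({x} : Set G) ⊔ A, h * y * h⁻¹ = w} with ht
  have hyA : y ∈ A := by
    have := A.mul_mem ha (hn.conj_mem _ (A.inv_mem ha) x)
    simpa [hyd, mul_assoc] using this
  have hts : t < s := by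
    have key : ∀ w : {w // ∃ h ∈ centralizer ({x} : Set G) ⊔ A, h * y * h⁻¹ = w},
        ∃ a ∈ A, a * x * a⁻¹ = (w : G) * x := by
      rintro ⟨w, h, hh, rfl⟩
      rw [sup_comm, ← SetLike.mem_coe, normal_mul] at hh
      obtain ⟨b, hb, c, hc, rfl⟩ := hh
      have hc' : x * c = c * x := (mem_centralizer_singleton_iff.1 hc).symm
      have e1 : c * y * c⁻¹ ∈ A := hn.conj_mem _ hyA c
      have e2 := mul_comm_of_isMulCommutative hA hb e1
      refine ⟨c * a * c⁻¹, hn.conj_mem _ ha c, ?_⟩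
      have e3 : b * c * y * (b * c)⁻¹ = c * y * c⁻¹ := by
        calc b * c * y * (b * c)⁻¹ = (b * (c * y * c⁻¹)) * b⁻¹ := by group
          _ = c * y * c⁻¹ := by rw [e2]; group
      show _ = b * c * y * (b * c)⁻¹ * x
      rw [e3, hyd]
      have e4 : c⁻¹ * x = x * c⁻¹ := by
        rw [eq_mul_inv_iff_mul_eq, mul_assoc, hc']; group
      calc c * a * c⁻¹ * x * (c * a * c⁻¹)⁻¹ = c * a * (c⁻¹ * x) * c * a⁻¹ * c⁻¹ := by group
        _ = c * (a * x * a⁻¹ * x⁻¹) * (x * c⁻¹) := by rw [e4]; group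
        _ = _ := by rw [← e4]; group
    let f : {w // ∃ h ∈ centralizer ({x} : Set G) ⊔ A, h * y * h⁻¹ = w} →
        {y // ∃ a ∈ A, a * x * a⁻¹ = y} := fun w => ⟨(w : G) * x, key w⟩
    have hf : Function.Injective f := fun u v e => Subtype.ext (mul_right_cancel (congrArg Subtype.val e))
    classical
    letI := Fintype.ofFinite {w // ∃ h ∈ centralizer ({x} : Set G) ⊔ A, h * y * h⁻¹ = w}
    letI := Fintype.ofFinite {y // ∃ a ∈ A, a * x * a⁻¹ = y}
    rw [hs, ht, Nat.card_eq_fintype_card, Nat.card_eq_fintype_card]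
    refine Fintype.card_lt_of_injective_of_notMem f hf (b := ⟨x, 1, A.one_mem, by simp⟩) ?_
    rintro ⟨⟨w, h, hh, rfl⟩, e⟩
    have e' : h * y * h⁻¹ * x = x := congrArg Subtype.val e
    rw [mul_eq_right, conj_eq_one_iff] at e'
    exact hy e'
  have hp : 0 < Nat.card (A ⊓ centralizer ({x} : Set G) : Subgroup G) := Nat.card_pos
  have h4 : Nat.card (centralizer ({x} : Set G) ⊔ A : Subgroup G) =
      Nat.card (centralizer ({x} : Set G)) * s := by
    apply Nat.eq_of_mul_eq_mul_right hp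
    rw [h3, ← h1]; ring
  have h5 : Nat.card ((centralizer ({x} : Set G) ⊔ A) ⊓ centralizer ({y} : Set G) : Subgroup G) ≤
      Nat.card (centralizer ({y} : Set G)) := card_le_of_le inf_le_right
  have h6 : Nat.card (centralizer ({x} : Set G)) < Nat.card (centralizer ({y} : Set G)) := by
    have hy0 : 0 < Nat.card (centralizer ({y} : Set G)) := Nat.card_pos
    by_contra hc
    push Not at hc
    have : Nat.card (centralizer ({x} : Set G)) * s ≤ t * Nat.card (centralizer ({y} : Set G)) := by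
      rw [← h4, ← h2]; exact Nat.mul_le_mul_left _ h5
    nlinarith
  have i1 := (centralizer ({x} : Set G)).card_mul_index
  have i2 := (centralizer ({y} : Set G)).card_mul_index
  have i3 : 0 < (centralizer ({x} : Set G)).index := Nat.pos_of_ne_zero index_ne_zero_of_finite
  by_contra hc
  push Not at hc
  nlinarith

theorem mann_class {A : Subgroup G} [hn : A.Normal] (hA : IsMulCommutative A)
    (hCA : centralizer (A : Set G) ≤ A) {m : ℕ}
    (hmin : ∀ x : G, 1 < (centralizer ({x} : Set G)).index → m ≤ (centralizer ({x} : Set G)).index)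
    {M : Subgroup G} (hM : M ≤ closure {x : G | (centralizer ({x} : Set G)).index = 1 ∨
      (centralizer ({x} : Set G)).index = m}) {a b c d : G} (ha : a ∈ M) (hb : b ∈ M) (hc : c ∈ M) :
    ⁅⁅a, b⁆, c⁆ * d = d * ⁅⁅a, b⁆, c⁆ := by
  have k1 : ∀ g ∈ closure {x : G | (centralizer ({x} : Set G)).index = 1 ∨
      (centralizer ({x} : Set G)).index = m}, ∀ u ∈ A, u * g * u⁻¹ * g⁻¹ ∈ center G := by
    intro g hg
    induction hg using closure_induction with
    | mem x hx =>
      intro u hu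
      by_cases e : u * x * u⁻¹ * x⁻¹ = 1
      · rw [e]; exact one_mem _
      have h1 := mann_lt hA hu e
      have h2 : (centralizer ({u * x * u⁻¹ * x⁻¹} : Set G)).index = 1 := by
        have i3 : 0 < (centralizer ({u * x * u⁻¹ * x⁻¹} : Set G)).index :=
          Nat.pos_of_ne_zero index_ne_zero_of_finite
        by_contra hc
        have := hmin _ (lt_of_le_of_ne i3 (Ne.symm hc))
        rcases hx with hx | hx <;> omega
      rw [index_eq_one] at h2
      rw [mem_center_iff]
      intro g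
      have : g ∈ centralizer ({u * x * u⁻¹ * x⁻¹} : Set G) := h2 ▸ mem_top g
      exact mem_centralizer_singleton_iff.1 this
    | one => intro u _; simp
    | mul x y _ _ hx hy =>
      intro u hu
      have e : u * (x * y) * u⁻¹ * (x * y)⁻¹ =
          (u * x * u⁻¹ * x⁻¹) * (x * (u * y * u⁻¹ * y⁻¹) * x⁻¹) := by group
      rw [e]
      exact mul_mem (hx u hu) (normal_of_characteristic (center G) |>.conj_mem _ (hy u hu) x)
    | inv x _ hx =>
      intro u hu
      have e : u * x⁻¹ * u⁻¹ * x⁻¹⁻¹ = x⁻¹ * (u * x * u⁻¹ * x⁻¹)⁻¹ * x⁻¹⁻¹ := by group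
      rw [e]
      exact normal_of_characteristic (center G) |>.conj_mem _ (inv_mem (hx u hu)) _
  have k2 : ⁅a, b⁆ ∈ A := by
    apply hCA
    rw [mem_centralizer_iff]
    intro u hu
    have z1 := mem_center_iff.1 (k1 a (hM ha) u hu)
    have z2 := mem_center_iff.1 (k1 b (hM hb) u hu)
    set y := u * a * u⁻¹ * a⁻¹ with hy
    set z := u * b * u⁻¹ * b⁻¹ with hz
    have e1 : u * a * u⁻¹ = y * a := by rw [hy]; group
    have e2 : u * b * u⁻¹ = z * b := by rw [hz]; group
    have e3 : u * ⁅a, b⁆ * u⁻¹ = ⁅y * a, z * b⁆ := by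
      rw [← e1, ← e2, commutatorElement_def, commutatorElement_def]; group
    have cy : ∀ g, Commute y g := fun g => (z1 g).symm
    have cz : ∀ g, Commute z g := fun g => (z2 g).symm
    have e4 : ⁅y * a, z * b⁆ = ⁅a, b⁆ := by
      rw [commutatorElement_def, commutatorElement_def, mul_inv_rev y, mul_inv_rev z]
      calc y * a * (z * b) * (a⁻¹ * y⁻¹) * (b⁻¹ * z⁻¹)
          = y * (a * (z * b) * a⁻¹) * y⁻¹ * b⁻¹ * z⁻¹ := by group
        _ = a * (z * b) * a⁻¹ * b⁻¹ * z⁻¹ := by rw [(cy _).eq]; group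
        _ = (a * z) * (b * a⁻¹ * b⁻¹) * z⁻¹ := by group
        _ = z * (a * (b * a⁻¹ * b⁻¹)) * z⁻¹ := by rw [← (cz a).eq]; group
        _ = _ := by rw [(cz _).eq]; group
    rw [e4] at e3
    exact mul_inv_eq_iff_eq_mul.1 e3
  exact (mem_center_iff.1 (k1 c (hM hc) _ k2) d).symm

theorem ucs_three {H : Type*} [Group H] (h : ∀ a b c d : H, ⁅⁅a, b⁆, c⁆ * d = d * ⁅⁅a, b⁆, c⁆) :
    Subgroup.upperCentralSeries H 3 = ⊤ := by
  rw [eq_top_iff]
  intro a _
  simp only [Subgroup.mem_upperCentralSeries_succ_iff, Subgroup.upperCentralSeries_zero, mem_bot]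
  intro b c d
  have := h a b c d
  simp only [commutatorElement_def] at this ⊢
  rw [this]; group

end CfsgH9
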