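import Cfsg.Agent.H1.Weights
import Cfsg.Agent.H1.Hall
import Cfsg.Agent.H1.Solv
import Cfsg.Agent.H1.Fact

/-! Orbits of coprime sizes on modules. -/

set_option autoImplicit false

namespace CfsgH9

open Subgroup Cfsg CfsgH1 Module

universe u v

variable {k : Type*} [Field k] {G : Type u} [Group G] [Finite G] {V : Type v} [AddCommGroup V] [Module k V]
  (ρ : Representation k G V)

/-- The stabilizer of a vector. -/
def vst (a : V) : Subgroup G where
  carrier := {g | ρ g a = a}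
  one_mem' := by simp
  mul_mem' := fun {x y} hx hy => by
    have hx : ρ x a = a := hx
    have hy : ρ y a = a := hy
    show ρ (x * y) a = a
    rw [← rho_rho, hy, hx]
  inv_mem' := fun {x} hx => by
    have hx : ρ x a = a := hx
    show ρ x⁻¹ a = a
    rw [← hx, rho_inv_rho, hx]

omit [Finite G] in
theorem index_vst (a : V) : (vst ρ a).index = Nat.card {u : V | ∃ h : G, ρ h a = u} := by
  letI : MulAction G V := { smul := fun g v => ρ g v, one_smul := fun v => by show ρ 1 v = v; simp,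
                            mul_smul := fun g h v => (rho_rho g h v).symm }
  exact MulAction.index_stabilizer G a

noncomputable def sm (A : Subgroup G) : End k V := by
  letI := Fintype.ofFinite A; exact ∑ a : A, ρ a

variable {ρ}

theorem sm_mul {A : Subgroup G} {g : G} (h : g ∈ A) (v : V) : sm ρ A (ρ g v) = sm ρ A v := by
  letI := Fintype.ofFinite A
  simp only [sm, LinearMap.sum_apply, rho_rho]
  exact Fintype.sum_equiv (Equiv.mulRight ⟨g, h⟩) _ _ fun _ => rfl

theorem sm_mem (A : Subgroup G) (v : V) : sm ρ A v ∈ fixS ρ A := mem_fixS.2 fun g h => by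
  letI := Fintype.ofFinite A
  simp only [sm, LinearMap.sum_apply, map_sum, rho_rho]
  exact Fintype.sum_equiv (Equiv.mulLeft ⟨g, h⟩) _ _ fun _ => rfl

theorem sm_const {A : Subgroup G} {T : End k V} {v w : V} (h : ∀ a ∈ A, T (ρ a v) = w) : T (sm ρ A v) = (Nat.card A : k) • w := by
  letI := Fintype.ofFinite A
  simp only [sm, LinearMap.sum_apply, map_sum]
  rw [Finset.sum_congr rfl fun (a : A) _ => h a a.2, Finset.sum_const, Finset.card_univ, Nat.card_eq_fintype_card, Nat.cast_smul_eq_nsmul]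

theorem sm_fix {A : Subgroup G} {v : V} (h : v ∈ fixS ρ A) : sm ρ A v = (Nat.card A : k) • v :=
  sm_const (T := 1) (mem_fixS.1 h)

theorem finrank_fix_le {K : Subgroup G} (hK : (Nat.card K : k) ≠ 0) {a : V} (h : ∀ g, ∃ x ∈ K, ρ g a = ρ x a)
    (hs : Submodule.span k {u : V | ∃ h : G, ρ h a = u} = ⊤) : finrank k ρ.invariants ≤ 1 := by
  have : ∀ v, sm ρ K v ∈ Submodule.span k {sm ρ K a} := fun v => by
    refine (Submodule.span_le (p := (Submodule.span k {sm ρ K a}).comap (sm ρ K))).2 ?_ (hs.ge (Submodule.mem_top (x := v)))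
    rintro _ ⟨g, rfl⟩
    obtain ⟨x, hx, e⟩ := h g
    simp [e, sm_mul hx]
  refine (Submodule.finrank_mono (t := Submodule.span k {sm ρ K a}) fun v hv => ?_).trans (finrank_span_le_card _ |>.trans (by simp))
  have := this v
  rwa [sm_fix (mem_fixS.2 fun g _ => hv g), Submodule.smul_mem_iff _ hK] at this

theorem fix_of_orbits {N : Subgroup G} (hN : (Nat.card N : k) ≠ 0) {X : Set V} (hs : Submodule.span k X = ⊤) {b : V}
    (h : ∀ x ∈ X, ∀ n ∈ N, ∃ a ∈ N ⊓ vst ρ x, ρ n b = ρ a b) : b ∈ fixS ρ N := by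
  letI := Fintype.ofFinite N
  set W := Submodule.span k {u | ∃ n ∈ N, ρ n b = u}
  have hW : ∀ n ∈ N, ∀ w ∈ W, ρ n w ∈ W := fun n hn w hw => by
    refine (Submodule.span_le (p := W.comap (ρ n))).2 ?_ hw
    rintro _ ⟨m, hm, rfl⟩
    exact Submodule.subset_span ⟨n * m, mul_mem hn hm, (rho_rho _ _ _).symm⟩
  obtain ⟨P, hP⟩ := W.subtype.exists_leftInverse_of_injective W.ker_subtype
  let π : End k V := ∑ n : N, ρ n ∘ₗ W.subtype ∘ₗ P ∘ₗ ρ (n : G)⁻¹
  have p1 : ∀ v, π v ∈ W := fun v => by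
    simp only [π, LinearMap.sum_apply]
    exact Submodule.sum_mem _ fun n _ => hW n n.2 _ (P _).2
  have p2 : ∀ g ∈ N, ∀ v, ρ g (π v) = π (ρ g v) := fun g hg v => by
    simp only [π, LinearMap.sum_apply, map_sum, LinearMap.comp_apply, rho_rho]
    exact Fintype.sum_equiv (Equiv.mulLeft ⟨g, hg⟩) _ _ fun n => by simp
  have bW : b ∈ W := Submodule.subset_span ⟨1, one_mem _, by simp⟩
  have p3 : π b = (Nat.card N : k) • b := by
    simp only [π, LinearMap.sum_apply, LinearMap.comp_apply]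
    rw [Finset.sum_congr rfl fun n _ => (show _ = b by
      rw [show P (ρ (n : G)⁻¹ b) = ⟨_, hW _ (inv_mem n.2) b bW⟩ from LinearMap.congr_fun hP ⟨_, hW _ (inv_mem n.2) b bW⟩]
      exact rho_rho_inv _ _), Finset.sum_const, Finset.card_univ, Nat.card_eq_fintype_card, Nat.cast_smul_eq_nsmul]
  rw [← Submodule.smul_mem_iff _ hN, ← p3]
  refine (Submodule.span_le (p := (fixS ρ N).comap π)).2 (fun x hx => ?_) (hs.ge Submodule.mem_top)
  have hA : (Nat.card (N ⊓ vst ρ x : Subgroup G) : k) ≠ 0 := fun e => hN (by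
    obtain ⟨t, ht⟩ := card_dvd_of_le (inf_le_left : N ⊓ vst ρ x ≤ N); rw [ht, Nat.cast_mul, e, zero_mul])
  have e1 : ∀ n ∈ N, sm ρ (N ⊓ vst ρ x) (ρ n b) = sm ρ (N ⊓ vst ρ x) b := fun n hn => by
    obtain ⟨a, ha, e⟩ := h x hx n hn
    rw [e, sm_mul ha]
  have e2 : sm ρ (N ⊓ vst ρ x) b ∈ fixS ρ N := by
    rw [← Submodule.smul_mem_iff _ hN, ← sm_const e1, sm_fix (fixS_anti inf_le_left (sm_mem N b))]
    exact Submodule.smul_mem _ _ (sm_mem N b)
  show π x ∈ fixS ρ N
  rw [← Submodule.smul_mem_iff _ hA, ← sm_fix (mem_fixS.2 fun g hg => by rw [p2 g hg.1, show ρ g x = x from hg.2])]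
  refine (Submodule.span_le (p := (fixS ρ N).comap (sm ρ (N ⊓ vst ρ x)))).2 ?_ (p1 x)
  rintro _ ⟨n, hn, rfl⟩
  show sm ρ _ _ ∈ fixS ρ N
  rwa [e1 n hn]

theorem fix_of_coprime {N : Subgroup G} [N.Normal] (hN : (Nat.card N : k) ≠ 0) {a b : V}
    (hs : Submodule.span k {u : V | ∃ h : G, ρ h a = u} = ⊤) (h : (vst ρ a).index.Coprime (vst ρ b).index) : b ∈ fixS ρ N := by
  refine fix_of_orbits hN hs ?_
  rintro _ ⟨g, rfl⟩ n hn
  have e : (vst ρ (ρ g a)).index = (vst ρ a).index := by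
    rw [index_vst, index_vst]; congr 2; ext u
    exact ⟨fun ⟨h, e⟩ => ⟨h * g, by rw [← rho_rho, e]⟩, fun ⟨h, e⟩ => ⟨h * g⁻¹, by rw [rho_rho, inv_mul_cancel_right, e]⟩⟩
  obtain ⟨x, hx, y, hy, rfl⟩ := Fac.of_coprime (A := N ⊓ vst ρ (ρ g a)) (B := N ⊓ vst ρ b) inf_le_left inf_le_left (by
    rw [inf_relIndex_left, inf_relIndex_left]
    exact (e ▸ h).coprime_dvd_left (relIndex_normal_dvd_index _ N) |>.coprime_dvd_right (relIndex_normal_dvd_index _ N)) n hn
  exact ⟨x, hx, by rw [← rho_rho, show ρ y b = b from hy.2]⟩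

theorem sm_comm (N : Subgroup G) [hN : N.Normal] (g : G) (v : V) : sm ρ N (ρ g v) = ρ g (sm ρ N v) := by
  letI := Fintype.ofFinite N
  simp only [sm, LinearMap.sum_apply, map_sum, rho_rho]
  exact (Fintype.sum_equiv (MulAut.conjNormal g).toEquiv _ _ fun n => by simp).symm

theorem fix_of_psolv {p : ℕ} [hp : Fact p.Prime] [CharP k p] (n : ℕ) : ∀ (G : Type u) [Group G] [Finite G] (V : Type v)
    [AddCommGroup V] [Module k V] (ρ : Representation k G V) (a b : V), Nat.card G = n → IsPSolvable p G →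
    ¬ p ∣ (vst ρ a).index → Submodule.span k {u : V | ∃ h : G, ρ h a = u} = ⊤ → (vst ρ a).index.Coprime (vst ρ b).index →
    ∀ g, ρ g b = b := by
  induction n using Nat.strong_induction_on with | _ n ih => ?_
  intro G _ _ V _ _ ρ a b hn hG h1 hs h2
  rcases subsingleton_or_nontrivial G with _ | _
  · intro g; rw [Subsingleton.elim g 1, map_one]; rfl
  obtain ⟨N, _, m1, -, m2⟩ := IsPSolvable.exists_normal_le hG ⊤ top_ne_bot
  have key : ∀ (W : Type v) [AddCommGroup W] [Module k W] (σ : Representation k G W) (c d : W), N ≤ MonoidHom.ker σ →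
      vst ρ a ≤ vst σ c → vst ρ b ≤ vst σ d → Submodule.span k {u : W | ∃ h : G, σ h c = u} = ⊤ → ∀ g, σ g d = d := by
    intro W _ _ σ c d k1 k2 k3 k4 g
    have i : ∀ w, (vst (QuotientGroup.lift N σ k1 : Representation k (G ⧸ N) W) w).index = (vst σ w).index := fun w =>
      (index_comap_of_surjective _ (QuotientGroup.mk'_surjective N)).symm
    refine ih _ (hn ▸ card_quotient_lt m1) (G ⧸ N) W (QuotientGroup.lift N σ k1) c d rfl (IsPSolvable.quotient hG N)
      (fun h => h1 ((i c ▸ h).trans (index_dvd_of_le k2))) (eq_top_iff.2 (k4.ge.trans (Submodule.span_mono fun _ ⟨h, e⟩ => ⟨h, e⟩)))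
      (by rw [i, i]; exact (h2.coprime_dvd_left (index_dvd_of_le k2)).coprime_dvd_right (index_dvd_of_le k3)) g
  rcases m2 with m2 | m2
  · have hN : (Nat.card N : k) ≠ 0 := fun e => hp.out.coprime_iff_not_dvd.1 m2.symm ((CharP.cast_eq_zero_iff k p _).1 e)
    refine fun g => congrArg Subtype.val (key (fixS ρ N) (ρ.subrepresentation _ (fixS_le_comap N)) ⟨_, sm_mem N a⟩
      ⟨b, fix_of_coprime hN hs h2⟩ (fun x hx => LinearMap.ext fun v => Subtype.ext (mem_fixS.1 v.2 x hx))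
      (fun x hx => Subtype.ext ((sm_comm N x a).symm.trans (congrArg _ hx))) (fun x hx => Subtype.ext hx) ?_ g)
    refine Submodule.map_injective_of_injective (fixS ρ N).subtype_injective (le_antisymm (Submodule.map_mono le_top) ?_)
    rintro _ ⟨v, -, rfl⟩
    rw [← Submodule.smul_mem_iff _ hN, Submodule.subtype_apply, ← sm_fix v.2]
    refine Submodule.mem_comap.1 (Submodule.span_le.2 ?_ (hs.ge (Submodule.mem_top (x := (v : V)))))
    rintro _ ⟨h, rfl⟩
    exact ⟨_, Submodule.subset_span ⟨h, rfl⟩, (sm_comm N h a).symm⟩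
  · refine key V ρ a b (fun x hx => LinearMap.ext fun v => ?_) le_rfl le_rfl hs
    have l : N ≤ vst ρ a := by
      obtain ⟨j, hj⟩ := m2.exists_card_eq
      obtain ⟨_ | i, -, e⟩ := (Nat.dvd_prime_pow hp.out).1 (hj ▸ relIndex_dvd_card (vst ρ a) N)
      · exact relIndex_eq_one.1 e
      · exact (h1 ((e ▸ dvd_pow_self p i.succ_ne_zero).trans (relIndex_normal_dvd_index _ N))).elim
    refine (Submodule.span_le (p := LinearMap.eqLocus (ρ x) 1)).2 ?_ (hs.ge (Submodule.mem_top (x := v)))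
    rintro _ ⟨h, rfl⟩
    have : ρ (h⁻¹ * x * h⁻¹⁻¹) a = a := l (Normal.conj_mem ‹_› x hx h⁻¹)
    show ρ x (ρ h a) = ρ h a
    conv_rhs => rw [← this]
    rw [rho_rho, rho_rho]; congr 2; group

end CfsgH9
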