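import Cfsg.Agent.H2.Cls
import Cfsg.Agent.H2.BG5

/-! Counting elements of given order. -/

set_option autoImplicit false

namespace CfsgH9

open Subgroup Cfsg CfsgH1 CfsgH2 CfsgFT

variable {G : Type*} [Group G] [Finite G] {p : ℕ}

/-- number of elements of order `m` in `H` -/
noncomputable def nOrd (H : Subgroup G) (m : ℕ) : ℕ := Nat.card {x // x ∈ H ∧ orderOf x = m}

/-- number of cyclic subgroups of order `m` in `H` -/
noncomputable def nCyc (H : Subgroup G) (m : ℕ) : ℕ :=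
  Nat.card {C : Subgroup G // C ≤ H ∧ IsCyclic C ∧ Nat.card C = m}

omit [Finite G] in
theorem nOrd_top (m : ℕ) : nOrd (⊤ : Subgroup G) m = Nat.card {x : G // orderOf x = m} :=
  card_subtype_congr fun x => by simp

omit [Finite G] in
theorem nOrd_sub (H : Subgroup G) (m : ℕ) : nOrd H m = Nat.card {x : H // orderOf x = m} := by
  rw [nOrd, ← card_subtype_subtype (· ∈ H) fun x => orderOf x = m]
  exact card_subtype_congr fun x => by simp

theorem nOrd_cyclic {H : Subgroup G} (h : IsCyclic H) {m : ℕ} (hm : m ∣ Nat.card H) : nOrd H m = m.totient := by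
  classical
  have := Fintype.ofFinite H
  rw [nOrd_sub, Nat.card_eq_fintype_card, Fintype.card_subtype,
    IsCyclic.card_orderOf_eq_totient (by rwa [← Nat.card_eq_fintype_card])]

theorem nOrd_eq (H : Subgroup G) (m : ℕ) : nOrd H m = nCyc H m * m.totient := by
  refine card_eq_mul_of_fiber (fun x : {x // x ∈ H ∧ orderOf x = m} =>
    (⟨zpowers x.1, zpowers_le.2 x.2.1, inferInstance, by rw [Nat.card_zpowers, x.2.2]⟩ :
      {C : Subgroup G // C ≤ H ∧ IsCyclic C ∧ Nat.card C = m})) fun ⟨C, h1, h2, h3⟩ => ?_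
  simp only [Subtype.mk.injEq]
  rw [card_subtype_subtype _ fun x => zpowers x = C, ← nOrd_cyclic h2 h3.symm.dvd]
  exact card_subtype_congr fun x => ⟨fun h => ⟨h.2 ▸ mem_zpowers x, h.1.2⟩, fun h => ⟨⟨h1 h.1, h.2⟩,
    CfsgH2.eq_of_le_of_card_le (zpowers_le.2 h.1) (by rw [Nat.card_zpowers, h.2, h3])⟩⟩

theorem totient_dvd_card (m : ℕ) : m.totient ∣ Nat.card {x : G // orderOf x = m} := by
  rw [← nOrd_top, nOrd_eq]; exact dvd_mul_left _ _

theorem card_pow_eq_sum {k : ℕ} (hk : k ≠ 0) :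
    Nat.card {x : G // x ^ k = 1} = ∑ m ∈ k.divisors, Nat.card {x : G // orderOf x = m} := by
  classical
  have := Fintype.ofFinite G
  simp only [Nat.card_eq_fintype_card, Fintype.card_subtype]
  exact (sum_card_orderOf_eq_card_pow_eq_one hk).symm

theorem sum_divisors_mul_prime (hp : p.Prime) {k : ℕ} (h : ¬ p ∣ k) (f : ℕ → ℕ) :
    ∑ d ∈ (k * p).divisors, f d = ∑ d ∈ k.divisors, f d + ∑ d ∈ k.divisors, f (d * p) := by
  rw [Nat.divisors_mul, Finset.mul_def, Finset.sum_image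
    ((Nat.Prime.coprime_iff_not_dvd hp).2 h).symm.mul_injOn_divisors, Finset.sum_product_right, hp.sum_divisors, add_comm]
  simp

variable [hp : Fact p.Prime]

theorem nCyc_modEq {P : Subgroup G} (hP : IsSylowIn p P ⊤) (s : ℕ) :
    nCyc (⊤ : Subgroup G) (p ^ s) ≡ nCyc P (p ^ s) [MOD p] := by
  have key : ∀ H : Subgroup G, P ≤ H → nCyc H (p ^ s) ≡
      Nat.card {C : Subgroup G // (IsCyclic C ∧ Nat.card C = p ^ s) ∧ P ≤ N(C) ∧ C ≤ H} [MOD p] := by
    intro H hH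
    letI : MulAction P {C : Subgroup G // C ≤ H ∧ IsCyclic C ∧ Nat.card C = p ^ s} :=
      { smul := fun g C => ⟨cj g C.1, (cj_mono _ C.2.1).trans (cj_eq_of_mem (hH g.2)).le,
          (cjEquiv (g : G) C.1).isCyclic.1 C.2.2.1,
          (card_cj _ _).trans C.2.2.2⟩
        one_smul := fun C => Subtype.ext (cj_one _)
        mul_smul := fun a b C => Subtype.ext (cj_cj _ _ _).symm }
    refine (hP.2.card_modEq_card_fixedPoints _).trans (congrArg (· % p) ?_)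
    refine Nat.card_congr ⟨fun C => ⟨C.1.1, C.1.2.2, fun g hg => ?_, C.1.2.1⟩,
      fun C => ⟨⟨C.1, C.2.2.2, C.2.1⟩, fun g => Subtype.ext ?_⟩, fun _ => rfl, fun _ => rfl⟩
    · exact cj_eq_iff_mem_normalizer.1 (congrArg Subtype.val (C.2 ⟨g, hg⟩))
    · exact cj_eq_iff_mem_normalizer.2 (C.2.2.1 g.2)
  refine (key ⊤ le_top).trans (Nat.ModEq.symm ((key P le_rfl).trans (congrArg (· % p) ?_)))
  refine card_subtype_congr fun C => ⟨fun h => ⟨h.1, h.2.1, le_top⟩, fun h => ⟨h.1, h.2.1, ?_⟩⟩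
  exact le_sup_right.trans (hP.eq_of_le (hP.2.to_sup_of_normal_right' (IsPGroup.of_card h.1.2) h.2.1) le_sup_left le_top).le

theorem mul_pow_e2 (hp2 : p ≠ 2) (hG : IsPGroup p G) {V : Subgroup G} [V.Normal] (hV : IsElementaryAbelian p V)
    (hc : Nat.card V = p ^ 2) (x : G) {v : G} (hv : v ∈ V) : (x * v) ^ p = x ^ p := by
  have h0 : V ≠ ⊥ := fun e => by
    rw [e, card_bot] at hc
    exact (Nat.one_lt_pow two_ne_zero hp.out.one_lt).ne hc
  have h1 := commutator_lt_of_ne_bot (hG.to_subgroup ⊤) le_top le_normalizer_of_normal h0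
  have h2 := le_centralizer_of_card_le_prime (hG.to_subgroup ⊤) (K := ⁅V, ⊤⁆) le_top le_normalizer_of_normal (by
    have := CfsgH2.mul_card_le_of_lt (hG.to_subgroup V) h1
    rw [hc, sq] at this
    exact Nat.le_of_mul_le_mul_right this hp.out.pos)
  have h3 : v⁻¹ * x⁻¹ * v * x ∈ ⁅V, (⊤ : Subgroup G)⁆ := by
    simpa [commutatorElement_def] using commutator_mem_commutator (inv_mem hv) (mem_top x⁻¹)
  rw [mul_pow_prime_class_two hp.out hp2 (h2 h3 x trivial).symm (h2 h3 v trivial).symm (hV.2 _ (h1.le h3)),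
    hV.2 v hv, mul_one]

theorem dvd_nOrd_pgroup (hp2 : p ≠ 2) (hG : IsPGroup p G) (hn : ¬ IsCyclic G) (s : ℕ) :
    p ^ (s + 2) ∣ Nat.card {x : G // orderOf x = p ^ (s + 2)} := by
  obtain ⟨V, -, h1, hV, hc⟩ := CfsgH2.exists_normal_elem_two hp2 (hG.to_subgroup ⊤) le_rfl le_normalizer
    fun h => hn (isCyclic_of_surjective _ topEquiv.surjective)
  have : V.Normal := normalizer_eq_top_iff.1 (top_le_iff.1 h1)
  refine dvd_card_of_fiber (fun x => zpowers x.1 ⊔ V) fun ⟨a, ha⟩ => ?_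
  rw [card_subtype_subtype _ fun x => zpowers x ⊔ V = zpowers a ⊔ V]
  have mem : ∀ b x : G, x ∈ zpowers b ⊔ V → ∃ i : ℕ, ∃ v ∈ V, x = b ^ i * v := fun b x hx => by
    rw [← SetLike.mem_coe, mul_normal] at hx
    obtain ⟨y, hy, v, hv, rfl⟩ := hx
    obtain ⟨i, rfl⟩ := mem_powers_iff_mem_zpowers.2 hy
    exact ⟨i, v, hv, rfl⟩
  have hL : ∀ x ∈ zpowers (a ^ p) ⊔ V, x ^ p ^ (s + 1) = 1 := fun x hx => by
    obtain ⟨i, v, hv, rfl⟩ := mem _ _ hx
    rw [pow_succ', pow_mul, mul_pow_e2 hp2 hG hV hc _ hv, ← pow_mul, ← pow_mul, ← pow_mul]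
    exact orderOf_dvd_iff_pow_eq_one.1 (ha ▸ ⟨i, by ring⟩)
  have e : Nat.card {x // orderOf x = p ^ (s + 2) ∧ zpowers x ⊔ V = zpowers a ⊔ V} =
      Nat.card {x // x ∈ zpowers a ⊔ V ∧ ¬ x ∈ zpowers (a ^ p) ⊔ V} := card_subtype_congr fun x => by
    refine ⟨fun h => ⟨h.2 ▸ mem_sup_left (mem_zpowers x), fun k => ?_⟩, fun h => ?_⟩
    · have := Nat.le_of_dvd (pow_pos hp.out.pos _) (h.1 ▸ orderOf_dvd_of_pow_eq_one (hL x k))
      exact absurd this (not_le.2 (Nat.pow_lt_pow_right hp.out.one_lt (by omega)))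
    obtain ⟨i, v, hv, rfl⟩ := mem _ _ h.1
    have hi : ¬ p ∣ i := fun ⟨j, hj⟩ => h.2 (mul_mem (mem_sup_left (by
      rw [hj, pow_mul]; exact pow_mem (mem_zpowers _) j)) (mem_sup_right hv))
    have co : (orderOf a).Coprime i := ha ▸ ((Nat.Prime.coprime_iff_not_dvd hp.out).2 hi).pow_left _
    have o : orderOf (a ^ i) = p ^ (s + 2) := by rw [co.orderOf_pow, ha]
    have pw : ∀ k, (a ^ i * v) ^ p ^ (k + 1) = (a ^ i) ^ p ^ (k + 1) := fun k => by
      rw [pow_succ', pow_mul, mul_pow_e2 hp2 hG hV hc _ hv, ← pow_mul]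
    refine ⟨orderOf_eq_prime_pow (by
      rw [pw, ← orderOf_dvd_iff_pow_eq_one, o, Nat.pow_dvd_pow_iff_le_right hp.out.one_lt]; omega)
      (by rw [pw, ← o, pow_orderOf_eq_one]), le_antisymm (sup_le (zpowers_le.2 h.1) le_sup_right)
      (sup_le (zpowers_le.2 ?_) le_sup_right)⟩
    obtain ⟨k, hk⟩ := exists_pow_eq_self_of_coprime co.symm
    have : a ^ i * v * v⁻¹ ∈ zpowers (a ^ i * v) ⊔ V :=
      mul_mem (mem_sup_left (mem_zpowers _)) (mem_sup_right (inv_mem hv))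
    rw [mul_inv_cancel_right] at this
    simpa only [hk] using pow_mem this k
  have hle : zpowers (a ^ p) ⊔ V ≤ zpowers a ⊔ V :=
    sup_le_sup_right (zpowers_le.2 (pow_mem (mem_zpowers a) p)) V
  have h2 := card_add_card_not (· ∈ zpowers a ⊔ V) (· ∈ zpowers (a ^ p) ⊔ V)
  rw [card_subtype_congr (P := fun x => x ∈ zpowers a ⊔ V ∧ x ∈ zpowers (a ^ p) ⊔ V)
    (Q := (· ∈ zpowers (a ^ p) ⊔ V)) fun x => ⟨fun h => h.2, fun h => ⟨hle h, h⟩⟩] at h2
  rw [e]
  refine (Nat.dvd_add_right ?_).1 (h2 ▸ ha ▸ orderOf_dvd_natCard (zpowers a ⊔ V) (mem_sup_left (mem_zpowers a)))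
  have h3 : zpowers (a ^ p) < zpowers (a ^ p) ⊔ V := left_lt_sup.2 fun k => by
    have := isCyclic_of_le k
    have h4 : Monoid.exponent V ∣ p := Monoid.exponent_dvd_of_forall_pow_eq_one fun v => Subtype.ext (hV.2 v v.2)
    rw [IsCyclic.exponent_eq_card, hc] at h4
    exact absurd (Nat.le_of_dvd hp.out.pos h4) (not_le.2 (by nlinarith [hp.out.one_lt]))
  have h4 := CfsgH2.card_lt_of_lt h3
  obtain ⟨t, ht⟩ := IsPGroup.iff_card.1 (hG.to_subgroup (zpowers (a ^ p) ⊔ V))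
  rw [Nat.card_zpowers, orderOf_pow_of_dvd hp.out.ne_zero (ha ▸ dvd_pow_self p (by omega)), ha, ht, pow_succ,
    Nat.mul_div_cancel _ hp.out.pos, pow_lt_pow_iff_right₀ hp.out.one_lt] at h4
  exact ht ▸ pow_dvd_pow p h4

theorem dvd_nOrd (hp2 : p ≠ 2) (P : Sylow p G) (hn : ¬ IsCyclic P) (s : ℕ) :
    p ^ (s + 2) ∣ Nat.card {x : G // orderOf x = p ^ (s + 2)} := by
  have h1 := dvd_nOrd_pgroup hp2 P.isPGroup' hn s
  rw [← nOrd_sub, nOrd_eq, Nat.totient_prime_pow_succ hp.out, pow_succ, mul_left_comm,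
    Nat.mul_dvd_mul_iff_left (pow_pos hp.out.pos _)] at h1
  have h2 := (hp.out.dvd_mul.1 h1).resolve_right fun h =>
    absurd (Nat.le_of_dvd (by have := hp.out.two_le; omega) h) (by have := hp.out.two_le; omega)
  have h3 := (Nat.ModEq.dvd_iff (nCyc_modEq (IsSylowIn.of_sylow_top P) (s + 2)) dvd_rfl).2 h2
  rw [← nOrd_top, nOrd_eq, Nat.totient_prime_pow_succ hp.out, pow_succ, mul_left_comm]
  exact Nat.mul_dvd_mul_left _ (h3.mul_right _)

end CfsgH9
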