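import Mathlib
import Cfsg.Agent.H1.Wielandt
import Cfsg.Agent.H1.Coprime

/-! A fixed point inequality for a `p`-group acting on a `p'`-group. -/

set_option autoImplicit false
open Cfsg Subgroup CfsgFT
open CfsgH2 (IsSylowIn)
open scoped commutatorElement

namespace CfsgH9.PE

universe u

theorem key {W : Type*} [AddCommGroup W] [Finite W] {p : ℕ} (hp : p.Prime)
    (inj : ∀ w : W, p • w = 0 → w = 0) (a b : Module.End ℤ W) (hab : Commute a b)
    (hb : b ^ p = 1) :
    (∏ i : Fin p, Nat.card (LinearMap.ker (a * b ^ (i : ℕ) - 1))) *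
        Nat.card (LinearMap.ker (b - 1)) ≤
      Nat.card (LinearMap.ker (a - 1) ⊓ LinearMap.ker (b - 1) : Submodule ℤ W) ^ p *
        Nat.card W := by
  let Φ : ((i : Fin p) → LinearMap.ker (a * b ^ (i : ℕ) - 1)) × LinearMap.ker (b - 1) →+ W :=
    AddMonoidHom.mk' (fun u => ∑ i, (u.1 i : W) + u.2) fun u v => by
      simp only [Prod.fst_add, Prod.snd_add, Pi.add_apply, Submodule.coe_add,
        Finset.sum_add_distrib]
      abel
  have fx : ∀ (c : Module.End ℤ W) (w : W), w ∈ LinearMap.ker (c - 1) ↔ c w = w := fun c w => by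
    simp [sub_eq_zero]
  have fk : ∀ (c : Module.End ℤ W) (w : W) (k : ℕ), c w = w → (c ^ k) w = w := fun c w k h =>
    Module.End.pow_apply c k w ▸ Function.iterate_fixed h k
  have hk : ∀ u ∈ Φ.ker, ∀ i, b (u.1 i) = u.1 i := fun u hu i => by
    let T := (b - 1) * ∑ k ∈ Finset.range p, (a * b ^ (i : ℕ)) ^ k
    have e : T (∑ j, (u.1 j : W) + u.2) = 0 := by
      rw [show ∑ j, (u.1 j : W) + u.2 = 0 from hu, map_zero]
    have c1 : Commute (b - 1) (∑ k ∈ Finset.range p, (a * b ^ (i : ℕ)) ^ k) :=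
      Commute.sum_right _ _ _ fun k _ => ((hab.symm.mul_right (Commute.self_pow b _)).sub_left
        (Commute.one_left _)).pow_right k
    have e2 : T u.2 = 0 := by
      rw [show T = _ from c1.eq, Module.End.mul_apply, LinearMap.mem_ker.1 u.2.2, map_zero]
    rw [map_add, e2, add_zero, map_sum, Finset.sum_eq_single i _ (by simp)] at e
    · have : (∑ k ∈ Finset.range p, (a * b ^ (i : ℕ)) ^ k) (u.1 i : W) = p • (u.1 i : W) := by
        rw [LinearMap.sum_apply, Finset.sum_congr rfl fun k _ => fk _ _ k ((fx _ _).1 (u.1 i).2)]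
        simp
      rw [Module.End.mul_apply, this, map_nsmul] at e
      exact (fx _ _).1 (inj _ e)
    intro j _ hj
    obtain ⟨d, hd⟩ : ∃ d, (j : ℕ) + d = i + p := ⟨i + p - j, by have := j.2; omega⟩
    have h1 : a * b ^ (i : ℕ) = b ^ d * (a * b ^ (j : ℕ)) := by
      rw [← mul_assoc, ← (hab.pow_right d).eq, mul_assoc, ← pow_add, add_comm, hd, pow_add, hb,
        mul_one]
    have h2 : (∑ k ∈ Finset.range p, (a * b ^ (i : ℕ)) ^ k) (u.1 j : W) =
        (∑ k ∈ Finset.range p, (b ^ d) ^ k) (u.1 j : W) := by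
      rw [LinearMap.sum_apply, LinearMap.sum_apply]
      refine Finset.sum_congr rfl fun k _ => ?_
      rw [h1, ((hab.symm.mul_right (Commute.self_pow b _)).pow_left d).mul_pow,
        Module.End.mul_apply, fk _ _ k ((fx _ _).1 (u.1 j).2)]
    have cop : Nat.Coprime d p := by
      refine ((Nat.Prime.coprime_iff_not_dvd hp).2 fun ⟨c, hc⟩ => hj (Fin.ext ?_)).symm
      have := i.2
      have := j.2
      rcases c with _ | _ | c
      · omega
      · omega
      · rw [hc, mul_add, mul_add] at hd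
        omega
    obtain ⟨m, -, hm⟩ := Nat.exists_mul_mod_eq_one_of_coprime cop hp.one_lt
    have h3 : b = (b ^ d) ^ m := by
      rw [← pow_mul, ← Nat.mod_add_div (d * m) p, hm, pow_add, pow_mul, hb, one_pow, mul_one,
        pow_one]
    have h4 : (b - 1) * ∑ k ∈ Finset.range p, (b ^ d) ^ k = 0 := by
      conv_lhs => lhs; rw [h3, ← geom_sum_mul]
      rw [mul_assoc, mul_geom_sum, ← pow_mul, mul_comm d, pow_mul, hb, one_pow, sub_self, mul_zero]
    rw [Module.End.mul_apply, h2, ← Module.End.mul_apply, h4, LinearMap.zero_apply]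
  have h1 : Nat.card Φ.ker ≤ Nat.card (Fin p →
      (LinearMap.ker (a - 1) ⊓ LinearMap.ker (b - 1) : Submodule ℤ W)) := by
    refine Nat.card_le_card_of_injective (fun u i => ⟨u.1.1 i, (fx _ _).2 ?_, (fx _ _).2
      (hk u.1 u.2 i)⟩) fun u v e => ?_
    · have := (fx _ _).1 (u.1.1 i).2
      rwa [Module.End.mul_apply, fk _ _ _ (hk u.1 u.2 i)] at this
    · have e1 : u.1.1 = v.1.1 := funext fun i => Subtype.ext (Subtype.ext_iff.1 (congrFun e i) :)
      have e2 : ∑ j, (u.1.1 j : W) + u.1.2 = ∑ j, (v.1.1 j : W) + v.1.2 :=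
        (AddMonoidHom.mem_ker.1 u.2).trans (AddMonoidHom.mem_ker.1 v.2).symm
      rw [e1] at e2
      exact Subtype.ext (Prod.ext e1 (Subtype.ext (add_left_cancel e2)))
  rw [Nat.card_fun, Nat.card_eq_fintype_card (α := Fin p), Fintype.card_fin] at h1
  rw [← Nat.card_pi, ← Nat.card_prod, ← Φ.ker.card_mul_index, AddSubgroup.index_ker]
  exact Nat.mul_le_mul h1 (AddSubgroup.card_le_card_addGroup _)

variable {X : Type u} [Group X] [Finite X]

theorem key_mul {W : Subgroup X} (hW : IsMulCommutative W) {p : ℕ} (hp : p.Prime)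
    (cop : p.Coprime (Nat.card W)) {x z : X} (hx : x ∈ N(W)) (hz : z ∈ N(W))
    (h1 : ⁅x, z⁆ ∈ C(W)) (h2 : z ^ p ∈ C(W)) :
    (∏ i : Fin p, Nat.card (W ⊓ C1(x * z ^ (i : ℕ)) : Subgroup X)) *
        Nat.card (W ⊓ C1(z) : Subgroup X) ≤
      Nat.card (W ⊓ (C1(x) ⊓ C1(z)) : Subgroup X) ^ p * Nat.card W := by
  letI : CommGroup W := { (inferInstance : Group W) with mul_comm := hW.is_comm.comm }
  let ψ : N(W) →* Module.End ℤ (Additive W) :=
    { toFun := fun g => (MonoidHom.toAdditive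
        (W.normalizerMonoidHom g).toMonoidHom).toIntLinearMap
      map_one' := by ext; simp
      map_mul' := fun g h => by ext; simp }
  have hψ : ∀ (g : N(W)) (w : W), ((ψ g (Additive.ofMul w)).toMul : X) = g * w * (g : X)⁻¹ :=
    fun g w => rfl
  have fx : ∀ (g : N(W)) (w : W), Additive.ofMul w ∈ LinearMap.ker (ψ g - 1) ↔
      (w : X) ∈ C1((g : X)) := fun g w => by
    rw [LinearMap.mem_ker, LinearMap.sub_apply, sub_eq_zero, mem_centralizer_singleton_iff,
      eq_comm (a := (w : X) * g), ← mul_inv_eq_iff_eq_mul, ← hψ]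
    exact ⟨fun e => by rw [e]; rfl, fun e => Additive.toMul.injective (Subtype.ext e)⟩
  have cd : ∀ (U : Submodule ℤ (Additive W)) (K : Subgroup X),
      (∀ w : W, Additive.ofMul w ∈ U ↔ (w : X) ∈ K) →
      Nat.card U = Nat.card (W ⊓ K : Subgroup X) := fun U K h =>
    Nat.card_congr ⟨fun u => ⟨(u.1.toMul : W), u.1.toMul.2, (h _).1 u.2⟩,
      fun v => ⟨Additive.ofMul ⟨v, v.2.1⟩, (h _).2 v.2.2⟩, fun _ => rfl, fun _ => rfl⟩
  have tr : ∀ g : N(W), (g : X) ∈ C(W) → ψ g = 1 := fun g hg => LinearMap.ext fun w =>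
    Additive.toMul.injective (Subtype.ext ((hψ g w.toMul).trans (by
      rw [← hg _ w.toMul.2, mul_inv_cancel_right]; rfl)))
  have := key (W := Additive W) hp (fun w e => by
    have : w.toMul ^ p = 1 := congrArg Additive.toMul e
    exact Additive.toMul.injective (orderOf_eq_one_iff.1 (Nat.eq_one_of_dvd_coprimes cop
      (orderOf_dvd_of_pow_eq_one this) (orderOf_dvd_natCard _)))) (ψ ⟨x, hx⟩) (ψ ⟨z, hz⟩)
    (by
      have := tr ⁅(⟨x, hx⟩ : N(W)), (⟨z, hz⟩ : N(W))⁆ h1
      have e : (⟨x, hx⟩ : N(W)) * ⟨z, hz⟩ =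
          ⁅(⟨x, hx⟩ : N(W)), (⟨z, hz⟩ : N(W))⁆ * (⟨z, hz⟩ * ⟨x, hx⟩) := by
        rw [commutatorElement_def]; group
      show _ = _
      rw [← map_mul, e, map_mul, this, one_mul, map_mul])
    (by rw [← map_pow]; exact tr _ h2)
  simp only [← map_pow, ← map_mul] at this
  rw [cd _ _ (fx _), cd _ (C1(x) ⊓ C1(z)) (fun w => and_congr (fx ⟨x, hx⟩ w) (fx ⟨z, hz⟩ w)),
    Finset.prod_congr rfl fun i _ => cd _ _ (fx _)] at this
  exact this

variable {P : Type*} [Group P] [Fintype P] {p : ℕ} [hp : Fact p.Prime]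

theorem ab_chain (hP : IsPGroup p P) (f : P →* X) {V : Subgroup X} (hV : IsMulCommutative V)
    (cop : p.Coprime (Nat.card V)) (hn : f.range ≤ N(V)) (Y : Subgroup P) : Y.Normal →
    ∏ x : P, Nat.card (V ⊓ C(Y.map f) ⊓ C1(f x) : Subgroup X) ^ p ≤
      Nat.card (V ⊓ C(f.range) : Subgroup X) ^ ((p - 1) * Fintype.card P) *
        Nat.card (V ⊓ C(Y.map f) : Subgroup X) ^ Fintype.card P := by
  induction Y using WellFoundedGT.induction with | _ Y ih => ?_
  intro hY
  by_cases t : Y = ⊤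
  · subst t
    have : ∀ x, V ⊓ C(f.range) ⊓ C1(f x) = V ⊓ C(f.range) := fun x => inf_eq_left.2
      (inf_le_right.trans (centralizer_le (Set.singleton_subset_iff.2 (⟨x, rfl⟩ : f x ∈ f.range))))
    rw [← MonoidHom.range_eq_map]
    simp only [this]
    rw [Finset.prod_const, ← pow_add, ← pow_mul, Finset.card_univ, ← add_one_mul,
      Nat.sub_add_cancel hp.out.one_le]
  haveI : Nontrivial (P ⧸ Y) := QuotientGroup.nontrivial_iff.2 t
  haveI := (hP.to_quotient Y).center_nontrivial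
  obtain ⟨⟨y, hy⟩, o⟩ := exists_prime_orderOf_dvd_card' (G := center (P ⧸ Y)) p (by
    obtain ⟨n, h0, e⟩ := (IsPGroup.nontrivial_iff_card ((hP.to_quotient Y).to_subgroup _)).1 this
    exact e ▸ dvd_pow_self p h0.ne')
  rw [orderOf_mk] at o
  obtain ⟨z, rfl⟩ := QuotientGroup.mk_surjective y
  have zc : ∀ g, ⁅g, z⁆ ∈ Y := fun g => by
    rw [← QuotientGroup.eq_one_iff, ← QuotientGroup.mk'_apply, map_commutatorElement,
      commutatorElement_eq_one_iff_mul_comm]
    exact mem_center_iff.1 hy _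
  have zp : z ^ p ∈ Y := by
    rw [← QuotientGroup.eq_one_iff, QuotientGroup.mk_pow, ← o, pow_orderOf_eq_one]
  have z0 : z ∉ Y := fun e => hp.out.one_lt.ne' (by
    rw [← o, (QuotientGroup.eq_one_iff z).2 e, orderOf_one])
  have zn : (Y ⊔ zpowers z).Normal := by
    refine normalizer_eq_top_iff.1 (eq_top_iff.2 fun g _ => mem_normalizer_fintype fun n hn' => ?_)
    have : Y ⊔ zpowers z ≤ (Y ⊔ zpowers z).comap (MulAut.conj g).toMonoidHom :=
      sup_le (fun y hy => mem_sup_left (hY.conj_mem y hy g)) (zpowers_le.2 (by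
        have e : g * z * g⁻¹ = ⁅g, z⁆ * z := by rw [commutatorElement_def]; group
        show g * z * g⁻¹ ∈ Y ⊔ zpowers z
        rw [e]
        exact mul_mem (mem_sup_left (zc g)) (mem_sup_right (mem_zpowers z))))
    exact this hn'
  have h1 := ih (Y ⊔ zpowers z) (lt_of_le_of_ne le_sup_left fun e =>
    z0 (e ▸ mem_sup_right (mem_zpowers z))) zn
  set W := V ⊓ C(Y.map f) with hW
  have e1 : V ⊓ C((Y ⊔ zpowers z).map f) = W ⊓ C1(f z) := by
    rw [Subgroup.map_sup, MonoidHom.map_zpowers, hW, inf_assoc]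
    congr 1
    refine le_antisymm (le_inf (centralizer_le (SetLike.coe_subset_coe.2 le_sup_left))
      (centralizer_le (Set.singleton_subset_iff.2 (mem_sup_right (mem_zpowers _))))) ?_
    refine le_centralizer_iff.1 (sup_le (le_centralizer_iff.1 inf_le_left) (zpowers_le.2 ?_))
    exact fun c hc => mem_centralizer_singleton_iff.1 hc.2
  have wn : ∀ g, f g ∈ N(W) := fun g => mem_normalizer_fintype fun w hw =>
    ⟨(mem_normalizer_iff.1 (hn ⟨g, rfl⟩) w).1 hw.1, by
      rintro _ ⟨y, hy, rfl⟩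
      have := hw.2 _ ⟨_, hY.conj_mem' y hy g, rfl⟩
      simp only [map_mul, map_inv] at this
      calc f y * (f g * w * (f g)⁻¹) = f g * ((f g)⁻¹ * f y * f g * w) * (f g)⁻¹ := by group
        _ = _ := by rw [this]; group⟩
  have yc : ∀ y ∈ Y, f y ∈ C(W) := fun y hy w hw => (hw.2 _ ⟨y, hy, rfl⟩).symm
  have h2 : ∀ x, _ := fun x => key_mul (W := W) ⟨⟨fun a b => Subtype.ext (Subtype.ext_iff.1
    (hV.is_comm.comm ⟨a, a.2.1⟩ ⟨b, b.2.1⟩) :)⟩⟩ hp.out
    (cop.coprime_dvd_right (card_dvd_of_le inf_le_left)) (wn x) (wn z)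
    (by rw [← map_commutatorElement]; exact yc _ (zc x)) (by rw [← map_pow]; exact yc _ zp)
  have h3 := Finset.prod_le_prod' (s := Finset.univ) fun x _ => h2 x
  rw [Finset.prod_mul_distrib, Finset.prod_mul_distrib, Finset.prod_comm, Finset.prod_const,
    Finset.prod_const, Finset.card_univ, Finset.prod_congr rfl fun (i : Fin p) _ => by
      simp only [← map_pow, ← map_mul]
      exact Equiv.prod_comp (Equiv.mulRight (z ^ (i : ℕ)))
        fun x => Nat.card (W ⊓ C1(f x) : Subgroup X),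
    Finset.prod_const, Finset.card_univ, Fintype.card_fin, ← Finset.prod_pow] at h3
  rw [e1] at h1
  simp only [inf_assoc, inf_comm C1(f z)] at h1
  refine Nat.le_of_mul_le_mul_right (h3.trans ?_)
    (pow_pos (Nat.card_pos (α := (W ⊓ C1(f z) : Subgroup X))) (Fintype.card P))
  rw [mul_right_comm]
  exact Nat.mul_le_mul_right _ h1

omit [Finite X] in
theorem cent_zpowers (g : X) : C(zpowers g) = C1(g) := by
  rw [zpowers_eq_closure, centralizer_closure]

theorem ineq_solv (hP : IsPGroup p P) (X : Type u) [Group X] [Finite X] (H : Subgroup X)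
    (hs : Group.IsSolvable H) : ∀ f : P →* X, f.range ≤ N(H) → p.Coprime (Nat.card H) →
    ∏ x : P, Nat.card (H ⊓ C1(f x) : Subgroup X) ^ p ≤
      Nat.card (H ⊓ C(f.range) : Subgroup X) ^ ((p - 1) * Fintype.card P) *
        Nat.card H ^ Fintype.card P := by
  refine CfsgH1.ea_induction (P := fun X _ _ H _ _ => ∀ f : P →* X, f.range ≤ N(H) →
    p.Coprime (Nat.card H) → ∏ x : P, Nat.card (H ⊓ C1(f x) : Subgroup X) ^ p ≤
      Nat.card (H ⊓ C(f.range) : Subgroup X) ^ ((p - 1) * Fintype.card P) *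
        Nat.card H ^ Fintype.card P) (fun X _ _ _ _ f _ _ => by simp) ?_ X H ⊥ ⊥ hs
  intro X _ _ H _ _ V l _ hVH _ hV hn _ ih f hf cop
  have hfV := hf.trans hn
  have hHV : H ≤ N(V) := le_normalizer.trans hn
  have cV := cop.coprime_dvd_right (card_dvd_of_le hVH)
  let g : P →* N(V) := f.codRestrict _ fun x => hfV ⟨x, rfl⟩
  have e1 : quo V f.range = ((qm V).comp g).range := by
    ext y
    rw [mem_quo]
    exact ⟨fun ⟨x, ⟨a, ha⟩, e⟩ => ⟨a, e ▸ congrArg (qm V) (Subtype.ext ha)⟩,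
      fun ⟨a, e⟩ => ⟨g a, ⟨a, rfl⟩, e⟩⟩
  have cp : ∀ A ≤ f.range, (Nat.card A).Coprime (Nat.card V) := fun A hA => by
    obtain ⟨n, e⟩ := IsPGroup.iff_card.1 ((hP.of_surjective _ f.rangeRestrict_surjective).to_le hA)
    rw [e]; exact cV.pow_left n
  have mu := fun A (hA : A ≤ f.range) => CfsgH1.card_inf_cent_eq_mul hVH hHV (hA.trans hfV)
    (cp A hA) (Or.inr (CfsgH1.solvable_ea hV))
  have h1 := ih ((qm V).comp g) (e1 ▸ quo_le_norm hf) (cop.coprime_dvd_right (card_quo_dvd V H))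
  have h2 := ab_chain hP f hV.1 cV hfV ⊥ inferInstance
  have c1 : C1((1 : X)) = ⊤ := eq_top_iff.2 fun a _ => mem_centralizer_singleton_iff.2 (by simp)
  simp only [Subgroup.map_bot, coe_bot, c1, inf_top_eq] at h2
  have e2 : ∀ x, Nat.card (H ⊓ C1(f x) : Subgroup X) = Nat.card (V ⊓ C1(f x) : Subgroup X) *
      Nat.card (quo V H ⊓ C1(((qm V).comp g) x) : Subgroup (Quo V)) := fun x => by
    have := mu (zpowers (f x)) (zpowers_le.2 ⟨x, rfl⟩)
    rwa [show quo V (zpowers (f x)) = zpowers (qm V (g x)) from quo_zpowers (g x), cent_zpowers,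
      cent_zpowers] at this
  have e3 : Nat.card H = Nat.card V * Nat.card (quo V H) := by
    rw [card_quo hHV, ← relIndex_bot_left, ← relIndex_bot_left, relIndex_mul_relIndex _ _ _ bot_le hVH]
  rw [mu _ le_rfl, e1, e3]
  simp only [e2, mul_pow, Finset.prod_mul_distrib]
  rw [mul_mul_mul_comm]
  exact Nat.mul_le_mul h2 h1

theorem ineq (hP : IsPGroup p P) (H : Subgroup X) (f : P →* X) (hf : f.range ≤ N(H))
    (cop : p.Coprime (Nat.card H)) :
    ∏ x : P, Nat.card (H ⊓ C1(f x) : Subgroup X) ^ p ≤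
      Nat.card (H ⊓ C(f.range) : Subgroup X) ^ ((p - 1) * Fintype.card P) *
        Nat.card H ^ Fintype.card P := by
  have pos : ∀ K : Subgroup X, Nat.card K ≠ 0 := fun K => Nat.card_pos.ne'
  have pg : ∀ A ≤ f.range, IsPGroup p A := fun A hA =>
    (hP.of_surjective _ f.rangeRestrict_surjective).to_le hA
  have cp : ∀ A ≤ f.range, (Nat.card A).Coprime (Nat.card H) := fun A hA => by
    obtain ⟨n, e⟩ := IsPGroup.iff_card.1 (pg A hA)
    rw [e]; exact cop.pow_left n
  have sv : ∀ A ≤ f.range, Group.IsSolvable A ∨ Group.IsSolvable H := fun A hA =>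
    Or.inl (haveI := (pg A hA).isNilpotent; inferInstance)
  have n1 : ∏ x : P, Nat.card (H ⊓ C1(f x) : Subgroup X) ^ p ≠ 0 :=
    Finset.prod_ne_zero_iff.2 fun x _ => pow_ne_zero _ (pos _)
  have n2 := mul_ne_zero (pow_ne_zero ((p - 1) * Fintype.card P) (pos (H ⊓ C(f.range))))
    (pow_ne_zero (Fintype.card P) (pos H))
  refine Nat.le_of_dvd (Nat.pos_of_ne_zero n2) ((Nat.factorization_prime_le_iff_dvd n1 n2).1
    fun q hq => ?_)
  haveI := Fact.mk hq
  obtain ⟨S, hS, hn⟩ := CfsgH1.exists_invariant_sylow hf (cp _ le_rfl) (sv _ le_rfl) q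
  have sy := fun A (hA : A ≤ f.range) => (CfsgH1.invariant_sylow_inf_centralizer (hA.trans hf)
    (cp A hA) (sv A hA) hS (hA.trans hn)).card_eq
  have := ineq_solv hP X S (haveI := hS.pgroup.isNilpotent; inferInstance) f hn
    (cop.coprime_dvd_right (card_dvd_of_le hS.le))
  rw [sy _ le_rfl, hS.card_eq, Finset.prod_congr rfl fun x _ => by
    rw [← cent_zpowers, sy _ (zpowers_le.2 ⟨x, rfl⟩), cent_zpowers, ← pow_mul],
    Finset.prod_pow_eq_pow_sum, ← pow_mul, ← pow_mul, ← pow_add,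
    Nat.pow_le_pow_iff_right hq.one_lt] at this
  rw [Nat.factorization_prod fun x _ => pow_ne_zero _ (pos _),
    Nat.factorization_mul (pow_ne_zero _ (pos _)) (pow_ne_zero _ (pos _))]
  simpa [Finsupp.finset_sum_apply, mul_comm] using this

end CfsgH9.PE
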