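import Mathlib
import Cfsg.Agent.H9.PE1
import Cfsg.Agent.H1.PG1
import Cfsg.Agent.H1.Solv

/-! The number of `p`-elements of a `p`-solvable group. -/

set_option autoImplicit false
open Cfsg Subgroup CfsgFT
open CfsgH2 (IsSylowIn)

namespace CfsgH9.PE

universe u

variable {G : Type u} [Group G] [Finite G] {p : ℕ} [hp : Fact p.Prime]

/-- The number of `g` conjugating `x` into `S`. -/
noncomputable def lam (S : Subgroup G) (x : G) : ℕ := Nat.card {g : G // g⁻¹ * x * g ∈ S}

theorem card_le_fib {α β : Type*} [Finite α] [Finite β] (f : α → β) (m : ℕ)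
    (h : ∀ b, Nat.card {a // f a = b} ≤ m) : Nat.card α ≤ Nat.card β * m := by
  haveI := Fintype.ofFinite β
  rw [← Nat.card_congr (Equiv.sigmaFiberEquiv f), Nat.card_sigma]
  simpa using Finset.sum_le_card_nsmul Finset.univ _ m fun b _ => h b

theorem lam_le (M K S : Subgroup G) [hM : M.Normal] (x : G)
    (h : ∀ g n : G, n ∈ M → g⁻¹ * x * g ∈ S → (n * g)⁻¹ * x * (n * g) ∈ S → n ∈ K) :
    lam S x ≤ lam (S.map (QuotientGroup.mk' M)) x * Nat.card K := by
  refine card_le_fib (fun g => ⟨(g.1 : G ⧸ M), _, g.2, rfl⟩) _ fun b => ?_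
  rcases isEmpty_or_nonempty {a : {g : G // g⁻¹ * x * g ∈ S} //
    (⟨(a.1 : G ⧸ M), _, a.2, rfl⟩ : {g : G ⧸ M // g⁻¹ * x * g ∈ S.map (QuotientGroup.mk' M)}) = b}
    with e | ⟨⟨g, hg⟩⟩
  · simp
  refine Nat.card_le_card_of_injective (fun a => ⟨a.1.1 * g.1⁻¹, h g.1 _ ?_ g.2
    (by simpa using a.1.2)⟩) fun a c e => ?_
  · have : ((a.1.1 : G) : G ⧸ M) = (g.1 : G) := congrArg Subtype.val (a.2.trans hg.symm)
    rw [← QuotientGroup.eq_one_iff, QuotientGroup.mk_mul, QuotientGroup.mk_inv, this,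
      mul_inv_cancel]
  · exact Subtype.ext (Subtype.ext (mul_right_cancel (Subtype.ext_iff.1 e :)))

theorem card_norm_map (M : Subgroup G) [M.Normal] {S : Subgroup G} (hS : IsSylowIn p S ⊤) :
    Nat.card N(S) = Nat.card N(S.map (QuotientGroup.mk' M)) *
      Nat.card (M ⊓ N(S) : Subgroup G) := by
  have h1 : N(S.map (QuotientGroup.mk' M)) = N(S).map (QuotientGroup.mk' M) := by
    rw [← map_comap_eq_self_of_surjective (QuotientGroup.mk'_surjective M) N(_),
      CfsgH1.comap_normalizer_map_sylow _ hS, Subgroup.map_sup, map_ker_self, sup_bot_eq]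
  rw [h1, ← relIndex_ker, QuotientGroup.ker_mk', ← inf_relIndex_right, mul_comm,
    ← relIndex_bot_left, ← relIndex_bot_left, relIndex_mul_relIndex _ _ _ bot_le inf_le_right]

theorem prod_map {H H' : Type*} [Group H] [Group H'] [Fintype H] [Fintype H'] (f : H →* H')
    (hf : Function.Surjective f) (F : H' → ℕ) :
    ∏ x, F (f x) = (∏ y, F y) ^ Nat.card f.ker := by
  classical
  rw [← Finset.prod_pow, ← Finset.prod_fiberwise' Finset.univ f]
  refine Finset.prod_congr rfl fun y _ => ?_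
  obtain ⟨x, rfl⟩ := hf y
  rw [Finset.prod_const, MonoidHom.card_fiber_eq_of_mem_range f ⟨x, rfl⟩ ⟨1, map_one f⟩]
  congr 1
  rw [← Nat.card_eq_finsetCard]
  exact Nat.card_congr (Equiv.subtypeEquivRight (by simp))

theorem lam_ineq (n : ℕ) : ∀ (G : Type u) [Group G] [Finite G] (S : Subgroup G) [Fintype S],
    Nat.card G = n → IsPSolvable p G → IsSylowIn p S ⊤ →
    ∏ x : S, lam S x ^ p ≤
      Nat.card N(S) ^ ((p - 1) * Nat.card S) * Nat.card G ^ Nat.card S := by
  induction n using Nat.strong_induction_on with | _ n ih => ?_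
  intro G _ _ S _ hn hs hS
  rcases subsingleton_or_nontrivial G with t | t
  · have : ∀ x : S, lam S x ^ p ≤ 1 := fun x => pow_le_one₀ (Nat.zero_le _)
      (Finite.card_le_one_iff_subsingleton.2 inferInstance)
    exact (Finset.prod_le_one' fun x _ => this x).trans (Nat.mul_pos (pow_pos Nat.card_pos _)
      (pow_pos Nat.card_pos _))
  have step : ∀ (M : Subgroup G) [M.Normal], M ≠ ⊥ → ∀ K : S → Subgroup G,
      (∀ (x : S) (g n : G), n ∈ M → g⁻¹ * x * g ∈ S → (n * g)⁻¹ * x * (n * g) ∈ S → n ∈ K x) →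
      ∏ x : S, Nat.card (K x) ^ p ≤ Nat.card (M ⊓ N(S) : Subgroup G) ^ ((p - 1) * Nat.card S) *
        Nat.card M ^ Nat.card S →
      ∏ x : S, lam S x ^ p ≤
        Nat.card N(S) ^ ((p - 1) * Nat.card S) * Nat.card G ^ Nat.card S := by
    intro M _ h0 K h1 h2
    let π := QuotientGroup.mk' M
    haveI := Fintype.ofFinite (S.map π)
    have lt : Nat.card (G ⧸ M) < n := by
      rw [← hn, card_eq_card_quotient_mul_card_subgroup M]
      exact lt_mul_of_one_lt_right Nat.card_pos (one_lt_card_iff_ne_bot M |>.2 h0)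
    have h3 := ih _ lt (G ⧸ M) (S.map π) rfl (CfsgH1.IsPSolvable.quotient hs M)
      (map_top_of_surjective π (QuotientGroup.mk'_surjective M) ▸ hS.map π)
    have h4 := prod_map (π.subgroupMap S) (π.subgroupMap_surjective S)
      fun y => lam (S.map π) y ^ p
    have h5 : Nat.card S = Nat.card (S.map π) * Nat.card (π.subgroupMap S).ker := by
      rw [← (π.subgroupMap S).ker.card_mul_index, index_ker, mul_comm,
        MonoidHom.range_eq_top_of_surjective _ (π.subgroupMap_surjective S), card_top]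
    have h6 := Nat.pow_le_pow_left h3 (Nat.card (π.subgroupMap S).ker)
    rw [← h4, mul_pow, ← pow_mul, ← pow_mul, mul_assoc, ← h5] at h6
    refine (Finset.prod_le_prod' fun x _ => Nat.pow_le_pow_left (lam_le M (K x) S x (h1 x)) p).trans ?_
    simp only [mul_pow, Finset.prod_mul_distrib]
    rw [card_norm_map M hS, card_eq_card_quotient_mul_card_subgroup M, mul_pow, mul_pow,
      mul_mul_mul_comm]
    exact Nat.mul_le_mul h6 h2
  by_cases h0 : pCore p G = ⊥
  · have h1 : pPrimeCore p G ≠ ⊥ := fun e => by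
      have := CfsgH1.IsPSolvable.centralizer_pCore_le hs e
      rw [h0] at this
      obtain ⟨a, ha⟩ := exists_ne (1 : G)
      exact ha (this fun b hb => by simp [mem_bot.1 hb])
    have cop := (CfsgH1.coprime_card_pPrimeCore p G).symm
    refine step _ h1 (fun x => pPrimeCore p G ⊓ C1((x : G))) (fun x g n hn h2 h3 => ⟨hn, ?_⟩) ?_
    · have d : pPrimeCore p G ⊓ S = ⊥ := by
        obtain ⟨k, e⟩ := IsPGroup.iff_card.1 hS.pgroup
        exact inf_eq_bot_of_coprime (e ▸ cop.symm.pow_right k)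
      have h4 : (n * g)⁻¹ * x * (n * g) * (g⁻¹ * x * g)⁻¹ ∈ pPrimeCore p G ⊓ S := by
        refine ⟨?_, S.mul_mem h3 (S.inv_mem h2)⟩
        have := Normal.conj_mem' inferInstance _ (mul_mem (inv_mem hn)
          (Normal.conj_mem inferInstance _ hn (x : G))) g
        have e : (n * g)⁻¹ * x * (n * g) * (g⁻¹ * x * g)⁻¹ = g⁻¹ * (n⁻¹ * (x * n * (x : G)⁻¹)) * g := by
          group
        rw [e]
        exact this
      rw [d, mem_bot, mul_inv_eq_one] at h4
      refine mem_centralizer_singleton_iff.2 ?_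
      calc n * x = n * g * (g⁻¹ * x * g) * g⁻¹ := by group
        _ = _ := by rw [← h4]; group
    · have := ineq hS.pgroup (pPrimeCore p G) S.subtype (by rw [normalizer_eq_top]; exact le_top) cop
      rw [← Nat.card_eq_fintype_card, range_subtype] at this
      exact this.trans (Nat.mul_le_mul_right _ (Nat.pow_le_pow_left (card_le_of_le
        (inf_le_inf_left _ (centralizer_le_normalizer _))) _))
  · refine step _ h0 (fun _ => pCore p G) (fun _ _ _ h _ _ => h) (le_of_eq ?_)
    have : pCore p G ≤ S := hS.le_of_normalizer (CfsgH1.isPGroup_pCore p G) le_top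
      (by rw [normalizer_eq_top])
    rw [inf_eq_left.2 (this.trans le_normalizer), Finset.prod_const, ← pow_add, ← pow_mul,
      Finset.card_univ, ← Nat.card_eq_fintype_card, ← add_one_mul, Nat.sub_add_cancel hp.out.one_le]

omit [Finite G] in
theorem lam_conj (S : Subgroup G) (x g : G) : lam S (g * x * g⁻¹) = lam S x :=
  Nat.card_congr ((Equiv.mulLeft g⁻¹).subtypeEquiv fun a => by simp [mul_assoc])

theorem count (S : Subgroup G) [Fintype S] (hS : IsPGroup p S) :
    (Nat.card G : ℝ) * ∑ x : S, (lam S x : ℝ)⁻¹ ≤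
      Nat.card {g : G // ∃ k : ℕ, orderOf g = p ^ k} := by
  classical
  haveI := Fintype.ofFinite G
  let F : G × S → {g : G // ∃ k : ℕ, orderOf g = p ^ k} := fun u => ⟨u.1 * u.2 * u.1⁻¹, by
    obtain ⟨k, e⟩ := IsPGroup.iff_orderOf.1 hS u.2
    exact ⟨k, by rw [CfsgH2.orderOf_conj', orderOf_coe, e]⟩⟩
  have h1 : (Nat.card G : ℝ) * ∑ x : S, (lam S x : ℝ)⁻¹ = ∑ u : G × S, (lam S (F u) : ℝ)⁻¹ := by
    rw [Fintype.sum_prod_type]
    simp [F, lam_conj]
  rw [h1, ← Finset.sum_fiberwise' Finset.univ F fun y => (lam S y : ℝ)⁻¹, Nat.card_eq_fintype_card,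
    ← Finset.card_univ, Finset.card_eq_sum_ones, Nat.cast_sum]
  refine Finset.sum_le_sum fun y _ => ?_
  rw [Finset.sum_const, nsmul_eq_mul, ← div_eq_mul_inv, Nat.cast_one]
  refine div_le_one_of_le₀ (Nat.cast_le.2 ?_) (Nat.cast_nonneg _)
  rw [← Nat.card_eq_finsetCard]
  have e : ∀ u ∈ Finset.univ.filter (F · = y), (u.2 : G) = u.1⁻¹ * y * u.1 := fun u hu => by
    rw [← (Finset.mem_filter.1 hu).2]
    simp [F, mul_assoc]
  refine Nat.card_le_card_of_injective (fun u => ⟨u.1.1, e _ u.2 ▸ u.1.2.2⟩) fun u v q => ?_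
  have q1 : u.1.1 = v.1.1 := congrArg Subtype.val q
  exact Subtype.ext (Prod.ext q1 (Subtype.ext (by rw [e _ u.2, e _ v.2, q1])))

theorem main (hG : IsPSolvable p G) (P : Sylow p G) :
    Nat.card (P : Subgroup G) ^ p * Nat.card (Sylow p G) ^ (p - 1) ≤
      Nat.card {g : G // ∃ k : ℕ, orderOf g = p ^ k} ^ p := by
  haveI := Fintype.ofFinite (P : Subgroup G)
  have h1 := lam_ineq _ G P rfl hG (IsSylowIn.of_sylow_top P)
  have h2 := count (P : Subgroup G) P.isPGroup'
  have h3 : Nat.card G = Nat.card N((P : Subgroup G)) * Nat.card (Sylow p G) := by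
    rw [P.card_eq_index_normalizer]; exact (card_mul_index _).symm
  set u := Nat.card {g : G // ∃ k : ℕ, orderOf g = p ^ k}
  set m := Nat.card (P : Subgroup G) with hm
  have m0 : 0 < m := Nat.card_pos
  have l0 : ∀ x : (P : Subgroup G), 0 < lam (P : Subgroup G) x := fun x =>
    Nat.card_pos_iff.2 ⟨⟨1, by simp⟩, inferInstance⟩
  have h4 := Real.geom_mean_le_arith_mean Finset.univ (fun _ => 1)
    (fun x : (P : Subgroup G) => (lam (P : Subgroup G) x : ℝ)⁻¹) (by simp)
    (by simp [Fintype.card_pos]) fun x _ => by positivity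
  simp only [Real.rpow_one, one_mul, Finset.sum_const, Finset.card_univ, nsmul_eq_mul, mul_one,
    ← Nat.card_eq_fintype_card, ← hm] at h4
  have h5 := pow_le_pow_left₀ (by positivity) h4 m
  rw [Real.rpow_inv_natCast_pow (Finset.prod_nonneg fun x _ => by positivity) m0.ne',
    Finset.prod_inv_distrib, div_pow, le_div_iff₀ (by positivity),
    inv_mul_le_iff₀ (Finset.prod_pos fun x _ => by exact_mod_cast l0 x)] at h5
  have h6 : Nat.card G ^ m * m ^ m ≤ (∏ x : (P : Subgroup G), lam (P : Subgroup G) x) * u ^ m := by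
    have := pow_le_pow_left₀ (by positivity) h2 m
    rw [mul_pow] at this
    have h7 := mul_le_mul_of_nonneg_left h5 (show (0 : ℝ) ≤ (Nat.card G : ℝ) ^ m by positivity)
    rw [mul_left_comm] at h7
    exact_mod_cast h7.trans (mul_le_mul_of_nonneg_left this
      (Finset.prod_nonneg fun x _ => by positivity))
  have h7 := Nat.pow_le_pow_left h6 p
  rw [mul_pow, mul_pow, ← Finset.prod_pow] at h7
  replace h7 := h7.trans (Nat.mul_le_mul_right _ h1)
  refine (Nat.pow_le_pow_iff_left m0.ne').1 (Nat.le_of_mul_le_mul_left (c := Nat.card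
    N((P : Subgroup G)) ^ ((p - 1) * m) * Nat.card G ^ m) ?_
    (Nat.mul_pos (pow_pos Nat.card_pos _) (pow_pos Nat.card_pos _)))
  obtain ⟨r, rfl⟩ : ∃ r, p = r + 1 := ⟨p - 1, (Nat.sub_add_cancel hp.out.one_le).symm⟩
  rw [Nat.add_sub_cancel] at h7 ⊢
  refine (le_of_eq ?_).trans (h7.trans (le_of_eq ?_))
  · rw [h3]
    generalize Nat.card (Sylow (r + 1) G) = s
    ring
  · rw [← pow_mul, ← pow_mul, mul_comm m]

end CfsgH9.PE
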