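import Cfsg.Agent.H9.TrEx

/-! The principal ideal theorem of Furtwängler (proof of Witt). -/

set_option autoImplicit false
set_option linter.unusedSectionVars false

namespace CfsgH9

open MonoidAlgebra

theorem exists_rel_matrix {ι Q : Type*} [Fintype ι] [DecidableEq ι] [CommGroup Q] [Finite Q] (π : ι → Q)
    (hs : Function.Surjective π) : ∃ T : Matrix ι ι ℤ, T.det.natAbs = Nat.card Q ∧
      ∀ i, ∏ j, π j ^ T i j = 1 := by
  let φ : (ι → ℤ) →ₗ[ℤ] Additive Q := Fintype.linearCombination ℤ (fun j => Additive.ofMul (π j))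
  have hφ : Function.Surjective φ := fun q => by
    obtain ⟨j, hj⟩ := hs (Additive.toMul q)
    exact ⟨Pi.single j 1, by simp [φ, hj]⟩
  have e := φ.quotKerEquivOfSurjective hφ
  have hc : Nat.card ((ι → ℤ) ⧸ LinearMap.ker φ) = Nat.card Q := Nat.card_congr e.toEquiv
  have : Finite ((ι → ℤ) ⧸ LinearMap.ker φ) := Finite.of_equiv _ e.toEquiv.symm
  have h := (Submodule.finiteQuotient_iff _).1 this
  let bN := Submodule.smithNormalFormBotBasis (Pi.basisFun ℤ ι) h
  refine ⟨Matrix.of fun i j => (bN i : ι → ℤ) j, ?_, fun i => ?_⟩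
  · rw [← hc, ← Submodule.natAbs_det_basis_change (Pi.basisFun ℤ ι) _ bN, Pi.basisFun_det_apply]
    rfl
  · have h1 : φ (bN i) = 0 := (bN i).2
    rw [Fintype.linearCombination_apply] at h1
    have := congrArg Additive.toMul h1
    simpa [toMul_sum] using this

theorem pit_core {G Q A : Type*} [Group G] [Fintype G] [CommGroup Q] [Fintype Q] [AddCommGroup A]
    (π : G →* Q) (hs : Function.Surjective π) (hk : π.ker ≤ commutator G) (c : Q → G → A)
    (hc : ∀ q g h, c q (g * h) = c q g + c ((π g)⁻¹ * q) h) (g : G) : ∑ q, c q g = 0 := by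
  classical
  let u : G → (MonoidAlgebra ℤ Q) := fun g => single (π g)⁻¹ 1
  let e : G → G → (MonoidAlgebra ℤ Q) := fun g => Pi.single g 1
  let Rel : Submodule (MonoidAlgebra ℤ Q) (G → (MonoidAlgebra ℤ Q)) := Submodule.span (MonoidAlgebra ℤ Q) {v | ∃ g h, v = e (g * h) - e g - u g • e h}
  let ε : (MonoidAlgebra ℤ Q) →ₐ[ℤ] ℤ := lift ℤ ℤ Q 1
  have εu : ∀ g, ε (u g) = 1 := fun g => by simp [ε, u]
  let IF : Submodule (MonoidAlgebra ℤ Q) (G → (MonoidAlgebra ℤ Q)) := Submodule.pi Set.univ fun _ => RingHom.ker ε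
  let W := Rel ⊔ IF
  let ψ : G →* Multiplicative ((G → (MonoidAlgebra ℤ Q)) ⧸ W) := MonoidHom.mk' (fun g => Multiplicative.ofAdd (W.mkQ (e g)))
    (fun g h => by
      rw [← ofAdd_add, ← map_add]
      congr 1
      rw [Submodule.mkQ_apply, Submodule.mkQ_apply, Submodule.Quotient.eq]
      have : e (g * h) - (e g + e h) = (e (g * h) - e g - u g • e h) + (u g - 1) • e h := by
        rw [sub_smul, one_smul]; abel
      rw [this]
      refine add_mem (Submodule.mem_sup_left (Submodule.subset_span ⟨g, h, rfl⟩))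
        (Submodule.mem_sup_right fun j _ => ?_)
      rw [Pi.smul_apply, smul_eq_mul]
      refine Ideal.mul_mem_right _ _ ?_
      rw [RingHom.mem_ker, map_sub, εu, map_one, sub_self])
  have hψ : π.ker ≤ ψ.ker := hk.trans (Abelianization.commutator_subset_ker ψ)
  let χ : Q →* Multiplicative ((G → (MonoidAlgebra ℤ Q)) ⧸ W) := π.liftOfSurjective hs ⟨ψ, hψ⟩
  have hχ : ∀ g, χ (π g) = ψ g := fun g => π.liftOfRightInverse_comp_apply _ _ _ g
  obtain ⟨T, hT, hT1⟩ := exists_rel_matrix π hs
  have hW : ∀ i, (fun j => ((T i j : ℤ) : (MonoidAlgebra ℤ Q))) ∈ W := by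
    intro i
    have h1 := congrArg (fun q => Multiplicative.toAdd (χ q)) (hT1 i)
    simp only [map_prod, map_zpow, hχ, map_one, toAdd_prod, toAdd_zpow, toAdd_one] at h1
    have h2 : W.mkQ (∑ j, T i j • e j) = 0 := by
      rw [map_sum]; simp only [map_zsmul]; exact h1
    rw [Submodule.mkQ_apply, Submodule.Quotient.mk_eq_zero] at h2
    convert h2 using 1
    funext k
    simp [e, Finset.sum_apply, Pi.single_apply]
  choose r hr μ hμ hrμ using fun i => Submodule.mem_sup.1 (hW i)
  let U : Matrix G G (MonoidAlgebra ℤ Q) := Matrix.of r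
  have hεU : ε U.det = T.det := by
    rw [AlgHom.map_det]
    congr 1
    ext i j
    have h1 := congrArg (fun v => ε (v j)) (hrμ i)
    have h2 : ε (μ i j) = 0 := hμ i j trivial
    show ε (r i j) = _
    simpa [h2] using h1
  have hd : ∀ k, U.det • e k ∈ Rel := by
    intro k
    have : U.det • e k = ∑ i, U.adjugate k i • r i := by
      funext j
      have h1 := congrFun (congrFun (Matrix.adjugate_mul U) k) j
      rw [Matrix.mul_apply] at h1
      simp only [Finset.sum_apply, Pi.smul_apply, smul_eq_mul]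
      rw [show ∑ i, U.adjugate k i * r i j = _ from h1]
      simp [e, Pi.single_apply, Matrix.one_apply, eq_comm]
    rw [this]
    exact Submodule.sum_mem _ fun i _ => Submodule.smul_mem _ _ (hr i)
  let D : (G → (MonoidAlgebra ℤ Q)) →ₗ[(MonoidAlgebra ℤ Q)] (MonoidAlgebra ℤ Q) := Fintype.linearCombination (MonoidAlgebra ℤ Q) fun g => u g - 1
  have De : ∀ g, D (e g) = u g - 1 := fun g => by simp [D, e]
  have hD : Rel ≤ LinearMap.ker D := Submodule.span_le.2 (by
    rintro _ ⟨g, h, rfl⟩
    have : u (g * h) = u g * u h := by simp [u, single_mul_single, mul_comm]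
    rw [SetLike.mem_coe, LinearMap.mem_ker, map_sub, map_sub, map_smul, De, De, De, this, smul_eq_mul]
    ring)
  have hco : ∀ q, U.det.coeff q = U.det.coeff 1 := by
    intro q
    obtain ⟨k, rfl⟩ := hs q
    have h1 : D (U.det • e k) = 0 := hD (hd k)
    rw [map_smul, De, smul_eq_mul, mul_sub, mul_one, sub_eq_zero] at h1
    have h2 := congrArg (fun x : (MonoidAlgebra ℤ Q) => x.coeff 1) h1
    simpa [u] using h2
  let θ : (G → (MonoidAlgebra ℤ Q)) →+ A := AddMonoidHom.mk' (fun v => ∑ g, ∑ q, (v g).coeff q • c q g)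
    (fun v w => by simp [add_smul, Finset.sum_add_distrib])
  have θe : ∀ (x : (MonoidAlgebra ℤ Q)) g, θ (x • e g) = ∑ q, x.coeff q • c q g := by
    intro x g
    show ∑ k, ∑ q, ((x • e g) k).coeff q • c q k = _
    rw [Finset.sum_eq_single g]
    · simp [e]
    · intro k _ hk; simp [e, hk]
    · simp
  have hθ : ∀ v ∈ Rel, ∀ x : (MonoidAlgebra ℤ Q), θ (x • v) = 0 := by
    intro v hv
    induction hv using Submodule.span_induction with
    | mem v hv =>
      obtain ⟨g, h, rfl⟩ := hv
      intro x
      rw [smul_sub, smul_sub, smul_smul, map_sub, map_sub, θe, θe, θe]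
      have : ∑ q, (x * u g).coeff q • c q h = ∑ q, x.coeff q • c ((π g)⁻¹ * q) h := by
        refine Fintype.sum_equiv (Equiv.mulLeft (π g)) _ _ fun q => ?_
        simp [u, mul_comm]
      rw [this]
      simp [hc, Finset.sum_add_distrib]
    | zero => simp
    | add a b _ _ ha hb => intro x; rw [smul_add, map_add, ha, hb, add_zero]
    | smul a b _ hb => intro x; rw [smul_smul, hb]
  have h1 := hθ _ (hd g) 1
  rw [one_smul, θe] at h1
  simp only [hco, ← Finset.smul_sum] at h1
  have h2 : T.det = Fintype.card Q * U.det.coeff 1 := by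
    rw [← hεU, lift_apply, Finsupp.sum_fintype _ _ (by simp)]
    simp [hco]
  rw [h2, Int.natAbs_mul, Nat.card_eq_fintype_card, Int.natAbs_natCast] at hT
  have h3 : (U.det.coeff 1).natAbs = 1 := by
    have := Fintype.card_pos (α := Q)
    exact Nat.eq_of_mul_eq_mul_left this (by rw [hT, mul_one])
  rcases Int.natAbs_eq_iff.1 h3 with h | h <;> rw [h] at h1 <;> simpa using h1

theorem pit {G : Type*} [Group G] [Finite G] :
    MonoidHom.transfer (Abelianization.of : ↥(commutator G) →* Abelianization ↥(commutator G)) = 1 := by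
  classical
  have := Fintype.ofFinite G
  have := Fintype.ofFinite (G ⧸ commutator G)
  letI : CommGroup (G ⧸ commutator G) := { (inferInstance : Group (G ⧸ commutator G)) with
    mul_comm := fun a b => mul_comm (G := Abelianization G) a b }
  ext g
  rw [transfer_out]
  have h := pit_core (QuotientGroup.mk' (commutator G)) (QuotientGroup.mk'_surjective _)
    (QuotientGroup.ker_mk' _).le
    (fun q g => Additive.ofMul (Abelianization.of (⟨_, out_mem g q⟩ : commutator G)))
    (fun q g h => by
      rw [← ofMul_mul, ← map_mul]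
      congr 2
      apply Subtype.ext
      have e : ((QuotientGroup.mk' (commutator G)) g)⁻¹ * q = g⁻¹ • q := by
        induction q using QuotientGroup.induction_on; rfl
      simp only [Subgroup.coe_mul, e, mul_inv_rev, mul_smul]
      group) g
  have := congrArg Additive.toMul h
  simpa [toMul_sum] using this

end CfsgH9
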