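import Cfsg.Agent.H9.HH4
import Cfsg.Agent.H1.Ten3

/-! A Shult-type lemma on fixed points of an element of prime order. -/

set_option autoImplicit false
set_option linter.unusedSectionVars false

namespace CfsgH9

open Subgroup Cfsg CfsgH1 CfsgH2 CfsgFT Module
open scoped commutatorElement

universe u v

theorem wiel2 {X : Type u} [Group X] [Finite X] {H K R : Subgroup X} (hH : Group.IsSolvable H) (hKH : K ≤ N(H))
    (hRH : R ≤ N(H)) (hRK : R ≤ N(K)) (hs : Group.IsSolvable K) (hcK : (Nat.card K).Coprime (Nat.card H))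
    (hcR : (Nat.card R).Coprime (Nat.card H)) (hRK' : (Nat.card R).Coprime (Nat.card K)) (hr : (Nat.card R).Prime)
    (hKK : ⁅K, K⁆ ≤ C(H)) (hKR : ⁅K, R⁆ = K) (hC : H ⊓ C(K) = ⊥) :
    Nat.card H = Nat.card (H ⊓ C(R) : Subgroup X) ^ Nat.card R := by
  set D := K ⊓ C(H) with hD
  have n1 : K ≤ N(D) := le_normalizer_inf' le_normalizer (le_normalizer_centralizer hKH)
  have n2 : R ≤ N(D) := le_normalizer_inf' hRK (le_normalizer_centralizer hRH)
  have n3 : H ≤ N(D) := le_norm_of_cent' inf_le_right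
  have c1 : (Nat.card R).Coprime (Nat.card D) := coprime_of_le_right hRK' inf_le_left
  have s1 : Group.IsSolvable D := isSolvable_of_le hs inf_le_left
  have d1 : H ⊓ D = ⊥ := inf_eq_bot_of_coprime' (coprime_of_le_left hcK inf_le_left).symm
  have e1 : Nat.card (quo D R) = Nat.card R := card_quo_of_disjoint n2 (inf_eq_bot_of_coprime' c1)
  haveI : IsMulCommutative (quo D K) := comm_iff.2 ((quo_le_cent_iff n1 n1).2 (le_inf (der_le K) hKK))
  have := wielandt_of_cent_eq_bot (solvable_quo hH D) (quo_le_norm hKH) (quo_le_norm hRH)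
    (quo_le_norm hRK) (solvable_quo hs D) (coprime_quo hcK D) (coprime_quo hcR D) (fun y hy h1 => by
      have := centralizer_inf_commutator_eq_bot (quo_le_norm (K := D) hRK) (coprime_quo hRK' D)
      rw [← quo_comm n1 n2, hKR, inf_right_comm, inf_idem] at this
      rw [← cent_zpowers, zpowers_eq_of_prime_card (e1 ▸ hr) hy h1, this]) (by
      rw [eq_bot_iff]
      rintro y ⟨h1, h2⟩
      obtain ⟨x, hx, rfl⟩ := mem_quo.1 h1
      have l : zpowers (x : X) ≤ H := zpowers_le.2 hx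
      have := cent_of_quo (l.trans n3) n1 ((commutator_mono l le_rfl).trans (comm_le_left hKH)) d1
        (by rw [quo_zpowers]; exact zpowers_le.2 h2)
      rw [show x = 1 from Subtype.ext (mem_bot.1 (hC.le ⟨hx, zpowers_le.1 this⟩)), map_one]
      exact one_mem _)
  rwa [e1, card_quo_of_disjoint n3 d1, ← quo_inf_cent n2 n3 hRH c1 (.inr s1), card_quo_of_disjoint (inf_le_left.trans n3)
    (le_bot_iff.1 ((inf_le_inf_right _ inf_le_left).trans d1.le))] at this

variable {F : Type*} [Field F] {G : Type u} [Group G] [Finite G] {V : Type v} [AddCommGroup V] [Module F V]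
  {ρ : Representation F G V}

theorem wt_fix {Y A : Subgroup G} (hc : ∀ a ∈ Y, ∀ b ∈ Y, Commute (ρ a) (ρ b)) (hA : A ≤ N(Y))
    (hchar : (Nat.card A : F) ≠ 0) (hfix : fixS ρ A = ⊥) (l : Y → F) :
    wt ρ Y l ⊓ fixS ρ (A ⊓ stabS ρ (wt ρ Y l)) = ⊥ := by
  classical
  haveI := Fintype.ofFinite A
  rw [eq_bot_iff]
  rintro u ⟨h1, h2⟩
  have h3 : ∑ a : A, ρ a u = 0 := (hfix.le (mem_fixS.2 fun g hg => by
    rw [map_sum]
    exact Fintype.sum_equiv (Equiv.mulLeft ⟨g, hg⟩) _ _ fun a => rho_rho _ _ _))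
  rw [← Finset.sum_filter_add_sum_filter_not _ (fun a : A => (a : G) ∈ stabS ρ (wt ρ Y l)), Finset.sum_congr rfl
    (g := fun _ => u) (fun (a : A) ha => mem_fixS.1 h2 a (mem_inf.2 ⟨a.2, (Finset.mem_filter.1 ha).2⟩)), Finset.sum_const,
    add_eq_zero_iff_eq_neg, ← Nat.cast_smul_eq_nsmul F] at h3
  have h4 := Submodule.disjoint_def.1 (iSupIndep_wt hc l) _ (Submodule.smul_mem _ _ h1) (h3 ▸ neg_mem (Submodule.sum_mem _
    fun a ha => by
      have m := map_wt (ρ := ρ) (hA a.2) l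
      exact Submodule.mem_iSup_of_mem _ (Submodule.mem_iSup_of_mem
        (fun k => (Finset.mem_filter.1 ha).2 (m.trans (congrArg _ k))) (m.le ⟨u, h1, rfl⟩))))
  refine (smul_eq_zero.1 h4).resolve_left fun e => hchar ?_
  obtain ⟨k, hk⟩ := card_subgroup_dvd_card ((stabS ρ (wt ρ Y l)).subgroupOf A)
  rw [hk, Nat.cast_mul, Nat.card_eq_fintype_card, Fintype.card_subtype]
  exact mul_eq_zero_of_left (by convert e; rfl) _

theorem dg_of_fix [FiniteDimensional F V] {x : G} (h : fixS ρ (zpowers x) = ⊥) : Dg (ρ x) (orderOf x - 1) :=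
  dg_geom (orderOf_pos x).ne' (LinearMap.ext fun v => by
    have : (∑ i ∈ Finset.range (orderOf x), ρ x ^ i) v ∈ fixS ρ (zpowers x) := mem_fixS_zpowers.2 (by
      have := mul_geom_sum (ρ x) (orderOf x)
      rw [← map_pow, pow_orderOf_eq_one, map_one, sub_self, sub_mul, one_mul, sub_eq_zero] at this
      exact LinearMap.congr_fun this v)
    rwa [h] at this)

theorem pow_ne_sq {c q : ℕ} (hq : q.Prime) (h2 : 2 < q) (hc : 3 ≤ c) : c ^ q ≠ (q - 1) ^ 2 * c := by
  obtain ⟨k, rfl⟩ := hq.odd_of_ne_two h2.ne'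
  have h : ∀ k : ℕ, 2 * k < 3 ^ k := fun k => by
    induction k with
    | zero => simp
    | succ k ih => rw [pow_succ]; omega
  have h1 := (h k).trans_le (Nat.pow_le_pow_left hc k)
  rw [pow_succ, Nat.add_sub_cancel, mul_comm 2 k, pow_mul]
  intro e
  have := Nat.pow_left_injective two_ne_zero (Nat.eq_of_mul_eq_mul_right (by omega) e)
  omega

variable [IsAlgClosed F] [FiniteDimensional F V]

theorem s_core [Nontrivial V] {Q T R : Subgroup G} [Q.Normal] (t : Q ⊔ (T ⊔ R) = ⊤) (c0 : (Nat.card Q : F) ≠ 0)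
    (hr : (Nat.card R).Prime) (cR : (Nat.card R : F) ≠ 0) (hRT : R ≤ N(T)) (cTQ : (Nat.card T).Coprime (Nat.card Q))
    (cRQ : (Nat.card R).Coprime (Nat.card Q)) (cRT : (Nat.card R).Coprime (Nat.card T)) (sQ' : Group.IsSolvable Q)
    (sT' : Group.IsSolvable T) (hTR : ⁅T, R⁆ = T) (hTT : ⁅Q, ⁅T, T⁆⁆ ≤ MonoidHom.ker ρ) (hQT : ⁅Q, T⁆ = Q)
    (hQQ : ⁅⁅Q, Q⁆, Q⁆ ≤ MonoidHom.ker ρ) (h6 : fixS ρ Q = ⊥)
    (sch : ∀ T : End F V, (∀ g, Commute T (ρ g)) → ∃ c : F, T = c • 1) (hfix : fixS ρ R = ⊥) : False := by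
  have := Normal.map ‹Q.Normal› _ (QuotientGroup.mk'_surjective (MonoidHom.ker ρ))
  set Z := Q ⊓ (centralizer ((Q.map (QuotientGroup.mk' (MonoidHom.ker ρ)) : Subgroup _) : Set _)).comap
    (QuotientGroup.mk' (MonoidHom.ker ρ))
  have hZ : ∀ q, q ∈ Z ↔ q ∈ Q ∧ ∀ y ∈ Q, Commute (ρ q) (ρ y) := fun q => by rw [mem_inf, mem_comap_centralizer_ker]
  have hc : ∀ a ∈ Z, ∀ b ∈ Z, Commute (ρ a) (ρ b) := fun a ha b hb => ((hZ a).1 ha).2 b hb.1
  have QZ : ⁅Q, Q⁆ ≤ Z := fun q hq => (hZ q).2 ⟨der_le Q hq, commutator_le_ker_iff.1 hQQ q hq⟩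
  have kZ : Q ⊓ MonoidHom.ker ρ ≤ Z := fun q hq => (hZ q).2 ⟨hq.1, fun y _ => by
    rw [show ρ q = 1 from hq.2]; exact Commute.one_left _⟩
  have sQ : ∀ l, Q ≤ stabS ρ (wt ρ Z l) := fun l q hq => Submodule.eq_of_le_of_finrank_eq (by
    rintro _ ⟨v, hv, rfl⟩
    exact mem_wt.2 fun a => by rw [← End.mul_apply, (((hZ a).1 a.2).2 q hq).eq, End.mul_apply, mem_wt.1 hv a, map_smul])
    (finrank_map_rho q _)
  have sR : ∀ l, R ≤ stabS ρ (wt ρ Z l) := fun l b hb => by
    by_contra n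
    have h := wt_fix hc (A := R) le_normalizer_of_normal cR hfix l
    rw [show R ⊓ stabS ρ (wt ρ Z l) = ⊥ from eq_bot_iff.2 fun x hx => by
      by_contra h1
      exact n (zpowers_le.2 hx.2 ((zpowers_eq_of_prime_card hr hx.1 h1).ge hb)), fixS_eq_top_iff.2 bot_le, inf_top_eq] at h
    exact n (by rw [h]; exact Submodule.map_bot _)
  have sT : ∀ l, T ≤ stabS ρ (wt ρ Z l) := fun l => hTR.ge.trans (by
    rw [commutator_le]
    intro t _ r hr
    refine mul_mem (mem_stabS.2 ?_) (inv_mem (sR l hr))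
    rw [← map_rho_map_rho, ← map_rho_map_rho, map_wt (le_normalizer_of_normal (mem_top _)), mem_stabS.1 (sR _ hr),
      ← map_wt (le_normalizer_of_normal (mem_top _)), map_rho_map_rho, mul_inv_cancel, map_rho_one])
  have sc : ∀ z ∈ Z, ∃ c : F, ρ z = c • 1 := fun z hz => sch _ fun g => LinearMap.ext fun v => by
    have hv : v ∈ ⨆ l, wt ρ Z l := by rw [iSup_wt hc (natCast_card_ne_zero_of_le c0 inf_le_left)]; trivial
    induction hv using Submodule.iSup_induction' with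
    | mem l v hv =>
      rw [End.mul_apply, End.mul_apply, mem_wt.mp hv ⟨z, hz⟩, map_smul,
        mem_wt.mp (rho_mem_of_mem_stabS (sup_le (sQ l) (sup_le (sT l) (sR l)) (t ▸ mem_top g)) hv) ⟨z, hz⟩]
    | zero => simp
    | add a b _ _ ha hb => rw [map_add, map_add, ha, hb]
  have zk : ∀ A : Subgroup G, ⁅Z, A⁆ ≤ MonoidHom.ker ρ := fun A => commutator_le_ker_iff.2 fun x hx y _ => by
    obtain ⟨c, hc⟩ := sc x hx
    exact hc ▸ (Commute.one_left _).smul_left c
  have nz : ¬ Q ≤ Z := fun e => top_ne_bot (h6 ▸ (fixS_eq_top_iff.2 (hQT.ge.trans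
    ((commutator_mono e le_rfl).trans (zk T)))).symm)
  haveI := Fact.mk hr
  obtain ⟨⟨x, hx⟩, x1⟩ := ne_bot_iff_exists_ne_one.1 (fun e : R = ⊥ => hr.one_lt.ne' (by rw [e, card_bot]))
  obtain rfl := zpowers_eq_of_prime_card hr hx fun e => x1 (Subtype.ext e)
  set E := ⁅Q, zpowers x⁆ ⊔ Z
  set D := Q ⊓ C(zpowers x)
  have EQ : E ≤ Q := sup_le (commutator_le_left _ _) inf_le_left
  have ED := commutator_le_ker_iff.1 (comm_sup_left_le (A := ⁅Q, zpowers x⁆) (C := D) (commutator_commutator_le_of_rotate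
    (by rw [commutator_comm (zpowers x), comm_eq_bot inf_le_right, commutator_bot_left]; exact bot_le)
    ((commutator_mono ((commutator_mono inf_le_left le_rfl).trans QZ) le_rfl).trans (zk _))) (zk D)
    le_normalizer_of_normal le_normalizer_of_normal)
  have nd : ∀ q ∈ Q, (∀ y ∈ E, Commute (ρ q) (ρ y)) → (∀ y ∈ D, Commute (ρ q) (ρ y)) → q ∈ Z := fun q hq h1 h2 =>
    (hZ q).2 ⟨hq, fun y hy => by
      obtain ⟨n, hn, c, hc, rfl⟩ := exists_commutator_mul_centralizer le_normalizer_of_normal cRQ (.inr sQ') hy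
      rw [map_mul]; exact (h1 n (mem_sup_left hn)).mul_right (h2 c hc)⟩
  have nd' : ∀ q ∈ E, (∀ y ∈ E, Commute (ρ q) (ρ y)) → q ∈ Z := fun q hq h => nd q (EQ hq) h (ED q hq)
  rw [Nat.card_zpowers] at hr cRQ
  rcases symp (ρ := ρ) (Q := E) (Z := Z) (x := x) (le_norm_of_comm_le ((commutator_mono EQ le_rfl).trans le_sup_left)
    (mem_zpowers x)) (cRQ.coprime_dvd_right (card_dvd_of_le EQ)) (natCast_card_ne_zero_of_le c0 EQ) sc
    ((commutator_mono EQ EQ).trans QZ) nd' (fun z hz z1 q hq => nd' q hq.1 fun y hy => (ED y hy q ⟨EQ hq.1, by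
      rw [← zpowers_eq_of_prime_card (X := zpowers x) Fact.out hz z1, cent_zpowers]; exact hq.2⟩).symm)
    (dg_of_fix hfix) (Nat.sub_one_lt hr.ne_zero) with h | ⟨h, h2, -⟩
  · refine nz (hQT.ge.trans ?_)
    rw [← hTR, commutator_comm]
    have h' := le_sup_left.trans h
    exact commutator_commutator_le_of_rotate ((commutator_mono (by rwa [commutator_comm]) le_rfl).trans
      (commutator_le_left _ _)) ((commutator_mono (commutator_le_left _ _) le_rfl).trans h')
  let π := QuotientGroup.mk' Z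
  have m0 := fun A : Subgroup G => (map_mk'_eq_bot_iff (K := A) Z)
  rw [← Nat.card_zpowers] at cRQ
  have cm : ∀ {A B : Subgroup G}, (Nat.card A).Coprime (Nat.card B) → (Nat.card (A.map π)).Coprime (Nat.card (B.map π)) :=
    fun h => (h.coprime_dvd_left (card_map_dvd _ _)).coprime_dvd_right (card_map_dvd _ _)
  have nQ : ∀ A : Subgroup G, A.map π ≤ N(Q.map π) := fun A => map_le_normalizer π le_normalizer_of_normal
  haveI : IsMulCommutative (Q.map π) := comm_iff.2 (cent_of_comm_eq_bot (by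
    rw [← Subgroup.map_commutator]; exact (m0 _).2 QZ))
  have cx : Nat.card ((zpowers x).map π) = orderOf x := by
    rw [← Nat.card_zpowers, card_map_of_disjoint]
    rw [QuotientGroup.ker_mk']
    exact disjoint_iff.2 (inf_eq_bot_of_coprime' (coprime_of_le_right cRQ inf_le_left))
  have w := wiel2 (isSolvable_map sQ' π) (nQ T) (nQ _) (map_le_normalizer π hRT) (isSolvable_map sT' π) (cm cTQ) (cm cRQ)
    (cm cRT) (cx ▸ hr) (cent_symm (cent_of_comm_eq_bot (by
      rw [← Subgroup.map_commutator, ← Subgroup.map_commutator]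
      exact (m0 _).2 ((le_inf (commutator_le_left _ _) hTT).trans kZ))))
    (by rw [← Subgroup.map_commutator, hTR]) (by
      have := centralizer_inf_commutator_eq_bot (nQ T) (cm cTQ)
      rwa [← Subgroup.map_commutator, hQT, inf_right_comm, inf_idem] at this)
  have w1 := centralizer_inf_commutator_eq_bot (nQ (zpowers x)) (cm cRQ)
  have w2 := commutator_sup_centralizer (nQ (zpowers x)) (cm cRQ) (.inr (isSolvable_map sQ' π))
  have w3 := card_sup_of_le_normalizer (K := ⁅Q.map π, (zpowers x).map π⁆) (A := Q.map π ⊓ C((zpowers x).map π))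
    (inf_le_left.trans (normalizer_commutator_ge_left _ _))
  have w4 : Nat.card ↥⁅Q.map π, (zpowers x).map π⁆ = (orderOf x - 1) ^ 2 := by
    have := relIndex_ker E π
    rw [QuotientGroup.ker_mk', Subgroup.map_sup, (m0 Z).2 le_rfl, sup_bot_eq, Subgroup.map_commutator] at this
    rw [← h, this]
  rw [w2, inf_comm, w1, card_bot, mul_one, w, w4, cx, ← map_inf_centralizer_of_coprime π le_normalizer_of_normal
    (coprime_of_le_right cRQ inf_le_left) (.inl (isSolvable_zpowers _))] at w3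
  by_cases c3 : 3 ≤ Nat.card (D.map π)
  · exact pow_ne_sq hr h2 c3 w3
  have DZ : D ≤ Z := fun c hc => by
    by_contra n
    refine n (nd c hc.1 (fun y hy => (ED y hy c hc).symm) fun y hy => ?_)
    by_cases e : y ∈ Z
    · exact (((hZ y).1 e).2 c hc.1).symm
    have e1 : π c ≠ 1 := mt (QuotientGroup.eq_one_iff c).1 n
    have e2 : π y ≠ 1 := mt (QuotientGroup.eq_one_iff y).1 e
    have e3 : π c = π y := by
      classical
      by_contra e3
      haveI := Fintype.ofFinite (D.map π)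
      refine c3 ?_
      rw [Nat.card_eq_fintype_card]
      exact Fintype.two_lt_card_iff.2 ⟨1, ⟨π c, c, hc, rfl⟩, ⟨π y, y, hy, rfl⟩, fun h => e1 (congrArg Subtype.val h).symm,
        fun h => e2 (congrArg Subtype.val h).symm, fun h => e3 (congrArg Subtype.val h)⟩
    rw [show y = c * (c⁻¹ * y) by group, map_mul]
    exact (Commute.refl _).mul_right (((hZ _).1 (QuotientGroup.eq.1 e3)).2 c hc.1).symm
  rw [(m0 D).2 DZ, card_bot, one_pow, mul_one] at w3
  have := Nat.pow_le_pow_left (show 2 ≤ orderOf x - 1 by omega) 2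
  omega

theorem s_alg {T R : Subgroup G} (hr : (Nat.card R).Prime) (cR : (Nat.card R : F) ≠ 0) (hRT : R ≤ N(T))
    (cRT : (Nat.card R).Coprime (Nat.card T)) (sT : Group.IsSolvable T) (hTR : ⁅T, R⁆ = T) (hfix : fixS ρ R = ⊥)
    (Q : Subgroup G) (hTQ : T ≤ N(Q)) (hRQ : R ≤ N(Q)) (c0 : (Nat.card Q : F) ≠ 0)
    (cTQ : (Nat.card T).Coprime (Nat.card Q)) (cRQ : (Nat.card R).Coprime (Nat.card Q)) (sQ : Group.IsSolvable Q)
    (hTT : ⁅Q, ⁅T, T⁆⁆ ≤ MonoidHom.ker ρ) : ⁅Q, T⁆ ≤ MonoidHom.ker ρ := by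
  induction Q using subgroup_induction_up with
  | h Q ih =>
  have ih' := fun (U : Subgroup G) (h : U < Q) h1 h2 => ih U (CfsgH1.card_lt_of_lt h) h1 h2 (natCast_card_ne_zero_of_le c0 h.le)
    (coprime_of_le_right cTQ h.le) (coprime_of_le_right cRQ h.le) (isSolvable_of_le sQ h.le)
    ((commutator_mono h.le le_rfl).trans hTT)
  rcases (comm_le_left hTQ).eq_or_lt with e | e
  swap
  · rw [← commutator_commutator_eq hTQ cTQ]
    exact ih' _ e (normalizer_commutator_ge_right _ _) (le_normalizer_commutator' hRQ hRT)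
  by_contra n
  rw [e] at n
  have h1 := ih' _ (commutator_lt_of_isSolvable sQ fun h => n (h ▸ bot_le)) (le_normalizer_commutator' hTQ hTQ)
    (le_normalizer_commutator' hRQ hRQ)
  have h2 : ⁅⁅Q, Q⁆, Q⁆ ≤ MonoidHom.ker ρ := by
    have := commutator_commutator_le_of_rotate (A := Q) (B := T) (C := ⁅Q, Q⁆) (N := MonoidHom.ker ρ)
      ((commutator_mono (by rwa [commutator_comm]) le_rfl).trans (commutator_le_left _ _))
      ((commutator_mono (comm_le_left (le_normalizer_commutator' le_normalizer le_normalizer)) le_rfl).trans h1)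
    rwa [e, commutator_comm] at this
  obtain ⟨L, hL⟩ : ∃ L, L = Q ⊔ (T ⊔ R) := ⟨_, rfl⟩
  have l1 : Q ≤ L := hL ▸ le_sup_left
  have l2 : T ≤ L := hL ▸ le_sup_left.trans le_sup_right
  have l3 : R ≤ L := hL ▸ le_sup_right.trans le_sup_right
  have : (Q.subgroupOf L).Normal := hL ▸ normal_subgroupOf_sup_left (sup_le hTQ hRQ)
  have k1 := card_subgroupOf_of_le l1
  have k2 := card_subgroupOf_of_le l2
  have k3 := card_subgroupOf_of_le l3
  obtain ⟨W, hW, _, w1, w2⟩ := exists_schur_sub (ρ := ρ.comp L.subtype) (Q.subgroupOf L) (k1 ▸ c0) fun e =>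
    n fun g hg => e (show (⟨g, l1 hg⟩ : L) ∈ _ from hg)
  have kk : ∀ {A : Subgroup G}, A ≤ MonoidHom.ker ρ → A.subgroupOf L ≤
      MonoidHom.ker (Representation.subrepresentation (ρ.comp L.subtype) W hW) := fun h g hg =>
    LinearMap.ext fun v => Subtype.ext (LinearMap.congr_fun (h hg) v)
  exact s_core (ρ := Representation.subrepresentation (ρ.comp L.subtype) W hW) (Q := Q.subgroupOf L) (T := T.subgroupOf L)
    (R := R.subgroupOf L) (by rw [← subgroupOf_sup l2 l3, ← subgroupOf_sup l1 (sup_le l2 l3), ← hL, subgroupOf_self])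
    (k1 ▸ c0) (k3 ▸ hr) (k3 ▸ cR) (subgroupOf_le_norm L hRT) (by rwa [k1, k2]) (by rwa [k1, k3]) (by rwa [k2, k3])
    (isSolvable_subgroupOf sQ L) (isSolvable_subgroupOf sT L) (by rw [comm_subgroupOf l2 l3, hTR])
    (by rw [comm_subgroupOf l2 l2, comm_subgroupOf l1 ((der_le T).trans l2)]; exact kk hTT) (by rw [comm_subgroupOf l1 l2, e])
    (by rw [comm_subgroupOf l1 l1, comm_subgroupOf ((der_le Q).trans l1) l1]; exact kk h2) w1 w2
    (eq_bot_iff.2 fun v hv => Subtype.ext (hfix.le (mem_fixS.2 fun g hg =>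
      congrArg Subtype.val (mem_fixS.1 hv ⟨g, l3 hg⟩ hg))))

theorem s_wt {W : Submodule F V} {Q T R : Subgroup G} (l1 : Q ≤ stabS ρ W) (l2 : T ≤ stabS ρ W) (l3 : R ≤ stabS ρ W)
    (hr : (Nat.card R).Prime) (cR : (Nat.card R : F) ≠ 0) (hRT : R ≤ N(T))
    (cRT : (Nat.card R).Coprime (Nat.card T)) (sT : Group.IsSolvable T) (hTR : ⁅T, R⁆ = T) (hfix : W ⊓ fixS ρ R = ⊥)
    (hTQ : T ≤ N(Q)) (hRQ : R ≤ N(Q)) (c0 : (Nat.card Q : F) ≠ 0)
    (cTQ : (Nat.card T).Coprime (Nat.card Q)) (cRQ : (Nat.card R).Coprime (Nat.card Q)) (sQ : Group.IsSolvable Q)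
    (hTT : ⁅Q, ⁅T, T⁆⁆ ≤ MonoidHom.ker ρ) : ⁅Q, T⁆ ≤ kerOn ρ W ∧
      (⁅Q, R⁆ ≤ kerOn ρ W ∨ 2 < Nat.card R ∧ (Nat.card R - 1) ^ 2 ∣ Nat.card Q) := by
  set L := stabS ρ W
  have k1 := card_subgroupOf_of_le l1
  have k2 := card_subgroupOf_of_le l2
  have k3 := card_subgroupOf_of_le l3
  let σ := subRep ρ L W fun g hg v hv => rho_mem_of_mem_stabS hg hv
  have kk : ∀ {A : Subgroup G}, A ≤ L → A.subgroupOf L ≤ MonoidHom.ker σ → A ≤ kerOn ρ W := fun h h' g hg =>
    mem_ker_subRep.1 (h' (show (⟨g, h hg⟩ : L) ∈ _ from hg))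
  have f : fixS σ (R.subgroupOf L) = ⊥ := eq_bot_iff.2 fun v hv => Subtype.ext (hfix.le ⟨v.2, mem_fixS.2 fun g hg =>
    congrArg Subtype.val (mem_fixS.1 hv ⟨g, l3 hg⟩ hg)⟩)
  refine ⟨kk ((comm_le_left hTQ).trans l1) ?_, or_iff_not_imp_left.2 fun n => ?_⟩
  · rw [← comm_subgroupOf l1 l2]
    exact s_alg (k3 ▸ hr) (k3 ▸ cR) (subgroupOf_le_norm L hRT) (by rwa [k2, k3]) (isSolvable_subgroupOf sT L)
      (by rw [comm_subgroupOf l2 l3, hTR]) f _ (subgroupOf_le_norm L hTQ) (subgroupOf_le_norm L hRQ) (k1 ▸ c0)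
      (by rwa [k1, k2]) (by rwa [k1, k3]) (isSolvable_subgroupOf sQ L) (by
        rw [comm_subgroupOf l2 l2, comm_subgroupOf l1 ((der_le T).trans l2)]
        exact fun g hg => LinearMap.ext fun v => Subtype.ext (LinearMap.congr_fun (hTT hg) v))
  · rw [← k1, ← k3]
    exact (prime_action_rep (subgroupOf_le_norm L hRQ) (k3 ▸ hr) (by rwa [k1, k3]) (isSolvable_subgroupOf sQ L) (k1 ▸ c0)
      (k3 ▸ cR) f fun e => n (kk ((comm_le_left hRQ).trans l1) (by rwa [← comm_subgroupOf l1 l3]))).2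

end CfsgH9
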