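import Cfsg.Agent.H9.PQ1
import Cfsg.Agent.H2.BG4

/-! Fixed-point-free action of a non-abelian group of order `pq`. -/

set_option autoImplicit false
set_option linter.unusedSectionVars false

namespace CfsgH9

open Subgroup Cfsg CfsgH1 CfsgH2 CfsgFT Module
open scoped commutatorElement

universe u v

structure NPQ {G : Type*} [Group G] (A X : Subgroup G) (p q : ℕ) : Prop where
  hp : p.Prime
  hq : q.Prime
  ne : p ≠ q
  le : X ≤ A
  nX : A ≤ N(X)
  cX : Nat.card X = p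
  cA : Nat.card A = p * q
  nc : ¬ A ≤ C(A)

variable {G : Type u} [Group G] [Finite G] {A X B : Subgroup G} {p q : ℕ}

theorem prime_cases {X Y : Subgroup G} (h : (Nat.card X).Prime) (l : Y ≤ X) : Y = ⊥ ∨ Y = X :=
  (h.eq_one_or_self_of_dvd _ (card_dvd_of_le l)).imp card_eq_one.1 fun e => CfsgH2.eq_of_le_of_card_le l e.ge

theorem NPQ.cases (h : NPQ A X p q) (l : B ≤ A) (h0 : B ≠ ⊥) (h1 : ¬ A ≤ B) : B = X ∨ Nat.card B = q := by
  rcases prime_cases (h.cX ▸ h.hp) (inf_le_left (a := X) (b := B)) with e | e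
  · have := card_dvd_of_le (sup_le h.le l)
    rw [card_sup_of_disjoint (l.trans h.nX) (disjoint_iff.2 e), h.cX, h.cA] at this
    exact .inr ((h.hq.eq_one_or_self_of_dvd _ (Nat.dvd_of_mul_dvd_mul_left h.hp.pos this)).resolve_left (mt card_eq_one.1 h0))
  · obtain ⟨k, hk⟩ := card_dvd_of_le (inf_eq_left.1 e)
    have := card_dvd_of_le l
    rw [hk, h.cX, h.cA] at this
    rcases h.hq.eq_one_or_self_of_dvd _ (Nat.dvd_of_mul_dvd_mul_left h.hp.pos this) with rfl | rfl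
    · exact .inl (CfsgH2.eq_of_le_of_card_le (inf_eq_left.1 e) (by omega)).symm
    · exact absurd (CfsgH2.eq_of_le_of_card_le l (by rw [hk, h.cX, h.cA])).ge h1

theorem NPQ.prime (h : NPQ A X p q) (l : B ≤ A) (h0 : B ≠ ⊥) (h1 : ¬ A ≤ B) : (Nat.card B).Prime := by
  rcases h.cases l h0 h1 with rfl | e
  exacts [h.cX ▸ h.hp, e ▸ h.hq]

theorem NPQ.max (h : NPQ A X p q) {B' : Subgroup G} (l : B ≤ B') (l' : B' ≤ A) (h0 : B ≠ ⊥) (h1 : ¬ B' ≤ B) : A ≤ B' := by
  by_contra n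
  exact h1 ((prime_cases (h.prime l' (fun e => h0 (le_bot_iff.1 (e ▸ l))) n) l).resolve_left h0).ge

theorem NPQ.cent (h : NPQ A X p q) (l : B ≤ A) (c : Nat.card B = q) : A ≤ X ⊔ B ∧ X ⊓ C(B) = ⊥ ∧ X ⊓ B = ⊥ := by
  have d : X ⊓ B = ⊥ := inf_eq_bot_of_coprime' (by rw [h.cX, c]; exact (Nat.coprime_primes h.hp h.hq).2 h.ne)
  have a : A ≤ X ⊔ B := h.max le_sup_left (sup_le h.le l) (fun e => h.hp.one_lt.ne' (by rw [← h.cX, e, card_bot])) fun e =>
    h.hq.one_lt.ne' (by rw [← c, ← inf_eq_right.2 (le_sup_right.trans e), d, card_bot])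
  refine ⟨a, (prime_cases (h.cX ▸ h.hp) inf_le_left).resolve_right fun e => h.nc (a.trans (le_trans ?_ (cent_anti a))), d⟩
  haveI := Fact.mk h.hp
  haveI := Fact.mk h.hq
  exact sup_le (le_cent_sup (comm_of_cyclic (isCyclic_of_prime_card h.cX)) (e.ge.trans inf_le_right))
    (le_cent_sup (cent_symm (e.ge.trans inf_le_right)) (comm_of_cyclic (isCyclic_of_prime_card c)))

theorem NPQ.exists (h : NPQ A X p q) : ∃ y ∈ A, orderOf y = q := CfsgFT.exists_orderOf_eq_prime h.hq (h.cA ▸ dvd_mul_left q p)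

theorem NPQ.dvd (h : NPQ A X p q) : q ∣ p - 1 := by
  obtain ⟨y, hy, o⟩ := h.exists
  haveI := Fact.mk h.hq
  have l := zpowers_le.2 hy
  have := card_modEq_card_inf_cent (q := q) (isPGroup_zpowers_of_orderOf (k := 1) (by rw [o, pow_one])) (l.trans h.nX)
  rw [(h.cent l (by rw [Nat.card_zpowers, o])).2.1, card_bot, h.cX] at this
  exact (Nat.modEq_iff_dvd' h.hp.pos).1 this.symm

theorem NPQ.cj (h : NPQ A X p q) (l : B ≤ A) (c : Nat.card B = q) {g : G} (hg : g ∈ X) (g1 : g ≠ 1) : A ≤ B ⊔ cj g B := by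
  refine h.max le_sup_left (sup_le l (cj_le_of_norm (le_normalizer (h.le hg)) l))
    (fun e => h.hq.one_lt.ne' (by rw [← c, e, card_bot])) fun e => g1 (mem_bot.1 ((h.cent l c).2.1.le ⟨hg, ?_⟩))
  have n : zpowers g ≤ N(B) := zpowers_le.2 (mem_norm_iff_cj.2
    (CfsgH2.eq_of_le_of_card_le (le_sup_right.trans e) (card_cj _ _).ge))
  refine zpowers_le.1 (cent_of_comm_eq_bot (le_bot_iff.1 ((le_inf ?_ (comm_le_right n)).trans (h.cent l c).2.2.le)))
  exact (commutator_mono (zpowers_le.2 hg) le_rfl).trans (comm_le_left (l.trans h.nX))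

theorem NPQ.solv (h : NPQ A X p q) : Group.IsSolvable A := by
  haveI := Fact.mk h.hp
  haveI := Fact.mk h.hq
  obtain ⟨y, hy, o⟩ := h.exists
  have l := zpowers_le.2 hy
  exact isSolvable_of_le (isSolvable_sup_of_le_normalizer (l.trans h.nX) (isSolvable_of_nilpotent (IsPGroup.of_card (p := p) (n := 1)
    (by rw [h.cX, pow_one])).isNilpotent) (isSolvable_zpowers y)) (h.cent l (by rw [Nat.card_zpowers, o])).1

theorem NPQ.sub (h : NPQ A X p q) {L : Subgroup G} (l : A ≤ L) : NPQ (A.subgroupOf L) (X.subgroupOf L) p q :=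
  ⟨h.hp, h.hq, h.ne, comap_mono h.le, subgroupOf_le_norm L h.nX, (card_subgroupOf_of_le (h.le.trans l)).trans h.cX,
    (card_subgroupOf_of_le l).trans h.cA, fun e => h.nc fun a ha b hb =>
      congrArg Subtype.val (e (show (⟨a, l ha⟩ : L) ∈ _ from ha) ⟨b, l hb⟩ hb)⟩

theorem NPQ.quo (h : NPQ A X p q) {V : Subgroup G} (n : A ≤ N(V)) (d : A ⊓ V = ⊥) : NPQ (quo V A) (quo V X) p q :=
  ⟨h.hp, h.hq, h.ne, quo_mono h.le, quo_le_norm h.nX, (card_quo_of_disjoint (h.le.trans n)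
    (le_bot_iff.1 ((inf_le_inf_right _ h.le).trans d.le))).trans h.cX, (card_quo_of_disjoint n d).trans h.cA,
    fun e => h.nc (cent_of_quo n n (der_le A) d e)⟩

theorem norm_trick {Q K : Subgroup G} (hp : (Nat.card X).Prime) (hXQ : X ≤ N(Q)) (hK : K ≤ Q) (nK : Q ≤ N(K))
    (cop : (Nat.card X).Coprime (Nat.card Q)) {u : G} (hu : u ∈ Q) (h : ∀ g ∈ X, g ≠ 1 → u ∈ cj g K) :
    ∃ n ∈ K, n * u ∈ C(X) := by
  obtain ⟨⟨x, hx⟩, x1⟩ := ne_bot_iff_exists_ne_one.1 (fun e : X = ⊥ => hp.one_lt.ne' (by rw [e, card_bot]))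
  obtain rfl := zpowers_eq_of_prime_card hp hx fun e => x1 (Subtype.ext e)
  rw [Nat.card_zpowers] at hp
  have h1 : ∀ k, k < orderOf x → u⁻¹ * ((u * x) ^ (k + 1) * (x ^ (k + 1))⁻¹) ∈ K := fun k hk => by
    induction k with
    | zero => simp [one_mem]
    | succ k ih =>
      have := mem_cj.1 (h (x ^ (k + 1))⁻¹ (inv_mem (npow_mem_zpowers _ _))
        (inv_ne_one.2 (pow_ne_one_of_lt_orderOf k.succ_ne_zero hk)))
      convert K.mul_mem (ih (by omega)) this using 1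
      rw [pow_succ (u * x) (k + 1), pow_succ x (k + 1)]; group
  have h2 := h1 _ (Nat.sub_one_lt hp.ne_zero)
  rw [Nat.sub_add_cancel hp.pos, pow_orderOf_eq_one, inv_one, mul_one] at h2
  have h3 : Commute (u * x) ((u * x) ^ orderOf x) := Commute.self_pow _ _
  generalize (u * x) ^ orderOf x = v at h2 h3
  let M := ⨅ g : zpowers x, cj (g : G) K
  have MK : M ≤ K := (iInf_le _ 1).trans (cj_one K).le
  have nM : zpowers x ≤ N(M) := fun a ha => CfsgH2.mem_normalizer_of_conj_mem fun m hm => mem_iInf.2 fun g => by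
    have := mem_cj.1 (mem_iInf.1 hm ⟨a⁻¹ * g, mul_mem (inv_mem ha) g.2⟩)
    exact mem_cj.2 (by simpa [mul_assoc] using this)
  have h4 : x * v * x⁻¹ * v⁻¹ ∈ M := mem_iInf.2 fun g => by
    rw [show x * v * x⁻¹ * v⁻¹ = (u⁻¹ * v) * u * (u⁻¹ * v)⁻¹ * u⁻¹ by
      rw [show x * v = u⁻¹ * (u * x * v) by group, h3.eq]; group]
    by_cases e : (g : G) = 1
    · rw [e, cj_one]
      simpa [mul_assoc] using K.mul_mem h2 (CfsgH2.conj_mem_of_mem_normalizer (nK hu) (K.inv_mem h2))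
    · exact mul_mem (CfsgH2.conj_mem_of_mem_normalizer (le_norm_cj_of_norm nK (hXQ g.2) (hK h2)) (h g g.2 e)) (inv_mem (h g g.2 e))
  obtain ⟨n, hn, e⟩ := exists_mul_mem_centralizer nM (coprime_of_le_right cop (MK.trans hK)) (.inl (isSolvable_zpowers x))
    (k := v) fun a ha => by
      obtain ⟨i, rfl⟩ := mem_powers_iff_mem_zpowers.2 ha
      induction i with
      | zero => simp [one_mem]
      | succ i ih =>
        convert M.mul_mem (CfsgH2.conj_mem_of_mem_normalizer (nM (mem_zpowers x)) (ih (npow_mem_zpowers _ _))) h4 using 1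
        simp only [pow_succ']; group
  exact ⟨_, K.mul_mem (MK hn) (CfsgH2.conj_mem_of_mem_normalizer (nK hu) h2), by convert e using 1; group⟩

theorem NPQ.mem (h : NPQ A X p q) (l : B ≤ A) (c : Nat.card B = q) {Q K : Subgroup G} (hAQ : A ≤ N(Q))
    (cop : (Nat.card A).Coprime (Nat.card Q)) (hf : Q ⊓ C(A) = ⊥) (hK : K ≤ Q) (nK : Q ≤ N(K)) (nB : B ≤ N(K)) {u : G}
    (hu : u ∈ Q) (h1 : ∀ g ∈ X, g ≠ 1 → u ∈ CfsgH2.cj g K) (h2 : ∀ b ∈ B, b * u * b⁻¹ * u⁻¹ ∈ K) : u ∈ K := by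
  obtain ⟨n, hn, e⟩ := norm_trick (h.cX ▸ h.hp) (h.le.trans hAQ) hK nK (coprime_of_le_left cop h.le) hu h1
  have nC := le_normalizer_centralizer (l.trans h.nX)
  obtain ⟨m, hm, e'⟩ := exists_mul_mem_centralizer (le_normalizer_inf' nB nC)
    (coprime_of_le_right (coprime_of_le_left cop l) (inf_le_left.trans hK)) (.inl (isSolvable_of_le h.solv l))
    (k := n * u) fun b hb => mem_inf.2 ⟨by
      convert K.mul_mem (K.mul_mem (CfsgH2.conj_mem_of_mem_normalizer (nB hb) hn) (h2 b hb)) (K.inv_mem hn) using 1; group,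
      C(X).mul_mem (CfsgH2.conj_mem_of_mem_normalizer (nC hb) e) (C(X).inv_mem e)⟩
  have := mem_bot.1 (hf.le ⟨Q.mul_mem (hK hm.1) (Q.mul_mem (hK hn) hu), cent_anti (h.cent l c).1
    ((cent_sup _ _).ge ⟨C(X).mul_mem hm.2 e, e'⟩)⟩)
  rw [← mul_assoc, mul_eq_one_iff_inv_eq] at this
  exact this ▸ K.inv_mem (K.mul_mem hm.1 hn)

variable {F : Type*} [Field F] {V : Type v} [AddCommGroup V] [Module F V] {ρ : Representation F G V}
  [IsAlgClosed F] [FiniteDimensional F V]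

theorem stab_norm {Q : Subgroup G} [Q.Normal] (W : Submodule F V) : stabS ρ W ≤ N(Q ⊓ kerOn ρ W) := fun x hx =>
  CfsgH2.mem_normalizer_of_conj_mem fun y hy => ⟨Normal.conj_mem ‹_› _ hy.1 x, fun v hv => by
    rw [← rho_rho, ← rho_rho, hy.2 _ (rho_mem_of_mem_stabS (inv_mem hx) hv), rho_rho_inv]⟩

theorem wt_setup {Q M : Subgroup G} [Q.Normal] [M.Normal] (hM : M ≤ Q) (hnil : Group.IsNilpotent Q) (c0 : (Nat.card Q : F) ≠ 0)
    (cA : (Nat.card A : F) ≠ 0) (cop : (Nat.card A).Coprime (Nat.card Q)) (hQA : Q ⊓ C(A) = ⊥) (hfix : fixS ρ A = ⊥)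
    (hne : ¬ M ≤ MonoidHom.ker ρ) : ∃ (Ω : Set (Submodule F V)) (Y : Subgroup G), Ω.Nonempty ∧ Y ≤ M ∧
      (∀ W ∈ Ω, ∀ g, W.map (ρ g) ∈ Ω) ∧ ∀ W ∈ Ω, Q ≤ stabS ρ W ∧ ¬ Y ≤ kerOn ρ W ∧ ¬ A ≤ stabS ρ W ∧ A ⊓ stabS ρ W ≠ ⊥ ∧
        W ⊓ fixS ρ (A ⊓ stabS ρ W) = ⊥ ∧ ⁅Y, stabS ρ W⁆ ≤ kerOn ρ W := by
  let f := QuotientGroup.mk' (MonoidHom.ker ρ)
  haveI : (Q.map f).Normal := Normal.map inferInstance f (QuotientGroup.mk'_surjective _)
  let Y : Subgroup G := M ⊓ (centralizer ((Q.map f : Subgroup _) : Set _)).comap f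
  have hY : ∀ y, y ∈ Y ↔ y ∈ M ∧ ∀ q ∈ Q, Commute (ρ y) (ρ q) := fun y => and_congr Iff.rfl mem_comap_centralizer_ker
  have hc : ∀ a ∈ Y, ∀ b ∈ Y, Commute (ρ a) (ρ b) := fun a ha b hb => ((hY a).1 ha).2 b (hM hb.1)
  have hYQ : Y ≤ Q := inf_le_left.trans hM
  have hY0 : ¬ Y ≤ MonoidHom.ker ρ := fun h => by
    refine inf_centralizer_ne_bot_of_nilpotent (isNilpotent_map hnil f) (map_mono hM) (map_le_normalizer f le_normalizer_of_normal)
      (fun h' => hne ((map_mk'_eq_bot_iff _).1 h')) (eq_bot_iff.2 ?_)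
    rintro _ ⟨⟨q, hq, rfl⟩, h2⟩
    exact (QuotientGroup.eq_one_iff q).2 (h ⟨hq, h2⟩)
  refine ⟨ntw ρ Y, Y, ?_, inf_le_left, fun W hW g => map_mem_ntw (le_normalizer_of_normal (mem_top g)) hW, fun W hW => ?_⟩
  · by_contra h
    have hcompl := isCompl_fixS_ntw hc (natCast_card_ne_zero_of_le c0 hYQ)
    rw [Set.not_nonempty_iff_eq_empty.1 h, sSup_empty] at hcompl
    exact hY0 (fixS_eq_top_iff.1 (eq_top_of_isCompl_bot hcompl))
  have nk : ¬ Y ≤ kerOn ρ W := fun h => hW.1 (eq_bot_iff.2 (disjoint_fixS_ntw hc (le_fixS_iff.2 h) (le_sSup hW)))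
  obtain ⟨w0, l, -, rfl⟩ := hW
  have w := wt_fix hc (A := A) le_normalizer_of_normal cA hfix l
  refine ⟨fun q hq => Submodule.eq_of_le_of_finrank_eq (by
    rintro _ ⟨v, hv, rfl⟩
    exact mem_wt.2 fun a => by rw [← End.mul_apply, (((hY a).1 a.2).2 q hq).eq, End.mul_apply, mem_wt.1 hv a, map_smul])
    (finrank_map_rho q _), nk, fun h => nk (le_fixS_iff.1 ?_), fun e => w0 ?_, w,
    le_fixS_iff.1 (wt_le_fixS_commutator le_rfl)⟩
  · have := wt_le_fixS_commutator h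
    rwa [comm_eq_of_inf_cent_eq_bot le_normalizer_of_normal (coprime_of_le_right cop hYQ)
      (isSolvable_of_le (isSolvable_of_nilpotent hnil) hYQ) (le_bot_iff.1 ((inf_le_inf_right _ hYQ).trans hQA.le))] at this
  · rwa [e, fixS_eq_top_iff.2 bot_le, inf_top_eq] at w

theorem tower_pq (h : NPQ A X p q) {Q T : Subgroup G} [Q.Normal] (hnil : Group.IsNilpotent Q) (c0 : (Nat.card Q : F) ≠ 0)
    (cA : (Nat.card A : F) ≠ 0) (sT : Group.IsSolvable T) (hAT : A ≤ N(T)) (cAQ : (Nat.card A).Coprime (Nat.card Q))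
    (cAT : (Nat.card A).Coprime (Nat.card T)) (cTQ : (Nat.card T).Coprime (Nat.card Q)) (hf : (Q ⊔ T) ⊓ C(A) = ⊥)
    (hQT : ⁅Q, T⁆ = Q) (hTT : ⁅Q, ⁅T, T⁆⁆ ≤ MonoidHom.ker ρ) (hfix : fixS ρ A = ⊥) : Q ≤ MonoidHom.ker ρ := by
  by_contra hne
  have hQA : Q ⊓ C(A) = ⊥ := le_bot_iff.1 ((inf_le_inf_right _ le_sup_left).trans hf.le)
  have hTA : T ⊓ C(A) = ⊥ := le_bot_iff.1 ((inf_le_inf_right _ le_sup_right).trans hf.le)
  have sQ := isSolvable_of_nilpotent hnil
  obtain ⟨Ω, Y, ⟨W, hW⟩, hY, h1, h2⟩ := wt_setup le_rfl hnil c0 cA cAQ hQA hfix hne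
  obtain ⟨a1, a2, a3, a4, a5, a6⟩ := h2 W hW
  set B := A ⊓ stabS ρ W
  have l : B ≤ A := inf_le_left
  have nA : ¬ A ≤ B := fun e => a3 (e.trans inf_le_right)
  have hr := h.prime l a4 nA
  have hT0 : ⁅T, B⁆ ≤ stabS ρ W := by
    rw [commutator_le]
    intro t ht b hb
    refine mul_mem ?_ (inv_mem hb.2)
    obtain ⟨⟨a, ha⟩, e⟩ := ne_bot_iff_exists_ne_one.1 (h2 _ (h1 W hW t⁻¹)).2.2.2.1
    have k : t * a * t⁻¹ ∈ stabS ρ W := mem_stabS.2 (by
      rw [← map_rho_map_rho, ← map_rho_map_rho, mem_stabS.1 ha.2, map_rho_map_rho, mul_inv_cancel, map_rho_one])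
    by_cases hab : a ∈ B
    · obtain ⟨i, rfl⟩ := (zpowers_eq_of_prime_card hr hab fun h => e (Subtype.ext h)).ge hb
      exact conj_zpow (α := G) ▸ zpow_mem k i
    exfalso
    letI : MulAction G (Submodule F V) :=
      { smul := fun g U => U.map (ρ g), one_smul := map_rho_one, mul_smul := fun g k U => (map_rho_map_rho g k U).symm }
    have nt := le_normalizer (H := T) ht
    have : A ≤ T ⊔ (stabS ρ W ⊓ N(T)) := (h.max le_sup_left (sup_le l (zpowers_le.2 ha.1)) a4 fun e =>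
      hab (e (mem_sup_right (mem_zpowers a)))).trans (sup_le ((le_inf inf_le_right (l.trans hAT)).trans le_sup_right)
        (zpowers_le.2 (by
          convert mul_mem (mul_mem (mem_sup_left (inv_mem ht)) (mem_sup_right (T := stabS ρ W ⊓ N(T))
            ⟨k, N(T).mul_mem (N(T).mul_mem nt (hAT ha.1)) (N(T).inv_mem nt)⟩)) (mem_sup_left ht) using 1; group)))
    obtain ⟨k, -, hk⟩ := glauberman_exists hAT cAT (.inr sT) W fun a ha => by
      obtain ⟨k, hk, u, hu, rfl⟩ := (CfsgH1.mem_sup_of_le_normalizer inf_le_right).1 (this ha)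
      exact ⟨k, hk, by rw [mul_smul]; exact congrArg (k • ·) hu.1⟩
    exact (h2 _ (h1 W hW k)).2.2.1 hk
  have T0 : ⁅T, B⁆ ≤ T := comm_le_left (l.trans hAT)
  have nT0 : T ≤ N(⁅T, B⁆) := normalizer_commutator_ge_left _ _
  have cBT := coprime_of_le_left cAT l
  obtain ⟨s1, s2⟩ := s_wt a1 hT0 inf_le_right hr (natCast_card_ne_zero_of_le cA l) (normalizer_commutator_ge_right _ _)
    (coprime_of_le_right cBT T0) (isSolvable_of_le sT T0) (commutator_commutator_eq (l.trans hAT) cBT) a5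
    le_normalizer_of_normal le_normalizer_of_normal c0 (coprime_of_le_left cTQ T0) (coprime_of_le_left cAQ l) sQ
    ((commutator_mono le_rfl (commutator_mono T0 T0)).trans hTT)
  have nK := stab_norm (ρ := ρ) (Q := Q) W
  have cl : ∀ D : Subgroup G, ⁅Q, D⁆ ≤ Q := fun D => commutator_le_left _ _
  rcases h.cases l a4 nA with e | c
  · replace s2 := s2.resolve_right fun k => h.hq.one_lt.ne' (Nat.eq_one_of_dvd_coprimes cAQ (h.cA ▸ dvd_mul_left q p)
      ((h.dvd.trans (dvd_pow_self _ two_ne_zero)).trans (by rw [← h.cX, ← e]; exact k.2)))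
    have n1 : T ≤ N(⁅T, B⁆ ⊔ B) := le_norm_of_comm_le (comm_sup_left_le ((comm_le_left nT0).trans le_sup_left)
      (by rw [commutator_comm]; exact le_sup_left) (le_sup_left.trans le_normalizer) (le_sup_right.trans le_normalizer))
    have n2 : T ≤ N(⁅Q, ⁅T, B⁆ ⊔ B⁆) := le_normalizer_commutator' le_normalizer_of_normal n1
    have n3 : Q ≤ N(⁅Q, ⁅T, B⁆ ⊔ B⁆) := normalizer_commutator_ge_left _ _
    obtain ⟨y, hy, o⟩ := h.exists
    have ly := zpowers_le.2 hy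
    have cy : Nat.card (zpowers y) = q := by rw [Nat.card_zpowers, o]
    have nil := nilpotent_of_fpf_prime ((Q ⊔ T) ⊓ C(B)) (zpowers y) (le_normalizer_inf' (le_normalizer_sup'
      le_normalizer_of_normal (ly.trans hAT)) (le_normalizer_centralizer (e ▸ ly.trans h.nX))) (cy ▸ h.hq) fun x hx x1 => by
        rw [← cent_zpowers, zpowers_eq_of_prime_card (cy ▸ h.hq) hx x1, inf_assoc, ← cent_sup, e]
        exact le_bot_iff.1 ((inf_le_inf_left _ (cent_anti (h.cent ly cy).1)).trans hf.le)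
    refine a2 (hY.trans (hQT.ge.trans (le_trans ?_ ((comm_sup_right_le (le_inf (cl _) s1) (le_inf (cl _) s2) (hT0.trans nK)
      (inf_le_right.trans nK)).trans inf_le_right))))
    conv_lhs => rw [← commutator_sup_centralizer (l.trans hAT) cBT (.inr sT)]
    refine comm_sup_right_le (commutator_mono le_rfl le_sup_left) ?_ (T0.trans n2) (inf_le_left.trans n2)
    conv_lhs => rw [← commutator_sup_centralizer (K := Q) le_normalizer_of_normal (coprime_of_le_left cAQ l) (.inr sQ)]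
    refine comm_sup_left_le ((commutator_mono (commutator_mono le_rfl le_sup_right) le_rfl).trans
      (comm_le_left (inf_le_left.trans n2))) ?_ ((cl _).trans n3) (inf_le_left.trans n3)
    rw [comm_eq_bot (commute_of_nilpotent nil (inf_le_inf_right _ le_sup_left) (inf_le_inf_right _ le_sup_right)
      (coprime_of_le_left (coprime_of_le_right cTQ.symm inf_le_left) inf_le_left))]
    exact bot_le
  set R := ⁅Q ⊓ C(⁅T, B⁆), T⁆
  have RQ : R ≤ Q := (commutator_mono inf_le_left le_rfl).trans (cl T)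
  have n2 : T ≤ N(⁅Q, ⁅T, B⁆⁆) := le_normalizer_commutator' le_normalizer_of_normal nT0
  have n3 : Q ≤ N(⁅Q, ⁅T, B⁆⁆) := normalizer_commutator_ge_left _ _
  have k1 : Q ≤ ⁅Q, ⁅T, B⁆⁆ ⊔ R := by
    conv_lhs => rw [← hQT, ← commutator_sup_centralizer (K := Q) le_normalizer_of_normal (coprime_of_le_left cTQ T0) (.inr sQ)]
    exact comm_sup_left_le ((comm_le_left n2).trans le_sup_left) le_sup_right (le_sup_left.trans le_normalizer)
      (le_normalizer_sup' (inf_le_left.trans n3) (normalizer_commutator_ge_left _ _))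
  have NK : ⁅Q, ⁅T, B⁆⁆ ≤ Q ⊓ kerOn ρ W := le_inf (cl _) s1
  have k2 : ∀ g ∈ X, g ≠ 1 → R ≤ cj g (Q ⊓ kerOn ρ W) := fun g hg g1 => by
    refine le_trans ?_ (cj_mono g NK)
    have l' : cj g B ≤ A := cj_le_of_norm (le_normalizer (h.le hg)) l
    have T1 : ⁅T, cj g B⁆ ≤ T := comm_le_left (l'.trans hAT)
    have m : ∀ D ≤ A, ⁅T, D⁆ ≤ ⁅T, B⁆ ⊔ ⁅T, cj g B⁆ → D ≤ N(⁅T, B⁆ ⊔ ⁅T, cj g B⁆) := fun D _ hD =>
      le_norm_of_comm_le ((commutator_mono (sup_le T0 T1) le_rfl).trans hD)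
    have n4 : T ≤ N(⁅Q, ⁅T, cj g B⁆⁆) := le_normalizer_commutator' le_normalizer_of_normal (normalizer_commutator_ge_left _ _)
    rw [cj_commutator, cj_commutator, cj_eq_of_normal, cj_eq_of_norm (hAT (h.le hg))]
    refine (commutator_mono le_rfl ((comm_eq_of_inf_cent_eq_bot hAT cAT sT hTA).ge.trans ((commutator_mono le_rfl
      (h.cj l c hg g1)).trans (comm_sup_right_le le_sup_left le_sup_right (m _ l le_sup_left) (m _ l' le_sup_right))))).trans
      (comm_sup_right_le ?_ (commutator_mono inf_le_left le_rfl) (T0.trans n4) (T1.trans n4))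
    rw [comm_eq_bot inf_le_right]; exact bot_le
  refine a2 fun z hz => ?_
  obtain ⟨n, hn, u, hu, rfl⟩ := (CfsgH1.mem_sup_of_le_normalizer (RQ.trans n3)).1 (k1 (hY hz))
  refine (kerOn ρ W).mul_mem (NK hn).2 (h.mem l c le_normalizer_of_normal cAQ hQA inf_le_left (a1.trans nK)
    (inf_le_right.trans nK) (RQ hu) (fun g hg g1 => k2 g hg g1 hu) fun b hb => ?_).2
  have k3 : ⁅n * u, b⁆ ∈ Q ⊓ kerOn ρ W := ⟨cl ⊤ (commutator_mem_commutator (hY hz) (mem_top b)),
    a6 (commutator_mem_commutator hz hb.2)⟩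
  convert mul_mem (mul_mem (CfsgH2.conj_mem_of_mem_normalizer (nK hb.2) (inv_mem (NK hn))) (inv_mem k3)) (NK hn) using 1
  rw [commutatorElement_def]; group

theorem tower_ab (h : NPQ A X 3 2) {Q : Subgroup G} [Q.Normal] (hnil : Group.IsNilpotent Q) (c0 : (Nat.card Q : F) ≠ 0)
    (cA : (Nat.card A : F) ≠ 0) (cAQ : (Nat.card A).Coprime (Nat.card Q)) (hQA : Q ⊓ C(A) = ⊥) (hfix : fixS ρ A = ⊥) :
    ⁅Q, Q⁆ ≤ MonoidHom.ker ρ := by
  by_contra hne
  have sQ := isSolvable_of_nilpotent hnil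
  obtain ⟨Ω, Y, ⟨W, hW⟩, hY, -, h2⟩ := wt_setup (der_le Q) hnil c0 cA cAQ hQA hfix hne
  obtain ⟨a1, a2, a3, a4, a5, -⟩ := h2 W hW
  set B := A ⊓ stabS ρ W
  have l : B ≤ A := inf_le_left
  have nA : ¬ A ≤ B := fun e => a3 (e.trans inf_le_right)
  have hr := h.prime l a4 nA
  have s2 := (s_wt (T := ⊥) a1 bot_le inf_le_right hr (natCast_card_ne_zero_of_le cA l) le_normalizer_of_normal
    (by simp) inferInstance (by simp) a5 bot_le le_normalizer_of_normal c0 (by simp) (coprime_of_le_left cAQ l) sQ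
    (by simp)).2.resolve_right fun k => absurd (Nat.eq_one_of_dvd_coprimes cAQ (h.cA ▸ dvd_mul_left 2 3)
      (((hr.even_sub_one k.1.ne').two_dvd.trans (dvd_pow_self _ two_ne_zero)).trans k.2)) (by decide)
  have nK := stab_norm (ρ := ρ) (Q := Q) W
  set K := Q ⊓ kerOn ρ W
  have sK : ⁅Q, B⁆ ≤ K := le_inf (commutator_le_left _ _) s2
  have key : ∀ D ≤ Q, ∀ E ≤ Q, Q ≤ K ⊔ D → Q ≤ K ⊔ E → ⁅D, E⁆ ≤ K → False := fun D hD E hE k1 k2 k3 =>
    a2 (hY.trans ((commutator_mono k1 k2).trans ((comm_sup_left_le (comm_le_left (sup_le le_normalizer (hE.trans (a1.trans nK))))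
      (comm_sup_right_le (comm_le_right (hD.trans (a1.trans nK))) k3 le_normalizer (hE.trans (a1.trans nK))) le_normalizer
      (hD.trans (a1.trans nK))).trans inf_le_right)))
  rcases h.cases l a4 nA with e | c
  · obtain ⟨y, hy, o⟩ := h.exists
    have ly := zpowers_le.2 hy
    have k := (commutator_sup_centralizer (K := Q) le_normalizer_of_normal (coprime_of_le_left cAQ l) (.inr sQ)).ge.trans
      (sup_le_sup_right sK _)
    refine key _ inf_le_left _ inf_le_left k k ?_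
    rw [comm_eq_bot (comm_of_inverts (CfsgH1.inverts_of_fpf (s := y) (le_normalizer_inf' le_normalizer_of_normal
      (le_normalizer_centralizer (e ▸ h.nX)) hy) (by rw [← sq, ← o, pow_orderOf_eq_one]) (by
        rw [← cent_zpowers, inf_assoc, ← cent_sup, e]
        exact le_bot_iff.1 ((inf_le_inf_left _ (cent_anti (h.cent ly (by rw [Nat.card_zpowers, o])).1)).trans hQA.le))))]
    exact bot_le
  have nj : ∀ g, Q ≤ N(cj g K) := fun g => le_norm_cj_of_norm (a1.trans nK) (le_normalizer_of_normal (mem_top g))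
  have jQ : ∀ g, cj g K ≤ Q := fun g => cj_le_of_norm (le_normalizer_of_normal (mem_top g)) inf_le_left
  have k : ∀ g ∈ X, g ≠ 1 → Q ≤ K ⊔ cj g K := fun g hg g1 => by
    have s3 : ⁅Q, cj g B⁆ ≤ cj g K := by
      have := cj_mono g sK
      rwa [cj_commutator, cj_eq_of_normal] at this
    have m : ∀ D, ⁅Q, D⁆ ≤ K ⊔ cj g K → D ≤ N(K ⊔ cj g K) := fun D hD =>
      le_norm_of_comm_le ((commutator_mono (sup_le inf_le_left (jQ g)) le_rfl).trans hD)
    exact (comm_eq_of_inf_cent_eq_bot le_normalizer_of_normal cAQ sQ hQA).ge.trans ((commutator_mono le_rfl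
      (h.cj l c hg g1)).trans (comm_sup_right_le (sK.trans le_sup_left) (s3.trans le_sup_right) (m _ (sK.trans le_sup_left))
        (m _ (s3.trans le_sup_right))))
  obtain ⟨x, hx, o⟩ := CfsgFT.exists_orderOf_eq_prime (H := X) h.hp h.cX.symm.dvd
  have x1 : x ≠ 1 := fun e => by simp [e] at o
  have x2 : x ^ 2 ≠ 1 := pow_ne_one_of_lt_orderOf two_ne_zero (by omega)
  refine key _ (jQ x) _ (jQ (x ^ 2)) (k _ hx x1) (k _ (pow_mem hx 2) x2) fun u hu => ?_
  have u1 := comm_le_left ((jQ _).trans (nj x)) hu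
  refine h.mem l c le_normalizer_of_normal cAQ hQA inf_le_left (a1.trans nK) (inf_le_right.trans nK) (jQ x u1)
    (fun g hg g1 => ?_) fun b hb => ?_
  · classical
    obtain ⟨i, hi, rfl⟩ := Finset.mem_image.1 (mem_zpowers_iff_mem_range_orderOf.1
      ((zpowers_eq_of_prime_card (h.cX ▸ h.hp) hx x1).ge hg))
    rw [Finset.mem_range, o] at hi
    interval_cases i
    · simp at g1
    · simpa using u1
    · exact comm_le_right ((jQ _).trans (nj _)) hu
  · convert K.inv_mem (sK (commutator_mem_commutator (jQ x u1) hb)) using 1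
    rw [commutatorElement_def]; group

end CfsgH9
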