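import Cfsg.Agent.H9.PQ2

/-! Fitting height under fixed-point-free action of a non-abelian group of order `pq`. -/

set_option autoImplicit false
set_option linter.unusedSectionVars false

namespace CfsgH9

open Subgroup Cfsg CfsgH1 CfsgH2 CfsgFT Module
open scoped commutatorElement

universe u

variable {G : Type u} [Group G] [Finite G] {A X V K : Subgroup G} {p q l : ℕ} [Fact l.Prime]

theorem tower_ea_pq (h : NPQ A X p q) {Q T : Subgroup G} (hV : IsElementaryAbelian l V) (hQV : Q ≤ N(V)) (hTV : T ≤ N(V))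
    (hAV : A ≤ N(V)) (hTQ : T ≤ N(Q)) (hAQ : A ≤ N(Q)) (hnil : Group.IsNilpotent Q) (c0 : ¬ l ∣ Nat.card Q)
    (cA : ¬ l ∣ Nat.card A) (sT : Group.IsSolvable T) (hAT : A ≤ N(T)) (cAQ : (Nat.card A).Coprime (Nat.card Q))
    (cAT : (Nat.card A).Coprime (Nat.card T)) (cTQ : (Nat.card T).Coprime (Nat.card Q)) (hf : (Q ⊔ T) ⊓ C(A) = ⊥)
    (hQT : ⁅Q, T⁆ = Q) (hTT : ⁅Q, ⁅T, T⁆⁆ ≤ C(V)) (hfix : V ⊓ C(A) = ⊥) : Q ≤ C(V) := by
  set L := Q ⊔ (T ⊔ A)
  have l1 : Q ≤ L := le_sup_left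
  have l2 : T ≤ L := le_sup_left.trans le_sup_right
  have l3 : A ≤ L := le_sup_right.trans le_sup_right
  obtain ⟨W, i1, i2, i3, ρ, -, -, h4, h5⟩ := exists_rep_of_elementary (G := L) hV (sup_le hQV (sup_le hTV hAV))
  haveI : (Q.subgroupOf L).Normal := normal_subgroupOf_sup_left (sup_le hTQ hAQ)
  have k1 := card_subgroupOf_of_le l1
  have k2 := card_subgroupOf_of_le l2
  have k3 := card_subgroupOf_of_le l3
  have := tower_pq (ρ := ρ) (h.sub l3) (Q := Q.subgroupOf L) (T := T.subgroupOf L) (isNilpotent_subgroupOf hnil L)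
    (k1 ▸ natCast_algClosure_ne_zero c0) (k3 ▸ natCast_algClosure_ne_zero cA) (isSolvable_subgroupOf sT L)
    (subgroupOf_le_norm L hAT) (by rwa [k1, k3]) (by rwa [k2, k3]) (by rwa [k1, k2])
    (by rw [← subgroupOf_sup l1 l2]; exact subgroupOf_inf_cent_eq_bot l3 hf) (by rw [comm_subgroupOf l1 l2, hQT])
    (by rwa [h5, comm_subgroupOf l2 l2, map_commutator_subgroupOf l1 ((der_le T).trans l2)]) ((h4 A l3).2 hfix)
  rwa [h5, map_subgroupOf_eq_of_le l1] at this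

theorem tower_ea_ab (h : NPQ A X 3 2) {Q : Subgroup G} (hV : IsElementaryAbelian l V) (hQV : Q ≤ N(V))
    (hAV : A ≤ N(V)) (hAQ : A ≤ N(Q)) (hnil : Group.IsNilpotent Q) (c0 : ¬ l ∣ Nat.card Q)
    (cA : ¬ l ∣ Nat.card A) (cAQ : (Nat.card A).Coprime (Nat.card Q)) (hf : Q ⊓ C(A) = ⊥)
    (hfix : V ⊓ C(A) = ⊥) : ⁅Q, Q⁆ ≤ C(V) := by
  set L := Q ⊔ A
  have l1 : Q ≤ L := le_sup_left
  have l3 : A ≤ L := le_sup_right
  obtain ⟨W, i1, i2, i3, ρ, -, -, h4, h5⟩ := exists_rep_of_elementary (G := L) hV (sup_le hQV hAV)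
  haveI : (Q.subgroupOf L).Normal := normal_subgroupOf_sup_left hAQ
  have k1 := card_subgroupOf_of_le l1
  have k3 := card_subgroupOf_of_le l3
  have := tower_ab (ρ := ρ) (h.sub l3) (Q := Q.subgroupOf L) (isNilpotent_subgroupOf hnil L)
    (k1 ▸ natCast_algClosure_ne_zero c0) (k3 ▸ natCast_algClosure_ne_zero cA) (by rwa [k1, k3])
    (subgroupOf_inf_cent_eq_bot l3 hf) ((h4 A l3).2 hfix)
  rwa [h5, map_commutator_subgroupOf l1 l1] at this

theorem lift_Opi (hs : Group.IsSolvable K) (hAK : A ≤ N(K)) (hcop : (Nat.card A).Coprime (Nat.card K))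
    (hV : IsElementaryAbelian l V) (hV0 : V ≠ ⊥) (hL : K ⊔ A ≤ N(V)) (hmin : ∀ W, W ≤ V → K ⊔ A ≤ N(W) → W = ⊥ ∨ W = V)
    (q : ℕ) [hq : Fact q.Prime] (h0 : Opi {q} (quo (K ⊓ C(V)) K) ≠ ⊥) : ∃ Q ≤ K, IsPGroup q Q ∧ ¬ l ∣ Nat.card Q ∧ A ≤ N(Q) ∧
      quo (K ⊓ C(V)) Q = Opi {q} (quo (K ⊓ C(V)) K) ∧ quo (K ⊓ C(V)) (K ⊓ N(Q)) = quo (K ⊓ C(V)) K := by
  have hKV : K ≤ N(V) := le_sup_left.trans hL
  set C := K ⊓ C(V) with hC
  have hLK : K ⊔ A ≤ N(K) := sup_le le_normalizer hAK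
  have hLC : K ⊔ A ≤ N(C) := le_normalizer_inf' hLK (le_normalizer_centralizer hL)
  have hKC : K ≤ N(C) := le_sup_left.trans hLC
  have hXn : quo C (K ⊔ A) ≤ N(Opi {q} (quo C K)) := le_normalizer_Opi_of _ (quo_le_norm hLK)
  obtain ⟨Q, hQ, hAQ, hQX⟩ := exists_inv_lift (isPGroup_Opi (p := q) (quo C K)) (le_sup_right.trans hLC)
    ((quo_mono le_sup_right).trans hXn) hAK (Opi_le _ _) hcop (Or.inr hs)
  have hQK : Q ≤ K := hQ.le.trans inf_le_right
  refine ⟨Q, hQK, hQ.pgroup, fun hd => ?_, hAQ, hQX, ?_⟩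
  · obtain ⟨n, hn⟩ := IsPGroup.iff_card.1 hQ.pgroup
    obtain rfl := (Nat.prime_dvd_prime_iff_eq Fact.out hq.out).1 ((Fact.out : l.Prime).dvd_of_dvd_pow (hn ▸ hd))
    have := eq_bot_of_lift hL hmin le_sup_left hLK hQK (by rw [hQX]; exact hXn)
      (inf_centralizer_ne_bot_of_isPGroup hQ.pgroup (hQK.trans hKV) (dvd_card_of_isPGroup (ea_isPGroup hV) hV0))
    exact h0 (hQX ▸ (quo_eq_bot_iff (hQK.trans hKC)).2 (le_inf hQK this))
  · have h1 := sylow_frattini_sup hQ inf_le_right (le_normalizer_inf'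
      (le_norm_unq hKC ((quo_mono le_sup_left).trans hXn)) le_normalizer)
    conv_rhs => rw [← h1]
    rw [quo_sup (inf_le_right.trans hKC) (inf_le_left.trans hKC), quo_inf (le_unq _), quo_unq, ← hQX, eq_comm, sup_eq_right]
    exact inf_le_left.trans (quo_mono (le_inf hQK le_normalizer))

theorem nres_le_cent_pq (h : NPQ A X p q) (hs : Group.IsSolvable K) (hAK : A ≤ N(K))
    (hcop : (Nat.card A).Coprime (Nat.card K)) (hf : K ⊓ C(A) = ⊥) (hVK : V ≤ K)
    (hV : IsElementaryAbelian l V) (hV0 : V ≠ ⊥) (hL : K ⊔ A ≤ N(V))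
    (hmin : ∀ W, W ≤ V → K ⊔ A ≤ N(W) → W = ⊥ ∨ W = V) : nres K ≤ C(V) := by
  have hKV : K ≤ N(V) := le_sup_left.trans hL
  have hAV : A ≤ N(V) := le_sup_right.trans hL
  have hKC : K ≤ N(K ⊓ C(V)) := le_normalizer_inf' le_normalizer (le_normalizer_centralizer hKV)
  have hAC : A ≤ N(K ⊓ C(V)) := le_normalizer_inf' hAK (le_normalizer_centralizer hAV)
  have ff : ∀ {D}, D ≤ K → D ⊓ C(A) = ⊥ := fun h => le_bot_iff.1 ((inf_le_inf_right _ h).trans hf.le)
  refine ((nil_quo_iff' hKC).1 ?_).trans inf_le_right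
  by_contra hn
  obtain ⟨s, r, hq, hr, hqr, R, hRK, hR, hAR, hne⟩ := exists_tower2 (solvable_quo hs _) (quo_le_norm hAK) (coprime_quo hcop _) hn
  haveI := Fact.mk hq
  haveI := Fact.mk hr
  obtain ⟨Q, hQK, hQ, ql, hAQ, hQX, hfr⟩ := lift_Opi hs hAK hcop hV hV0 hL hmin s fun e => hne (e ▸ le_cent_bot _)
  obtain ⟨T₁, hT, hAT, hTX⟩ := exists_inv_lift (H := K ⊓ N(Q)) hR hAC hAR
    (le_normalizer_inf' hAK (le_normalizer_normalizer hAQ)) (hfr ▸ hRK)
    (coprime_of_le_right hcop inf_le_left) (Or.inr (isSolvable_of_le hs inf_le_left))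
  have hTK : T₁ ≤ K := hT.le.trans (inf_le_right.trans inf_le_left)
  have hTQ : T₁ ≤ N(Q) := hT.le.trans (inf_le_right.trans inf_le_right)
  have key : ∀ T ≤ T₁, A ≤ N(T) → ⁅Q, T⁆ ≤ C(V) := fun T => by
    induction T using subgroup_induction_up with
    | h T ih =>
    intro l1 t3
    by_cases e : T = ⊥
    · simp [e]
    have t1 := l1.trans hTK
    have t2 := l1.trans hTQ
    have sT := isSolvable_of_le hs t1
    have t4 : (Nat.card T).Coprime (Nat.card Q) := IsPGroup.coprime_card_of_ne r s hqr.symm _ _ (hT.pgroup.to_le l1) hQ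
    have q1 : ⁅Q, T⁆ ≤ Q := comm_le_left t2
    have q2 := q1.trans hQK
    exact tower_ea_pq h hV (q2.trans hKV) (t1.trans hKV) hAV (normalizer_commutator_ge_right _ _)
      (le_normalizer_commutator' hAQ t3) (hQ.to_le q1).isNilpotent (fun d => ql (d.trans (card_dvd_of_le q1)))
      (not_dvd_of_coprime_ea hV hV0 (coprime_of_le_right hcop hVK)) sT t3 (coprime_of_le_right hcop q2)
      (coprime_of_le_right hcop t1) (coprime_of_le_right t4 q1) (ff (sup_le q2 t1)) (commutator_commutator_eq t2 t4)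
      ((commutator_mono q1 le_rfl).trans (ih _ (CfsgH1.card_lt_of_lt (commutator_lt_of_isSolvable sT e)) ((der_le T).trans l1)
        (le_normalizer_commutator' t3 t3))) (ff hVK)
  refine hne ?_
  rw [← hTX, ← hQX, quo_le_cent_iff (hTK.trans hKC) (hQK.trans hKC), commutator_comm]
  exact le_inf ((comm_le_left hTQ).trans hQK) (key _ le_rfl hAT)

theorem der_le_cent_s3 (h : NPQ A X 3 2) (hs : Group.IsSolvable K) (hAK : A ≤ N(K))
    (hcop : (Nat.card A).Coprime (Nat.card K)) (hf : K ⊓ C(A) = ⊥) (hVK : V ≤ K)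
    (hV : IsElementaryAbelian l V) (hV0 : V ≠ ⊥) (hL : K ⊔ A ≤ N(V))
    (hmin : ∀ W, W ≤ V → K ⊔ A ≤ N(W) → W = ⊥ ∨ W = V) : ⁅K, K⁆ ≤ C(V) := by
  have hKV : K ≤ N(V) := le_sup_left.trans hL
  have hKC : K ≤ N(K ⊓ C(V)) := le_normalizer_inf' le_normalizer (le_normalizer_centralizer hKV)
  have ff : ∀ {D}, D ≤ K → D ⊓ C(A) = ⊥ := fun h => le_bot_iff.1 ((inf_le_inf_right _ h).trans hf.le)
  have nil := (nil_quo_iff' hKC).2 (le_inf (nres_le K) (nres_le_cent_pq h hs hAK hcop hf hVK hV hV0 hL hmin))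
  refine ((quo_le_cent_iff hKC hKC).1 (le_of_nilpotent_of_forall_Opi nil fun s hq _ => cent_symm
    (le_of_nilpotent_of_forall_Opi nil fun r hr _ => ?_))).trans inf_le_right
  by_cases e : r = s
  swap
  · exact commute_of_nilpotent nil (Opi_le _ _) (Opi_le _ _)
      (IsPGroup.coprime_card_of_ne r s e _ _ (isPGroup_Opi _) (isPGroup_Opi _))
  subst e
  by_cases h0 : Opi {r} (quo (K ⊓ C(V)) K) = ⊥
  · exact h0 ▸ bot_le
  obtain ⟨Q, hQK, hQ, ql, hAQ, hQX, -⟩ := lift_Opi hs hAK hcop hV hV0 hL hmin r h0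
  rw [← hQX, quo_le_cent_iff (hQK.trans hKC) (hQK.trans hKC)]
  exact le_inf ((der_le Q).trans hQK) (tower_ea_ab h hV (hQK.trans hKV) (le_sup_right.trans hL) hAQ hQ.isNilpotent ql
    (not_dvd_of_coprime_ea hV hV0 (coprime_of_le_right hcop hVK)) (coprime_of_le_right hcop hQK) (ff hQK) (ff hVK))

theorem nil_pq {p q : ℕ} (n : ℕ) : ∀ {G : Type u} [Group G] [Finite G] (K A X : Subgroup G), Nat.card K = n → NPQ A X p q →
    Group.IsSolvable K → A ≤ N(K) → (Nat.card A).Coprime (Nat.card K) → K ⊓ C(A) = ⊥ →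
      Group.IsNilpotent (nres K) ∧ (p = 3 → q = 2 → Group.IsNilpotent (⁅K, K⁆ : Subgroup G)) := by
  induction n using Nat.strong_induction_on with
  | _ n ih =>
  intro G _ _ K A X hn h hs hAK hcop hf
  by_cases h0 : K = ⊥
  · subst h0
    exact ⟨isNilpotent_of_le inferInstance (nres_le ⊥), fun _ _ => isNilpotent_of_le inferInstance (der_le ⊥)⟩
  obtain ⟨V, l, hl, hVK, hV0, hV, hL, hmin⟩ := exists_ea_normalized (H := K) (L := K ⊔ A) hs h0 le_sup_left
    (sup_le le_normalizer hAK)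
  haveI := Fact.mk hl
  have hKV : K ≤ N(V) := le_sup_left.trans hL
  have hAV : A ≤ N(V) := le_sup_right.trans hL
  have c := coprime_of_le_right hcop hVK
  obtain ⟨i1, i2⟩ := ih _ (hn ▸ card_quo_lt' hVK hKV hV0) (quo V K) (quo V A) (quo V X) rfl
    (h.quo hAV (inf_eq_bot_of_coprime' c)) (solvable_quo hs V) (quo_le_norm hAK) (coprime_quo hcop V)
    (inf_cent_quo_eq_bot hKV hAV hAK c (Or.inr (solvable_ea hV)) hf)
  refine ⟨nil_of_quo_central (nres_le_cent_pq h hs hAK hcop hf hVK hV hV0 hL hmin) (by rwa [quo_nres hKV]), ?_⟩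
  rintro rfl rfl
  exact nil_of_quo_central (der_le_cent_s3 h hs hAK hcop hf hVK hV hV0 hL hmin) (by rw [quo_comm hKV hKV]; exact i2 rfl rfl)

theorem npq_of_lt {p q : ℕ} (hp : p.Prime) (hq : q.Prime) (l : q < p) (c : Nat.card G = p * q) (n : ¬ IsMulCommutative G) :
    ∃ X : Subgroup G, NPQ ⊤ X p q := by
  haveI := Fact.mk hp
  obtain ⟨x, o⟩ := exists_prime_orderOf_dvd_card' p (c ▸ dvd_mul_right p q)
  have cx : Nat.card (zpowers x) = p := by rw [Nat.card_zpowers, o]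
  have i : (zpowers x).index = q := Nat.eq_of_mul_eq_mul_left hp.pos (by rw [← c, ← cx, card_mul_index])
  have := normal_of_index_eq_minFac_card (H := zpowers x) (by
    rw [i, c]
    refine le_antisymm ?_ (Nat.minFac_le_of_dvd hq.two_le (dvd_mul_left q p))
    have m := Nat.minFac_prime (n := p * q) fun e => hp.one_lt.ne' (Nat.eq_one_of_mul_eq_one_right e)
    rcases m.dvd_mul.1 (Nat.minFac_dvd _) with e | e
    · rw [(Nat.prime_dvd_prime_iff_eq m hp).1 e]; exact l.le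
    · rw [(Nat.prime_dvd_prime_iff_eq m hq).1 e])
  exact ⟨_, hp, hq, l.ne', le_top, le_normalizer_of_normal, cx, card_top.trans c, fun e =>
    n ⟨⟨fun a b => (e (mem_top b) a (mem_top a))⟩⟩⟩

theorem act_pq {A : Type*} [Group A] [Finite A] [Group.IsSolvable G] (φ : A →* MulAut G) {p q : ℕ} (hp : p.Prime) (hq : q.Prime)
    (l : q < p) (c : Nat.card A = p * q) (n : ¬ IsMulCommutative A) (cop : (Nat.card G).Coprime (p * q))
    (hf : ∀ g : G, (∀ a : A, φ a g = g) → g = 1) : Group.IsNilpotent (nres (⊤ : Subgroup G)) ∧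
      (p = 3 → q = 2 → Group.IsNilpotent (commutator G)) := by
  obtain ⟨X, h⟩ := npq_of_lt hp hq l c n
  obtain ⟨h1, h2⟩ := nil_pq _ (sdL φ ⊤) (sdR φ ⊤) (sdR φ X) rfl ⟨hp, hq, h.ne, sdR_le_iff.2 le_top,
    map_le_normalizer _ h.nX, (card_sdR _).trans h.cX, (card_sdR _).trans h.cA, fun e => n ⟨⟨fun a b =>
      SemidirectProduct.inr_injective (φ := φ) (by
        simpa using e (inr_mem_sdR.2 (mem_top b)) _ (inr_mem_sdR.2 (mem_top a)))⟩⟩⟩
    (isSolvable_of_equiv (sdLTopEquiv φ)) (le_normalizer_sdL_top _) (by rw [card_sdR, card_sdL_top, card_top, c]; exact cop.symm) (by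
      rw [eq_bot_iff]
      rintro x ⟨hx, hc⟩
      obtain ⟨n, -, rfl⟩ := mem_sdL.1 hx
      rw [hf n fun a => inl_mem_centralizer_sdR.1 hc a (mem_top _), map_one]
      exact one_mem _)
  rw [sdL, ← map_nres] at h1
  rw [← sdL_commutator] at h2
  exact ⟨(have : Group.IsNilpotent (sdL φ (nres ⊤)) := h1; Group.nilpotent_of_mulEquiv (sdLEquiv φ _).symm), fun a b =>
    (have : Group.IsNilpotent (sdL φ (_root_.commutator G)) := h2 a b; Group.nilpotent_of_mulEquiv (sdLEquiv φ _).symm)⟩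

end CfsgH9
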