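import Mathlib
import Cfsg.Prelude.Def_RootSubgroups

/-! Unipotent subgroups of unit groups of algebras. -/

set_option autoImplicit false

namespace CfsgH9.QP

open Subgroup Cfsg
open scoped commutatorElement

section alg
variable (k : Type*) [Field k] {A : Type*} [Ring A] [Algebra k A]

/-- The span of the elements `g - 1`. -/
def aug (H : Subgroup Aˣ) : Submodule k A := Submodule.span k ((fun g : Aˣ => (g : A) - 1) '' H)

/-- Unipotent subgroups. -/
def Uni (H : Subgroup Aˣ) : Prop := IsNilpotent (aug k H)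

variable {k}

theorem mem_aug {H : Subgroup Aˣ} {g : Aˣ} (h : g ∈ H) : (g : A) - 1 ∈ aug k H :=
  Submodule.subset_span ⟨g, h, rfl⟩

theorem aug_le {H : Subgroup Aˣ} {V : Submodule k A} : aug k H ≤ V ↔ ∀ g ∈ H, (g : A) - 1 ∈ V :=
  Submodule.span_le.trans ⟨fun h g hg => h ⟨g, hg, rfl⟩, by rintro h _ ⟨g, hg, rfl⟩; exact h g hg⟩

theorem aug_mono {H K : Subgroup Aˣ} (h : H ≤ K) : aug k H ≤ aug k K := aug_le.2 fun _ hg => mem_aug (h hg)

theorem aug_mul (H : Subgroup Aˣ) : aug k H * aug k H ≤ aug k H := by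
  rw [aug, Submodule.span_mul_span, Submodule.span_le]
  rintro _ ⟨_, ⟨g, hg, rfl⟩, _, ⟨h, hh, rfl⟩, rfl⟩
  have : ((g : A) - 1) * ((h : A) - 1) = (((g * h : Aˣ) : A) - 1) - ((g : A) - 1) - ((h : A) - 1) := by
    push_cast; noncomm_ring
  simp only [this]
  exact Submodule.sub_mem _ (Submodule.sub_mem _ (mem_aug (H.mul_mem hg hh)) (mem_aug hg)) (mem_aug hh)

/-- The group `1 + V`. -/
def oa (V : Submodule k A) (hV : V * V ≤ V) : Subgroup Aˣ where
  carrier := {g | (g : A) - 1 ∈ V ∧ ((g⁻¹ : Aˣ) : A) - 1 ∈ V}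
  one_mem' := by simp
  inv_mem' h := ⟨h.2, by simpa using h.1⟩
  mul_mem' := by
    have key : ∀ a b : A, a - 1 ∈ V → b - 1 ∈ V → a * b - 1 ∈ V := fun a b ha hb => by
      have : a * b - 1 = (a - 1) * (b - 1) + (a - 1) + (b - 1) := by noncomm_ring
      rw [this]
      exact V.add_mem (V.add_mem (hV (Submodule.mul_mem_mul ha hb)) ha) hb
    intro a b ha hb
    exact ⟨by simpa using key _ _ ha.1 hb.1, by simpa using key _ _ hb.2 ha.2⟩

theorem le_oa {H : Subgroup Aˣ} {V : Submodule k A} (hV : V * V ≤ V) : H ≤ oa V hV ↔ aug k H ≤ V :=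
  ⟨fun h => aug_le.2 fun _ hg => (h hg).1, fun h _ hg => ⟨h (mem_aug hg), h (mem_aug (H.inv_mem hg))⟩⟩

theorem aug_sup_le {H K : Subgroup Aˣ} {V : Submodule k A} (hV : V * V ≤ V) (h1 : aug k H ≤ V) (h2 : aug k K ≤ V) :
    aug k (H ⊔ K) ≤ V := (le_oa hV).1 (sup_le ((le_oa hV).2 h1) ((le_oa hV).2 h2))

theorem aug_sSup_le {S : Set (Subgroup Aˣ)} {V : Submodule k A} (hV : V * V ≤ V) (h : ∀ H ∈ S, aug k H ≤ V) :
    aug k (sSup S) ≤ V := (le_oa hV).1 (sSup_le fun H hH => (le_oa hV).2 (h H hH))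

theorem aug_closure_le {s : Set Aˣ} {V : Submodule k A} (hV : V * V ≤ V)
    (h : ∀ g ∈ s, (g : A) - 1 ∈ V ∧ ((g⁻¹ : Aˣ) : A) - 1 ∈ V) : aug k (closure s) ≤ V :=
  (le_oa hV).1 ((closure_le _).2 h)

theorem nil_of_le {V W : Submodule k A} (h : V ≤ W) (hW : IsNilpotent W) : IsNilpotent V := by
  obtain ⟨n, hn⟩ := hW
  exact ⟨n, le_bot_iff.1 ((pow_le_pow_left' h n).trans hn.le)⟩

theorem Uni.mono {H K : Subgroup Aˣ} (h : H ≤ K) (hK : Uni k K) : Uni k H := nil_of_le (aug_mono h) hK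

theorem pow_mul_le {V : Submodule k A} (hV : V * V ≤ V) (j : ℕ) : V ^ (j + 1) * V ≤ V ^ (j + 1) := by
  rw [pow_succ, mul_assoc]; exact mul_le_mul_right hV _

theorem mul_pow_le {V : Submodule k A} (hV : V * V ≤ V) (j : ℕ) : V * V ^ (j + 1) ≤ V ^ (j + 1) := by
  rw [pow_succ', ← mul_assoc]; exact mul_le_mul_left hV _

theorem pow_le_self {V : Submodule k A} (hV : V * V ≤ V) (j : ℕ) : V ^ (j + 1) ≤ V := by
  induction j with
  | zero => simp
  | succ j ih => rw [pow_succ]; exact (mul_le_mul_left ih _).trans hV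

theorem mulr {V W : Submodule k A} (h : W * V ≤ W) {a y : A} (ha : a ∈ W) (hy : y - 1 ∈ V) : a * y ∈ W := by
  have : a * y = a * (y - 1) + a := by noncomm_ring
  rw [this]; exact W.add_mem (h (Submodule.mul_mem_mul ha hy)) ha

theorem mull {V W : Submodule k A} (h : V * W ≤ W) {a y : A} (ha : a ∈ W) (hy : y - 1 ∈ V) : y * a ∈ W := by
  have : y * a = (y - 1) * a + a := by noncomm_ring
  rw [this]; exact W.add_mem (h (Submodule.mul_mem_mul hy ha)) ha

theorem uni_sup {D U : Subgroup Aˣ} (hD : Uni k D) (hU : Uni k U) (h : ∀ u ∈ U, ∀ d ∈ D, u * d * u⁻¹ ∈ D) :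
    Uni k (D ⊔ U) := by
  set a := aug k D
  set b := aug k U
  set S := 1 ⊔ b
  have bS : b ≤ S := le_sup_right
  have oS : 1 ≤ S := le_sup_left
  have hSS : S * S ≤ S := by
    simp only [S, Submodule.mul_sup, Submodule.sup_mul, one_mul, mul_one, sup_le_iff]
    exact ⟨⟨le_sup_left, le_sup_right⟩, le_sup_right, (aug_mul U).trans le_sup_right⟩
  have aJ : a ≤ a * S := by simpa using mul_le_mul_right oS a
  have hSa : S * a ≤ a * S := by
    simp only [S, Submodule.sup_mul, one_mul, sup_le_iff]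
    refine ⟨aJ, ?_⟩
    rw [show b * a = _ from Submodule.span_mul_span _ _ _, Submodule.span_le]
    rintro _ ⟨_, ⟨u, hu, rfl⟩, _, ⟨d, hd, rfl⟩, rfl⟩
    have : ((u : A) - 1) * ((d : A) - 1) = (((u * d * u⁻¹ : Aˣ) : A) - 1) * ((u : A) - 1) +
        (((u * d * u⁻¹ : Aˣ) : A) - 1) - ((d : A) - 1) := by
      have e : ((u * d * u⁻¹ : Aˣ) : A) * u = u * d := by simp
      have : (((u * d * u⁻¹ : Aˣ) : A) - 1) * ((u : A) - 1) + (((u * d * u⁻¹ : Aˣ) : A) - 1) =
        ((u * d * u⁻¹ : Aˣ) : A) * u - u := by noncomm_ring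
      rw [this, e]; noncomm_ring
    simp only [this]
    exact Submodule.sub_mem _ (Submodule.add_mem _ (Submodule.mul_mem_mul (mem_aug (h u hu d hd)) (bS (mem_aug hu)))
      (aJ (mem_aug (h u hu d hd)))) (aJ (mem_aug hd))
  have SJ : S * (a * S) ≤ a * S := by
    rw [← mul_assoc]
    exact (mul_le_mul_left hSa _).trans (by rw [mul_assoc]; exact mul_le_mul_right hSS _)
  have JS : a * S * S ≤ a * S := by rw [mul_assoc]; exact mul_le_mul_right hSS _
  have Jn : ∀ n, (a * S) ^ n ≤ a ^ n * S := fun n => by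
    induction n with
    | zero => simpa using oS
    | succ n ih =>
      rw [pow_succ, pow_succ, mul_assoc (a ^ n)]
      exact (mul_le_mul_left ih _).trans (by rw [mul_assoc]; exact mul_le_mul_right SJ _)
  have JJ : a * S * (a * S) ≤ a * S := by
    rw [mul_assoc]
    exact (mul_le_mul_right SJ _).trans (by rw [← mul_assoc]; exact mul_le_mul_left (aug_mul D) _)
  have bb : ∀ n, b ^ n ≤ S := fun n => by
    rcases n with _ | n
    · simpa using oS
    · exact (pow_le_self (aug_mul U) n).trans bS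
  have cn : ∀ n, (b ⊔ a * S) ^ n ≤ b ^ n ⊔ a * S := fun n => by
    induction n with
    | zero => simp
    | succ n ih =>
      rw [pow_succ]
      refine (mul_le_mul_left ih _).trans ?_
      simp only [Submodule.mul_sup, Submodule.sup_mul, sup_le_iff]
      exact ⟨⟨by rw [pow_succ]; exact le_sup_left, ((mul_le_mul_right bS _).trans JS).trans le_sup_right⟩,
        ((mul_le_mul_left (bb n) _).trans SJ).trans le_sup_right, JJ.trans le_sup_right⟩
  have cc : (b ⊔ a * S) * (b ⊔ a * S) ≤ b ⊔ a * S := by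
    have := cn 2
    rw [pow_two, pow_two] at this
    exact this.trans (sup_le_sup_right (aug_mul U) _)
  refine nil_of_le (aug_sup_le cc (aJ.trans le_sup_right) le_sup_left) ?_
  obtain ⟨n, hn⟩ := hD
  obtain ⟨m, hm⟩ := hU
  refine ⟨m * n, le_bot_iff.1 ?_⟩
  have := cn m
  rw [hm, Submodule.zero_eq_bot, bot_sup_eq] at this
  rw [pow_mul]
  refine ((pow_le_pow_left' this n).trans (Jn n)).trans ?_
  rw [hn, zero_mul]; rfl

theorem le_of_le_sup_comm {X Y : Subgroup Aˣ} (hY : Uni k Y) (hXY : X ≤ Y) (h : Y ≤ X ⊔ ⁅Y, Y⁆) : Y ≤ X := by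
  set V := aug k Y
  have hV : V * V ≤ V := aug_mul Y
  have r : ∀ j {a : A} {y : Aˣ}, a ∈ V ^ (j + 1) → y ∈ Y → a * y ∈ V ^ (j + 1) := fun j a y ha hy =>
    mulr (pow_mul_le hV j) ha (mem_aug hy)
  have l : ∀ j {a : A} {y : Aˣ}, a ∈ V ^ (j + 1) → y ∈ Y → y * a ∈ V ^ (j + 1) := fun j a y ha hy =>
    mull (mul_pow_le hV j) ha (mem_aug hy)
  let R : ℕ → Subgroup Aˣ := fun j =>
    { carrier := {y | y ∈ Y ∧ ∃ x ∈ X, (y : A) - x ∈ V ^ (j + 1)}
      one_mem' := ⟨Y.one_mem, 1, X.one_mem, by simp⟩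
      mul_mem' := by
        rintro y y' ⟨hy, x, hx, e⟩ ⟨hy', x', hx', e'⟩
        refine ⟨Y.mul_mem hy hy', x * x', X.mul_mem hx hx', ?_⟩
        have : ((y * y' : Aˣ) : A) - (x * x' : Aˣ) = ((y : A) - x) * y' + x * ((y' : A) - x') := by
          push_cast; noncomm_ring
        rw [this]; exact Submodule.add_mem _ (r j e hy') (l j e' (hXY hx))
      inv_mem' := by
        rintro y ⟨hy, x, hx, e⟩
        refine ⟨Y.inv_mem hy, x⁻¹, X.inv_mem hx, ?_⟩
        have : ((y⁻¹ : Aˣ) : A) - (x⁻¹ : Aˣ) = -((y⁻¹ : Aˣ) * ((y : A) - x) * (x⁻¹ : Aˣ)) := by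
          simp [mul_sub, sub_mul, mul_assoc]
        rw [this]; exact Submodule.neg_mem _ (r j (l j e (Y.inv_mem hy)) (Y.inv_mem (hXY hx))) }
  have key : ∀ j, Y ≤ R j := fun j => by
    induction j with
    | zero => exact fun y hy => ⟨hy, 1, X.one_mem, by simpa using mem_aug hy⟩
    | succ j ih =>
      refine h.trans (sup_le (fun x hx => ⟨hXY hx, x, hx, by simp⟩) (commutator_le.2 fun y hy y' hy' => ?_))
      obtain ⟨-, x, hx, e⟩ := ih hy
      obtain ⟨-, x', hx', e'⟩ := ih hy'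
      obtain ⟨-, z, hz, f⟩ := ih (Y.mul_mem (Y.inv_mem hy) (Y.inv_mem hy'))
      have g := (R j).mul_mem ((R j).inv_mem (ih hy)) ((R j).inv_mem (ih hy'))
      have f1 : ((y⁻¹ * y'⁻¹ : Aˣ) : A) - (x⁻¹ * x'⁻¹ : Aˣ) ∈ V ^ (j + 1) := by
        have : ((y⁻¹ * y'⁻¹ : Aˣ) : A) - (x⁻¹ * x'⁻¹ : Aˣ) =
            -((y⁻¹ : Aˣ) * ((y : A) - x) * (x⁻¹ * y'⁻¹ : Aˣ)) - (x⁻¹ * y'⁻¹ : Aˣ) * ((y' : A) - x') * (x'⁻¹ : Aˣ) := by
          simp [mul_sub, sub_mul, mul_assoc]
        rw [this]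
        have m := Y.mul_mem (Y.inv_mem (hXY hx)) (Y.inv_mem hy')
        exact Submodule.sub_mem _ (Submodule.neg_mem _ (r j (l j e (Y.inv_mem hy)) m)) (r j (l j e' m) (Y.inv_mem (hXY hx')))
      refine ⟨Y.mul_mem (Y.mul_mem (Y.mul_mem hy hy') (Y.inv_mem hy)) (Y.inv_mem hy'), ⁅x, x'⁆,
        X.mul_mem (X.mul_mem (X.mul_mem hx hx') (X.inv_mem hx)) (X.inv_mem hx'), ?_⟩
      have c : ∀ u v : Aˣ, ((⁅u, v⁆ : Aˣ) : A) = ((u : A) * v - v * u) * (u⁻¹ * v⁻¹ : Aˣ) + 1 := fun u v => by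
        simp [commutatorElement_def, sub_mul, mul_assoc]
      have : ((⁅y, y'⁆ : Aˣ) : A) - (⁅x, x'⁆ : Aˣ) =
          (((y : A) - x) * ((x' : A) - 1) - ((x' : A) - 1) * ((y : A) - x) + (((y : A) - 1) * ((y' : A) - x') -
            ((y' : A) - x') * ((y : A) - 1))) * (y⁻¹ * y'⁻¹ : Aˣ) +
          ((((x : A) - 1) * ((x' : A) - 1)) - ((x' : A) - 1) * ((x : A) - 1)) *
            (((y⁻¹ * y'⁻¹ : Aˣ) : A) - (x⁻¹ * x'⁻¹ : Aˣ)) := by
        rw [c, c]; noncomm_ring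
      rw [this]
      have p1 : ∀ {a b : A}, a ∈ V ^ (j + 1) → b ∈ V → a * b ∈ V ^ (j + 1 + 1) := fun ha hb => by
        rw [pow_succ]; exact Submodule.mul_mem_mul ha hb
      have p2 : ∀ {a b : A}, a ∈ V ^ (j + 1) → b ∈ V → b * a ∈ V ^ (j + 1 + 1) := fun ha hb => by
        rw [pow_succ']; exact Submodule.mul_mem_mul hb ha
      have m1 := mem_aug (k := k) (hXY hx)
      have m2 := mem_aug (k := k) (hXY hx')
      have m3 := mem_aug (k := k) hy
      exact Submodule.add_mem _ (r _ (Submodule.add_mem _ (Submodule.sub_mem _ (p1 e m2) (p2 e m2))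
        (Submodule.sub_mem _ (p2 e' m3) (p1 e' m3))) (Y.mul_mem (Y.inv_mem hy) (Y.inv_mem hy')))
        (p2 f1 (V.sub_mem (hV (Submodule.mul_mem_mul m1 m2)) (hV (Submodule.mul_mem_mul m2 m1))))
  obtain ⟨n, hn⟩ := hY
  intro y hy
  obtain ⟨-, x, hx, e⟩ := key n hy
  rw [pow_succ, hn, zero_mul, Submodule.zero_eq_bot, Submodule.mem_bot, sub_eq_zero, Units.val_inj] at e
  exact e ▸ hx

theorem uni_sSup [FiniteDimensional k A] {W : Set (Subgroup Aˣ)} (hWW : ∀ H ∈ W, ∀ K ∈ W, Uni k (H ⊔ K))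
    (hc : ∀ H ∈ W, ∀ K ∈ W, ∀ g ∈ K, conjBy H g ∈ W) : Uni k (sSup W) := by
  let U : Submodule k A → Subgroup Aˣ := fun V => sSup {H ∈ W | aug k H ≤ V}
  let gen : Submodule k A → Submodule k A := fun V => aug k (U V)
  have gle : ∀ V, V * V ≤ V → gen V ≤ V := fun V hV => aug_sSup_le hV fun H hH => hH.2
  have leg : ∀ V, ∀ H ∈ W, aug k H ≤ V → aug k H ≤ gen V := fun V H hH h => aug_mono (le_sSup ⟨hH, h⟩)
  have gmono : ∀ V V', V ≤ V' → gen V ≤ gen V' := fun V V' h =>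
    aug_mono (sSup_le_sSup fun H hH => ⟨hH.1, hH.2.trans h⟩)
  have gg : ∀ V, gen (gen V) = gen V := fun V =>
    le_antisymm (gle _ (aug_mul _)) (aug_mono (sSup_le_sSup fun H hH => ⟨hH.1, leg V H hH.1 hH.2⟩))
  let Good : Submodule k A → Prop := fun V => gen V = V ∧ IsNilpotent V
  have gmul : ∀ V, Good V → V * V ≤ V := fun V h => by rw [← h.1]; exact aug_mul _
  have good : ∀ V, V * V ≤ V → IsNilpotent V → Good (gen V) := fun V h1 h2 => ⟨gg V, nil_of_le (gle V h1) h2⟩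
  have norm : ∀ V D, Good V → Good D → D ≤ V → D ≠ V → ∃ H ∈ W, aug k H ≤ V ∧ ¬ aug k H ≤ D ∧
      ∀ u ∈ H, ∀ d ∈ U D, u * d * u⁻¹ ∈ U D := fun V D hV hD hDV hne => by
    have hVV := gmul V hV
    have hDD := gmul D hD
    have ex : ∀ j, (∃ H ∈ W, aug k H ≤ D ⊔ V ^ (j + 1) ∧ ¬ aug k H ≤ D) ∨ ∃ H ∈ W, aug k H ≤ V ∧ ¬ aug k H ≤ D ∧
        ∀ u ∈ H, ∀ d ∈ U D, u * d * u⁻¹ ∈ U D := fun j => by
      induction j with
      | zero =>
        left
        by_contra hn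
        push Not at hn
        exact hne (le_antisymm hDV (hV.1 ▸ aug_sSup_le hDD fun H hH => hn H hH.1 (by simpa using hH.2.trans le_sup_right)))
      | succ j ih =>
        rcases ih with ⟨H, hH, h1, h2⟩ | ih
        swap
        · exact .inr ih
        by_cases hn : ∃ H ∈ W, aug k H ≤ D ⊔ V ^ (j + 1 + 1) ∧ ¬ aug k H ≤ D
        · exact .inl hn
        push Not at hn
        refine .inr ⟨H, hH, h1.trans (sup_le hDV (pow_le_self hVV j)), h2, fun u hu => ?_⟩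
        have : U D ≤ (U D).comap (MulAut.conj u).toMonoidHom := by
          refine sSup_le fun B hB => map_le_iff_le_comap.1 (le_sSup ⟨hc B hB.1 H hH u hu, hn _ (hc B hB.1 H hH u hu) ?_⟩)
          refine aug_le.2 ?_
          rintro _ ⟨b, hb, rfl⟩
          have e : (((MulAut.conj u).toMonoidHom b : Aˣ) : A) - 1 = ((b : A) - 1) +
              (((u : A) - 1) * ((b : A) - 1) - ((b : A) - 1) * ((u : A) - 1)) * (u⁻¹ : Aˣ) := by
            simp [mul_sub, sub_mul, mul_assoc]; abel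
          have m1 : (D ⊔ V ^ (j + 1 + 1)) * (D ⊔ V ^ (j + 1)) ≤ D ⊔ V ^ (j + 1 + 1) := by
            simp only [Submodule.mul_sup, Submodule.sup_mul, sup_le_iff]
            refine ⟨⟨hDD.trans le_sup_left, ((mul_le_mul_right hDV _).trans (pow_mul_le hVV _)).trans le_sup_right⟩,
              le_trans ?_ le_sup_right, ((mul_le_mul_right (pow_le_self hVV j) _).trans (pow_mul_le hVV _)).trans le_sup_right⟩
            rw [pow_succ' V (j + 1)]; exact mul_le_mul_left hDV _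
          have m2 : (D ⊔ V ^ (j + 1)) * D ≤ D ⊔ V ^ (j + 1 + 1) := by
            rw [Submodule.sup_mul, pow_succ V (j + 1)]
            exact sup_le_sup hDD (mul_le_mul_right hDV _)
          have m3 : D * (D ⊔ V ^ (j + 1)) ≤ D ⊔ V ^ (j + 1 + 1) := by
            rw [Submodule.mul_sup, pow_succ' V (j + 1)]
            exact sup_le_sup hDD (mul_le_mul_left hDV _)
          have b1 := hB.2 (mem_aug hb)
          have u1 := h1 (mem_aug hu)
          rw [e]
          exact Submodule.add_mem _ (Submodule.mem_sup_left b1) (mulr m1 (Submodule.sub_mem _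
            (m2 (Submodule.mul_mem_mul u1 b1)) (m3 (Submodule.mul_mem_mul b1 u1))) (h1 (mem_aug (H.inv_mem hu))))
        exact fun d hd => this hd
    obtain ⟨n, hn⟩ := hV.2
    rcases ex n with ⟨H, -, h1, h2⟩ | h
    · rw [pow_succ, hn, zero_mul, Submodule.zero_eq_bot, sup_bot_eq] at h1; exact (h2 h1).elim
    · exact h
  have infm : ∀ V1 V2, Good V1 → Good V2 → (V1 ⊓ V2) * (V1 ⊓ V2) ≤ V1 ⊓ V2 := fun V1 V2 h1 h2 =>
    le_inf ((mul_le_mul' inf_le_left inf_le_left).trans (gmul _ h1)) ((mul_le_mul' inf_le_right inf_le_right).trans (gmul _ h2))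
  have dir : ∀ D V1 V2, Good V1 → Good V2 → D ≤ gen (V1 ⊓ V2) → ∃ V, Good V ∧ V1 ≤ V ∧ V2 ≤ V := fun D => by
    induction D using WellFoundedGT.induction with
    | ind D ih =>
    intro V1 V2 h1 h2 hD
    rcases hD.lt_or_eq with hD | rfl
    · exact ih _ hD V1 V2 h1 h2 le_rfl
    have i := infm V1 V2 h1 h2
    have gD := good _ i (nil_of_le inf_le_left h1.2)
    have d := gle _ i
    by_cases e1 : gen (V1 ⊓ V2) = V1
    · exact ⟨V2, h2, e1 ▸ d.trans inf_le_right, le_rfl⟩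
    by_cases e2 : gen (V1 ⊓ V2) = V2
    · exact ⟨V1, h1, le_rfl, e2 ▸ d.trans inf_le_left⟩
    obtain ⟨H1, a1, b1, c1, d1⟩ := norm V1 _ h1 gD (d.trans inf_le_left) e1
    obtain ⟨H2, a2, b2, c2, d2⟩ := norm V2 _ h2 gD (d.trans inf_le_right) e2
    set D := gen (V1 ⊓ V2)
    have un : Uni k (U D ⊔ (H1 ⊔ H2)) := by
      refine uni_sup (gD.1.symm ▸ gD.2 : IsNilpotent (gen D)) (hWW H1 a1 H2 a2) fun u hu => ?_
      have nn : ∀ H : Subgroup Aˣ, (∀ u ∈ H, ∀ d ∈ U D, u * d * u⁻¹ ∈ U D) → H ≤ normalizer (U D : Set Aˣ) :=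
        fun H h u hu => mem_normalizer_iff.2 fun d => ⟨h u hu d, fun e => by simpa [mul_assoc] using h _ (H.inv_mem hu) _ e⟩
      exact fun d hd => (mem_normalizer_iff.1 (sup_le (nn _ d1) (nn _ d2) hu) d).1 hd
    have g3 := good _ (aug_mul _) un
    set V3 := gen (aug k (U D ⊔ (H1 ⊔ H2)))
    have D3 : D ≤ V3 := by
      rw [← gD.1, ← gg D]; exact gmono _ _ (aug_mono le_sup_left)
    have lt : ∀ V V', D ≤ V → D ≤ V' → ∀ H ∈ W, aug k H ≤ V → aug k H ≤ V' → ¬ aug k H ≤ D → D < gen (V ⊓ V') :=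
      fun V V' x y H a b c d => lt_of_le_of_ne (gD.1 ▸ gmono _ _ (le_inf x y)) fun e => d (e ▸ leg _ H a (le_inf b c))
    obtain ⟨V4, g4, x1, x2⟩ := ih _ (lt V1 V3 (d.trans inf_le_left) D3 H1 a1 b1
      (leg _ H1 a1 (aug_mono (le_sup_left.trans le_sup_right))) c1) V1 V3 h1 g3 le_rfl
    obtain ⟨V5, g5, y1, y2⟩ := ih _ (lt V4 V2 (D3.trans x2) (d.trans inf_le_right) H2 a2
      ((leg _ H2 a2 (aug_mono (le_sup_right.trans le_sup_right))).trans x2) b2 c2) V4 V2 g4 h2 le_rfl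
    exact ⟨V5, g5, x1.trans y1, y2⟩
  obtain ⟨V, hV, mx⟩ := set_has_maximal_iff_noetherian.2 (inferInstance : IsNoetherian k A) {V | Good V}
    ⟨_, good ⊥ (by simp) ⟨1, by simp⟩⟩
  refine nil_of_le (aug_sSup_le (gmul V hV) fun H hH => ?_) hV.2
  obtain ⟨V', g, a, b⟩ := dir ⊥ V _ hV (good _ (aug_mul H) (Uni.mono le_sup_left (hWW H hH H hH))) bot_le
  obtain rfl : V = V' := (eq_or_lt_of_le a).resolve_right (mx V' g)
  exact (leg _ H hH le_rfl).trans b

theorem uni_iff {M : Type*} [AddCommGroup M] [Module k M] {H : Subgroup (LinearMap.GeneralLinearGroup k M)} :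
    IsUnipotentOn H ↔ Uni k H := by
  refine exists_congr fun n => ?_
  have e0 : ∀ l : List (LinearMap.GeneralLinearGroup k M), (List.map (fun g : M →ₗ[k] M => g - 1) (do
      let a ← l
      pure (a : M →ₗ[k] M))) = l.map fun g => g.val - 1 := fun l => by
    induction l with
    | nil => rfl
    | cons a l ih => simpa using ih
  simp only [e0]
  rw [aug, Submodule.span_pow, Submodule.zero_eq_bot, Submodule.span_eq_bot]
  constructor
  · intro h x hx
    obtain ⟨f, rfl⟩ := Set.mem_pow.1 hx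
    choose g hg e using fun i => (f i).2
    have := h (List.ofFn g) (by simpa [List.mem_ofFn] using hg) (by simp)
    rw [List.map_ofFn] at this
    rw [← this]
    exact congrArg _ (congrArg _ (funext fun i => (e i).symm))
  · rintro h l hl rfl
    refine h _ (Set.mem_pow.2 ⟨fun i => ⟨_, l.get i, hl _ (List.get_mem ..), rfl⟩, ?_⟩)
    conv_rhs => rw [← List.ofFn_get l, List.map_ofFn]
    rfl

end alg

end CfsgH9.QP
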