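import Cfsg.Agent.H9.QP1

/-! Two quadratic elements over an infinite field, and the nilpotent case. -/

set_option autoImplicit false

namespace CfsgH9.QP

open Subgroup Cfsg Polynomial
open scoped commutatorElement

section gen
variable {k : Type*} [Field k]

theorem finite_not_inj {W Z : Type*} [AddCommGroup W] [Module k W] [FiniteDimensional k W] [AddCommGroup Z] [Module k Z]
    (M0 M1 : W →ₗ[k] Z) (h : Function.Injective M0) : {s : k | ¬ Function.Injective (M0 + s • M1)}.Finite := by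
  obtain ⟨L, hL⟩ := M0.exists_leftInverse_of_injective (LinearMap.ker_eq_bot.2 h)
  refine ((Module.End.finite_hasEigenvalue (L ∘ₗ M1)).image fun μ => -μ⁻¹).subset fun s hs => ?_
  obtain ⟨w, hw, h0⟩ : ∃ w, (M0 + s • M1) w = 0 ∧ w ≠ 0 := by
    by_contra hn
    push Not at hn
    exact hs ((injective_iff_map_eq_zero _).2 hn)
  have e : w + s • L (M1 w) = 0 := by
    have := congrArg L hw
    rwa [LinearMap.add_apply, map_add, LinearMap.smul_apply, map_smul, map_zero, show L (M0 w) = w from LinearMap.congr_fun hL w] at this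
  have s0 : s ≠ 0 := by rintro rfl; simp [h0] at e
  refine ⟨-s⁻¹, Module.End.hasEigenvalue_of_hasEigenvector (x := w) ⟨Module.End.mem_eigenspace_iff.2 ?_, h0⟩, by simp⟩
  rw [LinearMap.comp_apply, ← smul_right_inj s0, smul_smul, mul_neg, mul_inv_cancel₀ s0, neg_smul, one_smul]
  exact eq_neg_of_add_eq_zero_right e

/-- Predicates holding at almost all points of each line through a good point. -/
def LCof (k : Type*) [Field k] {V : Type*} [AddCommGroup V] [Module k V] (G : V → Prop) : Prop :=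
  ∀ x y, G x → {s : k | ¬ G (x + s • y)}.Finite

variable {V : Type*} [AddCommGroup V] [Module k V]

theorem LCof.and [Infinite k] {G G' : V → Prop} (h : LCof k G ∧ ∃ x, G x) (h' : LCof k G' ∧ ∃ x, G' x) :
    LCof k (fun x => G x ∧ G' x) ∧ ∃ x, G x ∧ G' x := by
  refine ⟨fun x y hx => ((h.1 x y hx.1).union (h'.1 x y hx.2)).subset fun s hs => not_and_or.1 hs, ?_⟩
  obtain ⟨x, hx⟩ := h.2
  obtain ⟨y, hy⟩ := h'.2
  obtain ⟨s, hs⟩ := ((h.1 x (y - x) hx).union ((h'.1 y (x - y) hy).image fun s => 1 - s)).exists_notMem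
  simp only [Set.mem_union, Set.mem_setOf_eq, not_or, not_not, Set.mem_image, not_exists, not_and] at hs
  refine ⟨_, hs.1, ?_⟩
  by_contra hn
  refine hs.2 (1 - s) ?_ (by ring)
  rwa [show y + (1 - s) • (x - y) = x + s • (y - x) by module]

theorem LCof.all [Infinite k] {G : ℕ → V → Prop} (n : ℕ) (h : ∀ i < n, LCof k (G i) ∧ ∃ x, G i x) :
    LCof k (fun x => ∀ i < n, G i x) ∧ ∃ x, ∀ i < n, G i x := by
  induction n with
  | zero => exact ⟨fun x y _ => by simp, 0, by simp⟩
  | succ n ih => simpa only [Nat.forall_lt_succ_right] using LCof.and (ih fun i hi => h i (by omega)) (h n (by omega))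

/-- Polynomials of degree `< D` with the parity of `D - 1`. -/
def PD (k : Type*) [Field k] (D : ℕ) : Submodule k k[X] where
  carrier := {A | ∀ i, A.coeff i ≠ 0 → i < D ∧ (i + D) % 2 = 1}
  zero_mem' := by simp
  add_mem' := fun {a b} ha hb i hi => by
    by_cases h : a.coeff i = 0
    · exact hb i (by simpa [h] using hi)
    · exact ha i h
  smul_mem' := fun c a ha i hi => ha i (by simp at hi; exact hi.2)

theorem PD_le (D : ℕ) : PD k D ≤ degreeLT k D := fun A hA => by
  rw [mem_degreeLT, degree_lt_iff_coeff_zero]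
  intro m hm
  by_contra h
  have := (hA m h).1
  omega

instance (D : ℕ) : FiniteDimensional k (PD k D) := Submodule.finiteDimensional_of_le (PD_le D)

theorem X_mul_PD {D : ℕ} {A : k[X]} (h : A ∈ PD k D) : X * A ∈ PD k (D + 1) := fun i hi => by
  rcases i with _ | i
  · simp at hi
  · rw [coeff_X_mul] at hi
    have := h i hi
    omega

theorem PD_mono {D : ℕ} {A : k[X]} (h : A ∈ PD k D) : A ∈ PD k (D + 2) := fun i hi => by
  have := h i hi
  omega

/-- The `i`-th genericity condition. -/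
def SG (i D : ℕ) (A C : k[X]) : Prop :=
  ∀ P ∈ PD k i, ∀ Q ∈ PD k (i + 1), P * A + Q * C ∈ degreeLT k (D - (i + 1)) → P = 0 ∧ Q = 0

theorem euclid {P : k[X] → k[X] → Prop} (h0 : ∀ c, P (C c) 0) (hs : ∀ A B, P A B → P B A)
    (h1 : ∀ A B (κ : k), P A B → P (A + κ • (X * B)) B) (D : ℕ) : ∀ A B, A ∈ PD k (D + 1) → B ∈ PD k D →
    (A + B).coeff 0 ≠ 0 → (∀ i, i + 1 < D → SG i D A B) → P A B := by
  induction D with
  | zero =>
    intro A B hA hB _ _
    obtain rfl : B = 0 := by ext i; by_contra h; have := hB i h; omega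
    have : A = C (A.coeff 0) := by
      ext i
      rcases i with _ | i
      · simp
      · rw [coeff_C_succ]; by_contra h; have := hA _ h; omega
    rw [this]; exact h0 _
  | succ D ih =>
    intro A B hA hB hc hS
    have hb : B.coeff D ≠ 0 := fun e => by
      rcases D with _ | D
      · have : A.coeff 0 = 0 := by by_contra h; have := hA _ h; omega
        simp [this, e] at hc
      · refine one_ne_zero (hS 0 (by omega) 0 (Submodule.zero_mem _) 1 (fun i hi => ?_) ?_).2
        · rw [coeff_one] at hi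
          have : i = 0 := by simpa using hi
          omega
        · rw [mem_degreeLT, degree_lt_iff_coeff_zero, zero_mul, one_mul, zero_add B]
          intro m hm
          by_contra h
          have := hB m h
          obtain rfl : m = D + 1 := by simp at hm; omega
          exact h e
    set κ := A.coeff (D + 1) / B.coeff D
    have hR : A - κ • (X * B) ∈ PD k D := fun i hi => by
      have := Submodule.sub_mem _ hA (Submodule.smul_mem _ κ (X_mul_PD hB)) i hi
      have : i ≠ D + 1 := by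
        rintro rfl
        exact hi (by simp [κ, coeff_X_mul, div_mul_cancel₀ _ hb])
      omega
    have := h1 _ _ κ (hs _ _ (ih B _ hB hR (by simpa [add_comm] using hc) fun i hi P' hP Q hQ h => ?_))
    · simpa using this
    have := hS (i + 1) (by omega) Q hQ (P' - κ • (X * Q)) (Submodule.sub_mem _ (PD_mono hP) (Submodule.smul_mem _ _ (X_mul_PD hQ)))
      (by rwa [show D + 1 - (i + 1 + 1) = D - (i + 1) by omega, show Q * A + (P' - κ • (X * Q)) * B =
        P' * B + Q * (A - κ • (X * B)) by simp only [smul_eq_C_mul]; ring])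
    obtain ⟨rfl, e⟩ := this
    simpa using e

theorem SG_iff (i D : ℕ) (A B : k[X]) : SG i D A B ↔ Function.Injective ((degreeLT k (D - (i + 1))).mkQ ∘ₗ
    ((LinearMap.mulRight k A ∘ₗ (PD k i).subtype).coprod (LinearMap.mulRight k B ∘ₗ (PD k (i + 1)).subtype))) := by
  rw [injective_iff_map_eq_zero]
  simp only [LinearMap.comp_apply, Submodule.mkQ_apply, Submodule.Quotient.mk_eq_zero, LinearMap.coprod_apply,
    LinearMap.mulRight_apply, Submodule.subtype_apply, Prod.forall, Subtype.forall, Prod.mk_eq_zero, Submodule.mk_eq_zero]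
  rfl

theorem SG_lcof (i D : ℕ) (A : k[X]) (φ : V →ₗ[k] k[X]) : LCof k fun x => SG i D A (φ x) := fun x y hx => by
  have := finite_not_inj _ ((degreeLT k (D - (i + 1))).mkQ ∘ₗ
    ((0 : PD k i →ₗ[k] k[X]).coprod (LinearMap.mulRight k (φ y) ∘ₗ (PD k (i + 1)).subtype))) ((SG_iff ..).1 hx)
  refine this.subset fun s hs h => hs ((SG_iff ..).2 ?_)
  convert h using 2
  ext <;> simp [mul_add]

theorem SG_pow {i D e : ℕ} {A : k[X]} (hA : A.natDegree = D) (h0 : A ≠ 0) (h1 : i + e < D)
    (h2 : D ≤ i + 1 + e ∨ D = i + 2 + e ∧ i % 2 = 1) : SG i D A (X ^ e) := fun P hP Q hQ h => by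
  rw [mem_degreeLT, degree_lt_iff_coeff_zero] at h
  obtain rfl : P = 0 := by
    by_contra hn
    have := h (P.natDegree + D) (by omega)
    rw [coeff_add, coeff_mul_X_pow', ← hA, coeff_mul_degree_add_degree, if_pos (by omega)] at this
    have q : Q.coeff (P.natDegree + A.natDegree - e) = 0 := by
      by_contra k'
      have := hQ _ k'
      omega
    rw [q, add_zero] at this
    exact mul_ne_zero (leadingCoeff_ne_zero.2 hn) (leadingCoeff_ne_zero.2 h0) this
  refine ⟨rfl, ?_⟩
  ext j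
  by_contra k'
  have := hQ j k'
  exact k' (by simpa using h (j + e) (by omega))

theorem generic [Infinite k] (h2 : (2 : k) ≠ 0) {μ : k[X]} (hμ : μ.Monic) {G : k[X] → k[X] → Prop} (g0 : ∀ c, G (C c) 0)
    (g1 : ∀ a c (κ : k), G a c → G (a + κ • (X * c)) c) (g2 : ∀ a c (κ : k), G a c → G a (c + κ • a))
    {T : Submodule k k[X]} (hT : ∀ a, G a μ → a ^ 2 ∈ T) (hT' : ∀ a, μ * a ∈ T) : T = ⊤ := by
  set n := μ.natDegree
  let P : k[X] → k[X] → Prop := fun A B => ∃ a c, A = expand k 2 a ∧ B = X * expand k 2 c ∧ G a c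
  have eu := euclid (P := fun A B => P A B ∨ P B A) (fun c => .inl ⟨C c, 0, by simp, by simp, g0 c⟩)
    (fun _ _ => Or.symm) (by
      rintro _ _ κ (⟨a, c, rfl, rfl, h⟩ | ⟨a, c, rfl, rfl, h⟩)
      · exact .inl ⟨_, _, by simp only [smul_eq_C_mul, map_add, map_mul, expand_C, expand_X]; ring, rfl, g1 a c κ h⟩
      · exact .inr ⟨_, _, rfl, by simp [smul_eq_C_mul]; ring, g2 a c κ h⟩) (2 * n + 1)
  have pe : ∀ m, ∀ a ∈ degreeLT k (m + 1), expand k 2 a ∈ PD k (2 * m + 1) := fun m a ha i hi => by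
    rw [coeff_expand two_pos] at hi
    rw [mem_degreeLT, degree_lt_iff_coeff_zero] at ha
    split_ifs at hi with h
    · have : ¬ m + 1 ≤ i / 2 := fun e => hi (ha _ e)
      omega
    · exact (hi rfl).elim
  let φ : degreeLT k (n + 1) →ₗ[k] k[X] := (expand k 2).toLinearMap ∘ₗ (degreeLT k (n + 1)).subtype
  have e0 : expand k 2 μ ≠ 0 := (expand_ne_zero two_pos).2 hμ.ne_zero
  obtain ⟨lc, a0, ha0⟩ := LCof.and (LCof.all (k := k) (G := fun i x => SG i (2 * n + 1) (X * expand k 2 μ) (φ x)) (2 * n)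
    fun i hi => ⟨SG_lcof _ _ _ _, ⟨X ^ (n - (i + 1) / 2), by
      rw [mem_degreeLT, degree_X_pow]; exact_mod_cast (by omega)⟩, by
      have := SG_pow (i := i) (D := 2 * n + 1) (e := 2 * (n - (i + 1) / 2)) (A := X * expand k 2 μ)
        (by rw [natDegree_X_mul e0, natDegree_expand]; omega) (mul_ne_zero X_ne_zero e0) (by omega) (by omega)
      simpa [φ, pow_mul] using this⟩)
    (G' := fun x => x.1.coeff 0 ≠ 0) ⟨fun x y hx => (Set.finite_singleton (-x.1.coeff 0 / y.1.coeff 0)).subset fun s hs => by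
      have hs' : x.1.coeff 0 + s * y.1.coeff 0 = 0 := by simpa using hs
      have : y.1.coeff 0 ≠ 0 := fun e => hx (by simpa [e] using hs')
      rw [Set.mem_singleton_iff, eq_div_iff this]; linear_combination hs',
      ⟨1, by rw [mem_degreeLT, degree_one]; exact_mod_cast (by omega)⟩, by simp⟩
  have key : ∀ x : degreeLT k (n + 1), ((∀ i < 2 * n, SG i (2 * n + 1) (X * expand k 2 μ) (φ x)) ∧ x.1.coeff 0 ≠ 0) →
      x.1 ^ 2 ∈ T := fun x hx => by
    rcases eu _ (φ x) (X_mul_PD (pe n μ (by rw [mem_degreeLT]; exact degree_le_natDegree.trans_lt (by exact_mod_cast by omega))))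
      (pe n _ x.2) (by simpa [φ, coeff_expand] using hx.2) (fun i hi => hx.1 i (by omega)) with ⟨a, c, e1, e2, -⟩ | ⟨a, c, e1, e2, h⟩
    · have := congrArg (coeff · 0) e2
      exact (hx.2 (by simpa [φ, coeff_expand] using this)).elim
    · obtain rfl := expand_injective two_pos (mul_left_cancel₀ X_ne_zero e2)
      obtain rfl : x.1 = a := expand_injective two_pos e1
      exact hT _ h
  have sq : ∀ x : degreeLT k (n + 1), x.1 ^ 2 ∈ T := fun x => by
    obtain ⟨s, hs⟩ := ((lc a0 x ha0).insert 0).exists_notMem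
    obtain ⟨t, ht⟩ := (((lc a0 x ha0).insert 0).insert s).exists_notMem
    simp only [Set.mem_insert_iff, Set.mem_setOf_eq, not_or, not_not] at hs ht
    have := T.smul_mem (s * t * (s - t))⁻¹ (T.sub_mem (T.smul_mem t (T.sub_mem (key _ hs.2) (key _ ha0)))
      (T.smul_mem s (T.sub_mem (key _ ht.2.2) (key _ ha0))))
    convert this using 1
    rw [eq_inv_smul_iff₀ (mul_ne_zero (mul_ne_zero hs.1 ht.2.1) (sub_ne_zero.2 (Ne.symm ht.1)))]
    simp only [Submodule.coe_add, Submodule.coe_smul, smul_eq_C_mul, map_mul, map_sub]; ring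
  refine eq_top_iff.2 fun g _ => ?_
  rw [← modByMonic_add_div g μ]
  refine T.add_mem ?_ (hT' _)
  have m : g %ₘ μ ∈ degreeLT k (n + 1) := by
    rw [mem_degreeLT]
    exact (degree_modByMonic_lt g hμ).trans_le (degree_le_natDegree.trans (by exact_mod_cast by omega))
  have o : (1 : k[X]) ∈ degreeLT k (n + 1) := by rw [mem_degreeLT, degree_one]; exact_mod_cast (by omega)
  have := T.smul_mem (2 : k)⁻¹ (T.sub_mem (T.sub_mem (sq ⟨_, Submodule.add_mem _ m o⟩) (sq ⟨_, m⟩)) (sq ⟨_, o⟩))
  convert this using 1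
  rw [eq_inv_smul_iff₀ h2, two_smul]; ring

end gen

section alg
variable {k : Type*} [Field k] {A : Type*} [Ring A] [Algebra k A]

/-- `1 + a` lies in `H`. -/
def In (H : Subgroup Aˣ) (a : A) : Prop := ∃ g ∈ H, (g : A) = 1 + a

theorem In.zero (H : Subgroup Aˣ) : In H 0 := ⟨1, H.one_mem, by simp⟩

theorem In.mul {H : Subgroup Aˣ} {a b : A} (ha : In H a) (hb : In H b) : In H (a + b + a * b) := by
  obtain ⟨g, hg, e⟩ := ha
  obtain ⟨h, hh, f⟩ := hb
  exact ⟨g * h, H.mul_mem hg hh, by rw [Units.val_mul, e, f]; noncomm_ring⟩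

theorem In.add {H : Subgroup Aˣ} {a b : A} (ha : In H a) (hb : In H b) (h : a * b = 0) : In H (a + b) := by
  simpa [h] using ha.mul hb

theorem In.mono {H K : Subgroup Aˣ} (h : H ≤ K) {a : A} (ha : In H a) : In K a :=
  let ⟨g, hg, e⟩ := ha; ⟨g, h hg, e⟩

theorem In.conj {H : Subgroup Aˣ} {a : A} (ha : In H a) {g : Aˣ} (hg : g ∈ H) : In H (g * a * (g⁻¹ : Aˣ)) := by
  obtain ⟨h, hh, f⟩ := ha
  exact ⟨g * h * g⁻¹, H.mul_mem (H.mul_mem hg hh) (H.inv_mem hg), by simp [f, mul_add, add_mul]⟩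

theorem inv_val {g : Aˣ} {b : A} (e : (g : A) = 1 + b) (hb : b * b = 0) : ((g⁻¹ : Aˣ) : A) = 1 - b :=
  Units.inv_eq_of_mul_eq_one_right (by rw [e, mul_sub, mul_one, add_mul, hb, one_mul, add_zero, add_sub_cancel_right])

theorem In.conj' {H : Subgroup Aˣ} {a b : A} (ha : In H a) (hb : In H b) (h : b * b = 0) : In H ((1 + b) * a * (1 - b)) := by
  obtain ⟨g, hg, e⟩ := hb
  rw [← inv_val e h, ← e]; exact ha.conj hg

theorem In.neg {H : Subgroup Aˣ} {b : A} (hb : In H b) (h : b * b = 0) : In H (-b) := by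
  obtain ⟨g, hg, e⟩ := hb
  exact ⟨g⁻¹, H.inv_mem hg, by rw [inv_val e h, sub_eq_add_neg]⟩

/-- The unit `1 + b`. -/
def sq (b : A) (h : b * b = 0) : Aˣ := ⟨1 + b, 1 - b, by rw [mul_sub, mul_one, add_mul, h, one_mul, add_zero, add_sub_cancel_right],
  by rw [sub_mul, one_mul, mul_add, h, mul_one, add_zero, add_sub_cancel_right]⟩

theorem comm_ev {δ x : A} (h : δ * x = x * δ) (p : k[X]) : aeval δ p * x = x * aeval δ p :=
  (Algebra.commute_of_mem_adjoin_singleton_of_commute (aeval_mem_adjoin_singleton k δ) (show Commute x δ from h.symm)).symm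

/-- Two elements of square zero. -/
structure TQ (α β δ : A) : Prop where
  aa : α * α = 0
  bb : β * β = 0
  d : δ = α * β + β * α

namespace TQ
variable {α β δ : A}

theorem symm (h : TQ α β δ) : TQ β α δ := ⟨h.bb, h.aa, h.d.trans (add_comm _ _)⟩
theorem aa' (h : TQ α β δ) (x : A) : α * (α * x) = 0 := by rw [← mul_assoc, h.aa, zero_mul]
theorem da (h : TQ α β δ) : δ * α = α * β * α := by simp [h.d, add_mul, mul_assoc, h.aa]
theorem ad (h : TQ α β δ) : α * δ = α * β * α := by simp [h.d, mul_add, mul_assoc, h.aa']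
theorem cm (h : TQ α β δ) : δ * α = α * δ := h.da.trans h.ad.symm
theorem eva (h : TQ α β δ) (p : k[X]) : aeval δ p * α = α * aeval δ p := comm_ev h.cm p
theorem evsq (h : TQ α β δ) (p q : k[X]) : aeval δ p * α * (aeval δ q * α) = 0 := by
  rw [h.eva q, mul_assoc, h.aa', mul_zero]

theorem conjL (h : TQ α β δ) (κ : k) (p q r : k[X]) :
    (1 + κ • α) * (aeval δ p * α + aeval δ q * (β * α - α * β) + aeval δ r * β) * (1 - κ • α) =
      aeval δ (p + (2 * κ) • (X * q) - κ ^ 2 • (X * r)) * α + aeval δ (q - κ • r) * (β * α - α * β) + aeval δ r * β := by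
  have c : ∀ (p : k[X]) x, (1 + κ • α) * (aeval δ p * x) = aeval δ p * ((1 + κ • α) * x) := fun p x => by
    rw [← mul_assoc, ← mul_assoc, comm_ev (x := 1 + κ • α) (by simp [mul_add, add_mul, h.cm])]
  have e : ∀ p : k[X], aeval δ (X * p) * α = aeval δ p * (α * (β * α)) := fun p => by
    rw [mul_comm, map_mul, aeval_X, mul_assoc, h.da, mul_assoc]
  rw [mul_add (1 + κ • α), mul_add (1 + κ • α), c, c, c]
  simp only [map_add, map_sub, map_smul, add_mul, sub_mul, smul_mul_assoc, e]
  simp only [mul_add, add_mul, mul_sub, sub_mul, mul_assoc, h.aa, h.aa', smul_mul_assoc, mul_smul_comm, one_mul, mul_one,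
    mul_zero, smul_zero, smul_sub, smul_add, smul_smul]
  module

/-- The polynomials `p` with `1 + κ p(δ) α ∈ H`. -/
def TT (h : TQ α β δ) (k : Type*) [Field k] [Algebra k A] (H : Subgroup Aˣ) : Submodule k k[X] where
  carrier := {p | ∀ κ : k, In H (aeval δ (κ • p) * α)}
  zero_mem' := fun κ => by simpa using In.zero H
  add_mem' := fun {a b} ha hb κ => by simpa [add_mul] using (ha κ).add (hb κ) (h.evsq _ _)
  smul_mem' := fun c a ha κ => by simpa only [smul_smul] using ha (κ * c)

theorem univ_inf [Infinite k] (h : TQ α β δ) (h2 : (2 : k) ≠ 0) (hd : IsIntegral k δ) {H : Subgroup Aˣ}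
    (ha : ∀ c : k, In H (c • α)) (hb : ∀ c : k, In H (c • β)) (p : k[X]) : In H (aeval δ p * α) := by
  obtain ⟨μ, hμ, h0⟩ := hd
  replace h0 : aeval δ μ = 0 := h0
  have := generic h2 hμ (G := fun a c => ∀ κ : k, In H (aeval δ (κ • a ^ 2) * α + aeval δ (κ • (a * c)) * (β * α - α * β) +
    aeval δ (-(κ • (X * c ^ 2))) * β)) (T := h.TT k H) (fun c κ => by
      simpa [Algebra.algebraMap_eq_smul_one, smul_smul, _root_.smul_pow] using ha (κ * c ^ 2))
    (fun a c κ g t => by
      have := (g t).conj' (ha κ) (by simp [h.aa])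
      rw [h.conjL] at this
      convert this using 5 <;> simp only [smul_eq_C_mul, C_mul, C_pow, map_ofNat] <;> ring)
    (fun a c κ g t => by
      have := (g t).conj' (hb κ) (by simp [h.bb])
      have e : ∀ p q r : k[X], aeval δ p * α + aeval δ q * (β * α - α * β) + aeval δ r * β =
          aeval δ r * β + aeval δ (-q) * (α * β - β * α) + aeval δ p * α := fun p q r => by
        rw [map_neg]; noncomm_ring
      rw [e, h.symm.conjL] at this
      rw [e]
      convert this using 5 <;> simp only [smul_eq_C_mul, C_mul, C_pow, map_ofNat] <;> ring)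
    (fun a g κ => by simpa [h0] using g κ) (fun a κ => by simpa [h0] using In.zero H)
  simpa using (this ▸ Submodule.mem_top : p ∈ h.TT k H) 1

theorem exists_nil (h : TQ α β δ) (hd : IsNilpotent δ) : ∃ m : Submodule k A, m * m ≤ m ∧ IsNilpotent m ∧ α ∈ m ∧ β ∈ m ∧
    ∀ T : Submodule k A, T * T ≤ T → α ∈ T → β ∈ T → m ≤ T := by
  set V := Submodule.span k {α, β}
  set D := Submodule.span k {δ}
  have mV : ∀ x ∈ ({α, β} : Set A), x ∈ V := fun x hx => Submodule.subset_span hx
  have h3 : V * V * V ≤ D * V := by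
    simp only [V, D, Submodule.span_mul_span, Submodule.span_le]
    rintro _ ⟨_, ⟨x, hx, y, hy, rfl⟩, z, hz, rfl⟩
    rcases hx with rfl | rfl <;> rcases hy with rfl | rfl <;> rcases hz with rfl | rfl <;>
      simp only [h.aa, h.bb, zero_mul, SetLike.mem_coe, Submodule.zero_mem, ← h.da, ← h.symm.da] <;>
      first
        | exact Submodule.subset_span ⟨δ, rfl, _, by simp, rfl⟩
        | simp [mul_assoc, h.aa, h.bb]
  have hc : V * D ≤ D * V := by
    simp only [V, D, Submodule.span_mul_span, Submodule.span_le]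
    rintro _ ⟨x, hx, _, rfl, rfl⟩
    refine Submodule.subset_span ⟨_, rfl, x, hx, ?_⟩
    rcases hx with rfl | rfl
    exacts [h.cm, h.symm.cm]
  have hj : ∀ j, V ^ (2 * j + 1) ≤ D ^ j * V := fun j => by
    induction j with
    | zero => simp
    | succ j ih =>
      rw [show 2 * (j + 1) + 1 = 2 * j + 1 + 1 + 1 by ring, pow_succ, pow_succ, pow_succ D, mul_assoc (D ^ j)]
      refine (mul_le_mul_left (mul_le_mul_left ih _) _).trans ?_
      rw [mul_assoc (D ^ j), mul_assoc (D ^ j)]
      exact mul_le_mul_right h3 _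
  obtain ⟨n, hn⟩ := hd
  have hV : V ^ (2 * n + 1) = 0 := le_bot_iff.1 ((hj n).trans (by simp [D, Submodule.span_pow, hn]))
  have pw : ∀ n, (⨆ j, V ^ (j + 1)) ^ n ≤ ⨆ j, V ^ (j + n) := fun n => by
    induction n with
    | zero => exact le_iSup_of_le 0 (by simp)
    | succ n ih =>
      rw [pow_succ]
      refine (mul_le_mul_left ih _).trans ?_
      simp only [Submodule.iSup_mul, Submodule.mul_iSup, iSup_le_iff, ← pow_add]
      exact fun i j => le_iSup_of_le (i + j) (le_of_eq (by congr 1; ring))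
  refine ⟨⨆ j, V ^ (j + 1), ?_, ⟨2 * n + 1, le_bot_iff.1 ((pw _).trans (iSup_le fun j => ?_))⟩,
    le_iSup (fun j => V ^ (j + 1)) 0 (by simpa using mV α (by simp)),
    le_iSup (fun j => V ^ (j + 1)) 0 (by simpa using mV β (by simp)), fun T hT a b => iSup_le fun j => ?_⟩
  · rw [← pow_two]
    exact (pw 2).trans (iSup_le fun j => le_iSup_of_le (j + 1) le_rfl)
  · rw [pow_add, hV, mul_zero]; rfl
  · have : V ≤ T := Submodule.span_le.2 (by rintro _ (rfl | rfl) <;> assumption)
    exact (pow_le_pow_left' this _).trans (pow_le_self hT j)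

theorem ev_mem {m : Submodule k A} (hm : m * m ≤ m) (hδ : δ ∈ m) {x : A} (hx : x ∈ m) (p : k[X]) : aeval δ p * x ∈ m := by
  induction p using Polynomial.induction_on with
  | C a => simpa [Algebra.algebraMap_eq_smul_one] using m.smul_mem a hx
  | add p q hp hq => simpa [add_mul] using m.add_mem hp hq
  | monomial n a ih =>
    rw [pow_succ, ← mul_assoc, mul_comm _ X, map_mul, aeval_X, mul_assoc]
    exact hm (Submodule.mul_mem_mul hδ ih)

theorem exists_inv (hd : IsNilpotent δ) {c : k} (hc : c ≠ 0) : ∃ r : k[X], aeval δ (r * (X + C c)) = 1 := by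
  obtain ⟨n, hn⟩ := hd
  have : IsCoprime (X + C c : k[X]) (X ^ n) :=
    IsCoprime.pow_right ⟨C c⁻¹, -C c⁻¹, by rw [mul_add, ← map_mul, inv_mul_cancel₀ hc]; simp⟩
  obtain ⟨a, b, e⟩ := this
  exact ⟨a, by simpa [hn] using congrArg (aeval δ) e⟩

theorem in_comm (h : TQ α β δ) (h2 : (2 : k) ≠ 0) (hd : IsNilpotent δ) {Y : Subgroup Aˣ}
    (ha : ∀ p : k[X], In Y (aeval δ p * α)) (hb : ∀ p : k[X], In Y (aeval δ p * β)) (q : k[X]) :
    In ⁅Y, Y⁆ (aeval δ (X * q) * α) := by
  obtain ⟨r, hr⟩ := exists_inv hd (one_ne_zero (α := k))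
  obtain ⟨s, hs⟩ := exists_inv hd h2
  obtain ⟨g, hg, e⟩ := ha (s * q)
  obtain ⟨u, hu, eu⟩ := ha 1
  obtain ⟨v, hv, ev⟩ := hb 1
  obtain ⟨w, hw, ew⟩ := hb (-r)
  have cj : ∀ p : k[X], ((w * u * v : Aˣ) : A) * (aeval δ p * α) * ((w * u * v)⁻¹ : Aˣ) =
      aeval δ ((X + 1) ^ 2 * p) * α := fun p => by
    have c1 : ∀ x, δ * x = x * δ → ∀ y, x * (aeval δ r * y) = aeval δ r * (x * y) := fun x hx y => by
      rw [← mul_assoc, ← comm_ev hx, mul_assoc]
    have hr' : aeval δ r * (δ + 1) = 1 := by simpa using hr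
    have f1 : aeval δ r * (β * α + β * (α * (β * α))) = β * α := by
      have := congrArg (· * (β * α)) hr'
      simpa [h.d, mul_add, add_mul, mul_assoc, h.symm.aa', add_comm] using this
    have f2 : aeval δ r * (α * β + α * (β * (α * β))) = α * β := by
      have := congrArg (· * (α * β)) hr'
      simpa [h.d, mul_add, add_mul, mul_assoc, h.aa', add_comm] using this
    have g1 : ((w * u * v : Aˣ) : A) * α = (δ + 1) * α := by
      rw [Units.val_mul, Units.val_mul, eu, ev, ew, add_mul δ, h.da]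
      rw [mul_add] at f1
      simp only [map_one, one_mul, map_neg, mul_add, add_mul, mul_assoc, h.aa, h.symm.aa', mul_zero, neg_mul, mul_one]
      linear_combination (norm := noncomm_ring) -f1
    have g2 : α * ((w * u * v)⁻¹ : Aˣ) = (δ + 1) * α := by
      rw [mul_inv_rev, mul_inv_rev, Units.val_mul, Units.val_mul,
        inv_val eu (h.evsq _ _), inv_val ev (h.symm.evsq _ _), inv_val ew (h.symm.evsq _ _), add_mul δ, h.da]
      rw [mul_add] at f2
      simp only [map_one, one_mul, map_neg, mul_sub, sub_mul, mul_assoc, h.aa, h.aa', h.bb, mul_zero, neg_mul, mul_one,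
        mul_neg, c1 α h.cm, c1 β h.symm.cm]
      linear_combination (norm := noncomm_ring) f2
    have g3 : δ * ((w * u * v : Aˣ) : A) = (w * u * v : Aˣ) * δ := by
      rw [Units.val_mul, Units.val_mul, eu, ev, ew]
      have o : ∀ x, δ * x = x * δ → ∀ p : k[X], Commute δ (1 + aeval δ p * x) := fun x hx p =>
        (Commute.one_right _).add_right ((show Commute δ _ from (comm_ev rfl p).symm).mul_right hx)
      exact ((o β h.symm.cm _).mul_right (o α h.cm _)).mul_right (o β h.symm.cm _)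
    rw [← mul_assoc, ← comm_ev g3, mul_assoc (aeval δ p), g1, mul_assoc, mul_assoc, g2, mul_comm _ p]
    simp [pow_two, mul_assoc]
  refine ⟨⁅w * u * v, g⁆, commutator_mem_commutator (Y.mul_mem (Y.mul_mem hw hu) hv) hg, ?_⟩
  rw [commutatorElement_def, Units.val_mul, Units.val_mul, Units.val_mul, inv_val e (h.evsq _ _), e, mul_add, add_mul, cj,
    mul_one, Units.mul_inv, mul_sub, mul_one, add_mul, one_mul, h.evsq, add_zero, add_sub_assoc, ← sub_mul, ← map_sub,
    show (X + 1) ^ 2 * (s * q) - s * q = X * q * (s * (X + C 2)) by rw [map_ofNat]; ring, map_mul, hs, mul_one]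

theorem univ_nil (h : TQ α β δ) (h2 : (2 : k) ≠ 0) (hd : IsNilpotent δ) {H : Subgroup Aˣ}
    (ha : ∀ c : k, In H (c • α)) (hb : ∀ c : k, In H (c • β)) (p : k[X]) : In H (aeval δ p * α) := by
  let Y : Subgroup Aˣ := closure {g | ∃ p : k[X], (g : A) = 1 + aeval δ p * α ∨ (g : A) = 1 + aeval δ p * β}
  have ya : ∀ p : k[X], In Y (aeval δ p * α) := fun p => ⟨sq _ (h.evsq p p), subset_closure ⟨p, .inl rfl⟩, rfl⟩
  have yb : ∀ p : k[X], In Y (aeval δ p * β) := fun p => ⟨sq _ (h.symm.evsq p p), subset_closure ⟨p, .inr rfl⟩, rfl⟩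
  obtain ⟨m, m1, m2, m3, m4, -⟩ := h.exists_nil (k := k) hd
  have m5 : δ ∈ m := h.d ▸ m.add_mem (m1 (Submodule.mul_mem_mul m3 m4)) (m1 (Submodule.mul_mem_mul m4 m3))
  have u : Uni k Y := nil_of_le (aug_closure_le m1 (by
    rintro g ⟨p, e | e⟩
    · rw [inv_val e (h.evsq _ _), e]; simpa using ev_mem m1 m5 m3 p
    · rw [inv_val e (h.symm.evsq _ _), e]; simpa using ev_mem m1 m5 m4 p)) m2
  have one : ∀ {α β}, TQ α β δ → (∀ p : k[X], In Y (aeval δ p * α)) → (∀ p : k[X], In Y (aeval δ p * β)) →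
      (∀ c : k, In H (c • α)) → ∀ (g : Aˣ) (p : k[X]), (g : A) = 1 + aeval δ p * α → g ∈ H ⊓ Y ⊔ ⁅Y, Y⁆ := by
    intro α β h ya yb ha g p e
    have i1 : In (H ⊓ Y) (aeval δ (C (p.coeff 0)) * α) := by
      obtain ⟨x, hx, e1⟩ := ya (C (p.coeff 0))
      obtain ⟨y, hy, e2⟩ := ha (p.coeff 0)
      obtain rfl : x = y := Units.ext (by rw [e1, e2]; simp [Algebra.algebraMap_eq_smul_one])
      exact ⟨x, ⟨hy, hx⟩, e1⟩
    obtain ⟨x, hx, e1⟩ := ((h.in_comm h2 hd ya yb p.divX).mono le_sup_right).add (i1.mono le_sup_left) (h.evsq _ _)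
    rw [← add_mul, ← map_add, X_mul_divX_add, ← e, Units.val_inj] at e1
    exact e1 ▸ hx
  refine (ya p).mono ((le_of_le_sup_comm u inf_le_right ((closure_le _).2 ?_)).trans inf_le_left)
  rintro g ⟨p, e | e⟩
  exacts [one h ya yb ha g p e, one h.symm yb ya hb g p e]

end TQ

end alg

end CfsgH9.QP
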