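import Cfsg.Agent.H9.QuadPair
import Cfsg.Agent.H9.QP2

/-! Subgroups of `SL₂` over finite rings generated by two root groups. -/

set_option autoImplicit false

namespace CfsgH9.QP

open Subgroup Matrix OnePoint
open scoped MatrixGroups

universe u

section ring
variable {R : Type*} [CommRing R]

theorem braid {a b : R} (e : a * b = -1) : Tm a * Lm b * Tm a = Lm b * Tm a * Lm b := by
  apply sl2_ext <;> simp [sl2_mul_apply, -SpecialLinearGroup.coe_mul]
  · linear_combination a * e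
  · linear_combination b * e

theorem w_T {a b : R} (e : a * b = -1) (r : R) :
    Tm a * Lm b * Tm a * Tm r * (Tm a * Lm b * Tm a)⁻¹ = Lm (-(r * b ^ 2)) := by
  rw [mul_inv_eq_iff_eq_mul]
  apply sl2_ext <;> simp [sl2_mul_apply, -SpecialLinearGroup.coe_mul]
  · linear_combination r * e
  · linear_combination r * b ^ 2 * e
  · linear_combination (r * b + a * r * b ^ 2) * e

theorem w_L {a b : R} (e : a * b = -1) (r : R) :
    Tm a * Lm b * Tm a * Lm r * (Tm a * Lm b * Tm a)⁻¹ = Tm (-(r * a ^ 2)) := by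
  rw [mul_inv_eq_iff_eq_mul]
  apply sl2_ext <;> simp [sl2_mul_apply, -SpecialLinearGroup.coe_mul]
  · linear_combination (2 * r * a) * e
  · linear_combination r * a ^ 2 * e
  · linear_combination r * e

theorem swap_T {L : Subgroup SL(2, R)} {a b r : R} (ha : Tm a ∈ L) (hb : Lm b ∈ L) (e : a * b = -1) (h : Tm r ∈ L) :
    Lm (r * b ^ 2) ∈ L := by
  have m := L.mul_mem (L.mul_mem ha hb) ha
  simpa only [w_T e, Lm_inv, neg_neg] using L.inv_mem (L.mul_mem (L.mul_mem m h) (L.inv_mem m))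

theorem swap_L {L : Subgroup SL(2, R)} {a b r : R} (ha : Tm a ∈ L) (hb : Lm b ∈ L) (e : a * b = -1) (h : Lm r ∈ L) :
    Tm (r * a ^ 2) ∈ L := by
  have m := L.mul_mem (L.mul_mem ha hb) ha
  simpa only [w_L e, Tm_inv, neg_neg] using L.inv_mem (L.mul_mem (L.mul_mem m h) (L.inv_mem m))

theorem sq_T {y : SL(2, R)} {a : R} (ha : IsUnit a) (h : y * Tm a = Tm a * y) :
    y * y = Tm (2 * (y 0 0 * y 0 1)) := by
  have h1 := congrArg (fun m : SL(2, R) => m 0 0) h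
  have h2 := congrArg (fun m : SL(2, R) => m 0 1) h
  simp [sl2_mul_apply, -SpecialLinearGroup.coe_mul, ha.mul_right_eq_zero] at h1 h2
  have h3 : y 1 1 = y 0 0 := ha.mul_left_cancel (by linear_combination -h2)
  have d := sl2_det y
  rw [h1, h3] at d
  apply sl2_ext <;> simp [sl2_mul_apply, -SpecialLinearGroup.coe_mul, h1, h3]
  · linear_combination d
  · ring
  · linear_combination d

theorem sq_L {y : SL(2, R)} {a : R} (ha : IsUnit a) (h : y * Lm a = Lm a * y) :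
    y * y = Lm (2 * (y 0 0 * y 1 0)) := by
  have h1 := congrArg (fun m : SL(2, R) => m 0 0) h
  have h2 := congrArg (fun m : SL(2, R) => m 1 0) h
  simp [sl2_mul_apply, -SpecialLinearGroup.coe_mul, ha.mul_left_eq_zero] at h1 h2
  have h3 : y 1 1 = y 0 0 := ha.mul_left_cancel (by linear_combination h2)
  have d := sl2_det y
  rw [h1, h3] at d
  apply sl2_ext <;> simp [sl2_mul_apply, -SpecialLinearGroup.coe_mul, h1, h3]
  · linear_combination d
  · ring
  · linear_combination d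

theorem Tm_eq_one {a : R} (h : Tm a = 1) : a = 0 := by simpa using congrArg (fun m : SL(2, R) => m 0 1) h
theorem Lm_eq_one {a : R} (h : Lm a = 1) : a = 0 := by simpa using congrArg (fun m : SL(2, R) => m 1 0) h
theorem Tm_comm (a b : R) : Tm a * Tm b = Tm b * Tm a := by rw [← Tm_add, ← Tm_add, add_comm]
theorem Lm_comm (a b : R) : Lm a * Lm b = Lm b * Lm a := by rw [← Lm_add, ← Lm_add, add_comm]

theorem scalar_comm {n : SL(2, R)} (h : n 1 0 = 0 ∧ n 0 1 = 0 ∧ n 0 0 = n 1 1) (x : SL(2, R)) : n * x = x * n := by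
  apply sl2_ext <;> simp [sl2_mul_apply, -SpecialLinearGroup.coe_mul, h.1, h.2.1, h.2.2, mul_comm]

/-- Conjugation by `diag(u, 1)`. -/
def dg0 (u : Rˣ) (g : SL(2, R)) : SL(2, R) := ⟨!![g 0 0, u * g 0 1; (u⁻¹ : Rˣ) * g 1 0, g 1 1], by
    rw [det_fin_two_of]; linear_combination sl2_det g - g 0 1 * g 1 0 * u.mul_inv⟩

theorem dg0_apply (u : Rˣ) (g : SL(2, R)) : dg0 u g 0 0 = g 0 0 ∧ dg0 u g 0 1 = u * g 0 1 ∧
    dg0 u g 1 0 = (u⁻¹ : Rˣ) * g 1 0 ∧ dg0 u g 1 1 = g 1 1 := ⟨rfl, rfl, rfl, rfl⟩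

/-- Conjugation by `diag(u, 1)`. -/
def dg (u : Rˣ) : SL(2, R) →* SL(2, R) := MonoidHom.mk' (dg0 u) fun g h => by
    apply sl2_ext <;> simp only [sl2_mul_apply, dg0_apply]
    · linear_combination -(g 0 1 * h 1 0) * u.mul_inv
    · ring
    · ring
    · linear_combination -(g 1 0 * h 0 1) * u.mul_inv

theorem dg_Tm (u : Rˣ) (a : R) : dg u (Tm a) = Tm (u * a) := by
  apply sl2_ext <;> simp only [dg, MonoidHom.mk'_apply, dg0_apply] <;> simp
theorem dg_Lm (u : Rˣ) (a : R) : dg u (Lm a) = Lm ((u⁻¹ : Rˣ) * a) := by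
  apply sl2_ext <;> simp only [dg, MonoidHom.mk'_apply, dg0_apply] <;> simp
theorem dg_inj (u : Rˣ) : Function.Injective (dg u) :=
  Function.LeftInverse.injective (g := dg u⁻¹) fun g => by
    apply sl2_ext <;> simp only [dg, MonoidHom.mk'_apply, dg0_apply] <;> simp

end ring

section grp
variable {G : Type*} [Group G]

/-- The subgroup generated by the `p'`-elements of `X`. -/
def LL (p : ℕ) (X : Subgroup G) : Subgroup G := closure {x | x ∈ X ∧ ¬ p ∣ orderOf x}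

theorem LL_le (p : ℕ) (X : Subgroup G) : LL p X ≤ X := (closure_le _).2 fun _ h => h.1

theorem LL_map {p : ℕ} {X : Subgroup G} (φ : G →* G) (hφ : Function.Injective φ) (h : ∀ x ∈ X, φ x ∈ X) :
    LL p X ≤ (LL p X).comap φ := (closure_le _).2 fun x hx =>
  subset_closure ⟨h x hx.1, by rw [orderOf_injective φ hφ]; exact hx.2⟩

theorem LL_conj {p : ℕ} {X : Subgroup G} {x y : G} (hx : x ∈ X) (hy : y ∈ LL p X) : x * y * x⁻¹ ∈ LL p X :=
  LL_map (MulAut.conj x).toMonoidHom (MulAut.conj x).injective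
    (fun _ hz => X.mul_mem (X.mul_mem hx hz) (X.inv_mem hx)) hy

theorem pow_mem_LL [Finite G] (p : ℕ) [hp : Fact p.Prime] {X : Subgroup G} {x : G} (hx : x ∈ X) : ∃ j, x ^ p ^ j ∈ LL p X := by
  obtain ⟨e, n, h1, h2⟩ := Nat.exists_eq_pow_mul_and_not_dvd (orderOf_pos x).ne' p hp.out.ne_one
  exact ⟨e, subset_closure ⟨X.pow_mem hx _, fun h => h1 (h.trans (orderOf_dvd_of_pow_eq_one (by
    rw [← pow_mul, ← h2, pow_orderOf_eq_one])))⟩⟩

theorem exists_comm [Finite G] {p : ℕ} [hp : Fact p.Prime] {N : Subgroup G} (hN : p ∣ Nat.card N) {u : G} (hu : u ^ p = 1)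
    (h : ∀ n ∈ N, u * n * u⁻¹ ∈ N) : ∃ z ∈ N, orderOf z = p ∧ z * u = u * z := by
  have hn : zpowers u ≤ normalizer (N : Set G) := zpowers_le.2 (mem_normalizer_fintype h)
  let _ : MulAction (zpowers u) N :=
    { smul := fun g n => ⟨g * n * g⁻¹, (mem_normalizer_iff.1 (hn g.2) n).1 n.2⟩
      one_smul := fun n => Subtype.ext (show (1 : G) * n * 1⁻¹ = n by simp)
      mul_smul := fun a b n => Subtype.ext (show (a * b : G) * n * ((a : G) * b)⁻¹ = a * (b * n * (b : G)⁻¹) * (a : G)⁻¹ by group) }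
  have hP : IsPGroup p (zpowers u) := by
    rintro ⟨_, j, rfl⟩
    exact ⟨1, Subtype.ext (show (u ^ j) ^ p ^ 1 = 1 by
      rw [pow_one, ← zpow_natCast, ← _root_.zpow_mul, mul_comm j, _root_.zpow_mul, zpow_natCast, hu, _root_.one_zpow])⟩
  have e : Nat.card (MulAction.fixedPoints (zpowers u) N) = Nat.card (N ⊓ centralizer (zpowers u : Set G) : Subgroup G) :=
    Nat.card_congr ⟨fun n => ⟨n.1.1, n.1.2, fun g hg => mul_inv_eq_iff_eq_mul.1 (congrArg Subtype.val (n.2 ⟨g, hg⟩))⟩,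
      fun n => ⟨⟨n.1, n.2.1⟩, fun g => Subtype.ext (mul_inv_eq_iff_eq_mul.2 (n.2.2 g g.2))⟩, fun _ => rfl, fun _ => rfl⟩
  have := (hP.card_modEq_card_fixedPoints N).dvd_iff dvd_rfl |>.1 hN
  obtain ⟨z, hz⟩ := exists_prime_orderOf_dvd_card' p (e ▸ this)
  exact ⟨z, z.2.1, by rw [← hz, orderOf_coe], (z.2.2 u (mem_zpowers u)).symm⟩

theorem comm_of_central {p : ℕ} [Finite G] {N : Subgroup G} (hN : ¬ p ∣ Nat.card N) [hp : Fact p.Prime] {x y : G}
    (hx : x ^ p = 1) (h : y * x * y⁻¹ * x⁻¹ ∈ N) (hc : ∀ n ∈ N, n * x = x * n) : y * x = x * y := by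
  have e : y * x * y⁻¹ = y * x * y⁻¹ * x⁻¹ * x := by group
  have h1 : (y * x * y⁻¹ * x⁻¹) ^ p = 1 := by
    have := (show Commute _ _ from hc _ h).mul_pow p
    rwa [← e, conj_pow, hx, mul_one, mul_inv_cancel, mul_one, eq_comm] at this
  have h2 := (orderOf_dvd_of_pow_eq_one h1)
  rcases (Nat.dvd_prime hp.out).1 h2 with k | k
  · rw [orderOf_eq_one_iff] at k
    rw [← mul_inv_eq_iff_eq_mul, e, k, one_mul]
  · exact (hN (k ▸ orderOf_dvd_natCard N h)).elim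

end grp

section closed
variable {K : Type*} [Field K] [IsAlgClosed K] (p : ℕ) [hp : Fact p.Prime] [CharP K p] {k : Type*} [Field k] [Finite k]

theorem dick (hp2 : p ≠ 2) (h4 : 3 < Nat.card k) (f : k →+* K) (L : Subgroup SL(2, K)) [Finite L] {a0 b0 : K} (ha : a0 ≠ 0)
    (hb : b0 ≠ 0) (hT : ∀ c, Tm (f c * a0) ∈ L) (hL : Lm b0 ∈ L) :
    (∀ g ∈ L, g 1 0 ≠ 0 → Tm (g 0 0 / g 1 0) ∈ L) ∧ ∀ a ≠ 0, Tm a ∈ L → Lm a⁻¹ ∈ L := by
  classical
  let M := L.map smob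
  have : Finite M := Finite.of_surjective _ (smob.subgroupMap_surjective L)
  have h : Geo p M (OnePoint K) := geo_mob p M (by rintro _ ⟨y, -, rfl⟩; exact ⟨_, rfl⟩)
  let ι : ∀ y ∈ L, M := fun y hy => ⟨smob y, y, hy, rfl⟩
  have trT : ∀ a : K, tr (Tm a) = 2 := fun a => by simp [tr]; norm_num
  have hQ : ∀ y (hy : y ∈ L) (x : OnePoint K), tr y = 2 → smob y x = x → ι y hy ∈ h.Q x := fun y hy x a b =>
    ⟨b, Subtype.ext (by change smob y ^ p = 1; rw [← map_pow, pow_char_of_tr p a, map_one])⟩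
  have inj : Function.Injective fun c : k => (⟨_, hQ _ (hT c) ∞ (trT _) (smob_Tm_infty _)⟩ : h.Q ∞) := fun c d e => by
    have e' : smob (Tm (f c * a0)) = smob (Tm (f d * a0)) := congrArg (fun x => x.1.1) e
    have := smob_Tm (f c * a0) 0
    rw [e', smob_Tm] at this
    exact f.injective (by simpa [ha, eq_comm] using this)
  have hq := Nat.card_le_card_of_injective _ inj
  have hinf : ∞ ∈ h.D := ⟨_, hQ _ (hT 1) ∞ (trT _) (smob_Tm_infty _), fun e => by
    have := smob_Tm (f 1 * a0) 0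
    rw [show smob (Tm (f 1 * a0)) = 1 from congrArg Subtype.val e] at this
    simp [ha, eq_comm] at this⟩
  have h0 : ((0 : K) : OnePoint K) ∈ h.D := ⟨_, hQ _ hL _ (by simp [tr]; norm_num) (by rw [smob_coe]; simp), fun e => by
    have := smob_infty (Lm b0)
    rw [show smob (Lm b0) = 1 from congrArg Subtype.val e] at this
    simp [hb] at this⟩
  have := h.finite_D
  have hm : 1 < Nat.card h.D := Finite.one_lt_card_iff_nontrivial.2 ⟨⟨_, hinf⟩, ⟨_, h0⟩, by simp⟩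
  have e := (h.dichotomy hinf hm (by omega)).resolve_right (by omega)
  refine ⟨fun g hg g0 => ?_, fun a a0 hTa => ?_⟩
  · have hδ := h.D.smul_mem (ι g hg) hinf
    rw [show ι g hg • ∞ = smob g ∞ from rfl, smob_infty, if_neg g0] at hδ
    obtain ⟨u, hu, h2⟩ := h.trans_of_card hinf e h0 hδ (by simp) (by simp)
    obtain ⟨y, hy, h3, h4⟩ := exists_lift p hp2 L hu.2
    have h5' : smob y ∞ = ∞ := h3 ▸ hu.1
    have h5 := eq_Tm_of_tr h4 (by by_contra k; rw [smob_infty, if_neg k] at h5'; simp at h5')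
    have h6 : smob y (0 : K) = (g 0 0 / g 1 0 : K) := h3 ▸ h2
    rw [h5, smob_Tm, zero_add, coe_eq_coe] at h6
    rw [← h6, ← h5]; exact hy
  · have hδ := h.D.smul_mem (ι _ hTa) h0
    rw [show ι _ hTa • ((0 : K) : OnePoint K) = smob (Tm a) (0 : K) from rfl, smob_Tm, zero_add] at hδ
    obtain ⟨u, hu, h2⟩ := h.trans_of_card h0 (h.card_Q_eq hinf h0 ▸ e) hinf hδ (by simp) (by simpa using a0)
    obtain ⟨y, hy, h3, h4⟩ := exists_lift p hp2 L hu.2
    have h5 : smob y (0 : K) = (0 : K) := h3 ▸ hu.1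
    have h6 : smob y ∞ = (a : K) := h3 ▸ h2
    have h7 : y 1 0 ≠ 0 := fun k => by rw [smob_infty, if_pos k] at h6; simp at h6
    rw [unip_infty h4 h5 h7, zero_add, coe_eq_coe] at h6
    have h8 := unip_fix h4 h5
    rw [mul_zero, add_zero] at h8
    have h9 : y 1 1 = 1 := by unfold tr at h4; linear_combination h4 - h8
    have d := sl2_det y
    rw [h8, h9] at d
    convert hy using 1
    apply sl2_ext <;> simp [h8, h9, ← h6]
    exact ((mul_eq_zero.1 (by linear_combination -d : y 0 1 * y 1 0 = 0)).resolve_right h7).symm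

omit [IsAlgClosed K] in
theorem exists_lam (h4 : 3 < Nat.card k) : ∃ c : k, c ≠ 0 ∧ c ^ 2 ≠ 1 := by
  classical
  by_contra hn
  push Not at hn
  have := Fintype.ofFinite k
  have : (Finset.univ : Finset k) ⊆ {0, 1, -1} := fun c _ => by
    by_cases h : c = 0
    · simp [h]
    · rcases _root_.sq_eq_one_iff.1 (hn c h) with e | e <;> simp [e]
  have := (Finset.card_le_card this).trans Finset.card_le_three
  rw [Finset.card_univ, ← Nat.card_eq_fintype_card] at this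
  omega

theorem scal (hp2 : p ≠ 2) (h4 : 3 < Nat.card k) (f : k →+* K) (X : Subgroup SL(2, K)) [Finite X] {b0 : K}
    (hb : b0 ≠ 0) (hT : ∀ c, Tm (f c) ∈ X) (hL : Lm b0 ∈ X) {N : Subgroup SL(2, K)} (hNX : N ≤ X)
    (hn : ∀ x ∈ X, ∀ n ∈ N, x * n * x⁻¹ ∈ N) (hN : ∀ a, Tm a ∈ N → a = 0) {n : SL(2, K)} (h : n ∈ N) :
    n 1 0 = 0 ∧ n 0 1 = 0 ∧ n 0 0 = n 1 1 := by
  obtain ⟨d1, d2⟩ := dick p hp2 h4 f X one_ne_zero hb (by simpa using hT) hL
  have T1 : Tm 1 ∈ X := by simpa using hT 1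
  have L1 : Lm (-1) ∈ X := by simpa [Lm_inv] using X.inv_mem (d2 1 one_ne_zero T1)
  have cm : ∀ x ∈ X, ∀ n ∈ N, n * x * n⁻¹ * x⁻¹ ∈ N := fun x hx n h => by
    simpa only [mul_assoc] using N.mul_mem h (hn x hx _ (N.inv_mem h))
  have h0 : n 1 0 = 0 := by
    by_contra h0
    have h1 := hn _ (X.inv_mem (d1 n (hNX h) h0)) n h
    set m := (Tm (n 0 0 / n 1 0))⁻¹ * n * (Tm (n 0 0 / n 1 0))⁻¹⁻¹ with hm
    have m0 : m 0 0 = 0 := by
      simp [hm, Tm_inv, sl2_mul_apply, -SpecialLinearGroup.coe_mul, -SpecialLinearGroup.coe_inv, h0]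
    have d := sl2_det m
    rw [m0, zero_mul, zero_sub] at d
    clear_value m
    have key : ∀ c : k, c ≠ 0 → m 1 0 ^ 2 * f c ^ 2 = 1 := fun c c0 => by
      have c1 : f c ≠ 0 := by simpa using c0
      have m1 : m 1 0 ≠ 0 := fun e => by simp [e] at d
      have e : m * Tm (f c) * m⁻¹ = Lm (-(m 1 0 ^ 2 * f c)) := by
        rw [mul_inv_eq_iff_eq_mul]
        apply sl2_ext <;> simp [sl2_mul_apply, -SpecialLinearGroup.coe_mul, m0]
        linear_combination -(m 1 0 * f c) * d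
      have z := hn _ (X.inv_mem (hT c)) _ (cm _ (hT c) m h1)
      rw [e, inv_inv, mul_assoc, inv_mul_cancel_right, Tm_inv] at z
      set b := -(m 1 0 ^ 2 * f c)
      have b0 : b ≠ 0 := neg_ne_zero.2 (mul_ne_zero (pow_ne_zero _ m1) c1)
      have lb : Lm b ∈ X := by simpa [← mul_assoc, ← Tm_add, Tm_zero] using X.mul_mem (hT c) (hNX z)
      have tb := swap_L T1 L1 (by simp) (d2 _ (by simpa using b0) (swap_L T1 L1 (by simp) lb))
      have tx : Tm (-b⁻¹) ∈ X := by simpa [Tm_inv] using X.inv_mem tb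
      have br := braid (a := -b⁻¹) (b := b) (by simp [b0])
      have w := hn _ (X.inv_mem (X.mul_mem tx tx)) _ (N.mul_mem (N.inv_mem z) (hn _ tx _ z))
      have cc := Tm_comm (-f c) (-b⁻¹)
      set T := Tm (-b⁻¹)
      set S := Tm (-f c)
      have w' : (T * T)⁻¹ * ((S * Lm b)⁻¹ * (T * (S * Lm b) * T⁻¹)) * (T * T)⁻¹⁻¹ = T⁻¹ * Lm b := by
        calc _ = T⁻¹ * T⁻¹ * (Lm b)⁻¹ * S⁻¹ * (T * S) * Lm b * T := by group
          _ = T⁻¹ * T⁻¹ * (Lm b)⁻¹ * (T * Lm b * T) := by rw [← cc]; group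
          _ = _ := by rw [br]; group
      have := N.mul_mem z (N.inv_mem (w' ▸ w))
      rw [show S * Lm b * (T⁻¹ * Lm b)⁻¹ = S * T by group, ← Tm_add] at this
      have := hN _ this
      have e2 : b * b⁻¹ = 1 := mul_inv_cancel₀ b0
      simp only [b] at this e2
      linear_combination (-(m 1 0 ^ 2 * f c)) * this + e2
    obtain ⟨c, c0, c1⟩ := exists_lam h4
    have k1 := key 1 one_ne_zero
    have k2 := key c c0
    rw [map_one, one_pow, mul_one] at k1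
    rw [k1] at k2
    exact c1 (f.injective (by rw [map_pow, map_one]; linear_combination k2))
  have d := sl2_det n
  rw [h0, mul_zero, sub_zero] at d
  have e : n * Tm 1 * n⁻¹ * (Tm 1)⁻¹ = Tm (n 0 0 ^ 2 - 1) := by
    rw [mul_inv_eq_iff_eq_mul, mul_inv_eq_iff_eq_mul, ← Tm_add]
    apply sl2_ext <;> simp [sl2_mul_apply, -SpecialLinearGroup.coe_mul, h0]
    linear_combination -n 0 0 * d
  have h1 := hN _ (e ▸ cm _ T1 n h)
  have h2 : n 0 0 = n 1 1 := by linear_combination -n 0 0 * d + n 1 1 * h1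
  have h3 := hN _ (sq_T (y := n) isUnit_one (by
    apply sl2_ext <;> simp [sl2_mul_apply, -SpecialLinearGroup.coe_mul, h0, h2, add_comm]) ▸ N.mul_mem h h)
  have h2' : (2 : K) ≠ 0 := fun e => hp2 ((Nat.prime_dvd_prime_iff_eq hp.out Nat.prime_two).1 ((CharP.cast_eq_zero_iff K p 2).1 e))
  exact ⟨h0, by simpa [h2', left_ne_zero_of_mul_eq_one d] using h3, h2⟩

end closed

section fin
variable {k : Type*} [Field k] {R : Type u} [CommRing R] [Algebra k R]

/-- The group generated by the two root groups. -/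
def XX (k : Type*) [Field k] [Algebra k R] (t : R) : Subgroup SL(2, R) :=
  closure {g | ∃ c : k, g = Tm (algebraMap k R c) ∨ g = Lm (algebraMap k R c * t)}

theorem T_mem (t : R) (c : k) : Tm (algebraMap k R c) ∈ XX k t := subset_closure ⟨c, .inl rfl⟩
theorem L_mem (t : R) (c : k) : Lm (algebraMap k R c * t) ∈ XX k t := subset_closure ⟨c, .inr rfl⟩

theorem exists_hom {r : R} (h : ¬ IsUnit r) : ∃ (K : Type u) (_ : Field K) (_ : IsAlgClosed K) (ψ : R →+* K), ψ r = 0 := by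
  obtain ⟨m, hm, hr⟩ := exists_max_ideal_of_mem_nonunits h
  letI := Ideal.Quotient.field m
  exact ⟨AlgebraicClosure (R ⧸ m), inferInstance, inferInstance, (algebraMap (R ⧸ m) _).comp (Ideal.Quotient.mk m),
    by simp [Ideal.Quotient.eq_zero_iff_mem.2 hr]⟩

theorem dg_XX (t : R) {c : k} (hc : c ≠ 0) : ∃ u : Rˣ, u = algebraMap k R c ∧ ∀ x ∈ XX k t, dg u x ∈ XX k t := by
  refine ⟨Units.map (algebraMap k R) (Units.mk0 c hc), rfl, fun x hx => (show XX k t ≤ (XX k t).comap _ from (closure_le _).2 ?_) hx⟩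
  rintro _ ⟨d, rfl | rfl⟩
  · simpa [dg_Tm] using T_mem t (c * d)
  · simpa [dg_Lm, mul_assoc] using L_mem t (c⁻¹ * d)

theorem LL_sT (p : ℕ) (t : R) (c : k) (r : R) (h : Tm r ∈ LL p (XX k t)) : Tm (algebraMap k R c * r) ∈ LL p (XX k t) := by
  rcases eq_or_ne c 0 with rfl | hc
  · simp [Tm_zero]
  obtain ⟨u, e, hu⟩ := dg_XX t hc
  simpa [dg_Tm, e] using LL_map _ (dg_inj u) hu h

theorem LL_sL (p : ℕ) (t : R) (c : k) (r : R) (h : Lm r ∈ LL p (XX k t)) : Lm (algebraMap k R c * r) ∈ LL p (XX k t) := by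
  rcases eq_or_ne c 0 with rfl | hc
  · simp [Lm_zero]
  obtain ⟨u, e, hu⟩ := dg_XX t (inv_ne_zero hc)
  have : ((u⁻¹ : Rˣ) : R) = algebraMap k R c := Units.inv_eq_of_mul_eq_one_right (by rw [e, ← map_mul, inv_mul_cancel₀ hc, map_one])
  simpa [dg_Lm, this] using LL_map _ (dg_inj u) hu h

theorem fin_ring [Finite k] [Finite R] [Nontrivial R] (p : ℕ) [hp : Fact p.Prime] [CharP k p] (hp2 : p ≠ 2) (h4 : 3 < Nat.card k)
    {t : R} (ht : IsUnit t) (mT : ∀ r, Tm r ∈ LL p (XX k t) → r = 0 ∨ IsUnit r)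
    (mL : ∀ r, Lm r ∈ LL p (XX k t) → r = 0 ∨ IsUnit r) (g : Polynomial k) :
    Tm (Polynomial.aeval t g) ∈ LL p (XX k t) ∧ Lm (Polynomial.aeval t g) ∈ LL p (XX k t) := by
  haveI : CharP R p := charP_of_injective_algebraMap (algebraMap k R).injective p
  set X := XX k t
  set L := LL p X
  have LX : L ≤ X := LL_le p X
  have h2 : (2 : k) ≠ 0 := fun e => hp2 ((Nat.prime_dvd_prime_iff_eq hp.out Nat.prime_two).1 ((CharP.cast_eq_zero_iff k p 2).1 e))
  have sT : ∀ (c : k) r, Tm r ∈ L → Tm (algebraMap k R c * r) ∈ L := LL_sT p t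
  have sL : ∀ (c : k) r, Lm r ∈ L → Lm (algebraMap k R c * r) ∈ L := LL_sL p t
  have T1 : Tm 1 ∈ X := by simpa using T_mem (k := k) t 1
  have L1 : Lm t ∈ X := by simpa using L_mem (k := k) t 1
  have Tp : ∀ r : R, Tm r ^ p = 1 := fun r => by rw [Tm_pow, CharP.cast_eq_zero, zero_mul, Tm_zero]
  have Lp : ∀ r : R, Lm r ^ p = 1 := fun r => by rw [Lm_pow, CharP.cast_eq_zero, zero_mul, Lm_zero]
  have sq1 : ∀ z : SL(2, R), orderOf z = p → z * z ≠ 1 := fun z hz e =>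
    hp2 ((Nat.prime_dvd_prime_iff_eq hp.out Nat.prime_two).1 (hz ▸ orderOf_dvd_of_pow_eq_one (by rw [pow_two, e])))
  have exT : ∀ N : Subgroup SL(2, R), (∀ x ∈ X, ∀ n ∈ N, x * n * x⁻¹ ∈ N) → p ∣ Nat.card N → ∃ r ≠ 0, Tm r ∈ N := fun N h1 h2 => by
    obtain ⟨z, hz, e1, e2⟩ := exists_comm h2 (Tp 1) (h1 _ T1)
    have := sq_T isUnit_one e2
    exact ⟨_, fun e => sq1 z e1 (by rw [this, e, Tm_zero]), this ▸ N.mul_mem hz hz⟩
  have exL : ∀ N : Subgroup SL(2, R), (∀ x ∈ X, ∀ n ∈ N, x * n * x⁻¹ ∈ N) → p ∣ Nat.card N → ∃ r ≠ 0, Lm r ∈ N := fun N h1 h2 => by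
    obtain ⟨z, hz, e1, e2⟩ := exists_comm h2 (Lp t) (h1 _ L1)
    have := sq_L ht e2
    exact ⟨_, fun e => sq1 z e1 (by rw [this, e, Lm_zero]), this ▸ N.mul_mem hz hz⟩
  have sc : ∀ (K : Type u) [Field K] [IsAlgClosed K] (ψ : R →+* K) (N : Subgroup SL(2, R)), N ≤ X →
      (∀ x ∈ X, ∀ n ∈ N, x * n * x⁻¹ ∈ N) → ¬ p ∣ Nat.card N → ∀ n ∈ N, ∀ y,
      SpecialLinearGroup.map ψ n * y = y * SpecialLinearGroup.map ψ n := fun K _ _ ψ N h1 h2 h3 n hn => by
    haveI : CharP K p := charP_of_injective_ringHom (ψ.comp (algebraMap k R)).injective p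
    set φ := SpecialLinearGroup.map (n := Fin 2) ψ
    have : Finite (X.map φ) := Finite.of_surjective _ (φ.subgroupMap_surjective X)
    refine scalar_comm (scal p hp2 h4 (ψ.comp (algebraMap k R)) (X.map φ) (ht.map ψ).ne_zero
      (fun c => ⟨_, T_mem t c, sl2_map_Tm ..⟩) ⟨_, L1, sl2_map_Lm ..⟩ (map_mono h1) ?_ ?_ ⟨n, hn, rfl⟩)
    · rintro _ ⟨x, hx, rfl⟩ _ ⟨n, hn, rfl⟩
      exact ⟨_, h2 x hx n hn, by simp⟩
    · rintro a ⟨n, hn, e⟩
      have := congrArg φ (congrArg Subtype.val (pow_card_eq_one' (x := (⟨n, hn⟩ : N))))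
      rw [coe_pow, map_pow, e, Tm_pow] at this
      exact (mul_eq_zero.1 (Tm_eq_one (this.trans (map_one φ)))).resolve_left fun e => h3 ((CharP.cast_eq_zero_iff K p _).1 e)
  have cen : ∀ N : Subgroup SL(2, R), N ≤ X → (∀ x ∈ X, ∀ n ∈ N, x * n * x⁻¹ ∈ N) → ¬ p ∣ Nat.card N →
      ∀ x ∈ X, ∀ n ∈ N, n * x = x * n := fun N h1 h2 h3 x hx n hn => by
    have hz := N.mul_mem hn (h2 x hx _ (N.inv_mem hn))
    set z := n * (x * n⁻¹ * x⁻¹) with ez
    have e1 := congrArg (fun g : N => ((g : SL(2, R)) : Matrix (Fin 2) (Fin 2) R)) (pow_card_eq_one' (x := (⟨z, hz⟩ : N)))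
    replace e1 : (z : Matrix (Fin 2) (Fin 2) R) ^ Nat.card N = 1 := (Matrix.SpecialLinearGroup.coe_pow z _).symm.trans e1
    have e2 := mul_geom_sum (z : Matrix (Fin 2) (Fin 2) R) (Nat.card N)
    rw [e1, sub_self] at e2
    have u : IsUnit (∑ i ∈ Finset.range (Nat.card N), (z : Matrix (Fin 2) (Fin 2) R) ^ i) := by
      rw [isUnit_iff_isUnit_det]
      by_contra hu
      obtain ⟨K, _, _, ψ, e⟩ := exists_hom hu
      haveI : CharP K p := charP_of_injective_ringHom (ψ.comp (algebraMap k R)).injective p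
      have e3 : SpecialLinearGroup.map ψ z = 1 := by
        rw [ez, map_mul, sc K ψ N h1 h2 h3 n hn, map_mul, map_mul, mul_assoc, mul_assoc, ← sc K ψ N h1 h2 h3 n hn]; simp
      have e4 : ψ.mapMatrix (z : Matrix (Fin 2) (Fin 2) R) = 1 := congrArg Subtype.val e3
      rw [RingHom.map_det, map_sum] at e
      simp only [map_pow, e4, one_pow, Finset.sum_const, Finset.card_range, ← Nat.cast_smul_eq_nsmul K, det_smul, det_one, mul_one] at e
      exact h3 ((CharP.cast_eq_zero_iff K p _).1 (pow_eq_zero_iff (by simp) |>.1 e))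
    have e3 : z = 1 := Subtype.ext (sub_eq_zero.1 (u.mul_left_eq_zero.1 e2))
    rw [← mul_inv_eq_one, ← e3, ez]; group
  obtain ⟨K, _, _, ψ, -⟩ := exists_hom (not_isUnit_zero (M₀ := R))
  haveI : CharP K p := charP_of_injective_ringHom (ψ.comp (algebraMap k R)).injective p
  set φ := SpecialLinearGroup.map (n := Fin 2) ψ
  have nL : ∀ x ∈ X, ∀ n ∈ L, x * n * x⁻¹ ∈ L := fun x hx n hn => LL_conj hx hn
  have : Finite (X.map φ) := Finite.of_surjective _ (φ.subgroupMap_surjective X)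
  have : Finite (L.map φ) := Finite.of_surjective _ (φ.subgroupMap_surjective L)
  have pL : p ∣ Nat.card L := by
    by_contra h3
    have d := (dick p hp2 h4 (ψ.comp (algebraMap k R)) (X.map φ) one_ne_zero (ht.map ψ).ne_zero
      (fun c => ⟨_, T_mem t c, by rw [mul_one]; exact sl2_map_Tm ..⟩) ⟨_, L1, sl2_map_Lm ..⟩).2 1 one_ne_zero
      ⟨_, T1, by simp [φ, sl2_map_Tm]⟩
    have T1' : Tm 1 ∈ X.map φ := ⟨_, T1, by simp [φ, sl2_map_Tm]⟩
    obtain ⟨x, hx, e⟩ := mul_mem (mul_mem T1' (inv_mem d)) T1'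
    obtain ⟨j, hj⟩ := pow_mem_LL p hx
    have := sc K ψ L LX nL h3 _ hj (Tm 1)
    obtain ⟨m, hm⟩ := (hp.out.odd_of_ne_two hp2).pow (n := j)
    have e2 : φ x ^ 2 = -1 := by
      rw [e, pow_two, Lm_inv]; apply sl2_ext <;> simp [sl2_mul_apply, -SpecialLinearGroup.coe_mul]
    change φ _ * _ = _ * φ _ at this
    rw [map_pow, hm, pow_succ, pow_mul, e2, mul_assoc, ← mul_assoc (Tm 1), ((Commute.neg_one_right (Tm (1 : K))).pow_right m).eq,
      mul_assoc, mul_right_inj, e, Lm_inv] at this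
    simpa [sl2_mul_apply, -SpecialLinearGroup.coe_mul] using congrArg (fun m : SL(2, K) => m 0 0) this
  obtain ⟨a0, a1, a2⟩ := exT L nL pL
  obtain ⟨b0, b1, b2⟩ := exL L nL pL
  have a3 := (mT _ a2).resolve_left a1
  have b3 := (mL _ b2).resolve_left b1
  set N := L ⊓ φ.ker
  have nN : ∀ x ∈ X, ∀ n ∈ N, x * n * x⁻¹ ∈ N := fun x hx n hn => ⟨nL x hx n hn.1, φ.normal_ker.conj_mem n hn.2 x⟩
  have pN : ¬ p ∣ Nat.card N := fun h => by
    obtain ⟨r, r1, r2, r3⟩ := exT N nN h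
    exact (((mT r r2).resolve_left r1).map ψ).ne_zero (Tm_eq_one ((sl2_map_Tm ψ r).symm.trans r3))
  have cN := cen N (inf_le_left.trans LX) nN pN
  have cmm : ∀ x ∈ L, x ^ p = 1 → ∀ y ∈ X, φ y * φ x = φ x * φ y → y * x = x * y := fun x hx e y hy c =>
    comm_of_central pN e ⟨L.mul_mem (nL y hy x hx) (L.inv_mem hx), by simp [c]⟩ (cN x (LX hx))
  have half : ∀ r : R, algebraMap k R 2⁻¹ * (2 * r) = r := fun r => by
    rw [← mul_assoc, ← map_ofNat (algebraMap k R) 2, ← map_mul, inv_mul_cancel₀ h2, map_one, one_mul]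
  have liftT : ∀ a, Tm a ∈ L.map φ → ∃ r, Tm r ∈ L ∧ ψ r = a := by
    rintro a ⟨y, hy, e⟩
    have := sT 2⁻¹ _ (sq_T a3 (cmm _ a2 (Tp _) y (LX hy) (by rw [e, sl2_map_Tm, Tm_comm])) ▸ L.mul_mem hy hy)
    refine ⟨_, half _ ▸ this, ?_⟩
    rw [map_mul, show ψ (y 0 0) = φ y 0 0 from rfl, show ψ (y 0 1) = φ y 0 1 from rfl, e]; simp
  have liftL : ∀ a, Lm a ∈ L.map φ → ∃ r, Lm r ∈ L ∧ ψ r = a := by
    rintro a ⟨y, hy, e⟩
    have := sL 2⁻¹ _ (sq_L b3 (cmm _ b2 (Lp _) y (LX hy) (by rw [e, sl2_map_Lm, Lm_comm])) ▸ L.mul_mem hy hy)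
    refine ⟨_, half _ ▸ this, ?_⟩
    rw [map_mul, show ψ (y 0 0) = φ y 0 0 from rfl, show ψ (y 1 0) = φ y 1 0 from rfl, e]; simp
  obtain ⟨d1, d2⟩ := dick p hp2 h4 (ψ.comp (algebraMap k R)) (L.map φ) (a3.map ψ).ne_zero (b3.map ψ).ne_zero
      (fun c => ⟨_, sT c _ a2, by simp [φ, sl2_map_Tm]⟩) ⟨_, b2, sl2_map_Lm ..⟩
  have inv : ∀ a ≠ 0, Tm a ∈ L → ∃ b, Lm b ∈ L ∧ a * b = -1 := fun a h0 ha => by
    have ua := (mT a ha).resolve_left h0
    have u0 := (ua.map ψ).ne_zero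
    obtain ⟨b, hb, e⟩ := liftL _ (Lm_inv (ψ a)⁻¹ ▸ inv_mem (d2 _ u0 ⟨_, ha, sl2_map_Tm ..⟩))
    refine ⟨b, hb, ?_⟩
    have br := braid (a := ψ a) (b := ψ b) (by rw [e, mul_neg, mul_inv_cancel₀ u0])
    have m := L.mul_mem ha hb
    have c := cmm _ hb (Lp b) _ (LX (L.mul_mem (L.mul_mem m ha) (L.inv_mem m))) (by
      simp only [map_mul, map_inv, φ, sl2_map_Tm, sl2_map_Lm, br]; group)
    have n : Tm a * Lm b * Tm a * (Tm a * Lm b)⁻¹ * (Lm b)⁻¹ ∈ N := ⟨L.mul_mem (L.mul_mem (L.mul_mem m ha) (L.inv_mem m))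
      (L.inv_mem hb), by
        refine MonoidHom.mem_ker.2 ?_
        simp only [map_mul, map_inv, φ, sl2_map_Tm, sl2_map_Lm]
        rw [mul_inv_eq_one, mul_inv_eq_iff_eq_mul, br, mul_assoc]⟩
    have o := orderOf_dvd_of_pow_eq_one (((show Commute _ _ from c).inv_right.mul_pow p).trans (by
      rw [conj_pow, inv_pow, Tp, Lp]; simp))
    rcases (Nat.dvd_prime hp.out).1 o with o | o
    · rw [orderOf_eq_one_iff, mul_inv_eq_one, mul_inv_eq_iff_eq_mul] at o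
      have := congrArg (fun m : SL(2, R) => m 0 1) o
      simp [sl2_mul_apply, -SpecialLinearGroup.coe_mul] at this
      exact ua.mul_left_cancel (by linear_combination this)
    · exact (pN (o ▸ orderOf_dvd_natCard N n)).elim
  obtain ⟨c, c0, c1⟩ := exists_lam h4
  obtain ⟨b, hb, e⟩ := inv a0 a1 a2
  obtain ⟨b', hb', e'⟩ := inv _ (((IsUnit.mk0 c c0).map (algebraMap k R)).mul a3).ne_zero (sT c _ a2)
  have w1 := L.mul_mem (L.mul_mem a2 hb) a2
  have w2 := L.mul_mem (L.mul_mem (sT c _ a2) hb') (sT c _ a2)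
  have cm : ∀ x ∈ X, ∀ n ∈ L, n * x * n⁻¹ * x⁻¹ ∈ L := fun x hx n h => by
    simpa only [mul_assoc] using L.mul_mem h (nL x hx _ (L.inv_mem h))
  have cj : ∀ u v x : SL(2, R), u * v * x * (u * v)⁻¹ = u * (v * x * v⁻¹) * u⁻¹ := fun _ _ _ => by group
  have ci : algebraMap k R (c ^ 2 - 1)⁻¹ * (algebraMap k R c ^ 2 - 1) = 1 := by
    rw [← map_pow, ← map_one (algebraMap k R), ← map_sub, ← map_mul, inv_mul_cancel₀ (sub_ne_zero.2 c1)]
  have T1' : Tm 1 ∈ L := by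
    have z := cm _ T1 _ (L.mul_mem w2 w1)
    rw [cj, w_T e, w_L e', Tm_inv, ← Tm_add] at z
    have := sT (c ^ 2 - 1)⁻¹ _ z
    convert this using 2
    linear_combination -ci - algebraMap k R (c ^ 2 - 1)⁻¹ * algebraMap k R c ^ 2 * (a0 * b - 1) * e
  have L1' : Lm t ∈ L := by
    have z := cm _ L1 _ (L.mul_mem w1 w2)
    rw [cj, w_L e', w_T e, Lm_inv, ← Lm_add] at z
    have := sL (c ^ 2 - 1)⁻¹ _ z
    convert this using 2
    linear_combination -t * ci - t * algebraMap k R (c ^ 2 - 1)⁻¹ * algebraMap k R c ^ 2 * (a0 * b - 1) * e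
  obtain ⟨b1, hb1, e1⟩ := inv 1 one_ne_zero T1'
  rw [one_mul] at e1
  subst e1
  have TL : ∀ r, Tm r ∈ L → Lm r ∈ L := fun r h => by simpa using swap_T T1' hb1 (by simp) h
  have sq : ∀ r, Tm r ∈ L → Tm (r ^ 2) ∈ L := fun r h => by
    rcases eq_or_ne r 0 with rfl | r0
    · simpa using h
    obtain ⟨b, hb, e⟩ := inv r r0 h
    simpa using swap_L h hb e (TL 1 T1')
  have ad : ∀ r s, Tm r ∈ L → Tm s ∈ L → Tm (r + s) ∈ L := fun r s a b => Tm_add r s ▸ L.mul_mem a b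
  have tt : Tm t ∈ L := by simpa using swap_L T1' hb1 (by simp) L1'
  suffices Tm (Polynomial.aeval t g) ∈ L from ⟨this, TL _ this⟩
  induction g using Polynomial.induction_on with
  | C a => simpa using sT a _ T1'
  | add p q hp hq => simpa using ad _ _ hp hq
  | monomial n a ih =>
    have := sT 2⁻¹ _ (ad _ _ (ad _ _ (sq _ (ad _ _ ih tt)) (sT (-1) _ (sq _ ih))) (sT (-1) _ (sq _ tt)))
    convert this using 2
    rw [← half (Polynomial.aeval t _), pow_succ, ← mul_assoc (Polynomial.C a), map_mul _ _ Polynomial.X, Polynomial.aeval_X,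
      map_neg, map_one]
    ring

end fin

end CfsgH9.QP
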