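import Cfsg.Agent.H9.QP3

/-! The group generated by two quadratic families, one of minimal rank. -/

set_option autoImplicit false

namespace CfsgH9.QP

open Subgroup Polynomial
open scoped MatrixGroups

section mu
variable {k : Type*} [Field k] {A : Type*} [Ring A] [Algebra k A] {R : Type*} [CommRing R] [Algebra k R]

/-- Matrix units over a commutative coefficient ring. -/
structure MU (θ : R →ₗ[k] A) (e f : A) : Prop where
  ee : e * e = 0
  ff : f * f = 0
  efe : e * f * e = e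
  fef : f * e * f = f
  mul : ∀ a b, θ (a * b) = θ a * θ b
  ce : ∀ a, e * θ a = θ a * e
  cf : ∀ a, f * θ a = θ a * f
  inj : ∀ a, θ a * e = 0 → a = 0

namespace MU
variable {θ : R →ₗ[k] A} {e f : A}

theorem symm (h : MU θ e f) : MU θ f e := ⟨h.ff, h.ee, h.fef, h.efe, h.mul, h.cf, h.ce, fun a ha => h.inj a (by
  rw [← h.efe, ← mul_assoc, ← mul_assoc, ← h.ce, mul_assoc e, ha, mul_zero, zero_mul])⟩

/-- The non-unital representation of the matrix ring. -/
def Φ (θ : R →ₗ[k] A) (e f : A) (m : Matrix (Fin 2) (Fin 2) R) : A :=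
  θ (m 0 0) * (e * f) + θ (m 0 1) * e + θ (m 1 0) * f + θ (m 1 1) * (f * e)

theorem Φ_add (m n : Matrix (Fin 2) (Fin 2) R) : Φ θ e f (m + n) = Φ θ e f m + Φ θ e f n := by
  simp only [Φ, Matrix.add_apply, map_add, add_mul]; abel

theorem rules (h : MU θ e f) : (∀ x, e * (e * x) = 0) ∧ (∀ x, e * (f * (e * x)) = e * x) ∧ e * (f * e) = e ∧
    ∀ a x, e * (θ a * x) = θ a * (e * x) :=
  ⟨fun x => by rw [← mul_assoc, h.ee, zero_mul], fun x => by rw [← mul_assoc, ← mul_assoc, h.efe], by rw [← mul_assoc, h.efe],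
    fun a x => by rw [← mul_assoc, h.ce, mul_assoc]⟩

theorem Φ_mul (h : MU θ e f) (m n : Matrix (Fin 2) (Fin 2) R) : Φ θ e f (m * n) = Φ θ e f m * Φ θ e f n := by
  simp only [Φ, Matrix.mul_apply, Fin.sum_univ_two, map_add, h.mul, add_mul, mul_add, mul_assoc, h.rules, h.symm.rules, h.ee, h.ff,
    mul_zero]
  abel

/-- The representation of `SL₂`. -/
def Ψ (h : MU θ e f) : SL(2, R) →* Aˣ := MonoidHom.toHomUnits
  { toFun := fun g => 1 + Φ θ e f (g.1 - 1)
    map_one' := by simp [Φ]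
    map_mul' := fun g g' => by
      rw [show (g * g').1 - 1 = (g.1 - 1) + (g'.1 - 1) + (g.1 - 1) * (g'.1 - 1) by
        rw [Matrix.SpecialLinearGroup.coe_mul]; noncomm_ring, Φ_add, Φ_add, h.Φ_mul]
      noncomm_ring }

theorem Ψ_val (h : MU θ e f) (g : SL(2, R)) : (h.Ψ g : A) = 1 + Φ θ e f (g.1 - 1) := rfl
theorem Ψ_T (h : MU θ e f) (a : R) : (h.Ψ (Tm a) : A) = 1 + θ a * e := by simp [Ψ_val, Φ]
theorem Ψ_L (h : MU θ e f) (a : R) : (h.Ψ (Lm a) : A) = 1 + θ a * f := by simp [Ψ_val, Φ]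

theorem Ψ_inj (h : MU θ e f) : Function.Injective h.Ψ := (injective_iff_map_eq_one _).2 fun g hg => by
  have e0 : Φ θ e f (g.1 - 1) = 0 := by simpa [Ψ_val] using congrArg Units.val hg
  have e1 := congrArg (fun x => e * f * x * e) e0
  have e2 := congrArg (fun x => e * f * x * (f * e)) e0
  have e3 := congrArg (fun x => e * x * e) e0
  have e4 := congrArg (fun x => e * x * (f * e)) e0
  simp only [Φ, add_mul, mul_add, mul_assoc, h.rules, h.symm.rules, h.ee, h.ff, mul_zero, zero_mul, add_zero, zero_add] at e1 e2 e3 e4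
  have e1 := h.inj _ e1
  have e2 := h.inj _ e2
  have e3 := h.inj _ e3
  have e4 := h.inj _ e4
  simp [sub_eq_zero] at e1 e2 e3 e4
  apply sl2_ext <;> simp [*]

end MU

theorem TQ.exists_MU {α β δ : A} (h : TQ α β δ) (hd : IsIntegral k δ) (hn : ¬ IsNilpotent δ) :
    ∃ (f : k[X]) (π ρ : k[X]) (θ : AdjoinRoot f →ₗ[k] A), f.Monic ∧ f.degree ≠ 0 ∧ IsUnit (AdjoinRoot.root f) ∧
      MU θ (aeval δ π * α) (aeval δ ρ * β) ∧ (∀ g, θ (AdjoinRoot.mk f g) = aeval δ (g * π)) ∧
      aeval δ (π * π) = aeval δ π ∧ aeval δ (ρ * X) = aeval δ π ∧ aeval δ (π * ρ) = aeval δ ρ ∧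
      IsNilpotent (aeval δ ((1 - π) * X)) := by
  have hμ := minpoly.monic hd
  obtain ⟨f, e1, e2⟩ := exists_eq_pow_rootMultiplicity_mul_and_not_dvd _ hμ.ne_zero 0
  generalize rootMultiplicity 0 (minpoly k δ) = n at e1
  rw [map_zero, sub_zero] at e1 e2
  have hf : f.Monic := (monic_X_pow n).of_mul_monic_left (e1 ▸ hμ)
  have c1 : IsCoprime X f := (irreducible_X.coprime_iff_not_dvd).2 e2
  obtain ⟨a, b, hab⟩ := c1.pow_left (m := n + 1)
  have z : ∀ g, aeval δ (X ^ n * f * g) = 0 := fun g => by rw [map_mul, ← e1, minpoly.aeval, zero_mul]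
  have z' : ∀ g g' q, g = g' + X ^ n * f * q → aeval δ g = aeval δ g' := fun g g' q e => by rw [e, map_add, z, add_zero]
  let θ : AdjoinRoot f →ₗ[k] A := (aeval δ).toLinearMap ∘ₗ LinearMap.mulRight k (a * X ^ (n + 1)) ∘ₗ AdjoinRoot.modByMonicHom hf
  have hθ : ∀ g, θ (AdjoinRoot.mk f g) = aeval δ (g * (a * X ^ (n + 1))) := fun g => by
    simp only [θ, LinearMap.comp_apply, AdjoinRoot.modByMonicHom_mk, LinearMap.mulRight_apply, AlgHom.toLinearMap_apply]
    exact (z' _ _ (g /ₘ f * a * X) (by linear_combination -(a * X ^ (n + 1)) * modByMonic_add_div g f)).symm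
  have pp : aeval δ (a * X ^ (n + 1) * (a * X ^ (n + 1))) = aeval δ (a * X ^ (n + 1)) :=
    z' _ _ (-(a * b * X)) (by linear_combination a * X ^ (n + 1) * hab)
  have rx : aeval δ (a * a * X ^ (2 * n + 1) * X) = aeval δ (a * X ^ (n + 1)) := by rw [← pp]; congr 1; ring
  have pr : aeval δ (a * X ^ (n + 1) * (a * a * X ^ (2 * n + 1))) = aeval δ (a * a * X ^ (2 * n + 1)) :=
    z' _ _ (-(a * a * b * X ^ (n + 1))) (by linear_combination a * a * X ^ (2 * n + 1) * hab)
  have ca : ∀ p : k[X], ∀ x, α * (aeval δ p * x) = aeval δ p * (α * x) := fun p x => by rw [← mul_assoc, ← h.eva, mul_assoc]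
  have cb : ∀ p : k[X], ∀ x, β * (aeval δ p * x) = aeval δ p * (β * x) := fun p x => by rw [← mul_assoc, ← h.symm.eva, mul_assoc]
  have mm : ∀ p q : k[X], ∀ x, aeval δ p * (aeval δ q * x) = aeval δ (p * q) * x := fun p q x => by rw [map_mul, mul_assoc]
  have da : α * (β * α) = aeval δ (X : k[X]) * α := by rw [aeval_X, h.da, mul_assoc]
  have db : β * (α * β) = aeval δ (X : k[X]) * β := by rw [aeval_X, h.symm.da, mul_assoc]
  generalize hπ : a * X ^ (n + 1) = π at *
  generalize a * a * X ^ (2 * n + 1) = ρ at *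
  refine ⟨f, π, ρ, θ, hf, fun e => hn ⟨n, ?_⟩, ?_, ⟨h.evsq _ _, h.symm.evsq _ _, ?_, ?_, fun x y => ?_, fun x => ?_, fun x => ?_,
    fun x hx => ?_⟩, hθ, pp, rx, pr, n + 1, ?_⟩
  · simpa [hf.degree_le_zero_iff_eq_one.1 e.le] using z 1
  · obtain ⟨u, v, e⟩ := c1
    exact IsUnit.of_mul_eq_one (AdjoinRoot.mk f u) (by simpa [mul_comm] using congrArg (AdjoinRoot.mk f) e)
  · simp only [mul_assoc, ca, cb, da, mm]
    rw [show π * (ρ * (π * X)) = π * π * (ρ * X) by ring, map_mul, pp, rx, ← map_mul, pp]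
  · simp only [mul_assoc, ca, cb, db, mm]
    rw [show ρ * (π * (ρ * X)) = π * ρ * (ρ * X) by ring, map_mul, pr, rx, ← map_mul, mul_comm ρ, pr]
  · obtain ⟨x, rfl⟩ := AdjoinRoot.mk_surjective x
    obtain ⟨y, rfl⟩ := AdjoinRoot.mk_surjective y
    rw [← map_mul, hθ, hθ, hθ, ← map_mul, show x * π * (y * π) = x * y * (π * π) by ring, map_mul _ _ (π * π), pp, ← map_mul]
  · obtain ⟨x, rfl⟩ := AdjoinRoot.mk_surjective x
    rw [hθ, mul_assoc, ← h.eva, mm, mm, mul_comm π]
  · obtain ⟨x, rfl⟩ := AdjoinRoot.mk_surjective x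
    rw [hθ, mul_assoc, ← h.symm.eva, mm, mm, mul_comm ρ]
  · obtain ⟨x, rfl⟩ := AdjoinRoot.mk_surjective x
    rw [hθ, mm] at hx
    have : aeval δ (x * π * π * X) = 0 := by
      rw [map_mul, aeval_X]
      conv_lhs => rw [congrArg (aeval δ (x * π * π) * ·) h.d]
      rw [mul_add, ← mul_assoc, hx, ← cb, hx]; simp
    have d := (Dvd.intro_left _ e1.symm).trans (minpoly.dvd k δ this)
    have c2 : IsCoprime f π := ⟨b, 1, by linear_combination hab⟩
    exact AdjoinRoot.mk_eq_zero.2 (c2.dvd_of_dvd_mul_right (c2.dvd_of_dvd_mul_right (c1.symm.dvd_of_dvd_mul_right d)))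
  · rw [← map_pow, show 1 - π = b * f by linear_combination -hab, ← z (X * b ^ (n + 1) * f ^ n)]
    congr 1; ring

end mu

section rk
variable {k : Type*} [Field k] {M : Type*} [AddCommGroup M] [Module k M] [FiniteDimensional k M]

/-- The rank of an endomorphism. -/
noncomputable def rk (a : Module.End k M) : ℕ := Module.finrank k (LinearMap.range a)

theorem rk_mul_le_left (a b : Module.End k M) : rk (a * b) ≤ rk a :=
  Submodule.finrank_mono (LinearMap.range_comp_le_range b a)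

theorem rk_mul_le_right (a b : Module.End k M) : rk (a * b) ≤ rk b := by
  rw [rk, Module.End.mul_eq_comp, LinearMap.range_comp]; exact Submodule.finrank_map_le _ _

theorem inj_of_rk {x e : Module.End k M} (h : rk e ≤ rk (x * e)) {y : Module.End k M} (hy : x * (e * y) = 0) : e * y = 0 := by
  have h1 := LinearMap.finrank_range_add_finrank_ker (x.domRestrict (LinearMap.range e))
  rw [LinearMap.range_domRestrict, ← LinearMap.range_comp] at h1
  have h2 : LinearMap.ker (x.domRestrict (LinearMap.range e)) = ⊥ := Submodule.finrank_eq_zero.1 (by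
    have : Module.finrank k (LinearMap.range (x ∘ₗ e)) = rk (x * e) := rfl
    unfold rk at h this; omega)
  ext v
  have := LinearMap.ker_eq_bot'.1 h2 ⟨e (y v), _, rfl⟩ (LinearMap.congr_fun hy v)
  exact congrArg Subtype.val this

theorem MU.unit {R : Type*} [CommRing R] [Algebra k R] [Module.Finite k R] {θ : R →ₗ[k] Module.End k M} {e f : Module.End k M}
    (h : MU θ e f) {r : R} (hr : rk e ≤ rk (θ r * e)) : IsUnit r := by
  haveI := IsArtinianRing.of_finite k R
  refine IsArtinianRing.isUnit_of_mem_nonZeroDivisors (mem_nonZeroDivisors_iff_left.2 fun s hs => h.inj _ ?_)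
  rw [← h.ce]
  exact inj_of_rk hr (by rw [h.ce, ← mul_assoc, ← h.mul, hs, map_zero, zero_mul])

theorem card_gt [Finite k] (h2 : (2 : k) ≠ 0) (h3 : Nat.card k ≠ 3) : 3 < Nat.card k := by
  have := Fintype.ofFinite k
  have a : 1 < Nat.card k := Finite.one_lt_card
  have b := FiniteField.cast_card_eq_zero k
  rw [← Nat.card_eq_fintype_card] at b
  have : Nat.card k ≠ 2 := fun e => h2 (by rw [e] at b; exact_mod_cast b)
  omega

theorem TQ.univ {α β δ : Module.End k M} (h : TQ α β δ) (h2 : (2 : k) ≠ 0) (h3 : Nat.card k ≠ 3) {H : Subgroup (Module.End k M)ˣ}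
    (ha : ∀ c : k, In H (c • α)) (hb : ∀ c : k, In H (c • β))
    (hm : ∀ x, x * x = 0 → x ≠ 0 → (∀ c : k, In H (c • x)) → rk α ≤ rk x) (g : k[X]) :
    In H (aeval δ g * α) ∧ In H (aeval δ g * β) := by
  have hd : IsIntegral k δ := Algebra.IsIntegral.isIntegral δ
  rcases finite_or_infinite k with _ | _
  swap
  · exact ⟨h.univ_inf h2 hd ha hb g, h.symm.univ_inf h2 hd hb ha g⟩
  by_cases hn : IsNilpotent δ
  · exact ⟨h.univ_nil h2 hn ha hb g, h.symm.univ_nil h2 hn hb ha g⟩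
  obtain ⟨f, π, ρ, θ, hf, f0, ht, mu, hθ, pp, rx, pr, nl⟩ := h.exists_MU hd hn
  haveI := (AdjoinRoot.powerBasis' hf).finite
  haveI : Finite (AdjoinRoot f) := Module.finite_of_finite k
  haveI := AdjoinRoot.nontrivial f f0
  obtain ⟨p, _⟩ := CharP.exists k
  haveI hp : Fact p.Prime := ⟨CharP.char_is_prime k p⟩
  have hp2 : p ≠ 2 := by rintro rfl; exact h2 (CharP.cast_eq_zero k 2)
  have mm : ∀ p q : k[X], ∀ x, aeval δ p * (aeval δ q * x) = aeval δ (p * q) * x := fun p q x => by rw [map_mul, mul_assoc]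
  have z1 : ∀ g, aeval δ (g * π * (1 - π)) = 0 := fun g => by rw [mul_assoc, mul_sub, map_mul, map_sub, pp, mul_one, sub_self, mul_zero]
  have oo : aeval δ ((1 - π) * (1 - π)) = aeval δ (1 - π) := by
    rw [show (1 - π) * (1 - π) = 1 - π - 1 * π * (1 - π) by ring, map_sub, z1, sub_zero]
  have h0 : TQ (aeval δ (1 - π) * α) (aeval δ (1 - π) * β) (aeval δ ((1 - π) * X)) := ⟨h.evsq _ _, h.symm.evsq _ _, by
    rw [mul_assoc, mul_assoc, ← mul_assoc α, ← h.eva, ← mul_assoc β, ← h.symm.eva, mul_assoc, mul_assoc, mm, mm, oo, ← mul_add,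
      ← h.d, map_mul, aeval_X]⟩
  obtain ⟨m, m1, ⟨N, m2⟩, m3, m4, m5⟩ := h0.exists_nil (k := k) nl
  have Q1 : ∀ r, aeval δ (1 - π) * θ r = 0 ∧ θ r * aeval δ (1 - π) = 0 := fun r => by
    obtain ⟨r, rfl⟩ := AdjoinRoot.mk_surjective r
    rw [hθ, ← map_mul, ← map_mul, mul_comm, z1]; simp
  have Q2 : ∀ x : Module.End k M, δ * x = x * δ → ∀ p : k[X], aeval δ p * x * aeval δ (1 - π) = aeval δ (1 - π) * (aeval δ p * x) :=
    fun x hx p => by rw [mul_assoc, ← comm_ev hx, mm, mm, mul_comm p]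
  have Q3 : ∀ y, aeval δ (1 - π) * (mu.Ψ y : Module.End k M) = aeval δ (1 - π) ∧
      (mu.Ψ y : Module.End k M) * aeval δ (1 - π) = aeval δ (1 - π) := fun y => by
    have a := Q2 α h.cm π
    have b := Q2 β h.symm.cm ρ
    generalize aeval δ (1 - π) = Q at *
    rw [mu.Ψ_val, MU.Φ]
    generalize aeval δ π * α = e at *
    generalize aeval δ ρ * β = f at *
    constructor
    · simp only [mul_add, ← mul_assoc, (Q1 _).1, zero_mul, add_zero, mul_one]
    · have a' : ∀ x, e * (Q * x) = Q * (e * x) := fun x => by rw [← mul_assoc, a, mul_assoc]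
      have b' : ∀ x, f * (Q * x) = Q * (f * x) := fun x => by rw [← mul_assoc, b, mul_assoc]
      simp only [add_mul, mul_assoc, a, b, a', b']
      simp only [← mul_assoc, (Q1 _).2, zero_mul, add_zero, one_mul]
  have m6 := m5 ⟨⟨⟨{n | ∀ y, (mu.Ψ y : Module.End k M) * n = n ∧ n * mu.Ψ y = n}, fun a b y => by
      rw [mul_add, add_mul, (a y).1, (a y).2, (b y).1, (b y).2]; simp⟩, by simp⟩, fun c n a y => by
      rw [mul_smul_comm, smul_mul_assoc, (a y).1, (a y).2]; simp⟩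
    (Submodule.mul_le.2 fun a ha b hb y => ⟨by rw [← mul_assoc, (ha y).1], by rw [mul_assoc, (hb y).2]⟩)
    (fun y => ⟨by rw [← mul_assoc, (Q3 y).2], by rw [h.eva, mul_assoc, (Q3 y).1]⟩)
    (fun y => ⟨by rw [← mul_assoc, (Q3 y).2], by rw [h.symm.eva, mul_assoc, (Q3 y).1]⟩)
  have rt : ∀ g, θ (AdjoinRoot.mk f g * AdjoinRoot.root f) * (aeval δ ρ * β) = aeval δ (g * π) * β := fun g => by
    rw [← AdjoinRoot.mk_X, ← map_mul, hθ, mm, show g * X * π * ρ = g * π * (ρ * X) by ring, map_mul, rx, ← map_mul, mul_assoc g,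
      map_mul, pp, ← map_mul]
  have ra : ∀ g, θ (AdjoinRoot.mk f g) * (aeval δ π * α) = aeval δ (g * π) * α := fun g => by
    rw [hθ, mm, mul_assoc g, map_mul, pp, ← map_mul]
  have rel : ∀ x ∈ XX k (AdjoinRoot.root f), ∃ n ∈ m, ∃ y ∈ H, (y : Module.End k M) = mu.Ψ x * (1 + n) := fun x hx => by
    have gen : ∀ (c : k) x, x = Tm (algebraMap k _ c) ∨ x = Lm (algebraMap k _ c * AdjoinRoot.root f) →
        ∃ n ∈ m, ∃ y ∈ H, (y : Module.End k M) = mu.Ψ x * (1 + n) := by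
      rintro c _ (rfl | rfl)
      · obtain ⟨y, hy, e⟩ := ha c
        refine ⟨_, m.smul_mem c m3, y, hy, ?_⟩
        rw [mul_add, mul_one, (m6 (m.smul_mem c m3) _).1, mu.Ψ_T, e, AdjoinRoot.algebraMap_eq, ← AdjoinRoot.mk_C, ra]
        simp [Algebra.algebraMap_eq_smul_one, sub_mul, smul_sub]
      · obtain ⟨y, hy, e⟩ := hb c
        refine ⟨_, m.smul_mem c m4, y, hy, ?_⟩
        rw [mul_add, mul_one, (m6 (m.smul_mem c m4) _).1, mu.Ψ_L, e, AdjoinRoot.algebraMap_eq, ← AdjoinRoot.mk_C, rt]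
        simp [Algebra.algebraMap_eq_smul_one, sub_mul, smul_sub]
    induction hx using closure_induction'' with
    | mem x hx => obtain ⟨c, e⟩ := hx; exact gen c x e
    | inv_mem x hx => obtain ⟨c, rfl | rfl⟩ := hx <;> exact gen (-c) _ (by simp [Tm_inv, Lm_inv])
    | one => exact ⟨0, m.zero_mem, 1, H.one_mem, by simp⟩
    | mul x y _ _ a b =>
      obtain ⟨n, hn, u, hu, e⟩ := a
      obtain ⟨n', hn', u', hu', e'⟩ := b
      refine ⟨n + n' + n * n', m.add_mem (m.add_mem hn hn') (m1 (Submodule.mul_mem_mul hn hn')), u * u', H.mul_mem hu hu', ?_⟩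
      rw [Units.val_mul, e, e', map_mul, Units.val_mul, mul_assoc, ← mul_assoc (1 + n), add_mul 1 n, (m6 hn y).2, one_mul, mul_assoc]
      congr 1
      simp only [mul_add, add_mul, mul_one, (m6 hn y).1]
      rw [← mul_assoc, (m6 hn y).1]; abel
  have LH : LL p (XX k (AdjoinRoot.root f)) ≤ H.comap mu.Ψ := (closure_le _).2 fun x hx => by
    obtain ⟨n, hn, y, hy, e⟩ := rel x hx.1
    obtain ⟨j, hj⟩ := pow_pow_eq_one_of_nilpotent (p := p) (by rw [← map_natCast (algebraMap k _), CharP.cast_eq_zero, map_zero])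
      (n := n) ⟨N, by simpa [m2] using Submodule.pow_mem_pow m hn N⟩
    have : y ^ p ^ j = mu.Ψ (x ^ p ^ j) := Units.ext (by
      rw [Units.val_pow_eq_pow_val, e, Commute.mul_pow, hj, mul_one, map_pow, Units.val_pow_eq_pow_val]
      exact (Commute.one_right _).add_right ((m6 hn x).1.trans (m6 hn x).2.symm))
    obtain ⟨i, hi⟩ := exists_pow_eq_self_of_coprime (x := x) (n := p ^ j) (((Nat.Prime.coprime_iff_not_dvd hp.out).2 hx.2).pow_left j)
    change mu.Ψ x ∈ H
    rw [← hi, map_pow, ← this]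
    exact H.pow_mem (H.pow_mem hy _) _
  have sq : ∀ {e f' : Module.End k M}, MU θ e f' → ∀ r, θ r * e * (θ r * e) = 0 := fun mu r => by
    rw [mul_assoc, mu.rules.2.2.2, mu.ee]; simp
  have r1 : rk (aeval δ π * α) ≤ rk α := rk_mul_le_right _ _
  have r2 : rk (aeval δ ρ * β) ≤ rk α := by rw [← mu.fef]; exact ((rk_mul_le_left _ _).trans (rk_mul_le_right _ _)).trans r1
  have key := fin_ring p hp2 (card_gt h2 h3) ht (fun r hr => or_iff_not_imp_left.2 fun r0 =>
      mu.unit (r1.trans (hm _ (sq mu r) (mt (mu.inj r) r0) fun c => ⟨_, LH (LL_sT p _ c r hr), by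
        rw [mu.Ψ_T, ← Algebra.smul_def, map_smul, smul_mul_assoc]⟩)))
    (fun r hr => or_iff_not_imp_left.2 fun r0 =>
      mu.symm.unit (r2.trans (hm _ (sq mu.symm r) (mt (mu.symm.inj r) r0) fun c => ⟨_, LH (LL_sL p _ c r hr), by
        rw [mu.Ψ_L, ← Algebra.smul_def, map_smul, smul_mul_assoc]⟩)))
  have k1 : ∀ g : k[X], In H (aeval δ (g * π) * α) := fun g => ⟨_, LH (key g).1, by rw [mu.Ψ_T, AdjoinRoot.aeval_eq, ra]⟩
  have k2 : ∀ g : k[X], In H (aeval δ (g * π) * β) := fun g => ⟨_, LH (key (g * X)).2, by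
    rw [mu.Ψ_L, AdjoinRoot.aeval_eq, map_mul, AdjoinRoot.mk_X, rt]⟩
  have pa : aeval δ (1 - π) * α = 0 := by
    rw [h.eva]
    refine inj_of_rk (hm _ mu.ee (fun e => one_ne_zero (mu.inj 1 (by rw [e, mul_zero]))) fun c => ?_) ?_
    · simpa [Algebra.algebraMap_eq_smul_one] using k1 (C c)
    · rw [← h.eva, mm, show π * (1 - π) = 1 * π * (1 - π) by ring, z1, zero_mul]
  have pb : δ * (aeval δ (1 - π) * β) = 0 := by
    rw [← mul_assoc, ← comm_ev rfl, mul_assoc, h.symm.da, mul_assoc β, ← mul_assoc _ β, h.symm.eva, mul_assoc, ← mul_assoc _ α, pa]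
    simp
  constructor
  · convert k1 g using 1
    rw [← sub_eq_zero, ← sub_mul, ← map_sub, ← mul_one_sub, ← mm, pa, mul_zero]
  · have := ((k2 g).add (k2 (-C (g.coeff 0))) (h.symm.evsq _ _)).add (hb (g.coeff 0)) (by simp [add_mul, mul_assoc, h.bb])
    convert this using 1
    have e := congrArg (aeval δ g.divX * ·) pb
    conv_lhs => rw [← divX_mul_X_add g]
    conv_rhs => rw [← divX_mul_X_add g]
    simp [Algebra.algebraMap_eq_smul_one, add_mul, mul_sub, sub_mul, mul_assoc, sub_eq_zero] at e ⊢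
    rw [e]

end rk

end CfsgH9.QP
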