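import Cfsg.Agent.H9.QP4

/-! Quadratic elements of minimal rank: opposite pairs and commutators. -/

set_option autoImplicit false
set_option linter.unusedSectionVars false

namespace CfsgH9.QP

open Subgroup Polynomial Cfsg
open LinearMap (range ker)

section alg
variable {k : Type*} [Field k] {A : Type*} [Ring A] [Algebra k A]

/-- Conjugation as an algebra map. -/
def cj (k : Type*) [Field k] [Algebra k A] (g : Aˣ) : A →ₐ[k] A where
  toFun x := g * x * (g⁻¹ : Aˣ)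
  map_one' := by simp
  map_mul' x y := by simp [mul_assoc]
  map_zero' := by simp
  map_add' x y := by simp [mul_add, add_mul]
  commutes' c := by simp [Algebra.algebraMap_eq_smul_one]

theorem cj_apply (g : Aˣ) (x : A) : cj k g x = g * x * (g⁻¹ : Aˣ) := rfl
theorem cj_cj (g h : Aˣ) (x : A) : cj k g (cj k h x) = cj k (g * h) x := by simp [cj_apply, mul_assoc]
theorem cj_one (x : A) : cj k 1 x = x := by simp [cj_apply]
theorem cj_inv (g : Aˣ) (x : A) : cj k g⁻¹ (cj k g x) = x := by rw [cj_cj, inv_mul_cancel, cj_one]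
theorem cj_eq_zero {g : Aˣ} {x : A} : cj k g x = 0 ↔ x = 0 := ⟨fun h => by rw [← cj_inv (k := k) g x, h, map_zero], fun h => by simp [h]⟩
theorem cj_val (g h : Aˣ) : ((g * h * g⁻¹ : Aˣ) : A) - 1 = cj k g ((h : A) - 1) := by simp [cj_apply, mul_sub, sub_mul]

theorem Uni.conj {N : Subgroup Aˣ} (h : Uni k N) (g : Aˣ) : Uni k (conjBy N g) := by
  obtain ⟨n, hn⟩ := h
  refine nil_of_le (W := (aug k N).map (cj k g).toLinearMap) (aug_le.2 ?_) ⟨n, by rw [← Submodule.map_pow, hn]; exact Submodule.map_bot _⟩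
  rintro _ ⟨x, hx, rfl⟩
  exact ⟨_, mem_aug hx, (cj_val (k := k) g x).symm⟩

theorem cube {V : Submodule k A} (h : V * V * V = 0) : (V ⊔ V * V) * (V ⊔ V * V) ≤ V * V ∧ V * V * (V ⊔ V * V) = 0 ∧
    (V ⊔ V * V) * (V * V) = 0 := by
  simp [Submodule.mul_sup, Submodule.sup_mul, ← mul_assoc, h]

/-- No nontrivial unipotent normal subgroup. -/
def NU (k : Type*) [Field k] [Algebra k A] (G : Subgroup Aˣ) : Prop :=
  ∀ N ≤ G, (∀ g ∈ G, ∀ n ∈ N, g * n * g⁻¹ ∈ N) → Uni k N → N = ⊥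

theorem conjBy_conjBy {G : Type*} [Group G] (N : Subgroup G) (g h : G) : conjBy (conjBy N g) h = conjBy N (h * g) := by
  rw [conjBy, conjBy, Subgroup.map_map]; congr 1; ext; simp [mul_assoc]

theorem conjBy_one {G : Type*} [Group G] (N : Subgroup G) : conjBy N 1 = N := by ext; simp

theorem mem_conjBy {G : Type*} [Group G] {N : Subgroup G} {g x : G} : x ∈ conjBy N g ↔ g⁻¹ * x * g ∈ N :=
  ⟨by rintro ⟨y, hy, rfl⟩; simpa [mul_assoc] using hy, fun h => ⟨_, h, by simp [mul_assoc]⟩⟩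

theorem conj_sSup {G : Type*} [Group G] {W : Set (Subgroup G)} {g : G} (h : ∀ H ∈ W, conjBy H g ∈ W) :
    ∀ n ∈ sSup W, g * n * g⁻¹ ∈ sSup W := fun _ hn =>
  (show sSup W ≤ (sSup W).comap (MulAut.conj g).toMonoidHom from sSup_le fun H hH => map_le_iff_le_comap.1 (le_sSup (h H hH))) hn

theorem NU.sSup_eq [FiniteDimensional k A] {G : Subgroup Aˣ} (hG : NU k G) {W : Set (Subgroup Aˣ)} (h0 : ∀ H ∈ W, H ≤ G)
    (h1 : ∀ H ∈ W, ∀ K ∈ W, Uni k (H ⊔ K)) (h2 : ∀ H ∈ W, ∀ g ∈ G, conjBy H g ∈ W) : ∀ H ∈ W, H = ⊥ := fun H hH =>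
  le_bot_iff.1 ((le_sSup hH).trans (hG _ (sSup_le h0) (fun g hg => conj_sSup fun H hH => h2 H hH g hg)
    (uni_sSup h1 fun H hH K hK g hg => h2 H hH g (h0 K hK hg))).le)

theorem NU.normal [FiniteDimensional k A] {G C : Subgroup Aˣ} (hG : NU k G) (h : C ≤ G) (hn : ∀ g ∈ G, ∀ n ∈ C, g * n * g⁻¹ ∈ C) :
    NU k C := fun N h1 h2 h3 => by
  have le : ∀ g ∈ G, conjBy N g ≤ C := by rintro g hg _ ⟨x, hx, rfl⟩; exact hn g hg x (h1 hx)
  refine hG.sSup_eq (W := {H | ∃ g ∈ G, H = conjBy N g}) ?_ ?_ ?_ N ⟨1, G.one_mem, (conjBy_one N).symm⟩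
  · rintro _ ⟨g, hg, rfl⟩; exact (le g hg).trans h
  · rintro _ ⟨g, hg, rfl⟩ _ ⟨g', hg', rfl⟩
    refine uni_sup (h3.conj g) (h3.conj g') fun u hu d hd => mem_conjBy.2 ?_
    have := h2 _ (hn _ (G.inv_mem hg) u (le g' hg' hu)) _ (mem_conjBy.1 hd)
    simpa [mul_assoc] using this
  · rintro _ ⟨g, hg, rfl⟩ g' hg'; exact ⟨_, G.mul_mem hg' hg, conjBy_conjBy ..⟩

/-- A pair of matrix units. -/
structure SP (a b : A) : Prop where
  aa : a * a = 0
  bb : b * b = 0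
  aba : a * b * a = a
  bab : b * a * b = b

theorem SP.symm {a b : A} (h : SP a b) : SP b a := ⟨h.bb, h.aa, h.bab, h.aba⟩
theorem SP.rules {a b : A} (h : SP a b) : (∀ x, a * (a * x) = 0) ∧ (∀ x, a * (b * (a * x)) = a * x) ∧ a * (b * a) = a ∧ a * a = 0 :=
  ⟨fun x => by rw [← mul_assoc, h.aa, zero_mul], fun x => by rw [← mul_assoc, ← mul_assoc, h.aba], by rw [← mul_assoc, h.aba], h.aa⟩

/-- The Weyl element. -/
def SP.w {a b : A} (h : SP a b) : Aˣ := sq a h.aa * (sq b h.bb)⁻¹ * sq a h.aa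

theorem SP.w_val {a b : A} (h : SP a b) : (h.w : A) = 1 - a * b - b * a + a - b := by
  show (1 + a) * (1 - b) * (1 + a) = _
  simp only [mul_add, add_mul, mul_sub, sub_mul, mul_assoc, h.rules, one_mul, mul_one]; abel

theorem SP.w_cj {a b : A} (h : SP a b) : cj k h.w a = -b := by
  rw [cj_apply, Units.mul_inv_eq_iff_eq_mul, h.w_val]
  simp only [mul_add, add_mul, mul_sub, sub_mul, mul_assoc, h.rules, h.symm.rules, one_mul, mul_one, neg_mul, mul_zero]; abel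

theorem SP.ww {a b : A} (h : SP a b) : ((h.w * h.w : Aˣ) : A) = 1 - 2 * (a * b + b * a) := by
  rw [Units.val_mul, h.w_val, two_mul]
  simp only [mul_add, add_mul, mul_sub, sub_mul, mul_assoc, h.rules, h.symm.rules, one_mul, mul_one, mul_zero]; abel

theorem SP.ww_sq {a b : A} (h : SP a b) : h.w * h.w * (h.w * h.w) = 1 := Units.ext (by
  rw [Units.val_mul, h.ww, two_mul]
  simp only [mul_add, add_mul, mul_sub, sub_mul, mul_assoc, h.rules, h.symm.rules, one_mul, mul_one, mul_zero, Units.val_one]; abel)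

theorem In.sq_mem {G : Subgroup Aˣ} {a : A} (h : In G a) (ha : a * a = 0) : sq a ha ∈ G := by
  obtain ⟨g, hg, e⟩ := h
  exact (Units.ext e : g = sq a ha) ▸ hg

end alg

section lin
variable {k : Type*} [Field k] {M : Type*} [AddCommGroup M] [Module k M] [FiniteDimensional k M]

local notation "𝔼" => Module.End k M

theorem lz {a b x : 𝔼} (h : range b ≤ range a) (e : x * a = 0) : x * b = 0 := by
  ext v
  obtain ⟨u, hu⟩ := h ⟨v, rfl⟩
  rw [Module.End.mul_apply, ← hu]; exact LinearMap.congr_fun e u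

theorem rz {a b y : 𝔼} (h : ker a ≤ ker b) (e : a * y = 0) : b * y = 0 := by
  ext v
  exact h (LinearMap.congr_fun e v)

theorem range_mul_le (a b : 𝔼) : range (a * b) ≤ range a := LinearMap.range_comp_le_range b a
theorem ker_le_mul (a b : 𝔼) : ker b ≤ ker (a * b) := LinearMap.ker_le_ker_comp b a
theorem range_le_ker {a b : 𝔼} : range b ≤ ker a ↔ a * b = 0 := LinearMap.range_le_ker_iff

theorem rk_mul_add (x e : 𝔼) : rk (x * e) + Module.finrank k (range e ⊓ ker x : Submodule k M) = rk e := by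
  have h1 := LinearMap.finrank_range_add_finrank_ker (x.domRestrict (range e))
  rw [LinearMap.range_domRestrict, ← LinearMap.range_comp, LinearMap.ker_domRestrict,
    ← Submodule.finrank_map_subtype_eq, Submodule.map_comap_subtype] at h1
  exact h1

theorem rk_add_le (a b : 𝔼) : rk (a + b) ≤ rk a + rk b :=
  (Submodule.finrank_mono (LinearMap.range_add_le a b)).trans (Submodule.finrank_add_le_finrank_add_finrank _ _)

theorem rk_cj (g : 𝔼ˣ) (a : 𝔼) : rk (cj k g a) = rk a := by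
  have : ∀ (g : 𝔼ˣ) (a : 𝔼), rk (cj k g a) ≤ rk a := fun g a => (rk_mul_le_left _ _).trans (rk_mul_le_right _ _)
  exact le_antisymm (this g a) (by simpa only [cj_inv] using this g⁻¹ (cj k g a))

theorem ker_eq_of_rk {a b : 𝔼} (h : ker a ≤ ker b) (e : rk a ≤ rk b) : ker a = ker b := by
  have h1 := LinearMap.finrank_range_add_finrank_ker a
  have h2 := LinearMap.finrank_range_add_finrank_ker b
  exact Submodule.eq_of_le_of_finrank_le h (by unfold rk at e; omega)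

theorem nu_of_irr {G : Subgroup 𝔼ˣ} (h : IsIrreducibleFor G) : NU k G := fun N h1 h2 h3 => by
  rcases h.2 (⨅ n ∈ N, ker ((n : 𝔼) - 1)) (fun g hg v hv => by
    simp only [Submodule.mem_iInf, LinearMap.mem_ker] at hv ⊢
    intro n hn
    have := congrArg (g : 𝔼) (hv _ (h2 _ (G.inv_mem hg) n hn))
    simpa [← Module.End.mul_apply, ← mul_assoc] using this) with e | e
  · obtain ⟨n, hn⟩ := h3
    obtain ⟨v, hv⟩ := h.1
    exfalso
    induction n with
    | zero => exact hv (LinearMap.congr_fun ((Submodule.mem_bot k).1 (hn ▸ Submodule.one_le.1 (pow_zero (aug k N)).ge)) v)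
    | succ n ih =>
      refine ih (eq_bot_iff.2 fun x hx => (Submodule.mem_bot k).2 (LinearMap.ext fun v => (Submodule.mem_bot k).1 (e ▸ ?_)))
      simp only [Submodule.mem_iInf, LinearMap.mem_ker]
      intro g hg
      have := Submodule.mul_mem_mul (mem_aug (k := k) hg) hx
      rw [← pow_succ', hn] at this
      exact LinearMap.congr_fun ((Submodule.mem_bot k).1 this) v
  · refine eq_bot_iff.2 fun n hn => Units.ext (sub_eq_zero.1 (LinearMap.ker_eq_top.1 (top_le_iff.1 (e ▸ ?_))))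
    exact iInf₂_le n hn

variable {G : Subgroup (Module.End k M)ˣ} {a b : Module.End k M}

/-- Quadratic families. -/
structure Qs (G : Subgroup 𝔼ˣ) (a : 𝔼) : Prop where
  sq : a * a = 0
  mem : ∀ c : k, In G (c • a)

/-- Quadratic elements of minimal rank. -/
structure Mn (G : Subgroup 𝔼ˣ) (a : 𝔼) : Prop extends Qs G a where
  ne : a ≠ 0
  min : ∀ b, b ≠ 0 → Qs G b → rk a ≤ rk b

theorem Qs.mem1 (h : Qs G a) : In G a := by simpa using h.mem 1
theorem Qs.conj (h : Qs G a) {g : 𝔼ˣ} (hg : g ∈ G) : Qs G (cj k g a) :=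
  ⟨by rw [← map_mul, h.sq, map_zero], fun c => by rw [← map_smul]; exact (h.mem c).conj hg⟩
theorem Mn.of_le (h : Mn G a) (hb : Qs G b) (h0 : b ≠ 0) (e : rk b ≤ rk a) : Mn G b :=
  ⟨hb, h0, fun c hc hq => e.trans (h.min c hc hq)⟩
theorem Mn.conj (h : Mn G a) {g : 𝔼ˣ} (hg : g ∈ G) : Mn G (cj k g a) :=
  h.of_le (h.toQs.conj hg) (mt cj_eq_zero.1 h.ne) (rk_cj g a).le
theorem Mn.rk_eq (h : Mn G a) (hb : Mn G b) : rk a = rk b := le_antisymm (h.min b hb.ne hb.toQs) (hb.min a h.ne h.toQs)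

/-- The space of elements with the same action. -/
def EE (G : Subgroup 𝔼ˣ) (a : 𝔼) : Submodule k 𝔼 where
  carrier := {b | (∀ c : k, In G (c • b)) ∧ range a ≤ ker b ∧ ker a ≤ ker b ∧ range b ≤ range a}
  zero_mem' := ⟨fun c => by simpa using In.zero G, by simp⟩
  add_mem' := fun {x y} hx hy => ⟨fun c => by
      simpa using (hx.1 c).add (hy.1 c) (by simp [range_le_ker.1 (hy.2.2.2.trans hx.2.1)]),
    fun v hv => by simp [show x v = 0 from hx.2.1 hv, show y v = 0 from hy.2.1 hv],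
    fun v hv => by simp [show x v = 0 from hx.2.2.1 hv, show y v = 0 from hy.2.2.1 hv],
    (LinearMap.range_add_le x y).trans (sup_le hx.2.2.2 hy.2.2.2)⟩
  smul_mem' := fun c x hx => ⟨fun d => by simpa only [smul_smul] using hx.1 (d * c), hx.2.1.trans (LinearMap.ker_le_ker_smul _ _),
    hx.2.2.1.trans (LinearMap.ker_le_ker_smul _ _), (LinearMap.range_smul_le_range _ _).trans hx.2.2.2⟩

theorem EE_mul {x y : 𝔼} (hx : x ∈ EE G a) (hy : y ∈ EE G a) : x * y = 0 := range_le_ker.1 (hy.2.2.2.trans hx.2.1)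
theorem EE_lz {x y : 𝔼} (hy : y ∈ EE G a) (e : x * a = 0) : x * y = 0 := lz hy.2.2.2 e
theorem EE_rz {x y : 𝔼} (hy : y ∈ EE G a) (e : a * x = 0) : y * x = 0 := rz hy.2.2.1 e
theorem EE_qs (h : b ∈ EE G a) : Qs G b := ⟨EE_mul h h, h.1⟩
theorem Qs.self (h : Qs G a) : a ∈ EE G a := ⟨h.mem, range_le_ker.2 h.sq, le_rfl, le_rfl⟩
theorem Qs.mem_EE (h : Qs G b) (ha : a * a = 0) (h1 : ker a ≤ ker b) (h2 : range b ≤ range a) : b ∈ EE G a :=
  ⟨h.mem, (range_le_ker.2 ha).trans h1, h1, h2⟩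

theorem Mn.of_mem (h : Mn G a) (hb : b ∈ EE G a) (h0 : b ≠ 0) : Mn G b ∧ ker b = ker a ∧ range b = range a := by
  have := h.min b h0 (EE_qs hb)
  exact ⟨h.of_le (EE_qs hb) h0 (Submodule.finrank_mono hb.2.2.2), (ker_eq_of_rk hb.2.2.1 this).symm,
    Submodule.eq_of_le_of_finrank_le hb.2.2.2 this⟩

theorem EE_congr (h1 : ker b = ker a) (h2 : range b = range a) : EE G b = EE G a := by
  ext x; show _ ∧ _ ↔ _ ∧ _; rw [h1, h2]

theorem Mn.EE_eq (h : Mn G a) (hb : b ∈ EE G a) (h0 : b ≠ 0) : EE G b = EE G a := EE_congr (h.of_mem hb h0).2.1 (h.of_mem hb h0).2.2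
theorem Mn.mem_symm (h : Mn G a) (hb : b ∈ EE G a) (h0 : b ≠ 0) : a ∈ EE G b := h.EE_eq hb h0 ▸ h.self

theorem EE_conj (h : b ∈ EE G a) {g : 𝔼ˣ} (hg : g ∈ G) : cj k g b ∈ EE G (cj k g a) := by
  refine ⟨((EE_qs h).conj hg).mem, range_le_ker.2 (by rw [← map_mul, range_le_ker.1 h.2.1, map_zero]), fun v hv => ?_, ?_⟩
  · have : a ((g⁻¹ : 𝔼ˣ).1 v) = 0 := by simpa [cj_apply, ← Module.End.mul_apply, ← mul_assoc] using congrArg (g⁻¹ : 𝔼ˣ).1 hv
    simp [cj_apply, show b _ = 0 from h.2.2.1 this]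
  · rintro _ ⟨v, rfl⟩
    obtain ⟨u, hu⟩ := h.2.2.2 ⟨(g⁻¹ : 𝔼ˣ).1 v, rfl⟩
    refine ⟨g.1 u, ?_⟩
    simp only [cj_apply, Module.End.mul_apply, ← hu]
    rw [← Module.End.mul_apply (g⁻¹ : 𝔼ˣ).1, Units.inv_mul]; rfl

/-- The root subgroup. -/
def Eg (G : Subgroup 𝔼ˣ) (a : 𝔼) : Subgroup 𝔼ˣ := oa (EE G a) (Submodule.mul_le.2 fun _ hx _ hy => by simp [EE_mul hx hy])

theorem mem_Eg {g : 𝔼ˣ} : g ∈ Eg G a ↔ (g : 𝔼) - 1 ∈ EE G a := ⟨fun h => h.1, fun h => ⟨h, by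
  rw [inv_val (b := (g : 𝔼) - 1) (by simp) (EE_mul h h)]; simpa using (EE G a).neg_mem h⟩⟩

theorem sq_mem_Eg (h : b ∈ EE G a) (hb : b * b = 0) : sq b hb ∈ Eg G a := mem_Eg.2 (by simpa [sq] using h)
theorem Eg_congr (h : EE G b = EE G a) : Eg G b = Eg G a := by ext; rw [mem_Eg, mem_Eg, h]
theorem aug_Eg : aug k (Eg G a) ≤ EE G a := aug_le.2 fun _ => mem_Eg.1

theorem Eg_le : Eg G a ≤ G := fun g hg => by
  obtain ⟨x, hx, e⟩ := (EE_qs (mem_Eg.1 hg)).mem1
  exact (Units.ext (by simpa using e) : x = g) ▸ hx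

theorem Eg_conj {g : 𝔼ˣ} (hg : g ∈ G) : conjBy (Eg G a) g = Eg G (cj k g a) := by
  ext x
  rw [mem_conjBy, mem_Eg, mem_Eg]
  have := cj_val (k := k) g⁻¹ x
  rw [inv_inv] at this
  rw [this]
  exact ⟨fun h => by simpa [cj_cj, cj_one] using EE_conj h hg, fun h => by simpa [cj_inv] using EE_conj h (G.inv_mem hg)⟩

theorem Eg_comm {x y : 𝔼ˣ} (hx : x ∈ Eg G a) (hy : y ∈ Eg G a) : x * y = y * x := Units.ext (by
  have h1 := EE_mul (mem_Eg.1 hx) (mem_Eg.1 hy)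
  have h2 := EE_mul (mem_Eg.1 hy) (mem_Eg.1 hx)
  simp only [Units.val_mul]
  linear_combination (norm := noncomm_ring) h1 - h2)

theorem Mn.Eg_ne (h : Mn G a) : Eg G a ≠ ⊥ := fun e => h.ne (by
  exact add_eq_left.1 (congrArg Units.val (mem_bot.1 (e ▸ sq_mem_Eg h.self h.sq))))

/-- The standing assumptions on the field. -/
structure FK (k : Type*) [Field k] : Prop where
  h2 : (2 : k) ≠ 0
  h3 : Nat.card k ≠ 3

theorem Mn.univ (F : FK k) (h : Mn G a) (hb : Qs G b) (g : k[X]) :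
    Qs G (aeval (a * b + b * a) g * a) ∧ Qs G (aeval (a * b + b * a) g * b) := by
  have t : TQ a b (a * b + b * a) := ⟨h.sq, hb.sq, rfl⟩
  have := fun c : k => t.univ F.h2 F.h3 h.mem hb.mem (fun x h1 h2 h3 => h.min x h2 ⟨h1, h3⟩) (c • g)
  exact ⟨⟨t.evsq _ _, fun c => by simpa using (this c).1⟩, t.symm.evsq _ _, fun c => by simpa using (this c).2⟩

theorem Mn.not_nil (F : FK k) (h : Mn G a) (hb : Qs G b) (o : a * b * a ≠ 0) : ¬ IsNilpotent (a * b + b * a) := by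
  have t : TQ a b (a * b + b * a) := ⟨h.sq, hb.sq, rfl⟩
  have r := h.min _ (by rwa [aeval_X, t.da]) (h.univ F hb X).1
  rw [aeval_X] at r
  rintro ⟨n, hn⟩
  have : ∀ n, a * (a * b + b * a) ^ n ≠ 0 := fun n => by
    induction n with
    | zero => simpa using h.ne
    | succ n ih => exact fun e => ih (inj_of_rk r (by rwa [← mul_assoc, t.cm, mul_assoc, ← pow_succ']))
  exact this n (by rw [hn, mul_zero])

theorem Mn.pi (F : FK k) (h : Mn G a) (hb : Qs G b) {π : k[X]} (h0 : aeval (a * b + b * a) π * a ≠ 0)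
    (pp : aeval (a * b + b * a) (π * π) = aeval (a * b + b * a) π) : aeval (a * b + b * a) π * a = a := by
  have t : TQ a b (a * b + b * a) := ⟨h.sq, hb.sq, rfl⟩
  have := inj_of_rk (h.min _ h0 (h.univ F hb π).1) (y := aeval (a * b + b * a) (1 - π)) (by
    rw [← t.eva, ← mul_assoc, ← map_mul, mul_sub, map_sub, pp, mul_one, sub_self, zero_mul])
  rw [← t.eva, map_sub, map_one, sub_mul, one_mul, sub_eq_zero] at this
  exact this.symm

theorem Mn.peel (F : FK k) (h : Mn G a) (hb : Qs G b) (o : a * b * a ≠ 0) :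
    (∃ a' ∈ EE G b, SP a a' ∧ Mn G a') ∧ ∃ b1, Mn G b1 ∧ Qs G (b - b1) ∧ b1 * (b - b1) = 0 ∧ rk (b - b1) < rk b := by
  have t : TQ a b (a * b + b * a) := ⟨h.sq, hb.sq, rfl⟩
  obtain ⟨f, π, ρ, θ, -, f0, -, mu, -, pp, rx, pr, -⟩ := t.exists_MU (k := k) (Algebra.IsIntegral.isIntegral _) (h.not_nil F hb o)
  haveI := AdjoinRoot.nontrivial f f0
  have pa := h.pi F hb (fun e => one_ne_zero (mu.inj 1 (by rw [e, mul_zero]))) pp
  rw [pa] at mu
  have s : SP a (aeval (a * b + b * a) ρ * b) := ⟨mu.ee, mu.ff, mu.efe, mu.fef⟩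
  have q := h.univ F hb
  set δ := a * b + b * a
  have ne : ∀ x, a * x * a ≠ 0 → x ≠ 0 := fun x h e => h (by simp [e])
  have p1 : a * (aeval δ π * b) * a = a * b * a := by rw [t.symm.eva, mul_assoc, mul_assoc, pa, mul_assoc]
  have p2 : aeval δ π * b = aeval δ ρ * b * a * b := by rw [← rx, map_mul, aeval_X, mul_assoc, t.symm.da]; simp only [mul_assoc]
  refine ⟨⟨_, (q ρ).2.mem_EE hb.sq (ker_le_mul _ _) (t.symm.eva ρ ▸ range_mul_le _ _), s,
    h.of_le (q ρ).2 (ne _ (s.aba.symm ▸ h.ne)) (s.bab ▸ (rk_mul_le_left _ _).trans (rk_mul_le_right _ _))⟩,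
    aeval δ π * b, h.of_le (q π).2 (ne _ (p1 ▸ o)) (p2 ▸ (rk_mul_le_left _ _).trans (rk_mul_le_right _ _)),
    by simpa [sub_mul] using (q (1 - π)).2, by simpa [sub_mul] using t.symm.evsq π (1 - π), ?_⟩
  by_contra hn
  have e : b - aeval δ π * b = aeval δ (1 - π) * b := by simp [sub_mul]
  have := inj_of_rk (e ▸ not_lt.1 hn) (y := aeval δ π) (by
    rw [← t.symm.eva, ← mul_assoc, ← map_mul, sub_mul, map_sub, pp, one_mul, sub_self, zero_mul])
  exact ne _ (p1 ▸ o) (t.symm.eva π ▸ this)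

theorem Mn.op_symm (F : FK k) (h : Mn G a) (hb : Mn G b) (o : a * b * a ≠ 0) : b * a * b ≠ 0 := fun e => by
  obtain ⟨⟨a', h1, s, m⟩, -⟩ := h.peel F hb.toQs o
  exact m.ne (s.bab ▸ EE_lz h1 (by rw [mul_assoc]; exact EE_rz h1 (by rwa [← mul_assoc])))

theorem Mn.u_symm (F : FK k) (h : Mn G a) (hb : Mn G b) (o : a * b * a = 0) : b * a * b = 0 := by
  by_contra e; exact hb.op_symm F h e o

theorem EE_u {a' : 𝔼} (ha : a' ∈ EE G a) {a'' : 𝔼} (ha' : a'' ∈ EE G a) (o : a * b * a = 0) : a' * b * a'' = 0 :=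
  EE_lz ha' (by rw [mul_assoc]; exact EE_rz ha (by rwa [← mul_assoc]))

theorem Mn.u_mem (F : FK k) (h : Mn G a) (hb : Mn G b) (o : a * b * a = 0) {x y z : 𝔼} (hx : x ∈ EE G a) (hy : y ∈ EE G b)
    (hz : z ∈ EE G a) : x * y * z = 0 := by
  rcases eq_or_ne y 0 with rfl | y0
  · simp
  exact EE_u hx hz ((hb.of_mem hy y0).1.u_symm F h (EE_u hy hy (h.u_symm F hb o)))

theorem Mn.op_mem (F : FK k) (h : Mn G a) (hb : Mn G b) (o : a * b * a ≠ 0) {x y : 𝔼} (hx : x ∈ EE G a) (x0 : x ≠ 0)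
    (hy : y ∈ EE G b) (y0 : y ≠ 0) : x * y * x ≠ 0 := fun e =>
  o ((h.of_mem hx x0).1.u_mem F (hb.of_mem hy y0).1 e (h.mem_symm hx x0) (hb.mem_symm hy y0) (h.mem_symm hx x0))

theorem Mn.cube (F : FK k) (h : Mn G a) (hb : Mn G b) (o : a * b * a = 0) :
    (EE G a ⊔ EE G b) * (EE G a ⊔ EE G b) * (EE G a ⊔ EE G b) = 0 := by
  have z : ∀ a, EE G a * EE G a = 0 := fun a => le_bot_iff.1 (Submodule.mul_le.2 fun _ hx _ hy => by simp [EE_mul hx hy])
  have u : ∀ {a b}, Mn G a → Mn G b → a * b * a = 0 → EE G a * EE G b * EE G a = 0 := fun h hb o =>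
    le_bot_iff.1 (Submodule.mul_le.2 fun w hw z hz => Submodule.mul_induction_on hw
      (fun x hx y hy => by simp [h.u_mem F hb o hx hy hz]) fun x y hx hy => by rw [add_mul]; exact Submodule.add_mem _ hx hy)
  have u1 := u h hb o
  have u2 := u hb h (h.u_symm F hb o)
  simp only [Submodule.mul_sup, Submodule.sup_mul, u1, u2]
  simp [mul_assoc, z, ← mul_assoc (EE G a) (EE G a), ← mul_assoc (EE G b) (EE G b)]

theorem Mn.uni (F : FK k) (h : Mn G a) (hb : Mn G b) (o : a * b * a = 0) : Uni k (Eg G a ⊔ Eg G b) := by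
  obtain ⟨c1, c2, -⟩ := QP.cube (h.cube F hb o)
  refine nil_of_le (aug_sup_le (c1.trans le_sup_right) (aug_Eg.trans (le_sup_left.trans le_sup_left))
    (aug_Eg.trans (le_sup_right.trans le_sup_left))) ⟨3, le_bot_iff.1 ?_⟩
  rw [pow_succ, pow_two]
  exact (mul_le_mul_left c1 _).trans c2.le

theorem Mn.exists_op (F : FK k) (hG : NU k G) (h : Mn G a) : ∃ a', SP a a' ∧ Mn G a' := by
  by_contra hn
  refine h.Eg_ne (hG.sSup_eq (W := {H | ∃ a, Mn G a ∧ (∀ b, Mn G b → a * b * a = 0) ∧ H = Eg G a}) ?_ ?_ ?_ _ ⟨a, h, fun b hb => ?_, rfl⟩)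
  · rintro _ ⟨a, -, -, rfl⟩; exact Eg_le
  · rintro _ ⟨a, h1, h2, rfl⟩ _ ⟨b, h3, -, rfl⟩; exact h1.uni F h3 (h2 b h3)
  · rintro _ ⟨a, h1, h2, rfl⟩ g hg
    refine ⟨_, h1.conj hg, fun b hb => ?_, Eg_conj hg⟩
    have := congrArg (cj k g) (h2 _ (hb.conj (G.inv_mem hg)))
    simpa [cj_cj, cj_one] using this
  · by_contra o
    obtain ⟨⟨a', -, s⟩, -⟩ := h.peel F hb.toQs o
    exact hn ⟨a', s⟩

end lin

end CfsgH9.QP
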