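import Cfsg.Agent.H9.QP5

/-! Commutators of quadratic elements of minimal rank. -/

set_option autoImplicit false
set_option linter.unusedSectionVars false

namespace CfsgH9.QP

open Subgroup Cfsg
open LinearMap (range ker)

variable {k : Type*} [Field k] {M : Type*} [AddCommGroup M] [Module k M] [FiniteDimensional k M]

local notation "𝔼" => Module.End k M

variable {G : Subgroup (Module.End k M)ˣ} {a b c c' x : Module.End k M}

/-- The Lie bracket. -/
def br (a b : 𝔼) : 𝔼 := a * b - b * a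

theorem br_swap (a b : 𝔼) : br b a = -br a b := (neg_sub _ _).symm
theorem EE_neg (a : 𝔼) : EE G (-a) = EE G a := EE_congr (LinearMap.ker_neg a) (LinearMap.range_neg a)

theorem cj_sq (h : a * a = 0) (o : a * b * a = 0) : cj k (sq a h) b = b + br a b := by
  show (1 + a) * b * (1 - a) = _
  simp only [br, mul_sub, add_mul, mul_one, one_mul, o]; abel

theorem Qs.brk (ha : Qs G a) (hb : Qs G b) (h1 : a * b * a = 0) (h2 : b * a * b = 0) : Qs G (br a b) := by
  have h1' : ∀ x, a * (b * (a * x)) = 0 := fun x => by rw [← mul_assoc, ← mul_assoc, h1, zero_mul]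
  have h2' : ∀ x, b * (a * (b * x)) = 0 := fun x => by rw [← mul_assoc, ← mul_assoc, h2, zero_mul]
  have a' : ∀ x, a * (a * x) = 0 := fun x => by rw [← mul_assoc, ha.sq, zero_mul]
  have b' : ∀ x, b * (b * x) = 0 := fun x => by rw [← mul_assoc, hb.sq, zero_mul]
  rw [mul_assoc] at h1 h2
  refine ⟨by simp [br, mul_sub, sub_mul, mul_assoc, *], fun c => ?_⟩
  have := (hb.mem1.conj' (ha.mem c) (by simp [ha.sq])).add (hb.mem1.neg hb.sq)
    (by simp [mul_sub, sub_mul, add_mul, mul_assoc, hb.sq, h2])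
  convert this using 1
  simp [br, mul_sub, add_mul, mul_assoc, h1, smul_sub]; abel

theorem Mn.cl (h : Mn G a) (hb : Qs G b) (h1 : a * b * a = 0) (h2 : b * a * b = 0) (h0 : br a b ≠ 0) :
    Mn G (br a b) ∧ range (br a b) = range (a * b) ⊔ range (b * a) ∧ ker (br a b) = ker (a * b) ⊓ ker (b * a) ∧
      range (a * b) = range a ⊓ ker b ∧ rk (a * b) + rk (b * a) = rk a ∧ range (a * b) ⊓ range (b * a) = ⊥ := by
  have q := h.toQs.brk hb h1 h2
  have r1 := h.min _ h0 q
  have r2 := rk_mul_add b a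
  have l1 : range (a * b) ≤ range a ⊓ ker b := le_inf (range_mul_le _ _) (range_le_ker.2 (by rw [← mul_assoc, h2]))
  have r3 := Submodule.finrank_mono l1
  have l2 : range (br a b) ≤ range (a * b) ⊔ range (b * a) := by
    rintro _ ⟨v, rfl⟩
    exact Submodule.sub_mem _ (Submodule.mem_sup_left ⟨v, rfl⟩) (Submodule.mem_sup_right ⟨v, rfl⟩)
  have r4 := Submodule.finrank_mono l2
  have r5 := Submodule.finrank_sup_add_finrank_inf_eq (range (a * b)) (range (b * a))
  unfold rk at *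
  have i : range (a * b) ⊓ range (b * a) = ⊥ := Submodule.finrank_eq_zero.1 (by omega)
  refine ⟨h.of_le q h0 (by unfold rk; omega), Submodule.eq_of_le_of_finrank_le l2 (by omega), le_antisymm (fun v hv => ?_) fun v hv => ?_,
    Submodule.eq_of_le_of_finrank_le l1 (by omega), by omega, i⟩
  · have e : (a * b) v = (b * a) v := sub_eq_zero.1 hv
    have : (a * b) v ∈ (⊥ : Submodule k M) := i ▸ ⟨⟨v, rfl⟩, v, e.symm⟩
    exact ⟨this, e.symm.trans this⟩
  · exact sub_eq_zero.2 (hv.1.trans hv.2.symm)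

theorem Mn.cm (F : FK k) (h : Mn G a) (hb : Mn G b) (o : a * b * a = 0) (h0 : br a b ≠ 0) {x y : 𝔼} (hx : x ∈ EE G a)
    (hy : y ∈ EE G b) : br x y ∈ EE G (br a b) ∧ (x ≠ 0 → y ≠ 0 → br x y ≠ 0) := by
  have o' := h.u_symm F hb o
  have one : ∀ {a b x y : 𝔼}, Mn G a → Mn G b → a * b * a = 0 → br a b ≠ 0 → x ∈ EE G a → y ∈ EE G b →
      ker (a * b) ≤ ker (x * y) ∧ range (x * y) ≤ range (a * b) := fun {a b x y} h hb o h0 hx hy => by
    have o' := h.u_symm F hb o
    refine ⟨fun v hv => ?_, ?_⟩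
    · obtain ⟨u, hu⟩ := (hb.cl h.toQs o' o (by rwa [br_swap, neg_ne_zero])).2.2.2.1.ge ⟨⟨v, rfl⟩, hv⟩
      have e : y (v - a u) = 0 := hy.2.2.1 (show b _ = 0 by rw [map_sub, ← hu]; exact sub_self _)
      rw [map_sub, sub_eq_zero] at e
      show x (y v) = 0
      rw [e]; exact LinearMap.congr_fun (h.u_mem F hb o hx hy h.self) u
    · rw [(h.cl hb.toQs o o' h0).2.2.2.1]
      exact le_inf ((range_mul_le _ _).trans hx.2.2.2) (range_le_ker.2 (by rw [← mul_assoc, hb.u_mem F h o' hb.self hx hy]))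
  have h0' : br b a ≠ 0 := by rwa [br_swap, neg_ne_zero]
  obtain ⟨k1, r1⟩ := one h hb o h0 hx hy
  obtain ⟨k2, r2⟩ := one hb h o' h0' hy hx
  obtain ⟨m, e1, e2, -, -, e3⟩ := h.cl hb.toQs o o' h0
  refine ⟨((EE_qs hx).brk (EE_qs hy) (h.u_mem F hb o hx hy hx) (hb.u_mem F h o' hy hx hy)).mem_EE m.sq (fun v hv => ?_) ?_,
    fun x0 y0 e => h0 ?_⟩
  · rw [e2] at hv
    exact sub_eq_zero.2 ((k1 hv.1).trans (k2 hv.2).symm)
  · rintro _ ⟨v, rfl⟩
    rw [e1]
    exact Submodule.sub_mem _ (Submodule.mem_sup_left (r1 ⟨v, rfl⟩)) (Submodule.mem_sup_right (r2 ⟨v, rfl⟩))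
  · have e' : x * y = y * x := sub_eq_zero.1 e
    have z : x * y = 0 := LinearMap.range_eq_bot.1 (le_bot_iff.1 (e3 ▸ le_inf r1 (e' ▸ r2)))
    rw [br, EE_lz (hb.mem_symm hy y0) (EE_rz (h.mem_symm hx x0) z), EE_lz (h.mem_symm hx x0) (EE_rz (hb.mem_symm hy y0) (e' ▸ z)),
      sub_self]

theorem Qs.w_mem (s : SP c c') (h : Qs G c) (h' : Qs G c') : s.w ∈ G :=
  G.mul_mem (G.mul_mem (h.mem1.sq_mem _) (G.inv_mem (h'.mem1.sq_mem _))) (h.mem1.sq_mem _)

theorem grade (F : FK k) (s : SP c c') (hc : Qs G c) (hc' : Qs G c') (ha : Qs G a) (h1 : a * c = 0) (h2 : c * a = 0)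
    (h3 : (1 - c * c') * a * (1 - c' * c) = 0) : c * c' * a * (c' * c) ∈ EE G c ∧ Qs G (a - c * c' * a * (c' * c)) := by
  have h1' : ∀ x, a * (c * x) = 0 := fun x => by rw [← mul_assoc, h1, zero_mul]
  have h2' : ∀ x, c * (a * x) = 0 := fun x => by rw [← mul_assoc, h2, zero_mul]
  have e : cj k (s.w * s.w) a = -a + 2 * (c * c' * a * (c' * c)) := by
    rw [cj_apply, inv_eq_of_mul_eq_one_right s.ww_sq, s.ww]
    simp only [mul_sub, sub_mul, mul_add, add_mul, mul_assoc, two_mul, h1, h2, h1', h2', mul_one, one_mul, mul_zero, zero_mul] at h3 ⊢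
    linear_combination (norm := abel) h3 + h3
  have w := hc.w_mem s hc'
  have q : Qs G (c * c' * a * (c' * c)) := ⟨by simp [mul_assoc, s.rules], fun t => by
    have := (ha.mem (t / 2)).add ((ha.conj (G.mul_mem w w)).mem (t / 2)) (by simp [e, mul_add, mul_assoc, ha.sq, two_mul, h1'])
    convert this using 1
    rw [e, two_mul, ← smul_add, ← add_assoc, add_neg_cancel, zero_add, ← two_smul k, smul_smul, div_mul_cancel₀ _ F.h2]⟩
  refine ⟨q.mem_EE s.aa (by rw [← mul_assoc]; exact ker_le_mul _ _) (by rw [mul_assoc, mul_assoc]; exact range_mul_le _ _),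
    by simp [mul_sub, sub_mul, mul_assoc, h1', h2, ha.sq, s.rules], fun t => ?_⟩
  simpa [smul_sub, sub_eq_add_neg] using (ha.mem t).add (q.mem (-t)) (by simp [mul_assoc, h1'])

/-- Elements of degree one for the grading given by a pair of matrix units. -/
structure Pure (c c' x : 𝔼) : Prop where
  h1 : x * c = 0
  h2 : c * x = 0
  h3 : (1 - c * c') * x * (1 - c' * c) = 0
  h4 : c * c' * x * (c' * c) = 0

theorem Pure.eps (F : FK k) (s : SP c c') (hc : Mn G c) (hc' : Mn G c') (hx : Mn G x) (p : Pure c c' x) :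
    c' * x * c' = 0 ∧ x * c' * x = 0 ∧ Mn G (br x c') ∧ br x c' * c * br x c' = 0 ∧ br (br x c') c = x := by
  have e1 : c' * x * c' = 0 := by simpa [mul_assoc, s.symm.rules] using congrArg (c' * · * c') p.h4
  have e2 := hc'.u_symm F hx e1
  have h1' : ∀ y, x * (c * y) = 0 := fun y => by rw [← mul_assoc, p.h1, zero_mul]
  have h2' : ∀ y, c * (x * y) = 0 := fun y => by rw [← mul_assoc, p.h2, zero_mul]
  have e3 : br (br x c') c = x := by
    have h3 := p.h3
    have h4 := p.h4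
    simp only [br, mul_sub, sub_mul, mul_assoc, p.h1, h2', mul_one, one_mul, mul_zero] at h3 h4 ⊢
    linear_combination (norm := abel) h4 - h3
  have m := (hx.cl hc'.toQs e2 e1 fun e => hx.ne (by rw [← e3, e, br]; simp)).1
  exact ⟨e1, e2, m, hc.u_symm F m (by simp [br, mul_sub, sub_mul, mul_assoc, h2', p.h1]), e3⟩

theorem eps_op {ν : 𝔼} (s : SP c c') (h1 : x * c' * x = 0) (h2 : x * ν * x = 0) (h3 : c' * ν * c' = 0) (h4 : br x ν = c) :
    br x c' * ν * br x c' = -br x c' := by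
  have e1 : ν * x = x * ν - c := by rw [← h4, br, sub_sub_cancel]
  have e2 : x * ν = ν * x + c := by rw [e1, sub_add_cancel]
  have : br x c' * ν * br x c' = x * c' * (ν * x) * c' - x * (c' * ν * c') * x - c' * (x * ν * x) * c' + c' * (x * ν) * c' * x := by
    rw [br]; noncomm_ring
  rw [this, h2, h3, e1]
  nth_rewrite 2 [e2]
  have h1' : ∀ y, x * (c' * (x * y)) = 0 := fun y => by rw [← mul_assoc, ← mul_assoc, h1, zero_mul]
  rw [mul_assoc] at h1
  simp [br, mul_sub, sub_mul, mul_add, add_mul, mul_assoc, h1, h1', s.symm.rules]; abel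

theorem Mn.cl2 (F : FK k) (h : Mn G a) (hb : Qs G b) (h1 : a * b * a = 0) (h2 : b * a * b = 0) (h0 : br a b ≠ 0)
    (hc : c = br a b ∨ c = br b a) (s : SP c c') (hc' : Qs G c') :
    ∃ z ∈ EE G c, Mn G (a - z) ∧ Pure c c' (a - z) ∧ z * b = 0 ∧ b * z = 0 ∧ z * a = 0 ∧ a * z = 0 := by
  obtain ⟨m, e1, e2, e3, e4, -⟩ := h.cl hb h1 h2 h0
  have r : range c = range (br a b) ∧ ker c = ker (br a b) ∧ Qs G c := by
    rcases hc with rfl | rfl
    · exact ⟨rfl, rfl, m.toQs⟩
    · exact ⟨by rw [br_swap, LinearMap.range_neg], by rw [br_swap, LinearMap.ker_neg], hb.brk h.toQs h2 h1⟩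
  have a' : ∀ x, a * (a * x) = 0 := fun x => by rw [← mul_assoc, h.sq, zero_mul]
  have b' : ∀ x, b * (b * x) = 0 := fun x => by rw [← mul_assoc, hb.sq, zero_mul]
  have f1 : a * c = 0 := lz r.1.le (by simp [br, mul_sub, a', ← mul_assoc, h1, h.sq])
  have f2 : c * a = 0 := rz r.2.1.ge (by simp [br, sub_mul, h1, mul_assoc b, h.sq])
  have f3 : b * c = 0 := lz r.1.le (by simp [br, mul_sub, ← mul_assoc, h2, hb.sq])
  have f4 : c * b = 0 := rz r.2.1.ge (by simp [br, sub_mul, h2, mul_assoc a, hb.sq])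
  have l1 : range (a * (1 - c' * c)) ≤ range (a * b) := by
    rw [e3]
    refine le_inf (range_mul_le _ _) (range_le_ker.2 ?_)
    rw [← mul_assoc]
    exact rz (r.2.1.le.trans (e2.le.trans inf_le_right)) (by simp [mul_sub, s.rules])
  have l2 : (1 - c * c') * (a * b) = 0 := lz ((le_sup_left.trans e1.ge).trans r.1.ge) (by simp [sub_mul, s.aba])
  have f5 : (1 - c * c') * a * (1 - c' * c) = 0 := by rw [mul_assoc]; exact lz l1 l2
  obtain ⟨g1, g2⟩ := grade F s r.2.2 hc' h.toQs f1 f2 f5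
  have z1 := EE_rz g1 f4
  have z2 := EE_lz g1 f3
  refine ⟨_, g1, h.of_le g2 (fun e => h0 ?_) ?_, ⟨?_, ?_, ?_, ?_⟩, z1, z2, EE_rz g1 f2, EE_lz g1 f1⟩
  · rw [← sub_eq_zero.1 e] at z1 z2
    rw [br, z1, z2, sub_self]
  · have : a - c * c' * a * (c' * c) = a * (1 - c' * c) + (1 - c * c') * a * (c' * c) := by noncomm_ring
    have r1 : rk (a * (1 - c' * c)) ≤ rk (a * b) := Submodule.finrank_mono l1
    have r2 := rk_mul_add (1 - c * c') a
    have r3 : rk (a * b) ≤ _ := Submodule.finrank_mono (le_inf (range_mul_le a b) (range_le_ker.2 l2))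
    have r4 := rk_mul_le_left ((1 - c * c') * a) (c' * c)
    have r5 := rk_add_le (a * (1 - c' * c)) ((1 - c * c') * a * (c' * c))
    rw [this]; omega
  · simp [sub_mul, f1, mul_assoc, s.rules]
  · simp [mul_sub, f2, mul_assoc, s.rules]
  · rw [mul_sub (1 - c * c'), sub_mul ((1 - c * c') * a), f5]; simp [sub_mul, mul_assoc, s.rules]
  · simp [mul_sub, sub_mul, mul_assoc, s.rules, s.symm.rules]

theorem Mn.fr (F : FK k) (h : Mn G a) (hb : Mn G b) (o : a * b * a = 0) (h0 : br a b ≠ 0) :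
    Module.finrank k (EE G b) ≤ Module.finrank k (EE G (br a b)) ∧
      (Module.finrank k (EE G (br a b)) ≤ Module.finrank k (EE G b) → ∀ z ∈ EE G (br a b), ∃ y ∈ EE G b, br a y = z) := by
  let φ : EE G b →ₗ[k] EE G (br a b) := (LinearMap.mulLeft k a - LinearMap.mulRight k a).restrict
    fun y hy => (h.cm F hb o h0 h.self hy).1
  have i : Function.Injective φ := (injective_iff_map_eq_zero _).2 fun y hy => by
    by_contra e
    exact (h.cm F hb o h0 h.self y.2).2 h.ne (fun e' => e (Subtype.ext e')) (congrArg Subtype.val hy)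
  have l := LinearMap.finrank_le_finrank_of_injective i
  refine ⟨l, fun e z hz => ?_⟩
  obtain ⟨y, hy⟩ := (LinearMap.injective_iff_surjective_of_finrank_eq_finrank (le_antisymm l e)).1 i ⟨z, hz⟩
  exact ⟨y, y.2, congrArg Subtype.val hy⟩

theorem fr_conj {g : 𝔼ˣ} (hg : g ∈ G) : Module.finrank k (EE G a) ≤ Module.finrank k (EE G (cj k g a)) :=
  LinearMap.finrank_le_finrank_of_injective (f := (cj k g).toLinearMap.restrict fun _ hy => EE_conj hy hg)
    ((injective_iff_map_eq_zero _).2 fun _ hy => Subtype.ext ((cj_eq_zero (k := k)).1 (congrArg Subtype.val hy)))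

theorem Mn.split (F : FK k) (h : Mn G a) (hb : Mn G b) (o : a * b * a = 0) (h0 : br a b ≠ 0) (s : SP (br a b) c') (hc' : Mn G c') :
    ∃ y ∈ EE G (br a b), ∃ z ∈ EE G (br a b), Mn G (a - y) ∧ Mn G (b - z) ∧ Pure (br a b) c' (a - y) ∧ Pure (br a b) c' (b - z) ∧
      br (a - y) (b - z) = br a b ∧ (a - y) * (b - z) * (a - y) = 0 := by
  have o' := h.u_symm F hb o
  obtain ⟨y, y1, y2, y3, y4, y5, y6, y7⟩ := h.cl2 F hb.toQs o o' h0 (.inl rfl) s hc'.toQs
  obtain ⟨z, z1, z2, z3, z4, z5, -, -⟩ := hb.cl2 F h.toQs o' o (by rwa [br_swap, neg_ne_zero]) (.inr rfl) s hc'.toQs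
  refine ⟨y, y1, z, z1, y2, z2, y3, z3, by simp [br, mul_sub, sub_mul, EE_mul y1 z1, EE_mul z1 y1, *], ?_⟩
  rw [sub_mul a, mul_sub a, mul_sub y, z5, y4, EE_mul y1 z1, sub_zero, sub_zero, sub_zero, mul_sub, o, mul_assoc, y5]; simp

theorem Mn.surj (F : FK k) (hG : NU k G) (h : Mn G a) (hb : Mn G b) (o : a * b * a = 0) (h0 : br a b ≠ 0) :
    ∀ z ∈ EE G (br a b), ∃ y ∈ EE G b, br a y = z := by
  have m := (h.cl hb.toQs o (h.u_symm F hb o) h0).1
  obtain ⟨c', s, hc'⟩ := m.exists_op F hG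
  obtain ⟨y, y1, z, z1, a1, b1, p1, p2, e, u⟩ := h.split F hb o h0 s hc'
  have d : ∀ x, Mn G x → Pure (br a b) c' x → Module.finrank k (EE G (br a b)) ≤ Module.finrank k (EE G x) := fun x hx p => by
    obtain ⟨-, -, q1, q2, q3⟩ := p.eps F s m hc' hx
    have := (q1.fr F m q2 (by rw [q3]; exact hx.ne)).1
    rwa [q3] at this
  have e' : br (b - z) (a - y) = -br a b := by rw [br_swap, e]
  obtain ⟨t, t1, t2⟩ := (b1.fr F a1 (a1.u_symm F b1 u) (by rwa [e', neg_ne_zero])).2 (by rw [e', EE_neg]; exact d _ a1 p1) (-z)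
    (by rw [e', EE_neg]; exact Submodule.neg_mem _ z1)
  have := fr_conj (a := b - z) ((EE_qs t1).mem1.sq_mem (EE_qs t1).sq)
  rw [cj_sq _ (a1.u_mem F b1 u t1 b1.self t1), br_swap, t2, neg_neg, sub_add_cancel] at this
  exact (h.fr F hb o h0).2 ((d _ b1 p2).trans this)

theorem Qs.comm (F : FK k) (hG : NU k G) (hb : Qs G b) (H : ∀ a, Mn G a → a * b * a = 0) (h : Mn G a) : a * b = b * a := by
  have o := H a h
  have o1 : ∀ x, a * (b * (a * x)) = 0 := fun x => by rw [← mul_assoc, ← mul_assoc, o, zero_mul]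
  have b' : ∀ x, b * (b * x) = 0 := fun x => by rw [← mul_assoc, hb.sq, zero_mul]
  have o' : b * a * b = 0 := by
    by_contra ne
    have q := hb.conj (h.mem1.sq_mem h.sq)
    rw [cj_sq _ o] at q
    have e : ∀ t : k, (1 + t • (b + br a b)) * b * (1 - t • (b + br a b)) = b - (2 * t) • (b * a * b) := fun t => by
      simp [br, mul_sub, sub_mul, mul_add, add_mul, mul_assoc, hb.sq, b', o1, smul_sub]
      module
    have qk : Qs G (b * a * b) := ⟨by simp [mul_assoc, b'], fun t => by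
      have := (hb.mem1.conj' (q.mem (-t / 2)) (by rw [smul_mul_smul_comm, q.sq, smul_zero])).add (hb.mem1.neg hb.sq) (by rw [e]; simp [sub_mul, mul_assoc, hb.sq])
      rw [e, mul_div_cancel₀ _ F.h2] at this
      simpa using this⟩
    obtain ⟨c', s, hc'⟩ := (h.of_le qk ne ((rk_mul_le_left _ _).trans (rk_mul_le_right _ _))).exists_op F hG
    have g := q.mem1.sq_mem q.sq
    have e1 := e 1
    simp only [one_smul, mul_one] at e1
    have := congrArg (cj k (QP.sq _ q.sq)) (H _ (hc'.conj (G.inv_mem g)))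
    rw [map_mul, map_mul, cj_cj, mul_inv_cancel, cj_one, map_zero, show cj k (QP.sq _ q.sq) b = _ from e1, mul_sub, sub_mul,
      H _ hc', mul_smul_comm, smul_mul_assoc, s.bab, zero_sub, neg_eq_zero, smul_eq_zero] at this
    exact this.elim F.h2 hc'.ne
  by_contra ne
  have h0 : br a b ≠ 0 := sub_ne_zero.2 ne
  have m := (h.cl hb o o' h0).1
  obtain ⟨c', s, hc'⟩ := m.exists_op F hG
  obtain ⟨y, -, y2, y3, y4, y5, -⟩ := h.cl2 F hb o o' h0 (.inl rfl) s hc'.toQs
  obtain ⟨-, q0, q1, -⟩ := y3.eps F s m hc' y2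
  have := eps_op s q0 (H _ y2) (H _ hc') (by simp [br, mul_sub, sub_mul, y4, y5])
  rw [H _ q1, eq_comm, neg_eq_zero] at this
  exact q1.ne this

/-- Adjacency of opposite elements. -/
def Op (G : Subgroup 𝔼ˣ) (a b : 𝔼) : Prop := Mn G a ∧ Mn G b ∧ a * b * a ≠ 0

theorem Mn.path (F : FK k) (hG : NU k G) (h : Mn G a) (hb : Mn G b) (o : a * b * a = 0) (h0 : br a b ≠ 0) :
    Relation.ReflTransGen (Op G) b (br a b) := by
  have m := (h.cl hb.toQs o (h.u_symm F hb o) h0).1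
  obtain ⟨c', s, hc'⟩ := m.exists_op F hG
  obtain ⟨y, y1, z, z1, a1, b1, p1, p2, e, u⟩ := h.split F hb o h0 s hc'
  obtain ⟨-, q0, q1, q2, -⟩ := p1.eps F s m hc' a1
  have r0 := (p2.eps F s m hc' b1).1
  have key : ∀ t ∈ EE G (br a b), br (a - y) c' * (b - z + t) * br (a - y) c' ≠ 0 := fun t ht => by
    rw [mul_add, add_mul, eps_op s q0 u r0 e, q1.u_mem F m q2 q1.self ht q1.self, add_zero, neg_ne_zero]; exact q1.ne
  have n := b1.conj (a1.mem1.sq_mem a1.sq)
  rw [cj_sq _ u, e] at n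
  have k1 := key z z1
  rw [sub_add_cancel] at k1
  refine .head ⟨hb, q1, q1.op_symm F hb k1⟩ (.head ⟨q1, n, key _ m.self⟩ (.head ⟨n, hc', hc'.op_symm F n ?_⟩
    (.single ⟨hc', m, s.bab.symm ▸ hc'.ne⟩)))
  rw [mul_add, add_mul, r0, s.bab, zero_add]; exact hc'.ne

end CfsgH9.QP
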