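import Cfsg.Agent.H9.QP6

/-! Quadratic pairs: pairs of root subgroups. -/

set_option autoImplicit false
set_option linter.unusedSectionVars false

namespace CfsgH9.QP

open Subgroup Cfsg
open LinearMap (range ker)
open scoped MatrixGroups commutatorElement

variable {k : Type*} [Field k] {M : Type*} [AddCommGroup M] [Module k M] [FiniteDimensional k M]

local notation "𝔼" => Module.End k M

variable {G : Subgroup (Module.End k M)ˣ} {a b c : Module.End k M} {σ : (Module.End k M)ˣ}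

theorem fk (h2 : ringChar k ≠ 2) (h3 : Nat.card k ≠ 3) : FK k := ⟨Ring.two_ne_zero h2, h3⟩

theorem sq_val (h : a * a = 0) : (sq a h : 𝔼) - 1 = a := add_sub_cancel_left 1 a
theorem In.mem (h : In G ((σ : 𝔼) - 1)) : σ ∈ G := by
  obtain ⟨x, hx, e⟩ := h
  exact (Units.ext (by simpa using e) : x = σ) ▸ hx
theorem ne_one_iff : σ ≠ 1 ↔ (σ : 𝔼) - 1 ≠ 0 := by rw [sub_ne_zero, Ne, Ne, Units.val_eq_one]

theorem qe_iff : σ ∈ quadraticElements G ↔ (σ : 𝔼) - 1 ≠ 0 ∧ Qs G ((σ : 𝔼) - 1) := by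
  refine ⟨fun h => ⟨h.2.1.2, h.2.1.1, fun c => ⟨sq _ (by rw [smul_mul_smul_comm, h.2.1.1, smul_zero]), h.2.2 ⟨c, rfl⟩, rfl⟩⟩,
    fun h => ⟨h.2.mem1.mem, ⟨h.2.sq, h.1⟩, ?_⟩⟩
  rintro τ ⟨c, e⟩
  obtain ⟨x, hx, e'⟩ := h.2.mem c
  exact (Units.ext (e'.trans e.symm) : x = τ) ▸ hx

theorem mq_iff : σ ∈ minimalQuadraticElements G ↔ Mn G ((σ : 𝔼) - 1) :=
  ⟨fun h => ⟨(qe_iff.1 h.1).2, (qe_iff.1 h.1).1, fun b h0 hb => by
      have : _ ≤ rk ((sq b hb.sq : 𝔼) - 1) := h.2 (sq b hb.sq) (qe_iff.2 (by rw [sq_val]; exact ⟨h0, hb⟩))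
      rwa [sq_val] at this⟩,
    fun h => ⟨qe_iff.2 ⟨h.ne, h.toQs⟩, fun _ hτ => h.min _ (qe_iff.1 hτ).1 (qe_iff.1 hτ).2⟩⟩

theorem sac_iff (h : Mn G ((σ : 𝔼) - 1)) {τ : 𝔼ˣ} : τ ∈ sameActionClass G σ ↔ τ ∈ Eg G ((σ : 𝔼) - 1) ∧ τ ≠ 1 :=
  ⟨fun t => ⟨mem_Eg.2 ((mq_iff.1 t.1).toQs.mem_EE h.sq t.2.1.ge t.2.2.le), ne_one_iff.2 (mq_iff.1 t.1).ne⟩,
    fun t => let ⟨x, y⟩ := h.of_mem (mem_Eg.1 t.1) (ne_one_iff.1 t.2); ⟨mq_iff.2 x, y⟩⟩

theorem sas_eq (h : Mn G ((σ : 𝔼) - 1)) : sameActionSubgroup G σ = Eg G ((σ : 𝔼) - 1) :=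
  le_antisymm ((closure_le _).2 fun _ t => ((sac_iff h).1 t).1) fun τ t => by
    rcases eq_or_ne τ 1 with rfl | e
    exacts [one_mem _, subset_closure ((sac_iff h).2 ⟨t, e⟩)]

theorem mem_Sig {A : Subgroup 𝔼ˣ} : A ∈ quadraticRootSubgroups G ↔ ∃ a, Mn G a ∧ A = Eg G a :=
  ⟨fun ⟨_, h, e⟩ => ⟨_, mq_iff.1 h, e.trans (sas_eq (mq_iff.1 h))⟩, fun ⟨a, h, e⟩ => by
    have : Mn G ((sq a h.sq : 𝔼) - 1) := by rwa [sq_val]
    exact ⟨_, mq_iff.2 this, by rw [sas_eq this, sq_val, e]⟩⟩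

theorem Mn.sig (h : Mn G a) : Eg G a ∈ quadraticRootSubgroups G := mem_Sig.2 ⟨a, h, rfl⟩

theorem Eg_isComm : IsMulCommutative (Eg G a) := ⟨⟨fun x y => Subtype.ext (Eg_comm x.2 y.2)⟩⟩

theorem conjBy_self {H : Type*} [Group H] {A : Subgroup H} {x : H} (hx : x ∈ A) : conjBy A x = A := by
  ext y; rw [mem_conjBy]
  exact ⟨fun h => by simpa [mul_assoc] using A.mul_mem (A.mul_mem hx h) (A.inv_mem hx),
    fun h => A.mul_mem (A.mul_mem (A.inv_mem hx) h) hx⟩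

theorem Op.symm (F : FK k) (o : Op G a b) : Op G b a := ⟨o.2.1, o.1, o.1.op_symm F o.2.1 o.2.2⟩

theorem Op.inv (F : FK k) (o : Op G a b) {x : 𝔼} (hx : x ∈ EE G a) (x0 : x ≠ 0) : ∃ y ∈ EE G b, SP x y ∧ Mn G y :=
  ((o.1.of_mem hx x0).1.peel F o.2.1.toQs (o.1.op_mem F o.2.1 o.2.2 hx x0 o.2.1.self o.2.1.ne)).1

theorem Op.conj_w (o : Op G a b) {x y : 𝔼} (hx : x ∈ EE G a) (hy : y ∈ EE G b) (s : SP x y) (x0 : x ≠ 0) :
    conjBy (Eg G a) s.w = Eg G b := by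
  have y0 : y ≠ 0 := fun e => x0 (by rw [← s.aba, e]; simp)
  rw [← Eg_congr (o.1.EE_eq hx x0), Eg_conj ((EE_qs hx).w_mem s (EE_qs hy)), s.w_cj, Eg_congr (EE_neg y), Eg_congr (o.2.1.EE_eq hy y0)]

theorem Op.norm (F : FK k) (o : Op G a b) {y : 𝔼ˣ} (hy : y ∈ Eg G b) (h : conjBy (Eg G a) y = Eg G a) : y = 1 := by
  by_contra y0
  rw [Eg_conj (Eg_le hy)] at h
  have := EE_mul o.1.self (mem_Eg.1 (h ▸ sq_mem_Eg (o.1.conj (Eg_le hy)).self (o.1.conj (Eg_le hy)).sq))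
  rw [sq_val, cj_apply, ← mul_assoc, Units.mul_left_eq_zero] at this
  refine o.1.op_mem F o.2.1 o.2.2 o.1.self o.1.ne (mem_Eg.1 hy) (ne_one_iff.1 y0) ?_
  rw [mul_sub, sub_mul, mul_one, o.1.sq, sub_zero, mul_assoc, this]

theorem Op.cond (F : FK k) (o : Op G a b) {x : 𝔼ˣ} (hx : x ∈ Eg G a) (x0 : x ≠ 1) :
    ∃ y ∈ Eg G b, y ≠ 1 ∧ conjBy (Eg G a) y⁻¹ = conjBy (Eg G b) x⁻¹ ∧ y⁻¹ * x * y = x⁻¹ * y⁻¹ * x := by
  obtain ⟨y, hy, s, m⟩ := o.inv F (mem_Eg.1 hx) (ne_one_iff.1 x0)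
  have e : sq _ s.aa = x := Units.ext (add_sub_cancel 1 x.1)
  refine ⟨_, sq_mem_Eg hy s.bb, ne_one_iff.2 (by rw [sq_val]; exact m.ne), ?_, Units.ext ?_⟩
  · rw [← o.conj_w (mem_Eg.1 hx) hy s (ne_one_iff.1 x0), conjBy_conjBy, SP.w, e, mul_assoc, inv_mul_cancel_left, ← conjBy_conjBy,
      conjBy_self hx]
  · have e1 : (x : 𝔼) = 1 + ((x : 𝔼) - 1) := (add_sub_cancel 1 x.1).symm
    show (1 - y) * x * (1 + y) = (x⁻¹ : 𝔼ˣ) * (1 - y) * x
    rw [inv_val e1 s.aa]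
    generalize (x : 𝔼) - 1 = a at s e1
    rw [e1]
    simp only [mul_add, add_mul, mul_sub, sub_mul, mul_assoc, s.rules, s.symm.rules, one_mul, mul_one, mul_zero]; abel

theorem Op.ne (o : Op G a b) : Eg G a ≠ Eg G b := fun e => o.2.2 (by
  have := EE_mul o.1.self (mem_Eg.1 (e ▸ sq_mem_Eg o.2.1.self o.2.1.sq))
  rw [sq_val] at this
  rw [this, zero_mul])

theorem Op.special (F : FK k) (o : Op G a b) : IsSpecialRankOnePair (Eg G a) (Eg G b) := by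
  have n : ∀ a, Group.IsNilpotent (Eg G a) := fun a => by
    haveI := Eg_isComm (G := G) (a := a)
    open scoped IsMulCommutative in infer_instance
  refine ⟨⟨o.ne, n a, n b, fun x hx x0 => ?_, fun x hx x0 => ?_⟩, fun x hx x0 y hy _ e => ?_⟩
  · obtain ⟨y, h1, h2, h3, -⟩ := o.cond F hx x0; exact ⟨y, h1, h2, h3⟩
  · obtain ⟨y, h1, h2, h3, -⟩ := (o.symm F).cond F hx x0; exact ⟨y, h1, h2, h3⟩
  · obtain ⟨y', h1, -, h3, h4⟩ := o.cond F hx x0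
    obtain rfl : y' = y := mul_inv_eq_one.1 (o.norm F (mul_mem h1 (inv_mem hy)) (by
      rw [← conjBy_conjBy, e, ← h3, conjBy_conjBy, mul_inv_cancel, conjBy_one]))
    exact h4

theorem Mn.comm_val (F : FK k) (h : Mn G a) (hb : Mn G b) (o : a * b * a = 0) {x y : 𝔼ˣ} (hx : x ∈ Eg G a) (hy : y ∈ Eg G b) :
    ((x * y * x⁻¹ * y⁻¹ : 𝔼ˣ) : 𝔼) - 1 = br ((x : 𝔼) - 1) ((y : 𝔼) - 1) := by
  rw [mem_Eg] at hx hy
  have h1 := h.u_mem F hb o hx hy hx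
  have h2 := hb.u_mem F h (h.u_symm F hb o) hy hx hy
  have e : sq _ (EE_mul hx hx) = x := Units.ext (add_sub_cancel 1 x.1)
  have e1 := cj_sq (EE_mul hx hx) h1
  rw [e, ← cj_val, sub_eq_iff_eq_add] at e1
  have h3 := EE_mul hy hy
  rw [Units.val_mul, e1, inv_val (b := (y : 𝔼) - 1) (by simp) h3]
  generalize (x : 𝔼) - 1 = a at *
  generalize (y : 𝔼) - 1 = b at *
  rw [mul_assoc] at h2
  simp only [br, mul_sub, sub_mul, add_mul, mul_assoc, h3, h2, mul_one, one_mul, mul_zero]; abel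

theorem Mn.comm_bot (F : FK k) (h : Mn G a) (hb : Mn G b) (o : a * b * a = 0) (h0 : br a b = 0) : ⁅Eg G a, Eg G b⁆ = ⊥ :=
  eq_bot_iff.2 (commutator_le.2 fun x hx y hy => mem_bot.2 (by
    by_contra e
    have e1 := ne_one_iff.1 e
    rw [commutatorElement_def, h.comm_val F hb o hx hy] at e1
    rw [mem_Eg] at hx hy
    have x0 : (x : 𝔼) - 1 ≠ 0 := fun e => e1 (by simp [e, br])
    have y0 : (y : 𝔼) - 1 ≠ 0 := fun e => e1 (by simp [e, br])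
    exact (((h.of_mem hx x0).1.cm F (hb.of_mem hy y0).1 (h.u_mem F hb o hx hy hx) e1 (h.mem_symm hx x0) (hb.mem_symm hy y0)).2
      h.ne hb.ne) h0))

theorem Mn.comm_mem (F : FK k) (h : Mn G a) (hb : Mn G b) (o : a * b * a = 0) (h0 : br a b ≠ 0) {x y : 𝔼ˣ} (hx : x ∈ Eg G a)
    (hy : y ∈ Eg G b) : x * y * x⁻¹ * y⁻¹ ∈ Eg G (br a b) := by
  rw [mem_Eg, h.comm_val F hb o hx hy]; exact (h.cm F hb o h0 (mem_Eg.1 hx) (mem_Eg.1 hy)).1

theorem Mn.comm_surj (F : FK k) (hG : NU k G) (h : Mn G a) (hb : Mn G b) (o : a * b * a = 0) (h0 : br a b ≠ 0) {x : 𝔼ˣ}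
    (hx : x ∈ Eg G a) (x0 : x ≠ 1) {z : 𝔼ˣ} (hz : z ∈ Eg G (br a b)) : ∃ y ∈ Eg G b, x * y * x⁻¹ * y⁻¹ = z := by
  have x1 := mem_Eg.1 hx
  have x2 := ne_one_iff.1 x0
  obtain ⟨c1, c2⟩ := h.cm F hb o h0 x1 hb.self
  obtain ⟨y, hy, e⟩ := (h.of_mem x1 x2).1.surj F hG hb (h.u_mem F hb o x1 hb.self x1) (c2 x2 hb.ne) _
    ((h.cl hb.toQs o (h.u_symm F hb o) h0).1.EE_eq c1 (c2 x2 hb.ne) ▸ mem_Eg.1 hz)
  have y1 := sq_mem_Eg hy (EE_mul hy hy)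
  exact ⟨_, y1, Units.ext (sub_left_injective ((h.comm_val F hb o hx y1).trans (by rw [sq_val, e])))⟩

theorem Mn.comm_case (F : FK k) (hG : NU k G) (h : Mn G a) (hb : Mn G b) (o : a * b * a = 0) (h0 : br a b ≠ 0) :
    ⁅Eg G a, Eg G b⁆ = Eg G (br a b) ∧
    (∀ e ∈ Eg G a, e ≠ 1 → closure ((fun f => e * f * e⁻¹ * f⁻¹) '' (Eg G b : Set 𝔼ˣ)) = ⁅Eg G a, Eg G b⁆) ∧
    (∀ f ∈ Eg G b, f ≠ 1 → closure ((fun e => e * f * e⁻¹ * f⁻¹) '' (Eg G a : Set 𝔼ˣ)) = ⁅Eg G a, Eg G b⁆) := by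
  have l : ⁅Eg G a, Eg G b⁆ ≤ Eg G (br a b) := commutator_le.2 fun x hx y hy => h.comm_mem F hb o h0 hx hy
  refine ⟨le_antisymm l fun z hz => ?_, fun e he e0 => le_antisymm ((closure_le _).2 ?_) fun z hz => ?_,
    fun e he e0 => le_antisymm ((closure_le _).2 ?_) fun z hz => ?_⟩
  · obtain ⟨y, hy, rfl⟩ := h.comm_surj F hG hb o h0 (sq_mem_Eg h.self h.sq) (ne_one_iff.2 (by rw [sq_val]; exact h.ne)) hz
    exact commutator_mem_commutator (sq_mem_Eg h.self h.sq) hy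
  · rintro _ ⟨y, hy, rfl⟩; exact commutator_mem_commutator he hy
  · obtain ⟨y, hy, rfl⟩ := h.comm_surj F hG hb o h0 he e0 (l hz); exact subset_closure ⟨y, hy, rfl⟩
  · rintro _ ⟨y, hy, rfl⟩; exact commutator_mem_commutator hy he
  · obtain ⟨y, hy, e1⟩ := hb.comm_surj F hG h (h.u_symm F hb o) (by rwa [br_swap, neg_ne_zero]) he e0 (z := z⁻¹)
      (by rw [br_swap, Eg_congr (EE_neg _)]; exact inv_mem (l hz))
    exact subset_closure ⟨y, hy, by rw [← inv_inv z, ← e1]; group⟩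

theorem Mn.class_two (F : FK k) (h : Mn G a) (hb : Mn G b) (o : a * b * a = 0) :
    ⁅⁅Eg G a ⊔ Eg G b, Eg G a ⊔ Eg G b⁆, Eg G a ⊔ Eg G b⁆ = ⊥ := by
  obtain ⟨c1, c2, c3⟩ := QP.cube (h.cube F hb o)
  have l := aug_sup_le (c1.trans le_sup_right) ((aug_Eg (G := G) (a := a)).trans (le_sup_left.trans le_sup_left))
    ((aug_Eg (G := G) (a := b)).trans (le_sup_right.trans le_sup_left))
  set V := EE G a ⊔ EE G b
  have z : V * V * (V * V) ≤ V * V := (mul_le_mul_right le_sup_right _).trans (c2.le.trans bot_le)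
  have m : ⁅Eg G a ⊔ Eg G b, Eg G a ⊔ Eg G b⁆ ≤ oa (V * V) z := by
    have : ∀ x ∈ Eg G a ⊔ Eg G b, ∀ y ∈ Eg G a ⊔ Eg G b, ((⁅x, y⁆ : 𝔼ˣ) : 𝔼) - 1 ∈ V * V := fun x hx y hy => by
      have : ((⁅x, y⁆ : 𝔼ˣ) : 𝔼) - 1 = (((x : 𝔼) - 1) * ((y : 𝔼) - 1) - ((y : 𝔼) - 1) * ((x : 𝔼) - 1)) * (x⁻¹ * y⁻¹ : 𝔼ˣ) := by
        simp [commutatorElement_def, sub_mul, mul_sub, mul_assoc]; abel
      rw [this]
      have x1 := l (mem_aug hx)
      have y1 := l (mem_aug hy)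
      exact mulr (c2.le.trans bot_le) (Submodule.sub_mem _ (c1 (Submodule.mul_mem_mul x1 y1)) (c1 (Submodule.mul_mem_mul y1 x1)))
        (l (mem_aug (mul_mem (inv_mem hx) (inv_mem hy))))
    exact commutator_le.2 fun x hx y hy => ⟨this x hx y hy, by rw [commutatorElement_inv]; exact this y hy x hx⟩
  refine eq_bot_iff.2 (commutator_le.2 fun x hx y hy => mem_bot.2 (commutatorElement_eq_one_iff_mul_comm.2 (Units.ext ?_)))
  have e1 : ((x : 𝔼) - 1) * ((y : 𝔼) - 1) = 0 := c2.le (Submodule.mul_mem_mul (m hx).1 (l (mem_aug hy)))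
  have e2 : ((y : 𝔼) - 1) * ((x : 𝔼) - 1) = 0 := c3.le (Submodule.mul_mem_mul (l (mem_aug hy)) (m hx).1)
  simp only [Units.val_mul]
  linear_combination (norm := noncomm_ring) e1 - e2

theorem Mn.fixed (h : Mn G c) : fixedSubmodule (Eg G c) = ker c ∧ commutatorSubmodule (Eg G c) = range c := by
  have := sq_mem_Eg h.self h.sq
  exact ⟨le_antisymm ((iInf₂_le _ this).trans (by rw [sq_val])) (le_iInf₂ fun g hg => (mem_Eg.1 hg).2.2.1),
    le_antisymm (iSup₂_le fun g hg => (mem_Eg.1 hg).2.2.2) (le_trans (by rw [sq_val]) (le_iSup₂_of_le _ this le_rfl))⟩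

theorem Mn.core (F : FK k) (hG : NU k G) (h : Mn G a) (hb : Mn G b) (o : a * b * a = 0) (h0 : br a b ≠ 0) :
    ((Eg G a ⊔ Eg G b : Subgroup 𝔼ˣ) : Set 𝔼ˣ) ⊆ quadraticUnipotentCore G ⁅Eg G a, Eg G b⁆ := fun g hg => by
  have o' := h.u_symm F hb o
  have m := (h.cl hb.toQs o o' h0).1
  let T : Submodule k 𝔼 := ⟨⟨⟨{x | (∀ v, x v ∈ ker (br a b)) ∧ (∀ v ∈ ker (br a b), x v ∈ range (br a b)) ∧
      ∀ v ∈ range (br a b), x v = 0}, fun p q => ⟨fun v => add_mem (p.1 v) (q.1 v), fun v hv => add_mem (p.2.1 v hv) (q.2.1 v hv),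
        fun v hv => by simp [p.2.2 v hv, q.2.2 v hv]⟩⟩, ⟨fun _ => zero_mem _, fun _ _ => zero_mem _, fun _ _ => rfl⟩⟩, fun c x p => ⟨fun v => Submodule.smul_mem _ c (p.1 v),
        fun v hv => Submodule.smul_mem _ c (p.2.1 v hv), fun v hv => by simp [p.2.2 v hv]⟩⟩
  have one : ∀ {a' b' : 𝔼}, Mn G a' → Mn G b' → a' * b' * a' = 0 → br a' b' ≠ 0 → EE G (br a' b') = EE G (br a b) → EE G a' ≤ T :=
    fun {a' b'} h' hb' o h0 e x hx => by
    rcases eq_or_ne x 0 with rfl | x0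
    · exact T.zero_mem
    obtain ⟨c1, c2⟩ := h'.cm F hb' o h0 hx hb'.self
    obtain ⟨-, k1, k2⟩ := m.of_mem (e ▸ c1) (c2 x0 hb'.ne)
    have u1 := h'.u_mem F hb' o hx hb'.self hx
    obtain ⟨-, e1, e2, e3, -⟩ := (h'.of_mem hx x0).1.cl hb'.toQs u1 ((h'.of_mem hx x0).1.u_symm F hb' u1) (c2 x0 hb'.ne)
    have xx := EE_mul hx hx
    refine ⟨fun v => ?_, fun v hv => ?_, fun v hv => ?_⟩
    · rw [← k1]; exact LinearMap.congr_fun (show br x b' * x = 0 by simp [br, sub_mul, u1, mul_assoc b', xx]) v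
    · rw [← k2, e1]; rw [← k1, e2] at hv
      exact Submodule.mem_sup_left (e3.ge ⟨⟨v, rfl⟩, hv.2⟩)
    · rw [← k2] at hv
      exact range_le_ker.2 (show x * br x b' = 0 by simp [br, mul_sub, ← mul_assoc, u1, xx]) hv
  have t : (g : 𝔼) - 1 ∈ T := aug_sup_le (V := T) (Submodule.mul_le.2 fun x p y q => ⟨fun v => p.1 _, fun v hv => by
      rw [Module.End.mul_apply, p.2.2 _ (q.2.1 v hv)]; exact zero_mem _, fun v hv => by simp [q.2.2 v hv]⟩)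
    (aug_Eg.trans (one h hb o h0 rfl)) (aug_Eg.trans (one hb h o' (by rwa [br_swap, neg_ne_zero]) (by rw [br_swap, EE_neg]))) (mem_aug hg)
  refine ⟨sup_le Eg_le Eg_le hg, ?_, ?_⟩
  · refine centralizer_le_normalizer _ (mem_centralizer_iff.2 fun x hx => commutatorElement_eq_one_iff_mul_comm.1 (mem_bot.1 ?_))
    exact h.class_two F hb o ▸ commutator_mem_commutator (commutator_mono le_sup_left le_sup_right hx) hg
  · rw [(h.comm_case F hG hb o h0).1, m.fixed.1, m.fixed.2]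
    exact ⟨t.1, t.2.1, fun v hv => sub_eq_zero.1 (t.2.2 v hv)⟩

theorem Op.not_uni (F : FK k) (o : Op G a b) : ¬ Uni k (Eg G a ⊔ Eg G b) := by
  rintro ⟨n, hn⟩
  obtain ⟨y, hy, s, -⟩ := o.inv F o.1.self o.1.ne
  have m1 := mem_aug (k := k) (mem_sup_left (T := Eg G b) (sq_mem_Eg o.1.self o.1.sq))
  have m2 := mem_aug (k := k) (mem_sup_right (S := Eg G a) (sq_mem_Eg hy s.bb))
  rw [sq_val] at m1 m2
  have := Submodule.pow_mem_pow _ (aug_mul _ (Submodule.mul_mem_mul m1 m2)) n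
  have e : ∀ n, (a * y) ^ n * a = a := fun n => by
    induction n with
    | zero => simp
    | succ n ih => rw [pow_succ, mul_assoc, s.aba, ih]
  rw [hn] at this
  exact o.1.ne (by rw [← e n, show (a * y) ^ n = 0 from this, zero_mul])

theorem Op.not_two (F : FK k) (o : Op G a b) : ⁅⁅Eg G a ⊔ Eg G b, Eg G a ⊔ Eg G b⁆, Eg G a ⊔ Eg G b⁆ ≠ ⊥ := fun e => by
  obtain ⟨y, hy, s, -⟩ := o.inv F o.1.self o.1.ne
  have m1 := mem_sup_left (T := Eg G b) (sq_mem_Eg o.1.self o.1.sq)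
  have m2 := mem_sup_right (S := Eg G a) (sq_mem_Eg hy s.bb)
  have := congrArg (fun x : 𝔼ˣ => a * (x : 𝔼)) (commutatorElement_eq_one_iff_mul_comm.1
    (mem_bot.1 (e ▸ commutator_mem_commutator (commutator_mem_commutator m1 m2) m1)))
  change a * ((1 + a) * (1 + y) * (1 - a) * (1 - y) * (1 + a)) = a * ((1 + a) * ((1 + a) * (1 + y) * (1 - a) * (1 - y))) at this
  simp only [mul_add, add_mul, mul_sub, sub_mul, mul_assoc, s.rules, s.symm.rules, one_mul, mul_one, mul_zero, zero_mul] at this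
  exact o.1.ne (by linear_combination (norm := abel) this)

theorem Mn.op_of (F : FK k) (h : Mn G a) (hb : Mn G b) (r : IsRankOnePair (Eg G a) (Eg G b)) : Op G a b := ⟨h, hb, fun o => by
  have x1 := sq_mem_Eg h.self h.sq
  obtain ⟨y, hy, -, e⟩ := r.cond_left _ x1 (ne_one_iff.2 (by rw [sq_val]; exact h.ne))
  have y1 := mem_Eg.1 (inv_mem hy)
  have e' : conjBy (conjBy (Eg G a) y⁻¹) (sq a h.sq) = Eg G b := by rw [e, conjBy_conjBy, mul_inv_cancel, conjBy_one]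
  have ey : sq _ (EE_mul y1 y1) = y⁻¹ := Units.ext (add_sub_cancel 1 y⁻¹.1)
  have u1 := h.u_mem F hb o h.self y1 h.self
  have c1 := cj_sq (EE_mul y1 y1) (hb.u_mem F h (h.u_symm F hb o) y1 h.self y1)
  rw [ey] at c1
  generalize ((y⁻¹ : 𝔼ˣ) : 𝔼) - 1 = t at *
  have f1 : a * (a + br t a) = 0 := by simp [br, mul_add, mul_sub, ← mul_assoc, h.sq, u1]
  have f2 : (a + br t a) * a = 0 := by simp [br, add_mul, sub_mul, mul_assoc t, h.sq, u1]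
  rw [Eg_conj (Eg_le (inv_mem hy)), c1, Eg_conj (Eg_le x1), cj_sq _ (by rw [f1, zero_mul]), br.eq_1 a, f1, f2, sub_self, add_zero] at e'
  have := mem_Eg.1 (e' ▸ sq_mem_Eg hb.self hb.sq)
  rw [sq_val] at this
  rw [br, EE_lz y1 (EE_lz this f1), EE_rz y1 (EE_rz this f2), sub_self, add_zero] at e'
  exact r.ne e'⟩

theorem upper_lower (K : Type*) [Field K] : upperUnipotentSL2 K ⊔ lowerUnipotentSL2 K = ⊤ := by
  refine eq_top_iff.2 fun x _ => Matrix.SL2.transvection_induction (· ∈ _) (fun i j h c => ?_) (fun _ _ => mul_mem) x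
  fin_cases i <;> fin_cases j
  · exact (h rfl).elim
  · exact mem_sup_left (subset_closure (by simp [Matrix.SpecialLinearGroup.transvection_coe]))
  · exact mem_sup_right (subset_closure (by simp [Matrix.SpecialLinearGroup.transvection_coe]))
  · exact (h rfl).elim

theorem upper_le {K : Type*} [Field K] {H : Subgroup SL(2, K)} (h : ∀ r, Tm r ∈ H) : upperUnipotentSL2 K ≤ H :=
  (closure_le _).2 fun g hg => by
    rw [show g = Tm (g 0 1) by apply sl2_ext <;> simp [hg.1, hg.2.1, hg.2.2]]; exact h _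

theorem lower_le {K : Type*} [Field K] {H : Subgroup SL(2, K)} (h : ∀ r, Lm r ∈ H) : lowerUnipotentSL2 K ≤ H :=
  (closure_le _).2 fun g hg => by
    rw [show g = Lm (g 1 0) by apply sl2_ext <;> simp [hg.1, hg.2.1, hg.2.2]]; exact h _

theorem SP.mu (s : SP a b) (h0 : a ≠ 0) : MU (Algebra.linearMap k 𝔼) a b :=
  ⟨s.aa, s.bb, s.aba, s.bab, map_mul (algebraMap k 𝔼), fun c => (Algebra.commutes c a).symm, fun c => (Algebra.commutes c b).symm,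
    fun c h => by simpa [Algebra.algebraMap_eq_smul_one, h0] using h⟩

theorem Op.psl (F : FK k) (o : Op G a b) : 3 < ENat.card k ∧ ∃ A₀ B₀, A₀ ≤ Eg G a ∧ B₀ ≤ Eg G b ∧ IsPSL2PairOver k A₀ B₀ := by
  obtain ⟨y, hy, s, -⟩ := o.inv F o.1.self o.1.ne
  have mu := s.mu o.1.ne
  refine ⟨?_, _, _, map_le_iff_le_comap.2 (upper_le fun r => mem_Eg.2 ?_), map_le_iff_le_comap.2 (lower_le fun r => mem_Eg.2 ?_),
    mu.Ψ, by rw [← Subgroup.map_sup, upper_lower, MonoidHom.range_eq_map], by rw [(MonoidHom.ker_eq_bot_iff _).2 mu.Ψ_inj]; exact bot_le,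
    rfl, rfl⟩
  · rcases finite_or_infinite k with _ | _
    · rw [ENat.card_eq_coe_natCard]; exact_mod_cast card_gt F.h2 F.h3
    · rw [ENat.card_eq_top_of_infinite]; exact ENat.coe_lt_top 3
  · simpa [mu.Ψ_T, Algebra.algebraMap_eq_smul_one] using Submodule.smul_mem _ r o.1.self
  · simpa [mu.Ψ_L, Algebra.algebraMap_eq_smul_one] using Submodule.smul_mem _ r hy

end CfsgH9.QP
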