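import Cfsg.Agent.H9.QP7

/-! Quadratic pairs: components. -/

set_option autoImplicit false
set_option linter.unusedSectionVars false

namespace CfsgH9.QP

open Subgroup Cfsg
open LinearMap (range ker)
open scoped MatrixGroups commutatorElement

section grp
variable {Γ : Type*} [Group Γ]

theorem conjBy_sub (A H : Subgroup Γ) (g : H) : conjBy (A.subgroupOf H) g = (conjBy A g).subgroupOf H := by
  ext x; simp [mem_conjBy, mem_subgroupOf, -mem_map]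

theorem comm_sub {A B H : Subgroup Γ} (hA : A ≤ H) (hB : B ≤ H) : ⁅A.subgroupOf H, B.subgroupOf H⁆ = ⁅A, B⁆.subgroupOf H :=
  map_injective H.subtype_injective (by
    rw [map_commutator, map_subgroupOf_eq_of_le hA, map_subgroupOf_eq_of_le hB,
      map_subgroupOf_eq_of_le ((commutator_mono hA hB).trans (commutator_le.2 fun x hx y hy =>
        mul_mem (mul_mem (mul_mem hx hy) (inv_mem hx)) (inv_mem hy)))])

theorem r1_sub {A B H : Subgroup Γ} (hA : A ≤ H) (hB : B ≤ H) (h : IsRankOnePair A B) :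
    IsRankOnePair (A.subgroupOf H) (B.subgroupOf H) := by
  have key : ∀ {A B : Subgroup Γ}, B ≤ H → RankOneCondition A B → RankOneCondition (A.subgroupOf H) (B.subgroupOf H) :=
    fun hB h a ha a1 => by
      obtain ⟨b, hb, b1, e⟩ := h a ha fun e => a1 (Subtype.ext e)
      exact ⟨⟨b, hB hb⟩, hb, fun e => b1 (congrArg Subtype.val e), by rw [conjBy_sub, conjBy_sub]; exact congrArg (·.subgroupOf H) e⟩
  have := h.nilpotent_left
  have := h.nilpotent_right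
  exact ⟨fun e => h.ne (by rw [← map_subgroupOf_eq_of_le hA, e, map_subgroupOf_eq_of_le hB]),
    Group.nilpotent_of_mulEquiv (subgroupOfEquivOfLe hA).symm, Group.nilpotent_of_mulEquiv (subgroupOfEquivOfLe hB).symm,
    key hB h.cond_left, key hA h.cond_right⟩

theorem root_sub {S : Set (Subgroup Γ)} (h1 : ∀ A ∈ S, IsMulCommutative A) (h2 : ∀ A ∈ S, A ≠ ⊥)
    (h3 : ∀ A ∈ S, ∀ g ∈ ⨆ B ∈ S, B, conjBy A g ∈ S) (h4 : ∀ A ∈ S, ∀ B ∈ S, ⁅A, B⁆ = ⊥ ∨ IsRankOnePair A B ∨ RootCommutatorCase S A B) :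
    IsRootSubgroupSet ((fun A : Subgroup Γ => A.subgroupOf (⨆ B ∈ S, B)) '' S) := by
  have le : ∀ A ∈ S, A ≤ ⨆ B ∈ S, B := fun A hA => le_iSup₂_of_le A hA le_rfl
  generalize hH : (⨆ B ∈ S, B) = H at *
  have inj := map_injective H.subtype_injective
  refine ⟨?_, ?_, inj ?_, ?_, ?_⟩
  · rintro _ ⟨A, hA, rfl⟩
    exact ⟨⟨fun x y => Subtype.ext (Subtype.ext (show x.1.1 * y.1.1 = y.1.1 * x.1.1 from
      Subtype.ext_iff.1 ((h1 A hA).is_comm.comm ⟨x.1.1, x.2⟩ ⟨y.1.1, y.2⟩)))⟩⟩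
  · rintro _ ⟨A, hA, rfl⟩ e
    exact h2 A hA (by rw [← map_subgroupOf_eq_of_le (le A hA), show A.subgroupOf H = ⊥ from e, Subgroup.map_bot])
  · rw [iSup_image, ← MonoidHom.range_eq_map, range_subtype]
    simp only [Subgroup.map_iSup]
    exact (biSup_congr fun A hA => map_subgroupOf_eq_of_le (le A hA)).trans hH
  · rintro _ ⟨A, hA, rfl⟩ g; exact ⟨_, h3 A hA g g.2, (conjBy_sub ..).symm⟩
  · rintro _ ⟨A, hA, rfl⟩ _ ⟨B, hB, rfl⟩
    have e := comm_sub (le A hA) (le B hB)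
    have m : (⁅A, B⁆.subgroupOf H).map H.subtype = ⁅A, B⁆ := by
      rw [← e, map_commutator, map_subgroupOf_eq_of_le (le A hA), map_subgroupOf_eq_of_le (le B hB)]
    rcases h4 A hA B hB with h | h | ⟨c1, c2, c3, c4⟩
    · exact .inl (by rw [e, h, bot_subgroupOf])
    · exact .inr (.inl (r1_sub (le A hA) (le B hB) h))
    · refine .inr (.inr ⟨⟨_, c1, e.symm⟩, fun c hc x hx => Subtype.ext (c2 c (by rwa [e] at hc) x ?_), fun a ha a1 => inj ?_, fun b hb b1 => inj ?_⟩)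
      · rwa [← subgroupOf_sup (le A hA) (le B hB)] at hx
      · rw [e, m, MonoidHom.map_closure, ← c3 a ha fun e => a1 (Subtype.ext e), ← map_subgroupOf_eq_of_le (le B hB), coe_map,
          Set.image_image, Set.image_image, map_subgroupOf_eq_of_le (le B hB)]; rfl
      · rw [e, m, MonoidHom.map_closure, ← c4 b hb fun e => b1 (Subtype.ext e), ← map_subgroupOf_eq_of_le (le A hA), coe_map,
          Set.image_image, Set.image_image, map_subgroupOf_eq_of_le (le A hA)]; rfl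

theorem qs_of {K : Subgroup Γ} (h1 : K ≤ ⁅K, K⁆) (h2 : K ≠ ⊥)
    (h3 : ∀ N ≤ K, (∀ g ∈ K, ∀ n ∈ N, g * n * g⁻¹ ∈ N) → K ≤ N ∨ N ≤ centralizer K) : IsQuasisimple K := by
  refine ⟨isPerfect_iff.2 (le_antisymm (commutator_le.2 fun x hx y hy =>
    mul_mem (mul_mem (mul_mem hx hy) (inv_mem hx)) (inv_mem hy)) h1), ?_⟩
  haveI : Nontrivial (K ⧸ center K) := QuotientGroup.nontrivial_iff.2 fun e => h2 (le_bot_iff.1 (h1.trans (commutator_le.2 fun x hx y hy =>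
    mem_bot.2 (commutatorElement_eq_one_iff_mul_comm.2 (congrArg Subtype.val (mem_center_iff.1 (e.ge (mem_top ⟨y, hy⟩)) ⟨x, hx⟩))))))
  refine ⟨fun N hN => ?_⟩
  rcases h3 ((N.comap (QuotientGroup.mk' _)).map K.subtype) (map_subtype_le _) (by
    rintro g hg _ ⟨n, hn, rfl⟩
    exact ⟨_, (hN.comap _).conj_mem n hn ⟨g, hg⟩, rfl⟩) with h | h
  · refine .inr (eq_top_iff.2 fun x _ => ?_)
    obtain ⟨x, rfl⟩ := QuotientGroup.mk'_surjective _ x
    obtain ⟨y, hy, e⟩ := h x.2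
    exact (Subtype.ext e : y = x) ▸ hy
  · refine .inl (eq_bot_iff.2 fun x hx => ?_)
    obtain ⟨x, rfl⟩ := QuotientGroup.mk'_surjective _ x
    exact (QuotientGroup.eq_one_iff x).2 (mem_center_iff.2 fun y => Subtype.ext (h ⟨x, hx, rfl⟩ y y.2))

theorem comm_le_of {A N K : Subgroup Γ} (hA : ∀ x ∈ A, ∀ y ∈ A, x * y = y * x) (hn : ∀ g ∈ K, ∀ n ∈ N, g * n * g⁻¹ ∈ N)
    (h1 : A ≤ K) (h2 : N ≤ K) : ⁅A ⊔ N, A ⊔ N⁆ ≤ N := by
  let Z : Γ → Subgroup Γ := fun y =>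
    { carrier := {x | x ∈ K ∧ ⁅x, y⁆ ∈ N}
      one_mem' := ⟨K.one_mem, by simp⟩
      mul_mem' := fun {a b} ha hb => ⟨K.mul_mem ha.1 hb.1, by
        simpa [commutatorElement_def, mul_assoc] using N.mul_mem (hn a ha.1 _ hb.2) ha.2⟩
      inv_mem' := fun {a} ha => ⟨K.inv_mem ha.1, by
        simpa [commutatorElement_def, mul_assoc] using hn _ (K.inv_mem ha.1) _ (N.inv_mem ha.2)⟩ }
  have n : ∀ y ∈ K, N ≤ Z y := fun y hy x hx => ⟨h2 hx, by
    simpa [commutatorElement_def, mul_assoc] using N.mul_mem hx (hn y hy _ (N.inv_mem hx))⟩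
  refine commutator_le.2 fun x hx y hy => (sup_le (fun a ha => ⟨h1 ha, ?_⟩) (n y (sup_le h1 h2 hy)) hx).2
  rw [← commutatorElement_inv]
  exact N.inv_mem (sup_le (fun b hb => ⟨h1 hb, by rw [commutatorElement_eq_one_iff_mul_comm.2 (hA b hb a ha)]; exact N.one_mem⟩)
    (n a (h1 ha)) hy).2

theorem conjBy_of_comm {A B : Subgroup Γ} (h : ⁅A, B⁆ = ⊥) {x : Γ} (hx : x ∈ B) : conjBy A x = A := by
  have c : ∀ y ∈ A, ∀ x ∈ B, y * x = x * y := fun y hy x hx =>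
    commutatorElement_eq_one_iff_mul_comm.1 (mem_bot.1 (h ▸ commutator_mem_commutator hy hx))
  refine le_antisymm ?_ fun y hy => mem_conjBy.2 (by rwa [mul_assoc, c y hy x hx, inv_mul_cancel_left])
  rintro _ ⟨y, hy, rfl⟩
  simpa [← c y hy x hx] using hy

theorem mem_norm {K : Subgroup Γ} {g : Γ} : g ∈ normalizer (K : Set Γ) ↔ conjBy K g = K := by
  rw [mem_normalizer_iff']
  simp only [SetLike.ext_iff, mem_conjBy]
  exact ⟨fun h x => by simpa [mul_assoc] using h (g⁻¹ * x), fun h x => by simpa [mul_assoc] using h (g * x)⟩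

end grp

variable {k : Type*} [Field k] {M : Type*} [AddCommGroup M] [Module k M] [FiniteDimensional k M]

local notation "𝔼" => Module.End k M

variable {G : Subgroup (Module.End k M)ˣ} {a b c : Module.End k M} {A B : Subgroup (Module.End k M)ˣ}

local notation "Sg" => quadraticRootSubgroups

/-- Connectedness in the graph of rank one pairs. -/
abbrev RR (G A B : Subgroup 𝔼ˣ) : Prop := Relation.ReflTransGen (FAdj (Sg G)) A B
/-- Components. -/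
abbrev Cm (G A : Subgroup 𝔼ˣ) : Set (Subgroup 𝔼ˣ) := componentOf (FAdj (Sg G)) (Sg G) A
/-- The subgroup generated by a component. -/
abbrev Kc (G A : Subgroup 𝔼ˣ) : Subgroup 𝔼ˣ := ⨆ B ∈ Cm G A, B
/-- The subgroup generated by all root subgroups. -/
abbrev G0 (G : Subgroup 𝔼ˣ) : Subgroup 𝔼ˣ := ⨆ B ∈ Sg G, B

theorem Op.adj (F : FK k) (o : Op G a b) : FAdj (Sg G) (Eg G a) (Eg G b) := ⟨o.1.sig, o.2.1.sig, (o.special F).1⟩

theorem op_of_adj (F : FK k) (h : FAdj (Sg G) A B) : ∃ a b, Op G a b ∧ A = Eg G a ∧ B = Eg G b := by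
  obtain ⟨h1, h2, h3⟩ := h
  obtain ⟨a, ha, rfl⟩ := mem_Sig.1 h1
  obtain ⟨b, hb, rfl⟩ := mem_Sig.1 h2
  exact ⟨a, b, ha.op_of F hb h3, rfl, rfl⟩

theorem RR.symm (h : RR G A B) : RR G B A := by
  induction h with
  | refl => exact .refl
  | tail _ h ih => exact .head ⟨h.2.1, h.1, RankOnePair_symm h.2.2⟩ ih

theorem Sg_le (h : A ∈ Sg G) : A ≤ G := by obtain ⟨a, -, rfl⟩ := mem_Sig.1 h; exact Eg_le
theorem Sg_conj (h : A ∈ Sg G) {g : 𝔼ˣ} (hg : g ∈ G) : conjBy A g ∈ Sg G := by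
  obtain ⟨a, ha, rfl⟩ := mem_Sig.1 h; rw [Eg_conj hg]; exact (ha.conj hg).sig
theorem G0_le : G0 G ≤ G := iSup₂_le fun _ => Sg_le
theorem Kc_le : Kc G A ≤ G0 G := iSup₂_le fun B h => le_iSup₂_of_le B h.1 le_rfl
theorem le_Kc (h : B ∈ Cm G A) : B ≤ Kc G A := le_iSup₂_of_le B h le_rfl

theorem RR.conj (F : FK k) (h : RR G A B) {g : 𝔼ˣ} (hg : g ∈ G) : RR G (conjBy A g) (conjBy B g) :=
  h.lift (conjBy · g) fun A B h => by
    obtain ⟨a, b, o, rfl, rfl⟩ := op_of_adj F h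
    show FAdj _ (conjBy _ g) (conjBy _ g)
    rw [Eg_conj hg, Eg_conj hg]
    exact Op.adj F ⟨o.1.conj hg, o.2.1.conj hg, by rw [← map_mul, ← map_mul]; exact mt cj_eq_zero.1 o.2.2⟩

theorem tri (F : FK k) (hG : NU k G) (hA : A ∈ Sg G) (hB : B ∈ Sg G) :
    ⁅A, B⁆ = ⊥ ∨ FAdj (Sg G) A B ∨ RootCommutatorCase (Sg G) A B ∧ RR G A ⁅A, B⁆ ∧ RR G B ⁅A, B⁆ := by
  obtain ⟨a, h, rfl⟩ := mem_Sig.1 hA
  obtain ⟨b, hb, rfl⟩ := mem_Sig.1 hB
  by_cases o : a * b * a = 0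
  swap
  · exact .inr (.inl (Op.adj F ⟨h, hb, o⟩))
  by_cases h0 : br a b = 0
  · exact .inl (h.comm_bot F hb o h0)
  obtain ⟨e1, e2, e3⟩ := h.comm_case F hG hb o h0
  have o' := h.u_symm F hb o
  refine .inr (.inr ⟨⟨e1 ▸ (h.cl hb.toQs o o' h0).1.sig, fun x hx y hy => commutatorElement_eq_one_iff_mul_comm.1 (mem_bot.1
    (h.class_two F hb o ▸ commutator_mem_commutator (commutator_mono le_sup_left le_sup_right hx) hy)), e2, e3⟩, ?_, ?_⟩)
  · rw [e1, ← Eg_congr (EE_neg (br a b)), ← br_swap]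
    exact (hb.path F hG h o' (by rwa [br_swap, neg_ne_zero])).lift (Eg G) fun _ _ o => o.adj F
  · rw [e1]; exact (h.path F hG hb o h0).lift (Eg G) fun _ _ o => o.adj F

theorem comm_or (F : FK k) (hG : NU k G) (hA : A ∈ Sg G) (hB : B ∈ Sg G) : ⁅A, B⁆ = ⊥ ∨ RR G A B :=
  (tri F hG hA hB).imp_right fun h => h.elim .single fun h => h.2.1.trans (RR.symm h.2.2)

theorem RR_conj (F : FK k) (hG : NU k G) {g : 𝔼ˣ} (hg : g ∈ G0 G) (hA : A ∈ Sg G) : RR G A (conjBy A g) := by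
  let T : Subgroup 𝔼ˣ :=
    { carrier := {g | g ∈ G ∧ ∀ A ∈ Sg G, RR G A (conjBy A g)}
      one_mem' := ⟨G.one_mem, fun A _ => by rw [conjBy_one]⟩
      mul_mem' := fun {x y} hx hy => ⟨G.mul_mem hx.1 hy.1, fun A h =>
        conjBy_conjBy A y x ▸ (hy.2 A h).trans (hx.2 _ (Sg_conj h hy.1))⟩
      inv_mem' := fun {x} hx => ⟨G.inv_mem hx.1, fun A h => by
        simpa only [conjBy_conjBy, mul_inv_cancel, conjBy_one] using RR.symm (hx.2 _ (Sg_conj h (G.inv_mem hx.1)))⟩ }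
  refine ((show G0 G ≤ T from iSup₂_le fun B hB x hx => ⟨Sg_le hB hx, fun A h => ?_⟩) hg).2 A hA
  rcases comm_or F hG h hB with e | e
  · rw [conjBy_of_comm e hx]
  · exact e.trans (by simpa only [conjBy_self hx] using RR.symm (e.conj F (Sg_le hB hx)))

theorem Cm_conj (F : FK k) (hG : NU k G) {g : 𝔼ˣ} (hg : g ∈ G0 G) (h : B ∈ Cm G A) : conjBy B g ∈ Cm G A :=
  ⟨Sg_conj h.1 (G0_le hg), h.2.trans (RR_conj F hG hg h.1)⟩

theorem Kc_conj (F : FK k) (hG : NU k G) : ∀ g ∈ G0 G, ∀ n ∈ Kc G A, g * n * g⁻¹ ∈ Kc G A := fun g hg => by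
  rw [Kc, ← sSup_eq_iSup]; exact conj_sSup fun _ => Cm_conj F hG hg

theorem G0_conj : ∀ g ∈ G, ∀ n ∈ G0 G, g * n * g⁻¹ ∈ G0 G := fun g hg => by
  rw [G0, ← sSup_eq_iSup]; exact conj_sSup fun _ h => Sg_conj h hg

theorem Cm_eq (h : RR G A B) : Cm G A = Cm G B := Set.ext fun _ => and_congr_right fun _ => ⟨(RR.symm h).trans, h.trans⟩

theorem RR.exists_conj (F : FK k) (h : RR G A B) : ∃ g ∈ Kc G A, B = conjBy A g := by
  induction h with
  | refl => exact ⟨1, one_mem _, (conjBy_one _).symm⟩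
  | tail h1 h2 ih =>
    obtain ⟨g, hg, e⟩ := ih
    obtain ⟨a, b, o, rfl, rfl⟩ := op_of_adj F h2
    obtain ⟨y, hy, s, -⟩ := o.inv F o.1.self o.1.ne
    have m1 := le_Kc ⟨h2.1, h1⟩ (sq_mem_Eg o.1.self s.aa)
    exact ⟨s.w * g, mul_mem (mul_mem (mul_mem m1 (inv_mem (le_Kc ⟨h2.2.1, h1.tail h2⟩ (sq_mem_Eg hy s.bb)))) m1) hg, by
      rw [← conjBy_conjBy, ← e, o.conj_w o.1.self hy s o.1.ne]⟩

theorem Op.perf (F : FK k) (o : Op G a b) : Eg G a ≤ ⁅Eg G a ⊔ Eg G b, Eg G a ⊔ Eg G b⁆ := fun x hx => by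
  rcases eq_or_ne x 1 with rfl | x0
  · exact one_mem _
  obtain ⟨y, hy, s, -⟩ := o.inv F (mem_Eg.1 hx) (ne_one_iff.1 x0)
  have mu := s.mu (ne_one_iff.1 x0)
  have l : (⊤ : Subgroup SL(2, k)).map mu.Ψ ≤ Eg G a ⊔ Eg G b := by
    rw [← upper_lower, map_le_iff_le_comap]
    refine sup_le (upper_le fun r => mem_sup_left (mem_Eg.2 ?_)) (lower_le fun r => mem_sup_right (mem_Eg.2 ?_))
    · simpa [mu.Ψ_T, Algebra.algebraMap_eq_smul_one] using Submodule.smul_mem _ r (mem_Eg.1 hx)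
    · simpa [mu.Ψ_L, Algebra.algebraMap_eq_smul_one] using Submodule.smul_mem _ r hy
  obtain ⟨t, t0, t1⟩ : ∃ t : k, t ≠ 0 ∧ t ^ 2 ≠ 1 := by
    rcases finite_or_infinite k with _ | _
    · exact exists_lam (card_gt F.h2 F.h3)
    · obtain ⟨t, ht⟩ := (Set.toFinite ({0, 1, -1} : Set k)).exists_notMem
      simp only [Set.mem_insert_iff, Set.mem_singleton_iff, not_or] at ht
      exact ⟨t, ht.1, fun e => (_root_.sq_eq_one_iff.1 e).elim ht.2.1 ht.2.2⟩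
  refine commutator_mono l l ?_
  rw [← map_commutator]
  refine ⟨Tm 1, ?_, Units.ext (by simp [mu.Ψ_T])⟩
  exact (Matrix.SL2.commutator_eq_top t0 t1).ge (mem_top _)

theorem exists_adj (F : FK k) (hG : NU k G) (hA : A ∈ Sg G) : ∃ B, FAdj (Sg G) A B := by
  obtain ⟨a, h, rfl⟩ := mem_Sig.1 hA
  obtain ⟨b, s, hb⟩ := h.exists_op F hG
  exact ⟨_, Op.adj F ⟨h, hb, s.aba.symm ▸ h.ne⟩⟩

theorem Kc_qs (F : FK k) (hG : NU k G) (hA : A ∈ Sg G) : IsQuasisimple (Kc G A) := by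
  have self : A ∈ Cm G A := ⟨hA, .refl⟩
  refine qs_of (iSup₂_le fun B hB => ?_) (fun e => ?_) fun N h1 h2 => or_iff_not_imp_left.2 fun h3 => ?_
  · obtain ⟨C, h⟩ := exists_adj F hG hB.1
    have l := sup_le (le_Kc hB) (le_Kc ⟨h.2.1, hB.2.tail h⟩)
    obtain ⟨a, b, o, rfl, rfl⟩ := op_of_adj F h
    exact (o.perf F).trans (commutator_mono l l)
  · obtain ⟨a, h, rfl⟩ := mem_Sig.1 hA
    exact h.Eg_ne (le_bot_iff.1 (e ▸ le_Kc self))
  have nl : ∀ B ∈ Cm G A, ¬ B ≤ N := fun B hB l => h3 (iSup₂_le fun C hC => by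
    obtain ⟨g, hg, rfl⟩ := RR.exists_conj F ((RR.symm hB.2).trans hC.2)
    rintro _ ⟨x, hx, rfl⟩
    exact h2 g (by rwa [Kc, Cm_eq hB.2]) x (l hx))
  have nG : ∀ n ∈ N, n ∈ G0 G := fun n hn => Kc_le (h1 hn)
  have cm : ∀ B ∈ Cm G A, ∀ n ∈ N, ⁅B, conjBy B n⁆ = ⊥ := fun B hB n hn => by
    have l : B ⊔ conjBy B n ≤ B ⊔ N := sup_le le_sup_left (by
      rintro _ ⟨x, hx, rfl⟩
      exact mul_mem (mul_mem (mem_sup_right hn) (mem_sup_left hx)) (inv_mem (mem_sup_right hn)))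
    have l2 := (commutator_mono l l).trans (comm_le_of (by obtain ⟨a, -, rfl⟩ := mem_Sig.1 hB.1; exact fun _ x _ => Eg_comm x) h2 (le_Kc hB) h1)
    rcases tri F hG hB.1 (Cm_conj F hG (nG n hn) hB).1 with h | h | h
    · exact h
    · obtain ⟨a, b, o, rfl, e⟩ := op_of_adj F h
      exact (nl _ hB ((o.perf F).trans (e ▸ l2))).elim
    · exact (nl _ ⟨h.1.1, hB.2.trans h.2.1⟩ ((commutator_mono le_sup_left le_sup_right).trans l2)).elim
  have nu := ((hG.normal G0_le G0_conj).normal Kc_le (Kc_conj F hG)).normal h1 h2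
  refine le_centralizer_iff.1 (iSup₂_le fun B hB x hx => mem_centralizer_iff.2 fun n hn => ?_)
  have cj : ∀ m ∈ N, ∀ H ∈ {H | ∃ n ∈ N, H = conjBy B n}, conjBy H m ∈ {H | ∃ n ∈ N, H = conjBy B n} := by
    rintro m hm _ ⟨n, hn, rfl⟩; exact ⟨_, N.mul_mem hm hn, conjBy_conjBy ..⟩
  have cm' : ∀ H ∈ {H | ∃ n ∈ N, H = conjBy B n}, ∀ K ∈ {H | ∃ n ∈ N, H = conjBy B n}, ⁅H, K⁆ = ⊥ := by
    rintro _ ⟨n, hn, rfl⟩ _ ⟨m, hm, rfl⟩
    simpa only [conjBy_conjBy, inv_mul_cancel_right] using cm _ (Cm_conj F hG (nG n hn) hB) _ (N.mul_mem hm (N.inv_mem hn))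
  have un : ∀ H ∈ {H | ∃ n ∈ N, H = conjBy B n}, Uni k H := by
    rintro _ ⟨n, hn, rfl⟩
    obtain ⟨a, h, rfl⟩ := mem_Sig.1 hB.1
    exact (Uni.mono le_sup_left (h.uni F h (by rw [h.sq, zero_mul]))).conj n
  have := nu (N ⊓ sSup {H | ∃ n ∈ N, H = conjBy B n}) inf_le_left
    (fun g hg y hy => ⟨h2 g (h1 hg) y hy.1, conj_sSup (cj g hg) y hy.2⟩)
    (Uni.mono inf_le_right (uni_sSup (fun H hH K hK => uni_sup (un H hH) (un K hK) fun u hu d hd =>
      conjBy_of_comm (cm' H hH K hK) hu ▸ ⟨d, hd, rfl⟩) fun H hH K hK g hg => (conjBy_of_comm (cm' H hH K hK) hg).symm ▸ hH))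
  refine commutatorElement_eq_one_iff_mul_comm.1 (mem_bot.1 (this ▸ ⟨?_, Subgroup.mul_mem _ (mem_sSup_of_mem (S := {H | ∃ n ∈ N, H = conjBy B n}) ⟨n, hn, rfl⟩ ⟨x, hx, rfl⟩)
    (Subgroup.inv_mem _ (mem_sSup_of_mem (S := {H | ∃ n ∈ N, H = conjBy B n}) ⟨1, N.one_mem, (conjBy_one B).symm⟩ hx))⟩))
  simpa [commutatorElement_def, mul_assoc] using N.mul_mem hn (h2 x (le_Kc hB hx) _ (N.inv_mem hn))

theorem Kc_comm (F : FK k) (hG : NU k G) (h : Cm G A ≠ Cm G B) : ⁅Kc G A, Kc G B⁆ = ⊥ :=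
  commutator_eq_bot_iff_le_centralizer.2 (iSup₂_le fun C hC => le_centralizer_iff.1 (iSup₂_le fun D hD => le_centralizer_iff.1
    (commutator_eq_bot_iff_le_centralizer.1 ((comm_or F hG hC.1 hD.1).resolve_right fun r =>
      h (Cm_eq ((hC.2.trans r).trans (RR.symm hD.2)))))))

theorem Cm_finite (F : FK k) (hG : NU k G) : (Cm G '' Sg G).Finite := by
  have : ∀ i : Cm G '' Sg G, ∃ a b, SP a b ∧ Mn G a ∧ Mn G b ∧ i.1 = Cm G (Eg G a) := by
    rintro ⟨_, A, hA, rfl⟩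
    obtain ⟨a, h, rfl⟩ := mem_Sig.1 hA
    obtain ⟨b, s, hb⟩ := h.exists_op F hG
    exact ⟨a, b, s, h, hb, rfl⟩
  choose a b s ha hb e using this
  refine LinearIndependent.finite (R := k) (f := a) (linearIndependent_iff'.2 fun t g hg j hj => ?_)
  have := congrArg (b j * · * b j) hg
  simp only [Finset.mul_sum, Finset.sum_mul, mul_smul_comm, smul_mul_assoc, mul_zero, zero_mul] at this
  rw [Finset.sum_eq_single_of_mem j hj fun i _ ij => ?_, (s j).bab, smul_eq_zero] at this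
  · exact this.resolve_right (hb j).ne
  by_cases o : b j * a i * b j = 0
  · rw [o, smul_zero]
  refine (ij (Subtype.ext ?_)).elim
  rw [e, e]
  exact Cm_eq (.head ((Op.symm F ⟨hb j, ha i, o⟩).adj F) (.single (Op.adj F ⟨hb j, ha j, (s j).bab.symm ▸ (hb j).ne⟩)))

end CfsgH9.QP
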