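import Cfsg.Agent.H9.QP8

/-! Quadratic pairs: the central product decomposition. -/

set_option autoImplicit false
set_option linter.unusedSectionVars false

namespace CfsgH9.QP

open Subgroup Cfsg
open LinearMap (range ker)
open scoped commutatorElement

variable {k : Type*} [Field k] {M : Type*} [AddCommGroup M] [Module k M] [FiniteDimensional k M]

local notation "𝔼" => Module.End k M

variable {G : Subgroup (Module.End k M)ˣ} {a b c : Module.End k M} {A B : Subgroup (Module.End k M)ˣ}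

local notation "Sg" => quadraticRootSubgroups

theorem root_Sg (F : FK k) (hG : NU k G) {S : Set (Subgroup 𝔼ˣ)} (h : S ⊆ Sg G) (h3 : ∀ A ∈ S, ∀ g ∈ ⨆ B ∈ S, B, conjBy A g ∈ S)
    (h4 : ∀ A ∈ S, ∀ B ∈ Sg G, RR G A B → B ∈ S) : IsRootSubgroupSet ((fun A : Subgroup 𝔼ˣ => A.subgroupOf (⨆ B ∈ S, B)) '' S) :=
  root_sub (fun A hA => by obtain ⟨a, -, rfl⟩ := mem_Sig.1 (h hA); exact Eg_isComm)
    (fun A hA => by obtain ⟨a, ha, rfl⟩ := mem_Sig.1 (h hA); exact ha.Eg_ne) h3 fun A hA B hB =>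
      (tri F hG (h hA) (h hB)).imp_right (.imp (·.2.2) fun r => ⟨h4 A hA _ r.1.1 r.2.1, r.1.2⟩)

theorem psl_of (F : FK k) (h : FAdj (Sg G) A B) : 3 < ENat.card k ∧ ∃ A₀ B₀, A₀ ≤ A ∧ B₀ ≤ B ∧ IsPSL2PairOver k A₀ B₀ := by
  obtain ⟨a, b, o, rfl, rfl⟩ := op_of_adj F h; exact o.psl F

/-- The subgroup generated by the quadratic elements centralizing all root subgroups. -/
abbrev Cc (G : Subgroup 𝔼ˣ) : Subgroup 𝔼ˣ := closure (quadraticElements G ∩ centralizer (G0 G : Set 𝔼ˣ))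

theorem qe_le {g : 𝔼ˣ} (h : g ∈ quadraticElements G) : g ∈ G := (qe_iff.1 h).2.mem1.mem
theorem Cc_le : Cc G ≤ G := (closure_le _).2 fun _ h => qe_le h.1
theorem Cc_cen : Cc G ≤ centralizer (G0 G) := (closure_le _).2 fun _ h => h.2
theorem Qs.mono {H : Subgroup 𝔼ˣ} (l : H ≤ G) (h : Qs H a) : Qs G a := ⟨h.sq, fun c => (h.mem c).mono l⟩
theorem Mn.mem_Kc (h : Mn G a) : sq a h.sq ∈ Kc G (Eg G a) := le_Kc ⟨h.sig, .refl⟩ (sq_mem_Eg h.self _)

theorem cen_iff {g : 𝔼ˣ} : g ∈ centralizer (G0 G : Set 𝔼ˣ) ↔ ∀ a, Mn G a → a * ((g : 𝔼) - 1) = ((g : 𝔼) - 1) * a := by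
  refine ⟨fun h a ha => ?_, fun h => ?_⟩
  · have := congrArg Units.val (h _ (Kc_le ha.mem_Kc))
    simp only [Units.val_mul, sq] at this
    linear_combination (norm := noncomm_ring) this
  refine le_centralizer_iff.1 (show G0 G ≤ centralizer (zpowers g) from iSup₂_le fun B hB x hx => ?_) (mem_zpowers g)
  obtain ⟨a, ha, rfl⟩ := mem_Sig.1 hB
  rw [zpowers_eq_closure, centralizer_closure, mem_centralizer_singleton_iff]
  rcases eq_or_ne x 1 with rfl | x0
  · simp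
  have := h _ (ha.of_mem (mem_Eg.1 hx) (ne_one_iff.1 x0)).1
  exact Units.ext (by simp only [Units.val_mul]; linear_combination (norm := noncomm_ring) this)

theorem Qs.cc (hb : Qs G b) (H : ∀ a, Mn G a → a * b = b * a) : Qs (Cc G) b := ⟨hb.sq, fun c => by
  rcases eq_or_ne (c • b) 0 with e | e
  · exact e ▸ In.zero _
  have q : Qs G (c • b) := EE_qs (Submodule.smul_mem _ c hb.self)
  exact ⟨QP.sq _ q.sq, subset_closure ⟨qe_iff.2 (by rw [sq_val]; exact ⟨e, q⟩), cen_iff.2 fun a ha => by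
    rw [sq_val, mul_smul_comm, smul_mul_assoc, H a ha]⟩, rfl⟩⟩

theorem in_sup (F : FK k) (hG : NU k G) (hb : Qs G b) : In (G0 G ⊔ Cc G) b := by
  induction e : rk b using Nat.strong_induction_on generalizing b with
  | _ n ih =>
  by_cases H : ∀ a, Mn G a → a * b * a = 0
  · exact (hb.cc fun a => hb.comm F hG H).mem1.mono le_sup_right
  push Not at H
  obtain ⟨a, ha, o⟩ := H
  obtain ⟨-, b1, h1, h2, h3, h4⟩ := ha.peel F hb o
  simpa using In.add ⟨_, mem_sup_left (Kc_le h1.mem_Kc), rfl⟩ (ih _ (e ▸ h4) h2 rfl) h3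

theorem sup_eq (F : FK k) (hG : NU k G) (hq : closure (quadraticElements G) = G) : G0 G ⊔ Cc G = G :=
  le_antisymm (sup_le G0_le Cc_le) (hq.ge.trans ((closure_le _).2 fun _ h => (in_sup F hG (qe_iff.1 h).2).mem))

/-- A central product decomposition. -/
structure Dec (G : Subgroup 𝔼ˣ) (S : Set (Subgroup 𝔼ˣ)) : Prop where
  fin : S.Finite
  qs : ∀ K ∈ S, IsQuasisimple K
  gen : ∀ K ∈ S, K ≤ closure (quadraticElements G ∩ K)
  comm : ∀ K ∈ S, ∀ L ∈ S, K ≠ L → ⁅K, L⁆ = ⊥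
  sup : sSup S = G
  peel : ∀ b, b ≠ 0 → Qs G b → ∃ K ∈ S, ∃ c, c ≠ 0 ∧ In K c ∧ Qs G (b - c) ∧ c * (b - c) = 0 ∧ rk (b - c) < rk b

theorem exists_dec (F : FK k) (n : ℕ) (hG : NU k G) (hq : closure (quadraticElements G) = G)
    (hn : ∀ b, b ≠ 0 → Qs G b → Module.finrank k M < rk b + n) : ∃ S, Dec G S := by
  induction n generalizing G with
  | zero =>
    have no : ∀ b, b ≠ 0 → ¬ Qs G b := fun b b0 hb => (hn b b0 hb).not_ge (Submodule.finrank_le _)
    exact ⟨∅, Set.finite_empty, by simp, by simp, by simp, le_antisymm (by simp) (hq.ge.trans ((closure_le _).2 fun _ h =>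
      (no _ (qe_iff.1 h).1 (qe_iff.1 h).2).elim)), fun b b0 hb => (no b b0 hb).elim⟩
  | succ n ih =>
    have qm : quadraticElements (Cc G) ⊆ quadraticElements G := fun g h => qe_iff.2 ⟨(qe_iff.1 h).1, (qe_iff.1 h).2.mono Cc_le⟩
    obtain ⟨S, hS⟩ := ih (G := Cc G) (hG.normal Cc_le fun g hg x hx => by
        refine closure_induction (fun x hx => subset_closure ⟨qe_iff.2 ?_, fun y hy => ?_⟩) (by simp) (fun x y _ _ hx hy => by
          simpa [mul_assoc] using mul_mem hx hy) (fun x _ hx => by simpa [mul_assoc] using inv_mem hx) hx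
        · rw [cj_val (k := k)]; exact ⟨mt cj_eq_zero.1 (qe_iff.1 hx.1).1, (qe_iff.1 hx.1).2.conj hg⟩
        · have := hx.2 _ (G0_conj g⁻¹ (inv_mem hg) y hy)
          rw [← mul_left_cancel_iff (a := g⁻¹), ← mul_right_cancel_iff (a := g)]
          simpa [mul_assoc] using this)
      (le_antisymm ((closure_le _).2 fun _ => qe_le) ((closure_le _).2 fun g h => subset_closure
        (qe_iff.2 ⟨(qe_iff.1 h.1).1, (qe_iff.1 h.1).2.cc (cen_iff.1 h.2)⟩))) (fun b b0 hb => by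
      have nm : ¬ Mn G b := fun h => by
        obtain ⟨a, s, ha⟩ := h.exists_op F hG
        have := cen_iff.1 (Cc_cen (hb.mem1.sq_mem hb.sq)) a ha
        rw [sq_val] at this
        exact b0 (by rw [← s.aba, mul_assoc, this, ← mul_assoc, hb.sq, zero_mul])
      obtain ⟨c, hc⟩ : ∃ c, c ≠ 0 ∧ Qs G c ∧ rk c < rk b := by
        by_contra! H; exact nm ⟨hb.mono Cc_le, b0, H⟩
      have := hn c hc.1 hc.2.1
      omega)
    have le : ∀ K ∈ S, K ≤ Cc G := fun K h => hS.sup ▸ le_sSup h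
    have cm : ∀ A, ∀ K ∈ S, ⁅K, Kc G A⁆ = ⊥ := fun A K h =>
      commutator_eq_bot_iff_le_centralizer.2 (((le K h).trans Cc_cen).trans (centralizer_le Kc_le))
    refine ⟨Kc G '' Sg G ∪ S, .union ?_ hS.fin, ?_, ?_, ?_, ?_, fun b b0 hb => ?_⟩
    · exact ((Cm_finite F hG).image fun T => ⨆ B ∈ T, B).subset (by rw [Set.image_image])
    · rintro _ (⟨A, hA, rfl⟩ | h)
      exacts [Kc_qs F hG hA, hS.qs _ h]
    · rintro _ (⟨A, hA, rfl⟩ | h)
      · refine iSup₂_le fun B hB x hx => ?_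
        rcases eq_or_ne x 1 with rfl | x0
        · exact one_mem _
        refine subset_closure ⟨?_, le_Kc hB hx⟩
        obtain ⟨a, -, rfl⟩ := mem_Sig.1 hB.1
        exact qe_iff.2 ⟨ne_one_iff.1 x0, EE_qs (mem_Eg.1 hx)⟩
      · exact (hS.gen _ h).trans (closure_mono (Set.inter_subset_inter_left _ qm))
    · rintro _ (⟨A, hA, rfl⟩ | h) _ (⟨B, hB, rfl⟩ | h') ne
      exacts [Kc_comm F hG fun e => ne (by rw [Kc, e]), (commutator_comm _ _).trans (cm A _ h'), cm B _ h, hS.comm _ h _ h' ne]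
    · rw [sSup_union, hS.sup, ← sup_eq F hG hq, sup_eq F hG hq, sSup_image]
      exact (congrArg (· ⊔ Cc G) (le_antisymm (iSup₂_le fun _ _ => Kc_le) (iSup₂_mono fun A hA => le_Kc ⟨hA, .refl⟩))).trans
        (sup_eq F hG hq)
    by_cases H : ∀ a, Mn G a → a * b * a = 0
    · obtain ⟨K, hK, c, h1, h2, h3, h4⟩ := hS.peel b b0 (hb.cc fun a => hb.comm F hG H)
      exact ⟨K, .inr hK, c, h1, h2, h3.mono Cc_le, h4⟩
    push Not at H
    obtain ⟨a, ha, o⟩ := H
    obtain ⟨-, b1, h1, h2⟩ := ha.peel F hb o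
    exact ⟨_, .inl ⟨_, h1.sig, rfl⟩, b1, h1.ne, ⟨_, h1.mem_Kc, rfl⟩, h2⟩

theorem Dec.mem {S : Set (Subgroup 𝔼ˣ)} (d : Dec G S) (irr : IsIrreducibleFor G) (b0 : b ≠ 0) (hb : Qs G b) : ∃ K ∈ S, In K b := by
  induction e : rk b using Nat.strong_induction_on generalizing b with
  | _ n ih =>
  obtain ⟨K, hK, c, h1, h2, h3, h4, h5⟩ := d.peel b b0 hb
  rcases eq_or_ne (b - c) 0 with z | z
  · exact ⟨K, hK, sub_eq_zero.1 z ▸ h2⟩
  obtain ⟨L, hL, i⟩ := ih _ (e ▸ h5) z h3 rfl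
  rcases eq_or_ne K L with rfl | ne
  · exact ⟨K, hK, by simpa using h2.add i h4⟩
  have cm : ∀ L ∈ S, K ≠ L → ∀ x ∈ K, ∀ y ∈ L, (x : 𝔼) * y = y * x := fun L hL ne x hx y hy => congrArg Units.val
    (commutatorElement_eq_one_iff_mul_comm.1 (mem_bot.1 (d.comm K hK L hL ne ▸ commutator_mem_commutator hx hy)))
  obtain ⟨σ, hσ, eσ⟩ := h2
  obtain ⟨τ, hτ, eτ⟩ := i
  rw [← sub_eq_iff_eq_add'] at eσ eτ
  rcases irr.2 (⨅ g ∈ K, ker (c * (g : 𝔼ˣ).val)) (fun g hg => by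
    rw [← d.sup, sSup_eq_iSup'] at hg
    refine iSup_induction (C := fun g : 𝔼ˣ => ∀ w ∈ ⨅ g ∈ K, ker (c * (g : 𝔼ˣ).val), (g : 𝔼) w ∈ ⨅ g ∈ K, ker (c * (g : 𝔼ˣ).val)) _ hg
      (fun L g hg w hw => ?_) (fun w hw => hw) fun x y hx hy w hw => hx _ (hy w hw)
    simp only [Submodule.mem_iInf, LinearMap.mem_ker] at hw ⊢
    intro h hh
    rcases eq_or_ne K L with e | e
    · exact hw (h * g) (mul_mem hh (e ▸ hg))
    · have : c * h.val * g.val = g.val * (c * h.val) := by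
        rw [mul_assoc, cm L L.2 e h hh g hg, ← mul_assoc, ← eσ, sub_mul, cm L L.2 e σ hσ g hg]; noncomm_ring
      rw [← Module.End.mul_apply, this, Module.End.mul_apply, hw h hh, map_zero]) with w | w
  · refine (z (LinearMap.ext fun m => (Submodule.mem_bot k).1 (w ▸ ?_))).elim
    simp only [Submodule.mem_iInf, LinearMap.mem_ker]
    intro h hh
    have : c * h.val * (b - c) = c * (b - c) * h.val := by rw [← eτ, mul_assoc, mul_sub, cm L hL ne h hh τ hτ]; noncomm_ring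
    rw [← Module.End.mul_apply, this, h4, zero_mul, LinearMap.zero_apply]
  · exact (h1 (LinearMap.ext fun m => by simpa using (iInf₂_le 1 K.one_mem : _ ≤ ker (c * (1 : 𝔼ˣ).val)) (w.ge (Submodule.mem_top (x := m))))).elim

end CfsgH9.QP
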