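import Cfsg.Agent.H2.BaerSuzuki
import Cfsg.Agent.H2.Invol
import Cfsg.Prelude.Def_RootSubgroups
import Cfsg.Prelude.Def_QuasithinSetup

/-! Root involutions. -/

set_option autoImplicit false
set_option linter.unusedSectionVars false

namespace CfsgH9.RI

open Subgroup Cfsg CfsgH1 CfsgH2
open scoped commutatorElement

variable {G : Type*} [Group G] [Finite G] {D : Set G} {a b c d e x y z g : G}

theorem ord_cj (g u : G) : orderOf (g * u * g⁻¹) = orderOf u := (MulAut.conj g).orderOf_eq u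

theorem baer_sub {T : Set G} (h1 : ∀ a ∈ T, ∀ b ∈ T, b * a * b⁻¹ ∈ T) (h0 : ∀ a ∈ T, a * a = 1) (h2 : ∀ a ∈ T, ∀ b ∈ T, (a * b) ^ 4 = 1) :
    IsPGroup 2 (closure T) := by
  have k : ∀ g ∈ closure T, ∀ a ∈ T, g * a * g⁻¹ ∈ T := fun g hg => by
    induction hg using closure_induction'' with
    | one => simp
    | mem b hb => exact fun a ha => h1 a ha b hb
    | inv_mem b hb => rw [inv_eq_of_mul_eq_one_right (h0 b hb)]; exact fun a ha => h1 a ha b hb
    | mul x y _ _ hx hy => exact fun a ha => by simpa [mul_assoc] using hx _ (hy a ha)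
  refine pCore_eq_top_iff.1 (eq_top_iff.2 ((closure_closure_coe_preimage (k := T)).ge.trans ((closure_le _).2
    (baer_suzuki_set (fun a ha g => k g g.2 a ha) fun a ha b hb => ?_))))
  obtain ⟨i, -, hi⟩ := (Nat.dvd_prime_pow Nat.prime_two (m := 2)).1 (orderOf_dvd_of_pow_eq_one (show (a * b) ^ 2 ^ 2 = 1 from Subtype.ext (h2 _ ha _ hb)))
  exact isPGroup_closure_invol (Subtype.ext (h0 _ ha)) (Subtype.ext (h0 _ hb)) hi

/-- Lines. -/
structure Ln (D : Set G) (a b : G) : Prop where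
  l : a ∈ D
  r : b ∈ D
  c : Commute a b
  m : a * b ∈ D

/-- Products of order four. -/
structure V4 (D : Set G) (a b : G) : Prop where
  l : a ∈ D
  r : b ∈ D
  na : ¬ OddAdj D a b
  nc : ¬ Commute a b

theorem Ln.symm (h : Ln D a b) : Ln D b a := ⟨h.r, h.l, h.c.symm, h.c.eq ▸ h.m⟩

variable (hD : IsRootInvolutionSet D)
include hD

theorem sq (h : a ∈ D) : a * a = 1 := by rw [← pow_two, ← hD.orderOf_eq a h, pow_orderOf_eq_one]
theorem sq' (h : a ∈ D) (x : G) : a * (a * x) = x := by rw [← mul_assoc, sq hD h, one_mul]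
theorem inv (h : a ∈ D) : a⁻¹ = a := inv_eq_of_mul_eq_one_right (sq hD h)
theorem ne1 (h : a ∈ D) : a ≠ 1 := fun e => by simpa [e] using hD.orderOf_eq a h
theorem cj (h : a ∈ D) (hb : b ∈ D) : b * a * b ∈ D := by simpa [inv hD hb] using hD.conj_mem a h b
theorem eq_of (h : a ∈ D) (e : a * b = 1) : a = b := by rw [← sq' hD h b, e, mul_one]

theorem A_symm (h : OddAdj D a b) : OddAdj D b a :=
  ⟨h.2.1, h.1, h.2.2.1.symm, by rw [← orderOf_inv, mul_inv_rev, inv hD h.1, inv hD h.2.1]; exact h.2.2.2⟩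
theorem A_conj (h : OddAdj D a b) (g : G) : OddAdj D (g * a * g⁻¹) (g * b * g⁻¹) :=
  ⟨hD.conj_mem _ h.1 g, hD.conj_mem _ h.2.1 g, by simpa using h.2.2.1, by rw [conj_mul, ord_cj]; exact h.2.2.2⟩
theorem A_iff (g : G) : OddAdj D (g * a * g⁻¹) (g * b * g⁻¹) ↔ OddAdj D a b := ⟨fun h => by simpa [mul_assoc] using A_conj hD h g⁻¹, (A_conj hD · g)⟩

theorem na_iff (ha : a ∈ D) (hb : b ∈ D) : ¬ OddAdj D a b ↔ (a * b) ^ 4 = 1 := by
  refine ⟨fun h => ?_, fun h o => o.2.2.1 (eq_of hD ha (orderOf_eq_one_iff.1 ?_))⟩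
  · rcases hD.pair a ha b hb with e | e | e
    · rw [show 4 = 2 * 2 from rfl, pow_mul, (show Commute a b from e).mul_pow]; simp [pow_two, sq hD ha, sq hD hb]
    · obtain rfl : a = b := by by_contra n; exact h ⟨ha, hb, n, e⟩
      simp [sq hD ha]
    · rw [← e.1, pow_orderOf_eq_one]
  · exact ((Nat.coprime_two_right.2 o.2.2.2).pow_right 2).eq_one_of_dvd (orderOf_dvd_of_pow_eq_one h)

theorem na_cm (ha : a ∈ D) (hb : b ∈ D) (h : ¬ OddAdj D a b) : Commute a (b * a * b) := by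
  have := (na_iff hD ha hb).1 h
  have e : a * (b * a * b) * (a * (b * a * b)) = 1 := by rw [← this]; simp [pow_succ, mul_assoc]
  rw [Commute, SemiconjBy, ← inv_eq_of_mul_eq_one_right e]; simp [inv hD ha, inv hD hb, mul_assoc]

theorem na_of (ha : a ∈ D) (hb : b ∈ D) (h : Commute a b) : ¬ OddAdj D a b := (na_iff hD ha hb).2 (by
  rw [show 4 = 2 * 2 from rfl, pow_mul, h.mul_pow]; simp [pow_two, sq hD ha, sq hD hb])

theorem L0 (h : OddAdj D a x) (z2 : z * z = 1) (h1 : Commute z a) (h2 : Commute z x) (m : z * a ∈ D) : z = 1 := by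
  have c := h1.mul_right h2
  have zo : ∀ {n}, Odd n → z ^ n = z := fun ⟨k, e⟩ => by rw [e, pow_succ, pow_mul, pow_two, z2, one_pow, one_mul]
  by_cases o : OddAdj D (z * a) x
  · have := pow_orderOf_eq_one (z * a * x)
    rw [mul_assoc, c.mul_pow, ← mul_assoc, zo o.2.2.2] at this
    rw [← zo h.2.2.2, eq_inv_of_mul_eq_one_left this, inv_pow, ← pow_mul, mul_comm, pow_mul, pow_orderOf_eq_one, one_pow, inv_one]
  · have := (na_iff hD m h.2.1).1 o
    rw [mul_assoc, c.mul_pow, show 4 = 2 * 2 from rfl, pow_mul z, pow_two z, z2, one_pow, one_mul] at this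
    exact ((na_iff hD h.1 h.2.1).2 this h).elim

theorem L1 (l : Ln D a b) (h : OddAdj D a x) : ¬ Commute b x := fun c => ne1 hD l.r (L0 hD h (sq hD l.r) l.c.symm c l.symm.m)

theorem Ln.third (h : Ln D a b) : Ln D a (a * b) := ⟨h.l, h.m, (Commute.refl a).mul_right h.c, by rw [sq' hD h.l]; exact h.r⟩
theorem V4.symm (h : V4 D a b) : V4 D b a := ⟨h.r, h.l, mt (A_symm hD) h.na, mt Commute.symm h.nc⟩
theorem V4.ord (h : V4 D a b) : orderOf (a * b) = 4 ∧ (a * b) ^ 2 ∈ D := by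
  refine ((hD.pair a h.l b h.r).resolve_left h.nc).resolve_left fun o => h.na ⟨h.l, h.r, ?_, o⟩
  rintro rfl; exact h.nc rfl
theorem v4_of (ha : a ∈ D) (hb : b ∈ D) (h : orderOf (a * b) = 4) : V4 D a b :=
  ⟨ha, hb, fun o => by simpa [h] using Nat.odd_iff.1 o.2.2.2, fun c => by
    have : orderOf (a * b) ∣ 2 := orderOf_dvd_of_pow_eq_one (by rw [c.mul_pow]; simp [pow_two, sq hD ha, sq hD hb])
    rw [h] at this; omega⟩
theorem V4.ln (h : V4 D a b) : Ln D a (a * (b * a * b)) :=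
  Ln.third hD ⟨h.l, cj hD h.l h.r, na_cm hD h.l h.r h.na, by simpa [pow_two, mul_assoc] using (h.ord hD).2⟩
theorem V4.cm (h : V4 D a b) : b * (a * b * a) = a * (b * a * b) := by
  have := (na_cm hD h.l h.r h.na).eq
  simp only [mul_assoc] at this ⊢; exact this.symm
theorem V4.ln' (h : V4 D a b) : Ln D b (a * (b * a * b)) := h.cm hD ▸ (h.symm hD).ln hD

theorem L2 (l : Ln D a b) (h : OddAdj D (a * b) x) : OddAdj D a x ∨ OddAdj D b x := by
  by_contra! H
  have hx := h.2.1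
  have v1 : V4 D x a := ⟨hx, l.l, mt (A_symm hD) H.1, fun c => L1 hD (l.third hD).symm h c.symm⟩
  have v2 : V4 D x b := ⟨hx, l.r, mt (A_symm hD) H.2, fun c => L1 hD (l.c.eq ▸ (l.symm.third hD).symm) h c.symm⟩
  have e : x * (b * x * b) * (x * (a * x * a)) = b * (x * (a * b) * (x * (a * b))) * b⁻¹ := by
    have := v2.cm hD
    simp only [mul_assoc, inv hD l.r, sq hD l.r, mul_one, sq' hD hx] at this ⊢
    rw [← mul_assoc x b, ← mul_assoc _ x, ← mul_assoc _ b, mul_assoc x b, mul_assoc x, mul_assoc b x b, ← this]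
    simp only [mul_assoc, sq' hD hx, ← l.c.left_comm]
  have o := (A_symm hD h).2.2.2
  refine L1 hD (v2.ln hD).symm ⟨(v2.ln hD).r, (v1.ln hD).r, fun q => ?_, ?_⟩ (v1.ln hD).c
  · rw [q, sq hD (v1.ln hD).r, eq_comm, conj_eq_one_iff] at e
    exact h.2.2.1 (eq_of hD hx (eq_one_of_inv_of_odd o (inv_eq_of_mul_eq_one_right e))).symm
  · rw [e, ord_cj, ← pow_two]; exact o.of_dvd_nat (orderOf_pow_dvd 2)

theorem L3 (h : OddAdj D a x) (c : Commute a b) (v : V4 D b x) : V4 D (b * (x * b * x)) a :=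
  ⟨(v.ln hD).r, h.1, fun o => L1 hD (v.ln hD).symm o c.symm, L1 hD (v.ln' hD) (A_symm hD h)⟩

theorem inj1 {u v : G} (h : OddAdj D a x) (l : Ln D a u) (l' : Ln D a v) (n : ¬ OddAdj D u x) (e : u * x * u = v * x * v) : u = v := by
  have aux : ∀ {v}, Ln D a v → u * x * u = v * x * v → Commute u v → u = v := fun {v} l' e c => by
    have o : OddAdj D (a * u) x := (L2 hD (a := a * u) (b := u) (l.c.eq ▸ (l.symm.third hD).symm) (by rwa [mul_assoc, sq hD l.r, mul_one])).resolve_right n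
    refine eq_of hD l.r (L0 hD o (by rw [c.symm.mul_mul_mul_comm, sq hD l.r, sq hD l'.r, one_mul])
      ((l.c.symm.mul_right (.refl u)).mul_left (l'.c.symm.mul_right c.symm)) ?_ ?_)
    · show u * v * x = x * (u * v)
      rw [← sq' hD l.r (x * _), show u * (x * (u * v)) = u * x * u * v by simp only [mul_assoc], e]; simp [mul_assoc, sq hD l'.r]
    · rw [c.eq, mul_assoc, l.c.eq, sq' hD l.r, ← l'.c.eq]; exact l'.m
  by_contra ne
  have c : ¬ Commute u v := fun c => ne (aux l' e c)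
  refine c ?_
  have := aux (v := v * u * v) ⟨l.l, cj hD l.r l'.r, (l'.c.mul_right l.c).mul_right l'.c, by
    simpa [mul_assoc, l'.c.left_comm] using cj hD l.m l'.r⟩ (by
      rw [show v * u * v * x * (v * u * v) = v * u * (v * x * v) * u * v by simp only [mul_assoc], ← e]
      simp only [mul_assoc, sq' hD l.r]; simpa only [mul_assoc] using e) (na_cm hD l.r l'.r fun o => L1 hD l.symm o l'.c)
  show u * v = v * u
  nth_rw 1 [this]; simp [mul_assoc, sq hD l'.r]

theorem L7 (h : OddAdj D a x) (l : Ln D a b) (n : ¬ OddAdj D b x) : ∃ g, V4 D g a ∧ Ln D x g ∧ g * (a * g * a) = b := by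
  have mp : ∀ {a x : G}, OddAdj D a x → ∃ f : {b // Ln D a b ∧ V4 D b x} → {b // Ln D x b ∧ V4 D b a}, f.Injective ∧
      ∀ b, (f b).1 = b * (x * b * x) := fun {a x} h => ⟨fun b => ⟨_, b.2.2.ln' hD, L3 hD h b.2.1.c b.2.2⟩, fun u v e => Subtype.ext
        (inj1 hD h u.2.1 v.2.1 u.2.2.na (by
          have := congrArg (·.1 * x) e
          simpa only [mul_assoc, sq hD h.2.1, mul_one] using this)), fun _ => rfl⟩
  obtain ⟨f1, i1, -⟩ := mp h
  obtain ⟨f2, i2, e2⟩ := mp (A_symm hD h)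
  obtain ⟨u, e⟩ := Finite.surjective_of_injective (i2.comp i1) ⟨b, l, l.r, h.2.1, n, L1 hD l h⟩
  exact ⟨_, (f1 u).2.2, (f1 u).2.1, (e2 _).symm.trans (congrArg Subtype.val e)⟩

theorem iso_iff : IsIsolatedElem (OddAdj D) D a ↔ a ∈ D ∧ a ∈ pCore 2 G := by
  refine ⟨fun h => ⟨h.1, baer_suzuki fun g => ?_⟩, fun h => ⟨h.1, ?_⟩⟩
  · obtain ⟨i, -, hi⟩ := (Nat.dvd_prime_pow Nat.prime_two (m := 2)).1 (orderOf_dvd_of_pow_eq_one ((na_iff hD h.1 (hD.conj_mem a h.1 g)).1 (h.2 _).1))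
    exact isPGroup_closure_invol (sq hD h.1) (sq hD (hD.conj_mem a h.1 g)) hi
  suffices ∀ b, ¬ OddAdj D a b from fun b => ⟨this b, mt (A_symm hD) (this b)⟩
  intro b o
  have := eq_one_of_odd_of_mem (isPGroup_pCore 2 G) (mul_mem h.2 ((inferInstance : (pCore 2 G).Normal).conj_mem a h.2 b)) (by
    rw [inv hD o.2.1, ← mul_assoc, ← mul_assoc, mul_assoc _ a, ← pow_two]; exact o.2.2.2.of_dvd_nat (orderOf_pow_dvd 2))
  exact o.2.2.1 (eq_of hD o.1 (eq_one_of_inv_of_odd o.2.2.2 (inv_eq_of_mul_eq_one_right (by simpa [inv hD o.2.1, mul_assoc] using this))))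

theorem path (l : Ln D a b) (h : OddAdj D a x) (h' : OddAdj D b y) : Relation.ReflTransGen (OddAdj D) a b := by
  have l' : Ln D (a * b) b := l.c.eq ▸ (l.symm.third hD).symm
  rcases L2 hD (l.third hD) (by rwa [sq' hD l.l]) with o | o
  · exact .tail (.single o) (A_symm hD h')
  rcases L2 hD l' (by rwa [mul_assoc, sq hD l.r, mul_one]) with q | q
  · exact .tail (.tail (.tail (.single h) (A_symm hD q)) o) (A_symm hD h')
  · exact .tail (.single h) (A_symm hD q)

theorem R_symm (h : Relation.ReflTransGen (OddAdj D) a b) : Relation.ReflTransGen (OddAdj D) b a := by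
  induction h with
  | refl => exact .refl
  | tail _ h ih => exact .head (A_symm hD h) ih

variable (hc : IsConnectedSet (OddAdj D) D)
include hc

theorem conj (ha : a ∈ D) (hb : b ∈ D) : ∃ g, g * a * g⁻¹ = b := by
  have := hc a ha b hb
  clear hb
  refine isConj_iff.1 ?_
  induction this with
  | refl => exact .refl a
  | tail _ h ih => exact ih.trans (isConj_of_odd (sq hD h.1) (sq hD h.2.1) h.2.2.2)

theorem ex (ha : a ∈ D) (hb : b ∈ D) (h : a ≠ b) : ∃ x, OddAdj D a x := by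
  rcases (hc a ha b hb).cases_head with e | ⟨x, e, -⟩
  exacts [(h e).elim, ⟨x, e⟩]

theorem eq_of_le (ha : a ∈ D) (hb : b ∈ D) (h : ∀ x, OddAdj D a x → OddAdj D b x) (x : G) : OddAdj D a x ↔ OddAdj D b x := by
  obtain ⟨g, rfl⟩ := conj hD hc hb ha
  refine Set.ext_iff.1 (Set.eq_of_subset_of_ncard_le (s := {x | OddAdj D _ x}) (t := {x | OddAdj D b x}) h ?_) x
  exact Set.ncard_le_ncard_of_injOn (fun x => g * x * g⁻¹) (fun x h => A_conj hD h g) fun x _ y _ e => by simpa using e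

theorem cm_T (v : V4 D e y) (h : ∀ x, OddAdj D (y * e * y) x ↔ OddAdj D e x) (x : G) : OddAdj D (e * (y * e * y)) x ↔ OddAdj D e x :=
  eq_of_le hD hc (v.ln hD).r v.l (fun x o => (L2 hD (by simpa only [sq' hD v.l] using (v.ln hD).third hD) o).elim id (h x).1) x

theorem T_comm (he : e ∈ D) (hy : y ∈ D) (h : ∀ x, OddAdj D y x ↔ OddAdj D e x) : Commute e y := by
  by_contra n
  let T := {t ∈ D | ∀ x, OddAdj D t x ↔ OddAdj D e x}
  have cl : ∀ s ∈ T, ∀ g, g * s * g⁻¹ ∈ T → ∀ t ∈ T, g * t * g⁻¹ ∈ T := fun s hs g h t ht => ⟨hD.conj_mem _ ht.1 g, fun x => by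
    rw [← h.2, show x = g * (g⁻¹ * x * g) * g⁻¹ by group, A_iff hD, A_iff hD, ht.2, hs.2]⟩
  have na : ∀ s ∈ T, ∀ t ∈ T, ¬ OddAdj D s t := fun s hs t ht o => ((ht.2 t).2 ((hs.2 t).1 o)).2.2.1 rfl
  have c1 : ∀ a ∈ T, ∀ b ∈ T, b * a * b⁻¹ ∈ T := fun a ha b hb => cl b hb b (by simpa using hb) a ha
  have p := baer_sub c1 (fun a ha => sq hD ha.1) fun a ha b hb => (na_iff hD ha.1 hb.1).1 (na a ha b hb)
  have eT : e ∈ T := ⟨he, fun _ => .rfl⟩
  have v : V4 D e y := ⟨he, hy, na e eT y ⟨hy, h⟩, n⟩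
  have fT : e * (y * e * y) ∈ T := ⟨(v.ln hD).r, cm_T hD hc v (by simpa [inv hD hy] using (c1 e eT y ⟨hy, h⟩).2)⟩
  have := p.isNilpotent
  have l : closure T ≤ ⁅closure T, closure T⁆ := (closure_le _).2 fun t ht => by
    obtain ⟨g, rfl⟩ := conj hD hc fT.1 ht.1
    have := commutator_mem_commutator (subset_closure (cl _ fT g ht e eT)) (subset_closure (cl _ fT g ht y ⟨hy, h⟩))
    simpa [commutatorElement_def, inv hD he, inv hD hy, mul_assoc] using this
  have q : (⊤ : Subgroup (closure T)) ≤ ⁅(⊤ : Subgroup (closure T)), (⊤ : Subgroup (closure T))⁆ := by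
    rwa [← map_le_map_iff_of_injective (subtype_injective _), map_commutator, ← MonoidHom.range_eq_map, range_subtype]
  refine (Group.IsSolvable.commutator_lt_of_ne_bot fun z => ?_).not_ge q
  exact ne1 hD he (congrArg Subtype.val (mem_bot.1 (z.le (mem_top ⟨e, subset_closure eT⟩))))

theorem C_of_A (he : e ∈ D) (hy : y ∈ D) (h : ∀ x, OddAdj D d x ↔ OddAdj D e x) (hd : d ∈ D) (c : Commute y d) : Commute y e := by
  by_contra n
  have v : V4 D e y := ⟨he, hy, fun o => na_of hD hd hy c.symm ((h y).2 o), mt Commute.symm n⟩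
  have h1 : ∀ x, OddAdj D (y * e * y) x ↔ OddAdj D e x := fun x => by
    rw [show x = y * (y⁻¹ * x * y) * y⁻¹ by group, show y * e * y = y * e * y⁻¹ by rw [inv hD hy], A_iff hD, ← h, ← h, ← A_iff hD y, c.eq,
      mul_inv_cancel_right]
  have h2 := cm_T hD hc v h1
  obtain ⟨x, o, m⟩ : ∃ x, OddAdj D (e * (y * e * y)) x ∧ ¬ OddAdj D y x := by
    by_contra! H
    exact v.nc (T_comm hD hc he hy fun x => (eq_of_le hD hc (v.ln hD).r hy H x).symm.trans (h2 x))
  obtain ⟨g, w, l, q⟩ := L7 hD o (v.ln' hD).symm m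
  have n1 := na_cm hD w.l he fun o => w.na (A_symm hD ((h2 g).2 (A_symm hD o)))
  have n2 := na_cm hD w.l (cj hD he hy) fun o => w.na (A_symm hD ((h2 g).2 ((h1 g).1 (A_symm hD o))))
  have n3 : Commute g y := q ▸ (w.ln hD).c
  have ce := (v.ln hD).c.eq
  generalize hf : e * (y * e * y) = f at *
  have f1 : y * e * y = e * f := by rw [← hf, sq' hD he]
  have : e * f * g * (e * f) = e * g * e * (y * f) := by
    have a1 : f * g * f = g * y := by rw [← q, sq' hD w.l]
    have a2 : e * y * e = y * f := by rw [← hf, ← v.cm hD, sq' hD hy]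
    nth_rw 2 [ce]
    rw [← a2, show e * f * g * (f * e) = e * (f * g * f) * e by simp only [mul_assoc], a1]; simp only [mul_assoc, sq' hD he]
  rw [f1, this] at n2
  refine w.nc ?_
  have := (n3.inv_right.mul_right (n1.inv_right.mul_right n2))
  simpa only [inv_mul_cancel_left] using this

theorem E_iff (hd : d ∈ D) (he : e ∈ D) : commutingMembers D d = commutingMembers D e ↔ ∀ x, OddAdj D d x ↔ OddAdj D e x := by
  have k : ∀ {d e}, d ∈ D → e ∈ D → commutingMembers D d = commutingMembers D e → ∀ x, OddAdj D d x → OddAdj D e x := fun hd he h x o => by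
    by_contra n
    have v : V4 D x _ := ⟨o.2.1, he, mt (A_symm hD) n, fun c => na_of hD hd o.2.1 (Commute.symm (h.ge ⟨o.2.1, c⟩).2) o⟩
    exact L1 hD (v.ln hD) (A_symm hD o) (h.ge ⟨(v.ln hD).r, (v.ln' hD).c.symm⟩).2
  exact ⟨fun h x => ⟨k hd he h x, k he hd h.symm x⟩, fun h => Set.ext fun y => and_congr_right fun hy =>
    ⟨C_of_A hD hc he hy h hd, C_of_A hD hc hd hy (fun x => (h x).symm) he⟩⟩

end CfsgH9.RI
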