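import Mathlib

set_option autoImplicit false
set_option linter.unusedSectionVars false

namespace Cfsg.Agent.H9.Red

open Matrix

variable {F : Type*} [Field F] {ι : Type*} [Fintype ι] [DecidableEq ι]

abbrev GG (ι F : Type*) [Field F] [Fintype ι] [DecidableEq ι] := Matrix.GeneralLinearGroup ι F

theorem mul_inv' (g : GG ι F) : (g : Matrix ι ι F) * ((g⁻¹ : GG ι F) : Matrix ι ι F) = 1 := g.mul_inv
theorem inv_mul' (g : GG ι F) : ((g⁻¹ : GG ι F) : Matrix ι ι F) * (g : Matrix ι ι F) = 1 := g.inv_mul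

theorem diag_mul {A B : Matrix ι ι F} (hA : A.IsDiag) (hB : B.IsDiag) : (A * B).IsDiag := by
  rw [← hA.diagonal_diag, ← hB.diagonal_diag, diagonal_mul_diagonal]; exact isDiag_diagonal _

theorem diag_comm {A B : Matrix ι ι F} (hA : A.IsDiag) (hB : B.IsDiag) : A * B = B * A := by
  rw [← hA.diagonal_diag, ← hB.diagonal_diag, diagonal_mul_diagonal, diagonal_mul_diagonal]
  congr 1; funext i; exact mul_comm _ _

theorem diag_pow {A : Matrix ι ι F} (hA : A.IsDiag) (n : ℕ) : (A ^ n).IsDiag := by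
  rw [← hA.diagonal_diag, diagonal_pow]; exact isDiag_diagonal _

/-- diagonal matrices of exponent `p` -/
def DD (p : ℕ) [hp : Fact p.Prime] : Subgroup (GG ι F) where
  carrier := {g | (g : Matrix ι ι F).IsDiag ∧ g ^ p = 1}
  one_mem' := ⟨by simpa using isDiag_one, one_pow _⟩
  mul_mem' := by
    rintro a b ⟨ha, ha'⟩ ⟨hb, hb'⟩
    refine ⟨by rw [Units.val_mul]; exact diag_mul ha hb, ?_⟩
    have : Commute a b := Units.ext (by rw [Units.val_mul, Units.val_mul]; exact diag_comm ha hb)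
    rw [this.mul_pow, ha', hb', one_mul]
  inv_mem' := by
    rintro a ⟨ha, ha'⟩
    refine ⟨?_, by rw [inv_pow, ha', inv_one]⟩
    have : a⁻¹ = a ^ (p - 1) := by
      rw [eq_comm, ← mul_eq_one_iff_eq_inv, ← pow_succ, Nat.sub_add_cancel hp.out.one_lt.le, ha']
    rw [this, Units.val_pow_eq_pow_val]; exact diag_pow ha _

/-- the unit `1 + (w - 1) e` for an idempotent `e` -/
def refl (w : F) (hw : w ≠ 0) (e : Matrix ι ι F) (he : e * e = e) : GG ι F where
  val := 1 + (w - 1) • e
  inv := 1 + (w⁻¹ - 1) • e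
  val_inv := by
    simp only [add_mul, mul_add, one_mul, mul_one, smul_mul_assoc, mul_smul_comm, he, smul_add,
      smul_smul]
    have h := mul_inv_cancel₀ hw
    linear_combination (norm := module) h • e
  inv_val := by
    simp only [add_mul, mul_add, one_mul, mul_one, smul_mul_assoc, mul_smul_comm, he, smul_add,
      smul_smul]
    have h := mul_inv_cancel₀ hw
    linear_combination (norm := module) h • e

def EE (j : ι) : Matrix ι ι F := diagonal (Pi.single j 1)

theorem EE_sq (j : ι) : (EE j : Matrix ι ι F) * EE j = EE j := by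
  unfold EE; rw [diagonal_mul_diagonal]; congr 1; funext i
  by_cases h : i = j <;> simp [h]

theorem conj_EE (A B : Matrix ι ι F) (j a b : ι) :
    (A * (EE j : Matrix ι ι F) * B : Matrix ι ι F) a b = A a j * B j b := by
  rw [mul_apply, Finset.sum_eq_single j]
  · simp [EE]
  · intro k _ hk; simp [EE, hk]
  · simp

def Cm (g : GG ι F) : Prop :=
  ∀ j, ((g : Matrix ι ι F) * (EE j : Matrix ι ι F) * ((g⁻¹ : GG ι F) : Matrix ι ι F)).IsDiag

theorem Cm.col {g : GG ι F} (h : Cm g) (j a b : ι) (ha : (g : Matrix ι ι F) a j ≠ 0)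
    (hb : (g : Matrix ι ι F) b j ≠ 0) : a = b := by
  have h1 : (((g⁻¹ : GG ι F) : Matrix ι ι F) * (g : Matrix ι ι F)) j j ≠ 0 := by rw [inv_mul']; simp
  rw [mul_apply] at h1
  obtain ⟨c, -, hc⟩ := Finset.exists_ne_zero_of_sum_ne_zero h1
  have hc' := left_ne_zero_of_mul hc
  have key : ∀ a, (g : Matrix ι ι F) a j ≠ 0 → a = c := fun a ha => by
    by_contra hne
    exact mul_ne_zero ha hc' ((conj_EE _ _ j a c).symm.trans (h j hne))
  rw [key a ha, key b hb]

theorem Cm.conj {g : GG ι F} (h : Cm g) (j : ι) :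
    ∃ i, (g : Matrix ι ι F) * (EE j : Matrix ι ι F) * ((g⁻¹ : GG ι F) : Matrix ι ι F) = (EE i : Matrix ι ι F) := by
  have h1 : (((g⁻¹ : GG ι F) : Matrix ι ι F) * (g : Matrix ι ι F)) j j = 1 := by rw [inv_mul']; simp
  rw [mul_apply] at h1
  obtain ⟨c, -, hc⟩ := Finset.exists_ne_zero_of_sum_ne_zero (h1 ▸ one_ne_zero)
  have hc' := right_ne_zero_of_mul hc
  have hz : ∀ a, a ≠ c → (g : Matrix ι ι F) a j = 0 := fun a ha => by
    by_contra hne; exact ha (h.col j a c hne hc')
  rw [Finset.sum_eq_single c (fun k _ hk => by rw [hz k hk, mul_zero]) (by simp)] at h1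
  refine ⟨c, ?_⟩
  ext a b
  by_cases hab : a = b
  · subst hab
    rw [conj_EE]
    by_cases hac : a = c
    · subst hac; rw [mul_comm, h1]; simp [EE]
    · rw [hz a hac]; simp [EE, hac]
  · rw [h j hab]; simp [EE, hab]

theorem Cm.quad {u : GG ι F} (h : Cm u) {w : F} (hw : w ≠ 0) (hw1 : 1 + w ≠ 0)
    (hq : (u : Matrix ι ι F) * u = (1 + w) • (u : Matrix ι ι F) - w • 1) :
    (u : Matrix ι ι F).IsDiag := by
  intro i j hij
  by_contra hne
  have hz : ∀ a, a ≠ i → (u : Matrix ι ι F) a j = 0 := fun a ha => by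
    by_contra h'; exact ha (h.col j a i h' hne)
  have hsq : ∀ a, ((u : Matrix ι ι F) * u) a j = (u : Matrix ι ι F) a i * (u : Matrix ι ι F) i j :=
    fun a => by
      rw [mul_apply, Finset.sum_eq_single i (fun k _ hk => by rw [hz k hk, mul_zero]) (by simp)]
  have h1 := hsq i
  have h2 := hsq j
  rw [hq] at h1 h2
  simp only [Matrix.sub_apply, Matrix.smul_apply, smul_eq_mul, one_apply_ne hij, one_apply_eq,
    hz j (Ne.symm hij), mul_zero, sub_zero, mul_one, zero_sub] at h1 h2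
  have h3 : (u : Matrix ι ι F) i i ≠ 0 := by
    rw [← mul_right_cancel₀ hne h1]; exact hw1
  have h4 : (u : Matrix ι ι F) j i ≠ 0 := by
    intro h0; rw [h0, zero_mul, neg_eq_zero] at h2; exact hw h2
  exact hij (h.col i i j h3 h4)

theorem refl_quad (w : F) (e : Matrix ι ι F) (he : e * e = e) :
    (1 + (w - 1) • e) * (1 + (w - 1) • e) = (1 + w) • (1 + (w - 1) • e) - w • (1 : Matrix ι ι F) := by
  simp only [add_mul, mul_add, one_mul, mul_one, smul_mul_assoc, mul_smul_comm, he, smul_add,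
    smul_smul]
  module

def yy (w : F) (hw : w ≠ 0) (j : ι) : GG ι F := refl w hw (EE j) (EE_sq j)

theorem conj_yy (w : F) (hw : w ≠ 0) (j : ι) (g : GG ι F) :
    ((g * yy w hw j * g⁻¹ : GG ι F) : Matrix ι ι F) =
      1 + (w - 1) • ((g : Matrix ι ι F) * (EE j : Matrix ι ι F) * ((g⁻¹ : GG ι F) : Matrix ι ι F)) := by
  rw [Units.val_mul, Units.val_mul]
  change (g : Matrix ι ι F) * (1 + (w - 1) • EE j) * _ = _
  rw [mul_add, add_mul, mul_one, mul_inv', mul_smul_comm, smul_mul_assoc]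

theorem conj_sq (j : ι) (g : GG ι F) :
    ((g : Matrix ι ι F) * (EE j : Matrix ι ι F) * ((g⁻¹ : GG ι F) : Matrix ι ι F)) *
      ((g : Matrix ι ι F) * (EE j : Matrix ι ι F) * ((g⁻¹ : GG ι F) : Matrix ι ι F)) =
      (g : Matrix ι ι F) * (EE j : Matrix ι ι F) * ((g⁻¹ : GG ι F) : Matrix ι ι F) := by
  calc _ = (g : Matrix ι ι F) * (EE j : Matrix ι ι F) * (((g⁻¹ : GG ι F) : Matrix ι ι F) * (g : Matrix ι ι F)) * (EE j : Matrix ι ι F) *
      ((g⁻¹ : GG ι F) : Matrix ι ι F) := by simp only [mul_assoc]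
    _ = _ := by rw [inv_mul', mul_one, mul_assoc _ (EE j) (EE j), EE_sq]

theorem diag_of_refl {w : F} (hw1 : w ≠ 1) {e : Matrix ι ι F} (h : (1 + (w - 1) • e).IsDiag) :
    e.IsDiag := by
  intro a b hab
  have := h hab
  simp only [Matrix.add_apply, Matrix.smul_apply, smul_eq_mul, one_apply_ne hab, zero_add] at this
  exact (mul_eq_zero.1 this).resolve_left (sub_ne_zero.2 hw1)

theorem cm_of_conj {w : F} (hw : w ≠ 0) (hw1 : w ≠ 1) (hw2 : 1 + w ≠ 0) {g : GG ι F}
    (h : ∀ j, Cm (g * yy w hw j * g⁻¹)) : Cm g := fun j => by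
  have := (h j).quad hw hw2 (by rw [conj_yy]; exact refl_quad _ _ (conj_sq j g))
  rw [conj_yy] at this
  exact diag_of_refl hw1 this

variable {p : ℕ} [hp : Fact p.Prime]

theorem yy_mem {w : F} (hw : w ≠ 0) (hwp : w ^ p = 1) (j : ι) : yy w hw j ∈ DD (ι := ι) (F := F) p := by
  have h1 : ((yy w hw j : GG ι F) : Matrix ι ι F) = diagonal (fun i => if i = j then w else 1) := by
    change 1 + (w - 1) • EE j = _
    ext a b
    by_cases hab : a = b
    · subst hab
      by_cases h : a = j <;> simp [EE, h]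
    · simp [EE, hab]
  refine ⟨by rw [h1]; exact isDiag_diagonal _, Units.ext ?_⟩
  rw [Units.val_pow_eq_pow_val, h1, diagonal_pow, Units.val_one, ← diagonal_one]
  congr 1; funext i
  by_cases h : i = j <;> simp [h, hwp]

theorem mem_norm [Finite F] {w : F} (hw : w ≠ 0) (hwp : w ^ p = 1) (hw1 : w ≠ 1) (g : GG ι F) :
    g ∈ Subgroup.normalizer ((DD (ι := ι) (F := F) p : Subgroup (GG ι F)) : Set (GG ι F)) ↔ Cm g := by
  constructor
  · intro h j
    have := ((Subgroup.mem_normalizer_iff.1 h _).1 (yy_mem hw hwp j)).1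
    rw [conj_yy] at this
    exact diag_of_refl hw1 this
  · intro h
    refine Subgroup.mem_normalizer_fintype ?_
    rintro d ⟨hd, hd'⟩
    refine ⟨?_, by rw [conj_pow, hd', mul_one, mul_inv_cancel]⟩
    have h1 : (d : Matrix ι ι F) = ∑ j, (d : Matrix ι ι F) j j • EE j := by
      ext a b
      rw [Matrix.sum_apply]
      by_cases hab : a = b
      · subst hab
        rw [Finset.sum_eq_single a (fun k _ hk => by simp [EE, Ne.symm hk]) (by simp)]; simp [EE]
      · rw [hd hab]; simp [EE, hab]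
    rw [Units.val_mul, Units.val_mul, h1, Finset.mul_sum, Finset.sum_mul]
    intro a b hab
    rw [Matrix.sum_apply]
    refine Finset.sum_eq_zero fun k _ => ?_
    rw [mul_smul_comm, smul_mul_assoc, Matrix.smul_apply, h k hab, smul_zero]

theorem norm_cm [Finite F] {w : F} (hw : w ≠ 0) (hwp : w ^ p = 1) (hw1 : w ≠ 1) (hw2 : 1 + w ≠ 0)
    (Q : Subgroup (GG ι F)) (hQ : IsPGroup p Q) (hD : DD p ≤ Q) (g : GG ι F)
    (hg : g ∈ Subgroup.normalizer (Q : Set (GG ι F))) : Cm g := by
  set N := Subgroup.normalizer ((DD (ι := ι) (F := F) p : Subgroup (GG ι F)) : Set (GG ι F)) with hN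
  have hQN : Q ≤ N := by
    haveI := hQ.isNilpotent
    have hc : NormalizerCondition Q := Group.normalizerCondition_of_isNilpotent
    have : N.subgroupOf Q = ⊤ := by
      rw [normalizerCondition_iff_only_full_group_self_normalizing] at hc
      refine hc _ (le_antisymm ?_ Subgroup.le_normalizer)
      intro z hz
      rw [Subgroup.mem_subgroupOf, hN, mem_norm hw hwp hw1]
      refine cm_of_conj hw hw1 hw2 fun j => ?_
      have := (Subgroup.mem_normalizer_iff.1 hz ⟨_, hD (yy_mem hw hwp j)⟩).1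
        (Subgroup.mem_subgroupOf.2 (Subgroup.le_normalizer (yy_mem hw hwp j)))
      exact (mem_norm hw hwp hw1 _).1 (Subgroup.mem_subgroupOf.1 this)
    exact Subgroup.subgroupOf_eq_top.1 this
  refine cm_of_conj hw hw1 hw2 fun j => ?_
  exact (mem_norm hw hwp hw1 _).1 (hQN ((Subgroup.mem_normalizer_iff.1 hg _).1 (hD (yy_mem hw hwp j))))

end Cfsg.Agent.H9.Red
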