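import Cfsg.Agent.H9.Red1

set_option autoImplicit false
set_option linter.unusedSectionVars false

namespace Cfsg.Agent.H9.Red

open Matrix

variable {F : Type*} [Field F] {p : ℕ} [hp : Fact p.Prime]

theorem nondiag {ι : Type*} [Fintype ι] [DecidableEq ι] (hι : Nat.card ι = p) [Finite F]
    {w : F} (hw : w ≠ 0) (hw1 : w ≠ 1) (hw2 : 1 + w ≠ 0) (hpF : (p : F) ≠ 0)
    (x : GG ι F) (k : ℕ) (hk : x ^ p ^ k = 1) (h : ∀ g : GG ι F, g * x = x * g → Cm g) :
    (x : Matrix ι ι F).IsDiag := by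
  intro i j hij
  by_contra hne
  set X : Matrix ι ι F := (x : Matrix ι ι F) with hX
  have hjj : X j j = 0 := by
    by_contra h'; exact hij ((h x rfl).col j i j hne h')
  have hXn : X ^ p ^ k = 1 := by rw [hX, ← Units.val_pow_eq_pow_val, hk, Units.val_one]
  by_cases hdet : (1 - X).det = 0
  swap
  · have := (h (Matrix.GeneralLinearGroup.mkOfDetNeZero _ hdet) (Units.ext (by
      change (1 - X) * X = X * (1 - X)
      rw [sub_mul, mul_sub, one_mul, mul_one]))).col j i j
      (by change (1 - X) i j ≠ 0; simpa [one_apply_ne hij] using hne)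
      (by change (1 - X) j j ≠ 0; simp [hjj])
    exact hij this
  obtain ⟨v, hv0, hv⟩ := Matrix.exists_mulVec_eq_zero_iff.2 hdet
  have hXv : X *ᵥ v = v := by
    rw [sub_mulVec, one_mulVec, sub_eq_zero] at hv; exact hv.symm
  have hXv' : ∀ m : ℕ, (X ^ m) *ᵥ v = v := fun m => by
    induction m with
    | zero => simp
    | succ m ih => rw [pow_succ, ← mulVec_mulVec, hXv, ih]
  have hn : ((p ^ k : ℕ) : F) ≠ 0 := by rw [Nat.cast_pow]; exact pow_ne_zero _ hpF
  set T : Matrix ι ι F := ∑ m ∈ Finset.range (p ^ k), X ^ m with hT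
  have hT1 : X * T = T := by
    have := mul_geom_sum X (p ^ k)
    rw [hXn, sub_self, sub_mul, one_mul, sub_eq_zero] at this; exact this
  have hT2 : T * X = T := by
    have := geom_sum_mul X (p ^ k)
    rw [hXn, sub_self, mul_sub, mul_one, sub_eq_zero] at this; exact this
  have hT3 : ∀ m : ℕ, X ^ m * T = T := fun m => by
    induction m with
    | zero => simp
    | succ m ih => rw [pow_succ, mul_assoc, hT1, ih]
  have hTT : T * T = ((p ^ k : ℕ) : F) • T := by
    conv_lhs => rw [hT, Finset.sum_mul]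
    rw [← hT, Finset.sum_congr rfl (fun m _ => hT3 m), Finset.sum_const, Finset.card_range,
      Nat.cast_smul_eq_nsmul]
  have hTv : T *ᵥ v = ((p ^ k : ℕ) : F) • v := by
    rw [hT, Matrix.sum_mulVec, Finset.sum_congr rfl (fun m _ => hXv' m), Finset.sum_const,
      Finset.card_range, Nat.cast_smul_eq_nsmul]
  set e : Matrix ι ι F := ((p ^ k : ℕ) : F)⁻¹ • T with he
  have hee : e * e = e := by
    rw [he, smul_mul_assoc, mul_smul_comm, hTT, smul_smul _ _ T, inv_mul_cancel₀ hn, one_smul]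
  have he1 : X * e = e := by rw [he, mul_smul_comm, hT1]
  have he2 : e * X = e := by rw [he, smul_mul_assoc, hT2]
  have hed : e.IsDiag := by
    have h1 := (h (refl w hw e hee) (Units.ext (by
      change (1 + (w - 1) • e) * X = X * (1 + (w - 1) • e)
      rw [add_mul, mul_add, one_mul, mul_one, smul_mul_assoc, mul_smul_comm, he1, he2]))).quad hw hw2
      (refl_quad w e hee)
    exact diag_of_refl hw1 h1
  obtain ⟨c, hc⟩ : ∃ c, e c c ≠ 0 := by
    by_contra hcon
    push Not at hcon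
    have : e = 0 := by
      ext a b
      by_cases hab : a = b
      · subst hab; exact hcon a
      · exact hed hab
    have h2 : e *ᵥ v = v := by
      rw [he, smul_mulVec, hTv, smul_smul, inv_mul_cancel₀ hn, one_smul]
    rw [this, zero_mulVec] at h2
    exact hv0 h2.symm
  have hr : ∀ l, l ≠ c → X c l = 0 := fun l hl => by
    have := congrFun (congrFun he2 c) l
    rw [← hed.diagonal_diag, diagonal_mul, diagonal_apply_ne _ (Ne.symm hl)] at this
    exact (mul_eq_zero.1 this).resolve_left hc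
  have hc' : ∀ l, l ≠ c → X l c = 0 := fun l hl => by
    have := congrFun (congrFun he1 l) c
    rw [← hed.diagonal_diag, mul_diagonal, diagonal_apply_ne _ hl] at this
    exact (mul_eq_zero.1 this).resolve_right hc
  have hcomm : Commute x (yy w hw c) := by
    refine Units.ext ?_
    change X * (1 + (w - 1) • EE c) = (1 + (w - 1) • EE c) * X
    have : X * EE c = EE c * X := by
      ext a b
      rw [EE, mul_diagonal, diagonal_mul]
      by_cases ha : a = c <;> by_cases hb : b = c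
      · simp [ha, hb]
      · simp [ha, hb, hr b hb]
      · simp [ha, hb, hc' a ha]
      · simp [ha, hb]
    rw [add_mul, mul_add, one_mul, mul_one, smul_mul_assoc, mul_smul_comm, this]
  have hjc : j ≠ c := fun h' => hne (by rw [h']; exact hc' i (h' ▸ hij))
  have hH : IsPGroup p (Subgroup.zpowers (MulAut.conj x)) := by
    rintro ⟨_, m, rfl⟩
    refine ⟨k, Subtype.ext ?_⟩
    change ((MulAut.conj x) ^ m) ^ p ^ k = 1
    rw [← _root_.zpow_natCast, ← _root_.zpow_mul, mul_comm, _root_.zpow_mul, _root_.zpow_natCast, ← map_pow, hk, map_one, _root_.one_zpow]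
  obtain ⟨m, hm⟩ := hH.card_orbit (yy w hw j)
  have hsub : MulAction.orbit (Subgroup.zpowers (MulAut.conj x)) (yy w hw j) ⊆
      yy w hw '' {i | i ≠ c} := by
    rintro _ ⟨⟨_, m, rfl⟩, rfl⟩
    have h1 : (⟨(MulAut.conj x) ^ m, m, rfl⟩ : Subgroup.zpowers (MulAut.conj x)) • yy w hw j =
        x ^ m * yy w hw j * (x ^ m)⁻¹ := by
      change ((MulAut.conj x) ^ m) (yy w hw j) = _
      rw [← map_zpow, MulAut.conj_apply]
    obtain ⟨l, hl⟩ := (h (x ^ m) ((Commute.refl x).zpow_left m)).conj j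
    have h2 : x ^ m * yy w hw j * (x ^ m)⁻¹ = yy w hw l := Units.ext (by rw [conj_yy, hl]; rfl)
    refine ⟨l, fun hlc => ?_, by change _ = _ • _; rw [h1, h2]⟩
    rw [hlc, mul_inv_eq_iff_eq_mul, ← (hcomm.zpow_left m).eq, mul_right_inj] at h2
    have h3 : (1 + (w - 1) • EE j : Matrix ι ι F) j j = (1 + (w - 1) • EE c : Matrix ι ι F) j j :=
      congrArg (fun g : GG ι F => (g : Matrix ι ι F) j j) h2
    simp [EE, hjc, sub_eq_zero] at h3
    exact hw1 h3
  have hlt : p ^ m < p := by
    rw [← hm, Nat.card_coe_set_eq]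
    calc _ ≤ _ := Set.ncard_le_ncard hsub (Set.toFinite _)
      _ ≤ _ := Set.ncard_image_le (Set.toFinite _)
      _ < (Set.univ : Set ι).ncard := Set.ncard_lt_ncard
          (Set.ssubset_univ_iff.2 fun h' => (h' ▸ Set.mem_univ c : c ∈ {i | i ≠ c}) rfl) (Set.toFinite _)
      _ = p := by rw [Set.ncard_univ, hι]
  have hm0 : m = 0 := by
    rcases m with _ | m
    · rfl
    · exact absurd hlt (not_lt.2 (Nat.le_self_pow (Nat.succ_ne_zero m) p))
  rw [hm0, pow_zero, Nat.card_eq_one_iff_unique] at hm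
  have h4 := congrArg Subtype.val (hm.1.elim
    ⟨_, MulAction.mem_orbit _ (⟨MulAut.conj x, Subgroup.mem_zpowers _⟩ : Subgroup.zpowers (MulAut.conj x))⟩
    ⟨_, MulAction.mem_orbit_self _⟩)
  change x * yy w hw j * x⁻¹ = yy w hw j at h4
  rw [mul_inv_eq_iff_eq_mul] at h4
  have h5 : (X * (1 + (w - 1) • EE j) : Matrix ι ι F) i j = ((1 + (w - 1) • EE j) * X : Matrix ι ι F) i j :=
    congrArg (fun g : GG ι F => (g : Matrix ι ι F) i j) h4
  rw [add_mul, mul_add, one_mul, mul_one, smul_mul_assoc, mul_smul_comm] at h5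
  simp [EE, hij, sub_eq_zero, hw1] at h5
  exact hne h5

instance : NeZero p := ⟨hp.out.ne_zero⟩

def SS (p : ℕ) [Fact p.Prime] : Matrix (Fin p) (Fin p) F := of fun i k => if k = i + 1 then 1 else 0

theorem SS_mul (A : Matrix (Fin p) (Fin p) F) (i j : Fin p) :
    ((SS p : Matrix (Fin p) (Fin p) F) * A : Matrix (Fin p) (Fin p) F) i j = A (i + 1) j := by
  rw [mul_apply, Finset.sum_eq_single (i + 1)]
  · simp [SS]
  · intro k _ hk; simp [SS, hk]
  · simp

theorem shift (x : GG (Fin p) F) (a : Fin p → F) (hx : (x : Matrix (Fin p) (Fin p) F) = diagonal a)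
    (ha : ∀ j, a j ^ p = 1) (hinj : Function.Injective a) :
    ∃ W : GG (Fin p) F, (∀ i j, (W : Matrix (Fin p) (Fin p) F) i j ≠ 0) ∧
      ((W * x * W⁻¹ : GG (Fin p) F) : Matrix (Fin p) (Fin p) F) = SS p := by
  have hdet : (vandermonde a)ᵀ.det ≠ 0 := by rw [det_transpose]; exact det_vandermonde_ne_zero_iff.2 hinj
  refine ⟨Matrix.GeneralLinearGroup.mkOfDetNeZero _ hdet, fun i j => ?_, ?_⟩
  · change a j ^ (i : ℕ) ≠ 0
    refine pow_ne_zero _ fun h0 => ?_
    have := ha j
    rw [h0, zero_pow hp.out.ne_zero] at this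
    exact zero_ne_one this
  · have : (vandermonde a)ᵀ * diagonal a = SS p * (vandermonde a)ᵀ := by
      ext i j
      rw [SS_mul, mul_diagonal, transpose_apply, transpose_apply, vandermonde_apply, vandermonde_apply,
        Fin.val_add, ← pow_eq_pow_mod _ (ha j), Fin.val_one', Nat.mod_eq_of_lt hp.out.one_lt, pow_succ]
    rw [Units.val_mul, Units.val_mul, hx]
    calc _ = SS p * ((Matrix.GeneralLinearGroup.mkOfDetNeZero _ hdet : GG (Fin p) F) : Matrix (Fin p) (Fin p) F) *
        (((Matrix.GeneralLinearGroup.mkOfDetNeZero _ hdet : GG (Fin p) F)⁻¹ : GG (Fin p) F) : Matrix (Fin p) (Fin p) F) :=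
          congrArg (· * _) this
      _ = _ := by rw [mul_assoc, mul_inv', mul_one]

theorem cm_SS (s : GG (Fin p) F) (hs : (s : Matrix (Fin p) (Fin p) F) = SS p) : Cm s := fun j => by
  have : (s : Matrix (Fin p) (Fin p) F) * EE j = EE (j - 1) * (s : Matrix (Fin p) (Fin p) F) := by
    rw [hs]
    ext a b
    rw [EE, EE, mul_diagonal, diagonal_mul]
    by_cases h : b = a + 1
    · subst h
      by_cases h' : a + 1 = j
      · subst h'; simp [SS]
      · have : a ≠ j - 1 := fun h'' => h' (by rw [h'', sub_add_cancel])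
        simp [SS, h', this]
    · simp [SS, h]
  rw [this, mul_assoc, mul_inv', mul_one]
  exact isDiag_diagonal _

theorem main [Fintype F] (hp2 : p ≠ 2) (h1 : p ∣ Fintype.card F - 1)
    (h2 : ¬ p ^ 2 ∣ Fintype.card F - 1) :
    ∃ Q : Sylow p (GG (Fin p) F), ∀ x : GG (Fin p) F,
      (∃ k : ℕ, orderOf x = p ^ k) → ∃ P : Sylow p (GG (Fin p) F), P ≠ Q ∧ x ∈ P := by
  classical
  obtain ⟨u, hu⟩ := exists_prime_orderOf_dvd_card' (G := Fˣ) p
    (by rw [Nat.card_units, Nat.card_eq_fintype_card]; exact h1)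
  have hprim : IsPrimitiveRoot (u : F) p := by
    rw [IsPrimitiveRoot.coe_units_iff, ← hu]; exact IsPrimitiveRoot.orderOf u
  generalize (u : F) = w at hprim
  have hw : w ≠ 0 := hprim.ne_zero hp.out.ne_zero
  have hwp : w ^ p = 1 := hprim.pow_eq_one
  have hw1 : w ≠ 1 := hprim.ne_one hp.out.one_lt
  have hw2 : 1 + w ≠ 0 := fun h => by
    have : w ^ 2 = 1 := by rw [show w = -1 by linear_combination h]; ring
    exact hp2 ((Nat.prime_dvd_prime_iff_eq hp.out Nat.prime_two).1 (hprim.dvd_of_pow_eq_one 2 this))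
  have hpF : (p : F) ≠ 0 := hprim.neZero'.out
  have hd0 : (diagonal fun j : Fin p => w ^ (j : ℕ)).det ≠ 0 := by
    rw [det_diagonal]; exact Finset.prod_ne_zero_iff.2 fun j _ => pow_ne_zero _ hw
  have hpw : ∀ j : Fin p, (w ^ (j : ℕ)) ^ p = 1 := fun j => by
    rw [← pow_mul, mul_comm, pow_mul, hwp, one_pow]
  obtain ⟨W0, -, hW0⟩ := shift (Matrix.GeneralLinearGroup.mkOfDetNeZero _ hd0) _ rfl hpw
    (fun a b hab => Fin.ext (hprim.pow_inj a.2 b.2 hab))
  set s := W0 * Matrix.GeneralLinearGroup.mkOfDetNeZero _ hd0 * W0⁻¹ with hs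
  have hsp : s ^ p = 1 := by
    have : (Matrix.GeneralLinearGroup.mkOfDetNeZero _ hd0) ^ p = 1 := Units.ext (by
      rw [Units.val_pow_eq_pow_val]
      change (diagonal fun j : Fin p => w ^ (j : ℕ)) ^ p = 1
      rw [diagonal_pow, ← diagonal_one]; congr 1; funext j; exact hpw j)
    rw [hs, conj_pow, this, mul_one, mul_inv_cancel]
  have hzp : ∀ (x : GG (Fin p) F) (k : ℕ), x ^ p ^ k = 1 → IsPGroup p (Subgroup.zpowers x) := by
    rintro x k hk ⟨_, m, rfl⟩
    refine ⟨k, Subtype.ext ?_⟩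
    change (x ^ m) ^ p ^ k = 1
    rw [← _root_.zpow_natCast, ← _root_.zpow_mul, mul_comm, _root_.zpow_mul, _root_.zpow_natCast, hk, _root_.one_zpow]
  have hD : IsPGroup p (DD (ι := Fin p) (F := F) p) := fun g =>
    ⟨1, Subtype.ext (by rw [pow_one]; exact g.2.2)⟩
  obtain ⟨Q, hQ⟩ := ((hzp s 1 (by rw [pow_one, hsp])).to_sup_of_normal_right' hD
    (by rw [Subgroup.zpowers_le, mem_norm hw hwp hw1]; exact cm_SS s hW0)).exists_le_sylow
  refine ⟨Q, fun x ⟨k, hk⟩ => ?_⟩
  have hk' : x ^ p ^ k = 1 := by rw [← hk, pow_orderOf_eq_one]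
  by_contra hcon
  push Not at hcon
  have huniq : ∀ P : Sylow p (GG (Fin p) F), x ∈ P → P = Q := fun P hP => by
    by_contra h; exact hcon P h hP
  have hxQ : x ∈ Q := by
    obtain ⟨P, hP⟩ := (hzp x k hk').exists_le_sylow
    have hx : x ∈ P := hP (Subgroup.mem_zpowers x)
    exact huniq P hx ▸ hx
  have h : ∀ g : GG (Fin p) F, g * x * g⁻¹ ∈ Q → Cm g := fun g hg => by
    refine norm_cm hw hwp hw1 hw2 Q Q.isPGroup' (le_sup_right.trans hQ) g ?_
    rw [← inv_mem_iff]
    refine Sylow.smul_eq_iff_mem_normalizer.1 (huniq _ ?_)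
    change x ∈ ((g⁻¹ • Q : Sylow p _) : Subgroup _)
    rw [Sylow.coe_subgroup_smul, Subgroup.mem_pointwise_smul_iff_inv_smul_mem, ← map_inv, inv_inv]
    exact hg
  have h' : ∀ g : GG (Fin p) F, g * x = x * g → Cm g := fun g hg =>
    h g (by rw [hg, mul_inv_cancel_right]; exact hxQ)
  have hd := nondiag (by simp) hw hw1 hw2 hpF x k hk' h'
  set a := diag (x : Matrix (Fin p) (Fin p) F)
  have hx : (x : Matrix (Fin p) (Fin p) F) = diagonal a := hd.diagonal_diag.symm
  have ha : ∀ j, a j ^ p = 1 := fun j => by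
    have h3 : (x : Matrix (Fin p) (Fin p) F) ^ p ^ k = 1 := by
      rw [← Units.val_pow_eq_pow_val, hk', Units.val_one]
    rw [hx, diagonal_pow] at h3
    have h4 : a j ^ p ^ k = 1 := by simpa using congrFun (congrFun h3 j) j
    have h5 : a j ≠ 0 := fun h0 => by
      rw [h0, zero_pow (pow_ne_zero _ hp.out.ne_zero)] at h4; exact zero_ne_one h4
    obtain ⟨m, -, hm⟩ := (Nat.dvd_prime_pow hp.out).1 (orderOf_dvd_of_pow_eq_one h4)
    have h6 := orderOf_dvd_of_pow_eq_one (FiniteField.pow_card_sub_one_eq_one _ h5)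
    have h7 : m ≤ 1 := by
      by_contra h8; exact h2 ((pow_dvd_pow p (by omega)).trans (hm ▸ h6))
    refine orderOf_dvd_iff_pow_eq_one.1 ?_
    rw [hm]; simpa using pow_dvd_pow p h7
  by_cases hinj : Function.Injective a
  · obtain ⟨W, hW, hW'⟩ := shift x a hx ha hinj
    have : W * x * W⁻¹ = s := Units.ext (hW'.trans hW0.symm)
    have hc := h W (this ▸ (le_sup_left.trans hQ) (Subgroup.mem_zpowers s))
    haveI : Nontrivial (Fin p) := Fin.nontrivial_iff_two_le.2 hp.out.two_le
    obtain ⟨i, j, hij⟩ := exists_pair_ne (Fin p)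
    exact hij (hc.col i i j (hW _ _) (hW _ _))
  · obtain ⟨i, j, hij, hne⟩ := Function.not_injective_iff.1 hinj
    have hdet : (transvection i j (1 : F)).det ≠ 0 := by rw [det_transvection_of_ne _ _ hne]; exact one_ne_zero
    have hc := h' (Matrix.GeneralLinearGroup.mkOfDetNeZero _ hdet) (Units.ext (by
      change transvection i j (1 : F) * (x : Matrix (Fin p) (Fin p) F) = (x : Matrix (Fin p) (Fin p) F) * transvection i j (1 : F)
      rw [hx]
      ext r t
      rw [mul_diagonal, diagonal_mul, transvection, Matrix.add_apply, one_apply, single, of_apply]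
      split_ifs with h3 h4 h4
      · exact absurd (h4.1.trans (h3.trans h4.2.symm)) hne
      · rw [h3, mul_comm]
      · rw [← h4.1, ← h4.2, hij, mul_comm]
      · simp))
    refine hne (hc.col j i j ?_ ?_)
    · change transvection i j (1 : F) i j ≠ 0
      simp [transvection, hne]
    · change transvection i j (1 : F) j j ≠ 0
      simp [transvection, hne]

end Cfsg.Agent.H9.Red
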