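import Cfsg.Agent.H2.BG4
import Cfsg.Agent.H2.GL2
import Cfsg.Agent.H9.Stab

/-! `p`-central groups; chief factors in `p`-rank at most two. -/

set_option autoImplicit false

namespace CfsgH9

open Subgroup Cfsg CfsgH1 CfsgH2 CfsgFT
open scoped commutatorElement

universe u

variable {G : Type*} [Group G] [Finite G] {p : ℕ} [hp : Fact p.Prime]

theorem pc_comm (hp2 : p ≠ 2) (H : Subgroup G) : IsPGroup p H → (∀ x ∈ H, x ^ p = 1 → x ∈ C(H)) →
    ∀ x ∈ H, ∀ y ∈ H, (x ^ p) ^ p = 1 → (x * y * x⁻¹ * y⁻¹) ^ p = 1 := by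
  induction H using subgroup_induction_up with
  | _ H ih =>
  intro hH h x hx y hy h1
  rcases (zpowers_le.2 hx).eq_or_lt with e | lt
  · obtain ⟨k, rfl⟩ := e.ge hy
    rw [((Commute.refl x).zpow_right k).eq]; simp
  obtain ⟨M, h2, h3, h4, h5⟩ := exists_relIndex_prime hH lt
  have hxM := h2 (mem_zpowers x)
  have hz : y * x⁻¹ * y⁻¹ ∈ M := CfsgH2.conj_mem_of_mem_normalizer (h5 hy) (inv_mem hxM)
  have h' : ∀ x ∈ M, x ^ p = 1 → x ∈ C(M) := fun a ha e => centralizer_le h3 (h a (h3 ha) e)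
  have h6 := ih M (CfsgH2.card_lt_of_lt (lt_of_relIndex_prime h4 h3)) (hH.to_le h3) h' x⁻¹ (inv_mem hxM) _ hz (by simp [h1])
  set z := y * x⁻¹ * y⁻¹
  have h7 : (z⁻¹ * x⁻¹ * z * x) ^ p = 1 := by
    rw [show z⁻¹ * x⁻¹ * z * x = z⁻¹ * (x⁻¹ * z * x⁻¹⁻¹ * z⁻¹) * z⁻¹⁻¹ by group, conj_pow, h6]; simp
  have h8 := h' _ (mul_mem (mul_mem (mul_mem (inv_mem hz) (inv_mem hxM)) hz) hxM) h7
  rw [show x * y * x⁻¹ * y⁻¹ = x * z by simp only [z]; group,
    mul_pow_prime_class_two hp.out hp2 (h8 x hxM).symm (h8 z hz).symm h7, conj_pow, inv_pow,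
    ← mul_assoc, ← mul_assoc, ← h _ (pow_mem hx p) h1 y hy]
  group

theorem pc_mul (hp2 : p ≠ 2) {H : Subgroup G} (hH : IsPGroup p H) (h : ∀ x ∈ H, x ^ p = 1 → x ∈ C(H)) {x y : G}
    (hx : x ∈ H) (hy : y ∈ H) (h1 : (y ^ p) ^ p = 1) : (x * y) ^ p = x ^ p * y ^ p := by
  have h2 : (y⁻¹ * x⁻¹ * y * x) ^ p = 1 := by
    simpa using pc_comm hp2 H hH h _ (inv_mem hy) _ (inv_mem hx) (by simp [h1])
  have h3 := h _ (mul_mem (mul_mem (mul_mem (inv_mem hy) (inv_mem hx)) hy) hx) h2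
  exact mul_pow_prime_class_two hp.out hp2 (h3 x hx).symm (h3 y hy).symm h2

/-- chief `p`-factors covered by `N` have order at most `p ^ 2` -/
def Gd (p : ℕ) (N : Subgroup G) : Prop := ∀ (H K : Subgroup G) [H.Normal] [K.Normal] (n : ℕ), K ≤ H →
  (∀ L : Subgroup G, L.Normal → K ≤ L → L ≤ H → L = K ∨ L = H) → K.relIndex H = p ^ n → ¬ H ⊓ N ≤ K → n ≤ 2

omit [Finite G] hp in
theorem gd_bot : Gd p (⊥ : Subgroup G) := fun H K _ _ _ _ _ _ h => absurd (by simp) h

omit [Finite G] hp in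
theorem Gd.mono {N M : Subgroup G} (h : Gd p N) (hM : M ≤ N) : Gd p M :=
  fun H K _ _ n a b c d => h H K n a b c fun e => d ((inf_le_inf_left H hM).trans e)

theorem Gd.step {N M : Subgroup G} [N.Normal] [M.Normal] (h : Gd p N) (hi : ¬ p ^ 3 ∣ N.relIndex M) : Gd p M := by
  intro H K _ _ n a b c d
  by_cases e : H ⊓ N ≤ K
  swap
  · exact h H K n a b c e
  have h1 : K ⊔ H ⊓ M = H := (b _ inferInstance le_sup_left (sup_le a inf_le_left)).resolve_left
    fun k => d (k ▸ le_sup_right)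
  refine not_lt.1 fun k => hi ((pow_dvd_pow p k).trans ?_)
  rw [← c]
  nth_rw 1 [← h1]
  rw [relIndex_sup_left]
  refine (relIndex_dvd_of_le_left _ e).trans (Dvd.dvd.trans (dvd_of_eq ?_) (relIndex_dvd_of_le_right N (inf_le_right (a := H))))
  rw [← inf_relIndex_right, ← inf_relIndex_right N]
  congr 1; ext x; simp only [mem_inf]; tauto

theorem Gd.cen {N M : Subgroup G} [N.Normal] [M.Normal] (h : Gd p N) (hc : ⁅M, ⊤⁆ ≤ N) : Gd p M := by
  intro H K _ _ n a b c d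
  by_cases e : H ⊓ N ≤ K
  swap
  · exact h H K n a b c e
  obtain ⟨x, hx, hxK⟩ := SetLike.not_le_iff_exists.1 d
  obtain ⟨j, h1, h2⟩ := exists_pow_not_mem hxK (k := n) (c ▸ pow_relIndex_mem K hx.1)
  have hy : x ^ p ^ j ∈ H ⊓ M := pow_mem hx _
  generalize x ^ p ^ j = y at *
  have : (K ⊔ zpowers y).Normal := normalizer_eq_top_iff.1 (top_le_iff.1 fun g _ =>
    CfsgH2.mem_normalizer_of_cj_le (by
      rw [cj_sup, cj_eq_of_normal, cj_zpowers]
      refine sup_le le_sup_left (zpowers_le.2 ?_)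
      rw [show g * y * g⁻¹ = (y * g * y⁻¹ * g⁻¹)⁻¹ * y * (y⁻¹ * (y * g * y⁻¹ * g⁻¹) * y * (y * g * y⁻¹ * g⁻¹)⁻¹)⁻¹
        * (y⁻¹ * (y * g * y⁻¹ * g⁻¹) * y * (y * g * y⁻¹ * g⁻¹)⁻¹) by group, inv_mul_cancel_right]
      refine mul_mem (inv_mem (mem_sup_left (e ⟨?_, hc (commutator_mem_commutator hy.2 (mem_top g))⟩)))
        (mem_sup_right (mem_zpowers y))
      rw [mul_assoc, mul_assoc, ← mul_assoc g]
      exact H.mul_mem hy.1 (Normal.conj_mem inferInstance _ (H.inv_mem hy.1) g)))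
  have h3 := (b _ this le_sup_left (sup_le a (zpowers_le.2 hy.1))).resolve_left
    fun k => h1 (k ▸ mem_sup_right (mem_zpowers y))
  rw [← h3, relIndex_sup_zpowers (le_normalizer_of_normal (mem_top y)) h1 h2] at c
  have := Nat.pow_right_injective hp.out.two_le ((pow_one p).trans c)
  omega

omit [Finite G] hp in
theorem Gd.lift {N M : Subgroup G} [N.Normal] (h : Gd p N) (h' : Gd p (M.map (QuotientGroup.mk' N))) : Gd p M := by
  intro H K _ _ n a b c d
  by_cases e : H ⊓ N ≤ K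
  swap
  · exact h H K n a b c e
  have hs := QuotientGroup.mk'_surjective N
  have := Normal.map ‹H.Normal› _ hs
  have := Normal.map ‹K.Normal› _ hs
  have h1 : H ⊓ (K.map (QuotientGroup.mk' N)).comap (QuotientGroup.mk' N) = K := by
    rw [comap_map_eq, QuotientGroup.ker_mk', inf_sup_eq_of_le_normalizer a le_normalizer_of_normal, sup_eq_left.2 e]
  refine h' (H.map (QuotientGroup.mk' N)) (K.map (QuotientGroup.mk' N)) n (map_mono a) (fun L _ k1 k2 => ?_) ?_ fun k => d fun x hx => ?_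
  · rcases b (H ⊓ L.comap (QuotientGroup.mk' N)) inferInstance (le_inf a (map_le_iff_le_comap.1 k1)) inf_le_left
      with k | k
    · exact Or.inl (by rw [← k, map_inf_comap', inf_eq_right.2 k2])
    · exact Or.inr (le_antisymm k2 (map_le_iff_le_comap.2 (k ▸ inf_le_right)))
  · rw [← relIndex_comap, ← inf_relIndex_right, inf_comm, h1, c]
  · exact h1 ▸ ⟨hx.1, k ⟨mem_map_of_mem _ hx.1, mem_map_of_mem _ hx.2⟩⟩

theorem gd_pc (hp2 : p ≠ 2) (n : ℕ) : ∀ (G : Type u) [Group G] [Finite G], Nat.card G = n → ∀ (C : Subgroup G)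
    [C.Normal], IsPGroup p C → omegaOne p C ≤ C(C) → Nat.card (omegaOne p C) ≤ p ^ 2 → Gd p C := by
  induction n using Nat.strong_induction_on with
  | _ n ih =>
  intro G _ _ hn C _ hC h1 h2
  by_cases h0 : C = ⊥
  · exact h0 ▸ gd_bot
  have hc : ∀ x ∈ C, x ^ p = 1 → x ∈ C(C) := fun x hx e => h1 (mem_omegaOne hx e)
  have hW : ∀ x, x ∈ omegaOne p C ↔ x ∈ C ∧ x ^ p = 1 := fun x => ⟨fun hx => ⟨omegaOne_le C hx,
    pow_eq_one_of_mem_omegaOne (fun a ha b hb e1 e2 => by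
      rw [Commute.mul_pow (hc b hb e2 a ha), e1, e2, one_mul]) hx⟩, fun hx => mem_omegaOne hx.1 hx.2⟩
  have hWn : (omegaOne p C).Normal := normalizer_eq_top_iff.1 (top_le_iff.1
    (le_normalizer_of_normal.trans (normalizer_le_normalizer_omegaOne C)))
  generalize omegaOne p C = W at *
  have hW0 : W ≠ ⊥ := fun e => by
    obtain ⟨x, hx, hx1⟩ := (C.bot_or_exists_ne_one).resolve_left h0
    obtain ⟨k, hk⟩ := hC ⟨x, hx⟩
    obtain ⟨j, k1, k2⟩ := exists_pow_not_mem (M := ⊥) hx1 (k := k) (congrArg Subtype.val hk)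
    exact k1 (e ▸ (hW _).2 ⟨pow_mem hx _, k2⟩)
  have g1 : Gd p W := gd_bot.step fun d => by
    rw [relIndex_bot_left] at d
    exact absurd ((Nat.le_of_dvd Nat.card_pos d).trans h2) (not_le.2 (Nat.pow_lt_pow_right hp.out.one_lt (by omega)))
  have := Normal.map ‹C.Normal› _ (QuotientGroup.mk'_surjective W)
  have e1 : ∀ x ∈ C, ((x : G ⧸ W) ^ p = 1 ↔ (x ^ p) ^ p = 1) := fun x hx => by
    rw [← QuotientGroup.mk_pow, QuotientGroup.eq_one_iff, hW]; exact ⟨fun k => k.2, fun k => ⟨pow_mem hx p, k⟩⟩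
  have h3 : omegaOne p (C.map (QuotientGroup.mk' W)) ≤ C(C.map (QuotientGroup.mk' W)) := omegaOne_le_iff.2 (by
    rintro _ ⟨x, hx, rfl⟩ e _ ⟨y, hy, rfl⟩
    have := (QuotientGroup.eq_one_iff _).2 ((hW _).2 ⟨mul_mem (mul_mem (mul_mem hx hy) (inv_mem hx)) (inv_mem hy),
      pc_comm hp2 C hC hc x hx y hy ((e1 x hx).1 e)⟩)
    exact (commutatorElement_eq_one_iff_mul_comm.1 this).symm)
  refine g1.lift (ih _ (hn ▸ card_quotient_lt hW0) _ rfl _ (hC.map _) h3 (le_trans ?_ h2))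
  have h4 : ∀ z : omegaOne p (C.map (QuotientGroup.mk' W)), ∃ x ∈ C, (x : G ⧸ W) = z ∧ (x ^ p) ^ p = 1 := fun z => by
    obtain ⟨x, hx, e⟩ := omegaOne_le _ z.2
    refine ⟨x, hx, e, (e1 x hx).1 ((congrArg (· ^ p) e).trans (pow_eq_one_of_mem_omegaOne (fun a ha b hb e1 e2 => ?_) z.2))⟩
    rw [Commute.mul_pow (h3 (mem_omegaOne hb e2) a ha), e1, e2, one_mul]
  choose f f1 f2 f3 using h4
  refine Nat.card_le_card_of_injective (fun z => (⟨f z ^ p, (hW _).2 ⟨pow_mem (f1 z) p, f3 z⟩⟩ : W)) fun a b e => ?_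
  refine Subtype.ext ((f2 a).symm.trans (Eq.trans (QuotientGroup.eq.2 ((hW _).2
    ⟨mul_mem (inv_mem (f1 a)) (f1 b), ?_⟩)) (f2 b)))
  rw [pc_mul hp2 hC hc (inv_mem (f1 a)) (f1 b) (f3 b), inv_pow, show f a ^ p = f b ^ p from congrArg Subtype.val e,
    inv_mul_cancel]

theorem gd_cyclic (hp2 : p ≠ 2) {C : Subgroup G} [C.Normal] (hC : IsPGroup p C) (h : IsCyclic C) : Gd p C :=
  gd_pc hp2 _ G rfl C hC ((omegaOne_le C).trans (le_centralizer_iff_isMulCommutative.2 IsCyclic.isMulCommutative))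
    ((card_omegaOne_le_of_isCyclic h).trans (Nat.le_self_pow two_ne_zero p))

/-- the `p`-part of the index of `W C(W)` -/
theorem not_dvd_index {W : Subgroup G} [W.Normal] (hW : IsPGroup p W) (hc : Nat.card W ≤ p ^ 3)
    (hr : W ≤ C(W) → Nat.card W ≤ p ^ 2) : ¬ p ^ 3 ∣ (C(W)).relIndex (C(W) ⊔ W) ∧ ¬ p ^ 3 ∣ (C(W) ⊔ W).index := by
  obtain ⟨S, hS, hWS⟩ := IsSylowIn.exists_le hW le_top
  obtain ⟨a, ha⟩ := IsPGroup.iff_card.1 hW
  have h1 := relIndex_centralizer_le_pow hS.2 a W hWS le_normalizer_of_normal ha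
  obtain ⟨b, hb⟩ := hS.2.index ((C(W)).subgroupOf S)
  have h2 : ∀ k, p ^ k ∣ (C(W)).index → k ≤ a.choose 2 := fun k hk => by
    rw [← relIndex_mul_index (le_sup_left (b := S)), relIndex_sup_left, relIndex, hb] at hk
    have h3 := ((Nat.Prime.coprime_iff_not_dvd hp.out).2 (hS.not_dvd_of_le (le_sup_right (a := C(W))) le_top)).pow_left k
    rw [relIndex_top_right] at h3
    rw [relIndex, hb, pow_le_pow_iff_right₀ hp.out.one_lt] at h1
    exact ((Nat.pow_dvd_pow_iff_le_right hp.out.one_lt).1 (h3.dvd_of_dvd_mul_right hk)).trans h1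
  rw [ha, pow_le_pow_iff_right₀ hp.out.one_lt] at hc hr
  have h4 := relIndex_mul_index (le_sup_left : C(W) ≤ C(W) ⊔ W)
  by_cases h5 : W ≤ C(W)
  · have h6 : a.choose 2 ≤ 1 := by have := hr h5; interval_cases a <;> simp
    exact ⟨fun d => by have := h2 3 (h4 ▸ d.mul_right _); omega, fun d => by have := h2 3 (h4 ▸ d.mul_left _); omega⟩
  have h6 : a.choose 2 ≤ 3 := by interval_cases a <;> simp
  obtain ⟨c, hc'⟩ := hW.index ((C(W)).subgroupOf W)
  rw [relIndex_sup_left] at h4 ⊢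
  have c0 : c ≠ 0 := fun e => h5 (relIndex_eq_one.1 (by rw [relIndex, hc', e, pow_zero]))
  refine ⟨fun d => ?_, fun d => ?_⟩
  · have : Nontrivial W := (nontrivial_iff_ne_bot W).2 fun e => h5 (e ▸ bot_le)
    have k1 := hW.center_nontrivial
    have k2 : center W ≤ (C(W)).subgroupOf W := fun z hz w hw => congrArg Subtype.val (mem_center_iff.1 hz ⟨w, hw⟩)
    have k3 := Nat.le_of_dvd (Nat.pos_of_ne_zero index_ne_zero_of_finite) (d.trans (index_dvd_of_le k2))
    have k4 := (center W).card_mul_index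
    have k5 := Finite.one_lt_card (α := center W)
    have k6 : p ^ a ≤ p ^ 3 := Nat.pow_le_pow_right hp.out.pos hc
    have := pow_pos hp.out.pos 3
    rw [ha] at k4; nlinarith
  · have := h2 (c + 3) (by rw [← h4, relIndex, hc', pow_add]; exact Nat.mul_dvd_mul_left _ d)
    omega

theorem gd_pgroup (hp2 : p ≠ 2) {P : Subgroup G} [P.Normal] (hP : IsPGroup p P) (hr : rk p P ≤ 2) : Gd p P := by
  obtain ⟨D, h1, h2, h3, h4, h5⟩ := exists_critical_in hP
  have : D.Normal := normalizer_eq_top_iff.1 (top_le_iff.1 (le_normalizer_of_normal.trans h2))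
  by_cases hD : IsCyclic D
  · refine (gd_cyclic hp2 (hP.to_le h1) hD).cen (le_trans (le_inf (commutator_le_left _ _) ?_) h5)
    exact (commutator_mono le_normalizer_of_normal le_normalizer_of_normal).trans
      (commutator_normalizer_le_centralizer_of_cyclic hD)
  have hW : (omegaOne p D).Normal := normalizer_eq_top_iff.1 (top_le_iff.1
    (le_normalizer_of_normal.trans (normalizer_le_normalizer_omegaOne D)))
  have he := omegaOne_exponent_of_class D (hP.to_le h1) (Or.inl ⟨hp2, commutator_eq_bot_of_le_centralizer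
    ((commutator_mono le_rfl h1).trans (h4.trans inf_le_right))⟩)
  have hWP := (omegaOne_le (p := p) D).trans h1
  obtain ⟨E, hE⟩ := le_rk_iff.1 (show 2 ≤ rk p D from not_lt.1 fun k =>
    hD (isCyclic_of_rk_le_one hp2 (hP.to_le h1) (by omega)))
  have hEW : E ≤ omegaOne p D := fun x hx => mem_omegaOne (hE.1 hx) (hE.2.2 x hx)
  have hE' := hE.mono h1
  generalize omegaOne p D = W at *
  have key : ∀ A, Elem p 2 P A → ∀ x ∈ P, x ^ p = 1 → x ∈ C(A) → x ∈ A := fun A hA x hx e c => by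
    have := card_le_pow_rk (ea_sup hA.2 (ea_zpowers e) (zpowers_le.2 c)) (sup_le hA.1 (zpowers_le.2 hx))
    exact CfsgH2.eq_of_le_of_card_le le_sup_left (this.trans (hA.3 ▸ Nat.pow_le_pow_right hp.out.pos hr)) ▸
      mem_sup_right (mem_zpowers x)
  have hab : W ≤ C(W) → W ≤ E := fun k x hx => key E hE' x (hWP hx) (he x hx) (centralizer_le hEW (k hx))
  obtain ⟨k1, k2⟩ := not_dvd_index (hP.to_le hWP) (card_le_cube_of_exponent (hP.to_le hWP) ((rk_mono hWP).trans hr) he)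
    fun k => hE.3 ▸ card_le_of_le (hab k)
  have g1 : Gd p (P ⊓ C(W)) := by
    by_cases k : W ≤ C(W)
    · have k3 : omegaOne p (P ⊓ C(W)) ≤ E := omegaOne_le_iff.2 fun x hx e => key E hE' x hx.1 e (centralizer_le hEW hx.2)
      exact gd_pc hp2 _ G rfl _ (hP.to_le inf_le_left) (k3.trans (hEW.trans (le_centralizer_iff.1 inf_le_right)))
        (hE.3 ▸ card_le_of_le k3)
    · refine gd_cyclic hp2 (hP.to_le inf_le_left) (isCyclic_of_rk_le_one hp2 (hP.to_le inf_le_left) (not_lt.1 fun r => ?_))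
      obtain ⟨A, hA⟩ := le_rk_iff.1 (show 2 ≤ _ from r)
      exact k fun x hx => (hA.1 (key A (hA.mono inf_le_left) x (hWP hx) (he x hx)
        (le_centralizer_iff.1 (hA.1.trans inf_le_right) hx))).2
  have g2 : Gd p (P ⊓ (C(W) ⊔ W)) := g1.step fun d => k1 (d.trans (by
    rw [show (P ⊓ C(W)).relIndex (P ⊓ (C(W) ⊔ W)) = (C(W)).relIndex (P ⊓ (C(W) ⊔ W)) by
      rw [← inf_relIndex_right, ← inf_relIndex_right C(W)]
      congr 1; ext x; simp only [mem_inf]; tauto]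
    exact relIndex_dvd_of_le_right _ inf_le_right))
  exact g2.step fun d => k2 (d.trans (by rw [inf_relIndex_left]; exact relIndex_dvd_index_of_normal _ _))

theorem gd_top (hp2 : p ≠ 2) (hc : C(pCore p G) ≤ pCore p G) (hr : rk p (⊤ : Subgroup G) ≤ 2) :
    Gd p (⊤ : Subgroup G) := by
  have hP := CfsgH1.isPGroup_pCore p G
  obtain ⟨W, h1, h2, -, h3, h4⟩ := exists_critical_omega hp2 hP
  have : W.Normal := normalizer_eq_top_iff.1 (top_le_iff.1 (le_normalizer_of_normal.trans h2))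
  have h5 : C(W) ≤ pCore p G := CfsgH1.le_pCore (isPGroup_of_forall_coprime fun X hX co =>
    eq_bot_of_le_of_coprime hP ((h4 X le_normalizer_of_normal co hX).trans hc) co)
  have h6 := (not_dvd_index (hP.to_le h1) (card_le_cube_of_exponent (hP.to_le h1) ((rk_mono le_top).trans hr) h3)
    fun k => (card_le_pow_rk ⟨le_centralizer_iff_isMulCommutative.1 k, h3⟩ le_top).trans
      (Nat.pow_le_pow_right hp.out.pos hr)).2
  exact (gd_pgroup hp2 hP ((rk_mono le_top).trans hr)).step fun d => h6 (by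
    rw [relIndex_top_right] at d; exact d.trans (index_dvd_of_le (sup_le h5 h1)))

end CfsgH9
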