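import Mathlib
import Cfsg.Agent.H4.Ord3
import Cfsg.Agent.H4.Central
import Cfsg.Agent.H2.CycSCN
import Cfsg.Agent.H2.PGroup2
import Cfsg.Agent.H3.Clifford
import Cfsg.Agent.H3.Kernel

/-! Order bound for `p`-groups with a faithful irreducible character of given field of values. -/

set_option autoImplicit false
open Cfsg Subgroup CfsgH3 Polynomial
open scoped commutatorElement IntermediateField

namespace CfsgH9.Roq

universe u

theorem tot_le {K : IntermediateField ℚ ℂ} [FiniteDimensional ℚ K] {ζ : ℂ} {n : ℕ} (hn : 0 < n)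
    (h : IsPrimitiveRoot ζ n) {f : K[X]} (hf : f.Monic) (h0 : aeval ζ f = 0) :
    n.totient ≤ Module.finrank ℚ K * f.natDegree := by
  have hi : IsIntegral K ζ := ⟨f, hf, h0⟩
  haveI := IntermediateField.adjoin.finiteDimensional hi
  haveI : FiniteDimensional ℚ K⟮ζ⟯ := Module.Finite.trans K _
  have h1 := minpoly.natDegree_le (A := ℚ) (IntermediateField.AdjoinSimple.gen K ζ)
  rw [← minpoly.algebraMap_eq (algebraMap K⟮ζ⟯ ℂ).injective,
    IntermediateField.AdjoinSimple.algebraMap_gen, ← cyclotomic_eq_minpoly_rat h hn,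
    natDegree_cyclotomic, ← Module.finrank_mul_finrank ℚ K K⟮ζ⟯,
    IntermediateField.adjoin.finrank hi] at h1
  exact h1.trans (Nat.mul_le_mul_left _ (natDegree_le_natDegree (minpoly.min K ζ hf h0)))

variable {G : Type u} [Group G] [Fintype G] {χ : G → ℂ} {p : ℕ} [hp : Fact p.Prime]

theorem av (hχ : IsIrrCharacter G χ) {N : Subgroup G} [hN : N.Normal] [Fintype N] {θ : N → ℂ}
    (hθ : IsIrrCharacter N θ) (h : classInner (fun n : N => χ n) θ ≠ 0) (n : N) :
    (Nat.card G : ℂ) * θ 1 * χ n = χ 1 * ∑ g : G, CfsgH3.cj g θ n := by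
  have h1 := congrFun (clifford hχ hθ h) n
  rw [sum_cj θ fun ψ => ψ n, clifford_deg hχ hθ h, h1, ← (inertia θ).card_mul_index]
  simp only [Pi.smul_apply, Finset.sum_apply, smul_eq_mul, nsmul_eq_mul]
  push_cast
  ring

omit [Fintype G] in
theorem scal_pow {θ : G → ℂ} {z : G} {ω : ℂ} (h : ∀ x, θ (z * x) = ω * θ x) (k : ℕ) (x : G) :
    θ (z ^ k * x) = ω ^ k * θ x := by
  induction k with
  | zero => simp
  | succ k ih => rw [pow_succ', mul_assoc, h, ih, pow_succ', mul_assoc]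

theorem card_le_pow {H : Subgroup G} [hH : H.Normal] (M : Subgroup H) [M.Normal]
    (h : ∀ n : H, (∀ g : G, MulAut.conjNormal g n ∈ M) → n = 1) :
    Nat.card H ≤ Nat.card (H ⧸ M) ^ H.index := by
  rw [index, ← Nat.card_fun]
  refine Nat.card_le_card_of_injective (fun n (q : G ⧸ H) =>
    (QuotientGroup.mk (MulAut.conjNormal q.out⁻¹ n) : H ⧸ M)) fun a b e => ?_
  refine inv_mul_eq_one.1 (h _ fun g => ?_)
  obtain ⟨c, hc⟩ := QuotientGroup.mk_out_eq_mul H g⁻¹
  have := QuotientGroup.eq.1 (congrFun e (g⁻¹ : G))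
  rw [← map_inv, ← map_mul, hc] at this
  convert Normal.conj_mem inferInstance _ this c using 1
  ext
  simp [mul_assoc]

theorem dich (hP : IsPGroup p G) : (∃ E : Subgroup G, E.Normal ∧ IsElementaryAbelian p E ∧
    p < Nat.card E) ∨ ∃ u : G, zpowers u = ⊤ ∨ ((zpowers u).Normal ∧ p = 2 ∧
      (zpowers u).index = 2 ∧ ¬ IsMulCommutative G) := by
  obtain ⟨A, -, -, h1, h2, h3⟩ := CfsgH2.exists_scn (hP.to_subgroup ⊤) le_rfl le_normalizer
    (A₀ := ⊥) bot_le (by rw [normalizer_eq_top]) inferInstance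
  haveI : A.Normal := normalizer_eq_top_iff.1 (top_le_iff.1 h1)
  by_cases c : IsCyclic A
  swap
  · exact Or.inl ⟨omegaOne p A, normalizer_eq_top_iff.1 (top_le_iff.1
      (h1.trans (CfsgH2.normalizer_le_normalizer_omegaOne A))), CfsgH2.omegaOne_ea_of_comm h2,
      not_le.1 fun e => c (CfsgH2.isCyclic_of_comm_of_omegaOne (hP.to_subgroup A) h2 e)⟩
  obtain ⟨u, rfl⟩ := (Subgroup.isCyclic_iff_exists_zpowers_eq_top A).1 c
  rw [top_inf_eq, zpowers_eq_closure, centralizer_closure, ← zpowers_eq_closure] at h3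
  by_cases hna : IsMulCommutative G
  · exact Or.inr ⟨u, Or.inl (eq_top_iff.2 fun g _ => h3
      (mem_centralizer_singleton_iff.2 (hna.is_comm.comm _ _)))⟩
  rcases CfsgH2.cyc_scn hP hna u (le_antisymm h3 (zpowers_le.2
    (mem_centralizer_singleton_iff.2 rfl))) with ⟨h4, h5, -⟩ | ⟨-, h4, h5, h6⟩
  · exact Or.inr ⟨u, Or.inr ⟨‹_›, h4, h5, hna⟩⟩
  · exact Or.inl ⟨_, inferInstance, h4, by
      rw [h5, sq]; exact lt_mul_of_one_lt_right hp.out.pos hp.out.one_lt⟩

theorem exists_e (hP : IsPGroup p G) (hχ : IsIrrCharacter G χ) (hf : ∀ g, χ g = χ 1 → g = 1)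
    {E : Subgroup G} [E.Normal] (hE : IsElementaryAbelian p E) (hc : p < Nat.card E) :
    ∃ e : G, e ^ p = 1 ∧ e ∉ center G ∧ ∀ g : G, ⁅g, e⁆ ∈ center G ∧ ⁅g, e⁆ ^ p = 1 := by
  have h1 : ¬ E ≤ center G := fun h => by
    haveI : NeZero p := ⟨hp.out.ne_zero⟩
    have : ∀ c : E, ∃ ω : rootsOfUnity p ℂ, χ c = (ω.1 : ℂ) * χ 1 := fun c => by
      obtain ⟨ω, h1, h2⟩ := hχ.exists_scalar_of_mem_center (h c.2)
      obtain ⟨k, hk⟩ := orderOf_dvd_of_pow_eq_one (hE.2 c c.2)
      exact ⟨rootsOfUnity.mkOfPowEq ω (n := p) (by rw [hk, pow_mul, h1, one_pow]), by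
        simpa using h2 1⟩
    choose f hf' using this
    refine hc.not_ge ((Nat.card_le_card_of_injective f fun a b e => ?_).trans
      (card_rootsOfUnity ℂ p))
    obtain ⟨ω, h1, h2⟩ := hχ.exists_scalar_of_mem_center ((center G).inv_mem (h a.2))
    have := hf ((a : G)⁻¹ * b) (by rw [h2, hf' b, ← e, ← hf' a, ← h2, inv_mul_cancel])
    exact Subtype.ext (inv_mul_eq_one.1 this)
  obtain ⟨e, he, h2, -, h3⟩ := CfsgH2.exists_central_mod (V := ⊤) (N := E) (M := E ⊓ center G)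
    (hP.to_subgroup ⊤) le_top (by rw [normalizer_eq_top]) fun q => h1 (q.trans inf_le_right)
  exact ⟨e, hE.2 e he, fun q => h2 ⟨he, q⟩, fun g => ⟨(h3 g trivial).2, hE.2 _ (h3 g trivial).1⟩⟩

theorem step (hP : IsPGroup p G) (hχ : IsIrrCharacter G χ) (hf : ∀ g, χ g = χ 1 → g = 1)
    {K : IntermediateField ℚ ℂ} (hK : ∀ g, χ g ∈ K) {e : G} (e1 : e ^ p = 1) (e2 : e ∉ center G)
    (e3 : ∀ g : G, ⁅g, e⁆ ∈ center G ∧ ⁅g, e⁆ ^ p = 1) :
    ∃ (H : Subgroup G) (θ : H → ℂ) (hθ : IsIrrCharacter H θ), H.index = p ∧ (∀ h, θ h ∈ K) ∧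
      p * charDegree θ ≤ charDegree χ ∧ Nat.card H ≤ Nat.card (H ⧸ hθ.isChar.ker) ^ p := by
  classical
  let H := centralizer {e}
  have mH : ∀ g : G, g ∈ H ↔ ⁅g, e⁆ = 1 := fun g => mem_centralizer_singleton_iff.trans
    commutatorElement_eq_one_iff_mul_comm.symm
  have ce : ∀ g : G, g * e * g⁻¹ = ⁅g, e⁆ * e := fun g => by rw [commutatorElement_def]; group
  haveI hn : H.Normal := ⟨fun x hx g => mem_centralizer_singleton_iff.2 (by
    have h1 := mem_centralizer_singleton_iff.1 hx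
    have h2 := mem_center_iff.1 (e3 g⁻¹).1 x
    calc g * x * g⁻¹ * e = g * (x * (g⁻¹ * e * g⁻¹⁻¹)) * g⁻¹ := by group
      _ = g * ((g⁻¹ * e * g⁻¹⁻¹) * x) * g⁻¹ := by
        rw [ce, ← mul_assoc x, h2, mul_assoc _ x, h1, mul_assoc _ e]
      _ = _ := by group)⟩
  have zH : center G ≤ H := center_le_centralizer _
  have x0 := hχ.one_ne_zero
  choose lam l1 l2 using fun g => hχ.exists_scalar_of_mem_center (e3 g).1
  have l3 : ∀ g, lam g ^ p = 1 := fun g => by
    obtain ⟨k, hk⟩ := orderOf_dvd_of_pow_eq_one (e3 g).2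
    rw [hk, pow_mul, l1, one_pow]
  have l4 : ∀ g, lam g = 1 ↔ g ∈ H := fun g => by
    have := l2 g 1
    rw [mul_one] at this
    rw [mH]
    exact ⟨fun q => hf _ (by rw [this, q, one_mul]), fun q => by
      rw [q] at this; exact (mul_left_eq_self₀.1 this.symm).resolve_right x0⟩
  obtain ⟨θ, hθ, hi⟩ := hχ.exists_res_constituent H
  have t0 := hθ.one_ne_zero
  have G0 : (Nat.card G : ℂ) ≠ 0 := Nat.cast_ne_zero.2 Nat.card_pos.ne'
  have AV := av hχ hθ hi
  let e' : H := ⟨e, mem_centralizer_singleton_iff.2 rfl⟩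
  obtain ⟨η, n1, n2⟩ := hθ.exists_scalar_of_mem_center (z := e') (mem_center_iff.2 fun x =>
    Subtype.ext (mem_centralizer_singleton_iff.1 x.2))
  have n3 : η ^ p = 1 := by
    obtain ⟨k, hk⟩ := orderOf_dvd_of_pow_eq_one (show e' ^ p = 1 from Subtype.ext e1)
    rw [hk, pow_mul, n1, one_pow]
  have t1 : ∀ (g : G) (x : H), θ (MulAut.conjNormal g e' * x) = lam g * η * θ x := fun g x => by
    let c : H := ⟨_, zH (e3 g).1⟩
    obtain ⟨ω, -, w2⟩ := hθ.exists_scalar_of_mem_center (z := c) (mem_center_iff.2 fun x =>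
      Subtype.ext (mem_center_iff.1 (e3 g).1 x))
    have h1 := AV c
    have h2 : ∀ y : G, CfsgH3.cj y θ c = ω * θ 1 := fun y => by
      rw [← w2, mul_one, cj_apply]
      congr 1
      exact Subtype.ext (show y * ⁅g, e⁆ * y⁻¹ = ⁅g, e⁆ by
        rw [mem_center_iff.1 (e3 g).1 y, mul_inv_cancel_right])
    have h3 := l2 g 1
    rw [mul_one] at h3
    simp only [h2, Finset.sum_const, Finset.card_univ, nsmul_eq_mul, ← Nat.card_eq_fintype_card] at h1
    rw [show χ c = lam g * χ 1 from h3] at h1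
    have h4 : ω = lam g := by
      refine mul_left_cancel₀ (mul_ne_zero (mul_ne_zero G0 t0) x0) ?_
      linear_combination -h1
    rw [show MulAut.conjNormal g e' = c * e' from Subtype.ext (ce g), mul_assoc, w2, n2, h4,
      mul_assoc]
  obtain ⟨g₀, hg₀⟩ : ∃ g, g ∉ H := by
    by_contra! q
    exact e2 (mem_center_iff.2 fun g => mem_centralizer_singleton_iff.1 (q g))
  have η0 : η ≠ 0 := by rintro rfl; exact zero_ne_one ((zero_pow hp.out.ne_zero).symm.trans n3)
  have pl : ∀ T : Subgroup G, g₀ ∉ T → p ≤ T.index := fun T hT => by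
    obtain ⟨k, hk⟩ := hP.index T
    rcases k with _ | k
    · exact absurd (index_eq_one.1 hk ▸ mem_top g₀) hT
    · rw [hk]; exact Nat.le_self_pow k.succ_ne_zero p
  have hI : H.index = p := by
    refine le_antisymm ?_ (pl H hg₀)
    haveI : NeZero p := ⟨hp.out.ne_zero⟩
    refine (Nat.card_le_card_of_injective (fun q : G ⧸ H => rootsOfUnity.mkOfPowEq (lam q.out)
      (l3 _)) fun a b q => ?_).trans (card_rootsOfUnity ℂ p)
    have q1 : lam a.out = lam b.out := by
      simpa using congrArg (fun x : rootsOfUnity p ℂ => (x.1 : ℂ)) q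
    obtain ⟨ω, -, h2⟩ := hχ.exists_scalar_of_mem_center ((center G).inv_mem (e3 a.out).1)
    have q2 := hf (⁅a.out, e⁆⁻¹ * (⁅b.out, e⁆ * 1)) (by
      rw [h2, l2, ← q1, ← l2, ← h2, inv_mul_cancel_left])
    rw [mul_one, inv_mul_eq_one] at q2
    rw [← a.out_eq, ← b.out_eq]
    refine QuotientGroup.eq.2 (mem_centralizer_singleton_iff.2 ?_)
    have q3 := ce b.out
    rw [← q2, ← ce] at q3
    calc a.out⁻¹ * b.out * e = a.out⁻¹ * (b.out * e * b.out⁻¹) * b.out := by group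
      _ = _ := by rw [q3]; group
  refine ⟨H, θ, hθ, hI, fun h => ?_, ?_, ?_⟩
  · have ηK : η ∈ K := by
      haveI : NeZero p := ⟨hp.out.ne_zero⟩
      have pr := IsPrimitiveRoot.orderOf (lam g₀)
      rw [orderOf_eq_prime (l3 g₀) fun q => hg₀ ((l4 _).1 q)] at pr
      obtain ⟨i, -, rfl⟩ := pr.eq_pow_of_pow_eq_one n3
      refine K.pow_mem ?_ i
      rw [eq_div_of_mul_eq x0 (l2 g₀ 1).symm]
      exact K.div_mem (hK _) (hK _)
    have s1 : ∀ i : ℕ, (Nat.card G : ℂ) * θ 1 * (χ (e ^ i * h) / η ^ i) =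
        χ 1 * ∑ g : G, lam g ^ i * CfsgH3.cj g θ h := fun i => by
      rw [← mul_div_assoc, show χ (e ^ i * h) = χ (e' ^ i * h : H) from rfl, AV, mul_div_assoc,
        Finset.sum_div]
      congr 1
      refine Finset.sum_congr rfl fun g _ => ?_
      rw [cj_eq_comp]
      simp only [map_mul, map_pow]
      rw [scal_pow (t1 g), mul_pow]
      field_simp
    have s2 : (Nat.card G : ℂ) * θ 1 * ∑ i ∈ Finset.range p, χ (e ^ i * h) / η ^ i =
        χ 1 * (Nat.card G * θ h) := by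
      rw [Finset.mul_sum, Finset.sum_congr rfl fun i _ => s1 i, ← Finset.mul_sum, Finset.sum_comm]
      congr 1
      rw [Finset.sum_congr rfl (g := fun g => if g ∈ H then p * θ h else 0) fun g _ => by
        rw [← Finset.sum_mul]
        split_ifs with q
        · rw [(l4 g).2 q, cj_of_mem hθ.classFun q]; simp
        · have := geom_sum_mul (lam g) p
          rw [l3, sub_self] at this
          rw [(mul_eq_zero.1 this).resolve_right (sub_ne_zero.2 fun r => q ((l4 g).1 r)), zero_mul],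
        ← Finset.sum_filter, Finset.sum_const, ← Fintype.card_subtype, ← Nat.card_eq_fintype_card,
        ← H.card_mul_index, hI, nsmul_eq_mul]
      push_cast
      ring
    obtain ⟨d, -, hd⟩ := hθ.exists_deg
    have : θ h = θ 1 * (∑ i ∈ Finset.range p, χ (e ^ i * h) / η ^ i) / χ 1 := by
      rw [eq_div_iff x0]
      refine mul_left_cancel₀ G0 ?_
      linear_combination -s2
    rw [this, hd]
    exact K.div_mem (K.mul_mem (natCast_mem K d) (K.sum_mem fun i _ =>
      K.div_mem (hK _) (K.pow_mem ηK i))) (hK _)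
  · obtain ⟨d, -, hd⟩ := hθ.exists_deg
    obtain ⟨c, hc⟩ := (hχ.isChar.restrict H).inner_nat hθ.isChar
    have h1 := clifford_deg hχ hθ hi
    rw [hc] at h1 hi
    rw [CfsgH4.charDegree_eq hd, CfsgH4.charDegree_eq (n := c * (inertia θ).index * d)
      (by rw [h1, hd]; push_cast; rfl)]
    refine Nat.mul_le_mul_right _ ((pl _ fun q => hg₀ ((l4 _).1 ?_)).trans
      (Nat.le_mul_of_pos_left _ (Nat.pos_of_ne_zero (Nat.cast_ne_zero.1 hi))))
    have h2 := congrFun (mem_inertia.1 q) e'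
    have h3 := t1 g₀ 1
    have h4 := n2 1
    rw [mul_one] at h3 h4
    rw [cj_eq_comp] at h2
    refine mul_right_cancel₀ (mul_ne_zero η0 t0) ?_
    rw [← mul_assoc, ← h3, one_mul, ← h4]
    exact h2
  · rw [← hI]
    refine card_le_pow _ fun n hn => Subtype.ext (hf _ ?_)
    have h1 := AV n
    rw [Finset.sum_congr rfl (g := fun _ => θ 1) fun g _ => by
      rw [cj_eq_comp]; exact hθ.isChar.mem_ker.1 (hn g), Finset.sum_const, Finset.card_univ,
      nsmul_eq_mul, ← Nat.card_eq_fintype_card] at h1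
    refine mul_left_cancel₀ (mul_ne_zero G0 t0) ?_
    rw [h1, mul_comm]

theorem two_le_deg (hχ : IsIrrCharacter G χ) (hf : ∀ g, χ g = χ 1 → g = 1)
    (hna : ¬ IsMulCommutative G) : 2 ≤ charDegree χ := by
  obtain ⟨d, d0, hd⟩ := hχ.exists_deg
  rw [CfsgH4.charDegree_eq hd]
  by_contra q
  obtain rfl : d = 1 := by omega
  refine hna ⟨⟨fun a b => ?_⟩⟩
  obtain ⟨n, ρ, -, rfl⟩ := hχ
  obtain rfl : n = 1 := by simpa using hd
  refine commutatorElement_eq_one_iff_mul_comm.1 (hf _ ?_)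
  have : ρ a * ρ b = ρ b * ρ a := by
    apply (LinearMap.toMatrix' (R := ℂ)).injective
    rw [LinearMap.toMatrix'_mul, LinearMap.toMatrix'_mul]
    ext i j
    simp [Matrix.mul_apply, Subsingleton.elim i 0, Subsingleton.elim j 0, mul_comm]
  show LinearMap.trace _ _ (ρ _) = LinearMap.trace _ _ (ρ 1)
  rw [commutatorElement_def, map_mul ρ, map_mul ρ, map_mul ρ, this]
  simp [mul_assoc, ← map_mul]

theorem idx2 (hχ : IsIrrCharacter G χ) (hf : ∀ g, χ g = χ 1 → g = 1)
    {K : IntermediateField ℚ ℂ} [FiniteDimensional ℚ K] (hK : ∀ g, χ g ∈ K) {u : G}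
    [hn : (zpowers u).Normal] (hi2 : (zpowers u).index = 2) :
    (orderOf u).totient ≤ Module.finrank ℚ K * 2 := by
  classical
  obtain ⟨θ, hθ, hi⟩ := hχ.exists_res_constituent (zpowers u)
  have t0 := hθ.one_ne_zero
  have x0 := hχ.one_ne_zero
  have G0 : (Nat.card G : ℂ) ≠ 0 := Nat.cast_ne_zero.2 Nat.card_pos.ne'
  let u' : zpowers u := ⟨u, mem_zpowers u⟩
  obtain ⟨ζ, n1, n2⟩ := hθ.exists_scalar_of_mem_center (z := u') (mem_center_iff.2 fun x => by
    obtain ⟨_, k, rfl⟩ := x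
    exact Subtype.ext (Commute.zpow_self u k).eq)
  obtain ⟨b, hb⟩ : ∃ b, b ∉ zpowers u := by
    by_contra! q
    rw [(eq_top_iff' _).2 q, index_top] at hi2
    exact absurd hi2 (by decide)
  obtain ⟨k, hk⟩ := (Submonoid.mem_powers_iff _ _).1 (mem_powers_iff_mem_zpowers.2
    (hn.conj_mem u (mem_zpowers u) b))
  have h1 : ∀ j : ℕ, 2 * χ (u ^ j) = χ 1 * (ζ ^ j + (ζ ^ k) ^ j) := fun j => by
    have a1 := av hχ hθ hi (u' ^ j)
    have a2 : ∀ g ∈ zpowers u, CfsgH3.cj g θ (u' ^ j) = ζ ^ j * θ 1 := fun g hg => by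
      rw [cj_of_mem hθ.classFun hg, ← scal_pow n2, mul_one]
    have a3 : ∀ g ∉ zpowers u, CfsgH3.cj g θ (u' ^ j) = (ζ ^ k) ^ j * θ 1 := fun g hg => by
      have : g * b⁻¹ ∈ zpowers u := (mul_mem_iff_of_index_two hi2).2 (by simp [hg, hb])
      rw [show g = g * b⁻¹ * b by group, ← cj_cj, cj_of_mem hθ.classFun this, cj_eq_comp]
      simp only [map_pow]
      rw [show MulAut.conjNormal b u' = u' ^ k from Subtype.ext hk.symm, ← pow_mul, ← pow_mul,
        ← scal_pow n2, mul_one]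
    have a4 : 2 * ∑ g, CfsgH3.cj g θ (u' ^ j) = Nat.card G * ((ζ ^ j + (ζ ^ k) ^ j) * θ 1) := by
      rw [two_mul]
      nth_rewrite 2 [← Equiv.sum_comp (Equiv.mulRight b)]
      rw [← Finset.sum_add_distrib, Finset.sum_congr rfl (g := fun _ => (ζ ^ j + (ζ ^ k) ^ j) * θ 1)
        fun g _ => by
          rw [Equiv.coe_mulRight]
          by_cases q : g ∈ zpowers u
          · rw [a2 g q, a3 _ fun r => hb ((mul_mem_cancel_left q).1 r), add_mul]
          · rw [a3 g q, a2 _ ((mul_mem_iff_of_index_two hi2).2 (by simp [q, hb])), add_mul, add_comm],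
        Finset.sum_const, Finset.card_univ, nsmul_eq_mul, Nat.card_eq_fintype_card]
    refine mul_left_cancel₀ (mul_ne_zero G0 t0) ?_
    rw [show χ (u ^ j) = χ (u' ^ j : zpowers u) from rfl]
    linear_combination 2 * a1 + χ 1 * a4
  have pr : IsPrimitiveRoot ζ (orderOf u) := ⟨by rwa [orderOf_mk] at n1, fun l hl =>
    orderOf_dvd_of_pow_eq_one (hf _ (by
      have := h1 l
      rw [← pow_mul, mul_comm k, pow_mul, hl, one_pow] at this
      linear_combination this / 2))⟩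
  have m : ∀ j : ℕ, ζ ^ j + (ζ ^ k) ^ j ∈ K := fun j => by
    rw [show ζ ^ j + (ζ ^ k) ^ j = 2 * χ (u ^ j) / χ 1 by rw [h1]; field_simp]
    exact K.div_mem (K.mul_mem (ofNat_mem K 2) (hK _)) (hK _)
  have m2 : ζ * ζ ^ k ∈ K := by
    rw [show ζ * ζ ^ k = ((ζ ^ 1 + (ζ ^ k) ^ 1) ^ 2 - (ζ ^ 2 + (ζ ^ k) ^ 2)) / 2 by ring]
    exact K.div_mem (K.sub_mem (K.pow_mem (m 1) 2) (m 2)) (ofNat_mem K 2)
  have := tot_le (orderOf_pos u) pr (f := X ^ 2 - C (⟨_, m 1⟩ : K) * X + C ⟨_, m2⟩) (by monicity!)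
    (by simp; ring)
  exact this.trans (Nat.mul_le_mul_left _ (by compute_degree))

theorem main {K : IntermediateField ℚ ℂ} [FiniteDimensional ℚ K] {t : ℕ}
    (ht : Module.finrank ℚ K ≤ (p - 1) * p ^ t) (a : ℕ) : ∀ (G : Type u) [Group G] [Finite G]
    (χ : G → ℂ), Nat.card G = p ^ a → IsIrrCharacter G χ → (∀ g, χ g = χ 1 → g = 1) →
    (∀ g, χ g ∈ K) → (p - 1) * a + 1 ≤ charDegree χ + (p - 1) * (t + 1) * charDegree χ := by
  induction a using Nat.strong_induction_on with | _ a ih => ?_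
  intro G _ _ χ hG hχ hf hK
  haveI := Fintype.ofFinite G
  have hP : IsPGroup p G := IsPGroup.of_card hG
  have d0 := CfsgH4.charDegree_pos hχ
  have p1 : 0 < p - 1 := Nat.sub_pos_of_lt hp.out.one_lt
  rcases a with _ | a
  · simp only [mul_zero]; omega
  rcases dich hP with ⟨E, _, h1, h2⟩ | ⟨u, h | ⟨_, rfl, h1, h2⟩⟩
  · obtain ⟨e, e1, e2, e3⟩ := exists_e hP hχ hf h1 h2
    obtain ⟨H, θ, hθ, i1, i2, i3, i4⟩ := step hP hχ hf hK e1 e2 e3
    obtain ⟨β, b1, b2, b3, b4, -⟩ := CfsgH4.exists_codeg hθ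
    have c1 : Nat.card H = p ^ a := Nat.eq_of_mul_eq_mul_right hp.out.pos (by
      rw [← pow_succ, ← hG, ← H.card_mul_index, i1])
    obtain ⟨b, hb⟩ := IsPGroup.iff_card.1 ((hP.to_subgroup H).to_quotient hθ.isChar.ker)
    have c2 : b ≤ a := (Nat.pow_le_pow_iff_right hp.out.one_lt).1 (by
      rw [← hb, ← c1]; exact Nat.le_of_dvd Nat.card_pos (card_quotient_dvd_card _))
    have := ih b (by omega) _ β hb b1 b3 fun q => by
      obtain ⟨g, rfl⟩ := QuotientGroup.mk_surjective q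
      rw [b2]; exact i2 g
    rw [hb, c1, ← pow_mul, Nat.pow_le_pow_iff_right hp.out.one_lt] at i4
    rw [b4] at this
    obtain ⟨r, rfl⟩ : ∃ r, p = r + 1 := ⟨p - 1, by omega⟩
    rw [Nat.add_sub_cancel] at this ⊢
    calc r * (a + 1) + 1 ≤ r * (b * (r + 1) + 1) + 1 := by gcongr
      _ = (r + 1) * (r * b + 1) := by ring
      _ ≤ (r + 1) * (charDegree θ + r * (t + 1) * charDegree θ) := by gcongr
      _ = (r + 1) * charDegree θ + r * (t + 1) * ((r + 1) * charDegree θ) := by ring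
      _ ≤ _ := by gcongr
  · obtain ⟨ω, w1, w2⟩ := hχ.exists_scalar_of_mem_center (z := u) (mem_center_iff.2 fun g => by
      obtain ⟨k, rfl⟩ : g ∈ zpowers u := h ▸ mem_top g
      exact (Commute.zpow_self u k).eq)
    have pr : IsPrimitiveRoot ω (orderOf u) := ⟨w1, fun l hl => orderOf_dvd_of_pow_eq_one (hf _ (by
      rw [← mul_one (u ^ l), scal_pow w2, hl, one_mul]))⟩
    have m : ω ∈ K := by
      rw [eq_div_of_mul_eq hχ.one_ne_zero (w2 1).symm]
      exact K.div_mem (hK _) (hK _)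
    have := tot_le (orderOf_pos u) pr (f := X - C (⟨ω, m⟩ : K)) (monic_X_sub_C _) (by simp)
    rw [natDegree_X_sub_C, mul_one, ← Nat.card_zpowers, h, card_top, hG,
      Nat.totient_prime_pow_succ hp.out, mul_comm] at this
    have h3 := (Nat.pow_le_pow_iff_right hp.out.one_lt).1 (Nat.le_of_mul_le_mul_left
      (this.trans ht) p1)
    calc (p - 1) * (a + 1) + 1 ≤ (p - 1) * (t + 1) * 1 + 1 := by rw [mul_one]; gcongr
      _ ≤ (p - 1) * (t + 1) * charDegree χ + charDegree χ := by gcongr <;> exact d0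
      _ = _ := add_comm _ _
  · have h3 := two_le_deg hχ hf h2
    have h4 := idx2 hχ hf hK h1
    have c1 : orderOf u = 2 ^ a := Nat.eq_of_mul_eq_mul_right two_pos (by
      rw [← pow_succ, ← hG, ← (zpowers u).card_mul_index, h1, Nat.card_zpowers])
    have : a ≤ t + 2 := by
      rcases a with _ | a
      · omega
      rw [c1, Nat.totient_prime_pow_succ Nat.prime_two] at h4
      have : 2 ^ a ≤ 2 ^ (t + 1) := by rw [pow_succ]; omega
      have := (Nat.pow_le_pow_iff_right one_lt_two).1 this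
      omega
    simp only [Nat.add_one_sub_one, one_mul]
    nlinarith

end CfsgH9.Roq
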