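import Mathlib
import Cfsg.Prelude.Def_Transfer

/-! The faithful irreducible `𝔽₂`-module of `3² : D₈`. -/

set_option autoImplicit false
open Subgroup DihedralGroup

namespace CfsgH9.S3wr

variable {S : Type*} [Group S] [Finite S] {A : Subgroup S}

theorem tri (h9 : Nat.card A = 9) {L : Subgroup S} (h1 : L ≤ A) (h2 : ¬ A ≤ L) {b c : S}
    (hb : b ∈ L) (b1 : b ≠ 1) (b3 : b ^ 3 = 1) (hc : c ∈ L) : c = 1 ∨ c = b ∨ c = b⁻¹ := by
  classical
  haveI : Fact (Nat.Prime 3) := ⟨Nat.prime_three⟩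
  have o : orderOf b = 3 := orderOf_eq_prime b3 b1
  have d : Nat.card L ∣ 3 ^ 2 := (card_dvd_of_le h1).trans h9.dvd
  have e : zpowers b = L := by
    refine eq_of_le_of_card_ge (zpowers_le.2 hb) ?_
    obtain ⟨k, hk, e⟩ := (Nat.dvd_prime_pow Nat.prime_three).1 d
    rw [Nat.card_zpowers, o, e]
    interval_cases k
    · omega
    · omega
    · exact absurd (eq_of_le_of_card_ge h1 (by rw [e, h9]; rfl)).ge h2
  rw [← e, mem_zpowers_iff_mem_range_orderOf, o] at hc
  obtain ⟨k, hk, rfl⟩ := Finset.mem_image.1 hc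
  have := Finset.mem_range.1 hk
  interval_cases k
  · simp
  · simp
  · exact Or.inr (Or.inr (eq_inv_of_mul_eq_one_left (by rw [← pow_succ, b3])))

abbrev C4 := ZMod 2 × ZMod 2 × ZMod 2 × ZMod 2

variable {M : Type*} [AddCommGroup M] [Module (ZMod 2) M] {ρ : Representation (ZMod 2) S M}

omit [Finite S] in
theorem two (m : M) : m + m = 0 := by
  rw [← two_smul (ZMod 2), show (2 : ZMod 2) = 0 from rfl, zero_smul]

omit [Finite S] in
theorem fix2 {t : S} (ht : t * t = 1) (P : M → Prop) (hP : ∀ m, P m → P (m + ρ t m)) {m : M}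
    (h0 : m ≠ 0) (h : P m) : ∃ w, w ≠ 0 ∧ P w ∧ ρ t w = w := by
  by_cases e : m + ρ t m = 0
  · exact ⟨m, h0, h, add_left_cancel (e.trans (two m).symm)⟩
  · refine ⟨_, e, hP m h, ?_⟩
    rw [map_add, ← Module.End.mul_apply, ← map_mul, ht, map_one, add_comm]
    rfl

theorem core (h9 : Nat.card A = 9) (h3 : ∀ x ∈ A, x ^ 3 = 1) (hc : ∀ x ∈ A, ∀ y ∈ A, x * y = y * x)
    (hirr : ∀ N : Submodule (ZMod 2) M, (∀ s : S, ∀ m ∈ N, ρ s m ∈ N) → N = ⊥ ∨ N = ⊤)
    (hA : ∀ m : M, (∀ x ∈ A, ρ x m = m) → m = 0) {t u z a b : S}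
    (gen : ∀ T : Subgroup S, A ≤ T → t ∈ T → u ∈ T → T = ⊤) (ha : a ∈ A) (hb : b ∈ A) (a1 : a ≠ 1)
    (tt : t * t = 1) (uu : u * u = 1) (zz : z * z = 1) (tz : t * z = z * t) (uz : z * u = u * z)
    (tu : t * u = u * (t * z)) (ta : t * a = a * t) (ua : a * u = u * b)
    (za : ∀ x ∈ A, z * x = x * x * z) {v : M} (v0 : v ≠ 0) (hv : ρ a v = v) :
    Nat.card M = 16 ∧ Nat.card {m : M // ρ t m = m ∧ ρ z m = m} = 4 ∧
      Nat.card {m : M // ρ u m = m ∧ ρ z m = m} = 2 := by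
  have mm : ∀ (x y : S) (m : M), ρ x (ρ y m) = ρ (x * y) m := fun x y m => by rw [map_mul]; rfl
  have ub : u * a = b * u := by
    calc u * a = u * (a * u) * u := by rw [mul_assoc, mul_assoc, uu, mul_one]
      _ = _ := by rw [ua, ← mul_assoc u, uu, one_mul]
  have c3 : ∀ x ∈ A, x * x * x = 1 := fun x hx => by rw [← h3 x hx, pow_succ, pow_two]
  have tb : t * b = b * b * t := by
    have e1 : b = u * a * u := by rw [ub, mul_assoc, uu, mul_one]
    have e2 : u * t = t * z * u := by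
      calc u * t = u * (t * u) * u := by rw [mul_assoc, mul_assoc, uu, mul_one]
        _ = _ := by rw [tu, ← mul_assoc u, uu, one_mul]
    have e3 : t * z * (t * z) = 1 := by
      rw [mul_assoc, ← mul_assoc z, ← tz, mul_assoc, zz, mul_one, tt]
    have e4 : t * z * u = u * t := e2.symm
    calc t * b = t * u * a * u := by rw [e1]; simp only [mul_assoc]
      _ = u * t * (z * a) * u := by rw [tu]; simp only [mul_assoc]
      _ = u * (t * a) * a * (z * u) := by rw [za a ha]; simp only [mul_assoc]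
      _ = u * (a * t) * a * (z * u) := by rw [← ta]
      _ = u * a * (t * a) * (z * u) := by simp only [mul_assoc]
      _ = u * a * (a * t) * (z * u) := by rw [← ta]
      _ = u * a * a * (t * z * u) := by simp only [mul_assoc]
      _ = u * a * (a * u) * t := by rw [e4]; simp only [mul_assoc]
      _ = _ := by rw [ua, ub, mul_assoc b u, ← mul_assoc u u, uu, one_mul]
  have gA : ∀ T : Subgroup S, a ∈ T → b ∈ T → A ≤ T := fun T h1 h2 => by
    by_contra q
    have b1 : b * b ≠ b := fun e => a1 (by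
      rw [mul_eq_left.1 e, mul_one] at ua
      exact mul_eq_right.1 ua)
    rcases tri h9 (L := A ⊓ T) inf_le_left (fun r => q (r.trans inf_le_right)) ⟨ha, h1⟩ a1 (h3 a ha)
      ⟨hb, h2⟩ with e | e | e
    · exact b1 (by simp [e])
    · rw [e, ta] at tb
      exact b1 (e ▸ (mul_right_cancel tb).symm)
    · have : t * b = b * t := e ▸ (Commute.inv_right (show Commute t a from ta)).eq
      exact b1 (mul_right_cancel (tb.symm.trans this))
  let St : Submodule (ZMod 2) M → Subgroup S := fun N =>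
    { carrier := {g | ∀ m ∈ N, ρ g m ∈ N}
      one_mem' := fun m h => by simpa using h
      mul_mem' := fun {x y} hx hy m h => mm x y m ▸ hx _ (hy m h)
      inv_mem' := fun {x} hx => by
        obtain ⟨k, e⟩ := (Submonoid.mem_powers_iff _ _).1 (mem_powers_iff_mem_zpowers.2
          (inv_mem (mem_zpowers x)))
        rw [← e]
        clear e
        induction k with
        | zero => intro m h; simpa using h
        | succ k ih => intro m h; rw [pow_succ', ← mm]; exact hx _ (ih m h) }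
  have hab : ∀ m, ρ a m = m → ρ b m = m → m = 0 := fun m h1 h2 => hA m fun x hx =>
    gA (
      { carrier := {g | ρ g m = m}
        one_mem' := by simp
        mul_mem' := fun {x y} hx hy => by
          show ρ (x * y) m = m
          rw [← mm, hy, hx]
        inv_mem' := fun {x} hx => by
          show ρ x⁻¹ m = m
          conv_lhs => rw [← hx, mm, inv_mul_cancel, map_one]
          rfl }) h1 h2 hx
  obtain ⟨w₁, w0, w1, w2⟩ := fix2 (ρ := ρ) tt (fun m => ρ a m = m)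
    (fun m h => by rw [map_add, h, mm, ← ta, ← mm, h]) v0 hv
  obtain ⟨w, w0, ⟨wa, wt⟩, wz⟩ := fix2 (ρ := ρ) zz (fun m => ρ a m = m ∧ ρ t m = m)
    (fun m h => ⟨by
      have : a * z = z * (a * a) := by
        rw [← mul_assoc, za a ha, mul_assoc, za a ha, ← mul_assoc, ← mul_assoc, c3 a ha, one_mul]
      rw [map_add, h.1, mm, this, ← mm, ← mm, h.1, h.1], by
      rw [map_add, h.2, mm, tz, ← mm, h.2]⟩) w0 ⟨w1, w2⟩
  have sq : ∀ x y, x ∈ A → y ∈ A → (∀ m, ρ x m = m → ρ y m = m → m = 0) → ∀ m, ρ x m = m →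
      ρ y (ρ y m) = m + ρ y m := fun x y hx hy h m e => by
    have := h (m + ρ y m + ρ y (ρ y m)) (by
      simp only [map_add, mm, ← mul_assoc, hc x hx y hy]
      rw [mul_assoc y x, hc x hx y hy, ← mul_assoc]
      simp only [← mm, e]) (by
      simp only [map_add, mm, ← mul_assoc, c3 y hy, map_one, Module.End.one_apply]
      abel)
    exact add_left_cancel (this.trans (two _).symm)
  set w' := ρ u w with hw'
  have b' : ρ b w' = w' := by rw [hw', mm, ← ub, ← mm, wa]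
  have t' : ρ t w' = w' := by rw [hw', mm, tu, ← mm, ← mm, wz, wt]
  have z' : ρ z w' = w' := by rw [hw', mm, uz, ← mm, wz]
  have u' : ρ u w' = w := by rw [hw', mm, uu, map_one]; rfl
  have bb := sq a b ha hb hab w wa
  have aa := sq b a hb ha (fun m h1 h2 => hab m h2 h1) w' b'
  have f1 : ρ a (ρ b w) = ρ b w := by rw [mm, hc a ha b hb, ← mm, wa]
  have f2 : ρ b (ρ a w') = ρ a w' := by rw [mm, ← hc a ha b hb, ← mm, b']
  have f3 : ρ t (ρ b w) = w + ρ b w := by rw [mm, tb, ← mm, ← mm, wt, bb]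
  have f4 : ρ t (ρ a w') = ρ a w' := by rw [mm, ta, ← mm, t']
  have f5 : ρ z (ρ b w) = w + ρ b w := by rw [mm, za b hb, ← mm, ← mm, wz, bb]
  have f6 : ρ z (ρ a w') = w' + ρ a w' := by rw [mm, za a ha, ← mm, ← mm, z', aa]
  have f7 : ρ u (ρ b w) = ρ a w' := by rw [mm, ← ua, ← mm]
  have f8 : ρ u (ρ a w') = ρ b w := by rw [mm, ub, ← mm, u']
  let φ : C4 →ₗ[ZMod 2] M :=
    { toFun := fun c => c.1 • w + c.2.1 • ρ b w + c.2.2.1 • w' + c.2.2.2 • ρ a w'
      map_add' := fun c d => by simp only [Prod.fst_add, Prod.snd_add, add_smul]; abel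
      map_smul' := fun k c => by simp [mul_smul, smul_add] }
  have hφ : ∀ c, φ c = c.1 • w + c.2.1 • ρ b w + c.2.2.1 • w' + c.2.2.2 • ρ a w' := fun c => rfl
  have pa : ∀ c, ρ a (φ c) = φ (c.1, c.2.1, c.2.2.2, c.2.2.1 + c.2.2.2) := fun c => by
    simp only [hφ, map_add, map_smul, wa, f1, aa]; module
  have pb : ∀ c, ρ b (φ c) = φ (c.2.1, c.1 + c.2.1, c.2.2.1, c.2.2.2) := fun c => by
    simp only [hφ, map_add, map_smul, b', f2, bb]; module
  have pt : ∀ c, ρ t (φ c) = φ (c.1 + c.2.1, c.2.1, c.2.2.1, c.2.2.2) := fun c => by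
    simp only [hφ, map_add, map_smul, wt, t', f3, f4]; module
  have pz : ∀ c, ρ z (φ c) = φ (c.1 + c.2.1, c.2.1, c.2.2.1 + c.2.2.2, c.2.2.2) := fun c => by
    simp only [hφ, map_add, map_smul, wz, z', f5, f6]; module
  have pu : ∀ c, ρ u (φ c) = φ (c.2.2.1, c.2.2.2, c.1, c.2.1) := fun c => by
    simp only [hφ, map_add, map_smul, u', f7, f8, ← hw']; module
  have sj : Function.Surjective φ := by
    have st : ∀ g, (∀ c, ∃ d, ρ g (φ c) = φ d) → g ∈ St (LinearMap.range φ) := fun g h => by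
      rintro _ ⟨c, rfl⟩
      exact (h c).imp fun d e => e.symm
    have := gen (St (LinearMap.range φ)) (gA _ (st _ fun c => ⟨_, pa c⟩) (st _ fun c => ⟨_, pb c⟩))
      (st _ fun c => ⟨_, pt c⟩) (st _ fun c => ⟨_, pu c⟩)
    refine LinearMap.range_eq_top.1 ((hirr _ fun s => (this ▸ mem_top s : s ∈ St _)).resolve_left
      fun e => w0 ?_)
    exact (Submodule.mem_bot _).1 (e.le ⟨(1, 0, 0, 0), by simp [hφ]⟩)
  have two' : ∀ (x y : S) (m : M) (c d : ZMod 2), m ≠ 0 → ρ x m = m →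
      (∀ m, ρ x m = m → ρ y m = m → m = 0) → ρ y (ρ y m) = m + ρ y m → c • m + d • ρ y m = 0 →
      c = 0 ∧ d = 0 := fun x y m c d m0 h1 h2 h3 h4 => by
    have k : ∀ c : ZMod 2, c = 0 ∨ c = 1 := by decide
    rcases k c with rfl | rfl <;> rcases k d with rfl | rfl
    · exact ⟨rfl, rfl⟩
    · rw [zero_smul, zero_add, one_smul] at h4
      rw [h4, map_zero, add_zero] at h3
      exact absurd h3.symm m0
    · exact absurd (by simpa using h4) m0
    · rw [one_smul, one_smul] at h4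
      exact absurd (h2 m h1 (add_left_cancel (h4.trans (two m).symm))) m0
  have ij : Function.Injective φ := (injective_iff_map_eq_zero φ).2 fun c e => by
    rw [hφ, add_assoc] at e
    have e1 : c.1 • w + c.2.1 • ρ b w = c.2.2.1 • w' + c.2.2.2 • ρ a w' :=
      add_right_cancel (e.trans (two _).symm)
    have e2 : c.1 • w + c.2.1 • ρ b w = 0 := hab _ (by simp only [map_add, map_smul, wa, f1])
      (by rw [e1]; simp only [map_add, map_smul, b', f2])
    obtain ⟨h1, h2⟩ := two' a b w _ _ w0 wa hab bb e2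
    obtain ⟨h3, h4⟩ := two' b a w' _ _ (fun q => w0 (by rw [← u', q, map_zero])) b'
      (fun m h1 h2 => hab m h2 h1) aa (e1 ▸ e2)
    exact Prod.ext h1 (Prod.ext h2 (Prod.ext h3 h4))
  let E := Equiv.ofBijective φ ⟨ij, sj⟩
  refine ⟨by rw [← Nat.card_congr E]; simp, ?_, ?_⟩
  · rw [← Nat.card_congr (E.subtypeEquiv (p := fun c => c.2.1 = 0 ∧ c.2.2.2 = 0) fun c => by
      show _ ↔ ρ t (φ c) = φ c ∧ ρ z (φ c) = φ c
      rw [pt, pz, ij.eq_iff, ij.eq_iff]
      revert c; decide), Nat.card_eq_fintype_card]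
    decide
  · rw [← Nat.card_congr (E.subtypeEquiv (p := fun c => c.2.1 = 0 ∧ c.2.2.2 = 0 ∧ c.1 = c.2.2.1)
      fun c => by
        show _ ↔ ρ u (φ c) = φ c ∧ ρ z (φ c) = φ c
        rw [pu, pz, ij.eq_iff, ij.eq_iff]
        revert c; decide), Nat.card_eq_fintype_card]
    decide

/-- The four-subgroups of `D₈`. -/
def V (i : ZMod 4) : Subgroup (DihedralGroup 4) where
  carrier := {x | x = 1 ∨ x = r 2 ∨ x = sr i ∨ x = sr i * r 2}
  one_mem' := Or.inl rfl
  mul_mem' := by simp only [Set.mem_setOf_eq]; revert i; decide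
  inv_mem' := by simp only [Set.mem_setOf_eq]; revert i; decide

theorem mem_V {i : ZMod 4} {x : DihedralGroup 4} :
    x ∈ V i ↔ x = 1 ∨ x = r 2 ∨ x = sr i ∨ x = sr i * r 2 := Iff.rfl

theorem card_V (i : ZMod 4) : Nat.card (V i) = 4 := by
  rw [Nat.card_congr (Equiv.subtypeEquivRight fun _ => mem_V), Nat.card_eq_fintype_card]
  revert i; decide

theorem le_V {B : Subgroup (DihedralGroup 4)} (h : ∀ b ∈ B, b ^ 2 = 1) : B ≤ V 0 ∨ B ≤ V 1 := by
  by_contra! q
  obtain ⟨x, h1, h2⟩ := SetLike.not_le_iff_exists.1 q.1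
  obtain ⟨y, h3, h4⟩ := SetLike.not_le_iff_exists.1 q.2
  have : ∀ x y : DihedralGroup 4, ¬ (x = 1 ∨ x = r 2 ∨ x = sr 0 ∨ x = sr 0 * r 2) →
      ¬ (y = 1 ∨ y = r 2 ∨ y = sr 1 ∨ y = sr 1 * r 2) → x ^ 2 = 1 → y ^ 2 = 1 → (x * y) ^ 2 ≠ 1 := by
    decide
  exact this x y h2 h4 (h x h1) (h y h3) (h _ (B.mul_mem h1 h3))

theorem main [hn : A.Normal] (hA : Cfsg.IsElementaryAbelian 3 A) (h9 : Nat.card A = 9)
    (hAC : centralizer (A : Set S) = A) (f : DihedralGroup 4 →* S) (hf : Function.Injective f)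
    (hAX : A ⊔ f.range = ⊤) (hρ : Function.Injective ρ)
    (hirr : ∀ N : Submodule (ZMod 2) M, (∀ s : S, ∀ m ∈ N, ρ s m ∈ N) → N = ⊥ ∨ N = ⊤)
    [Nontrivial M] : Nat.card M = 16 ∧ ∃! B : Subgroup S, B ≤ f.range ∧ Nat.card B = 4 ∧
      (∀ b ∈ B, b ^ 2 = 1) ∧ Nat.card {m : M // ∀ b ∈ B, ρ b m = m} = 2 := by
  have mm : ∀ (x y : S) (m : M), ρ x (ρ y m) = ρ (x * y) m := fun x y m => by rw [map_mul]; rfl
  have hc : ∀ x ∈ A, ∀ y ∈ A, x * y = y * x := fun x hx y hy =>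
    congrArg Subtype.val (hA.1.is_comm.comm ⟨x, hx⟩ ⟨y, hy⟩)
  have fa : ∀ d : DihedralGroup 4, d * d = 1 → (∀ x ∈ A, f d * x * (f d)⁻¹ = x) → d = 1 :=
    fun d h1 h2 => by
      have := hA.2 _ (hAC ▸ fun x hx => (mul_inv_eq_iff_eq_mul.1 (h2 x hx)).symm : f d ∈ A)
      rw [← map_pow, pow_succ, pow_two, h1, one_mul] at this
      exact (map_eq_one_iff f hf).1 this
  have i3 : ∀ x ∈ A, x⁻¹ = x * x := fun x hx =>
    inv_eq_of_mul_eq_one_left (by rw [← hA.2 x hx, pow_succ, pow_two])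
  have cc : ∀ d : DihedralGroup 4, d * d = 1 → ∀ x, f d * (f d * x * (f d)⁻¹) * (f d)⁻¹ = x :=
    fun d h x => by
      calc _ = f (d * d) * x * (f (d * d))⁻¹ := by rw [map_mul]; group
        _ = x := by simp [h]
  have zi : ∀ x ∈ A, f (r 2) * x * (f (r 2))⁻¹ = x⁻¹ := by
    let L : Subgroup S :=
      { carrier := {x | x ∈ A ∧ f (r 2) * x * (f (r 2))⁻¹ = x⁻¹}
        one_mem' := ⟨A.one_mem, by simp⟩
        mul_mem' := fun {x y} hx hy => ⟨A.mul_mem hx.1 hy.1, by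
          rw [hc x hx.1 y hy.1, mul_inv_rev, ← hx.2, ← hy.2, ← hc x hx.1 y hy.1]; group⟩
        inv_mem' := fun {x} hx => ⟨A.inv_mem hx.1, by rw [← conj_inv, hx.2]⟩ }
    by_contra q
    obtain ⟨x, hx, h1⟩ : ∃ x ∈ A, f (r 2) * x * (f (r 2))⁻¹ ≠ x := by
      by_contra! q
      exact absurd (fa (r 2) (by decide) q) (by decide)
    set y := f (r 2) * x * (f (r 2))⁻¹ with hy
    have yA : y ∈ A := hn.conj_mem x hx _
    have hb : x * y⁻¹ ∈ L := ⟨A.mul_mem hx (A.inv_mem yA), by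
      rw [← conj_mul, ← conj_inv, ← hy, hy, cc (r 2) (by decide) x, ← hy, mul_inv_rev, inv_inv]⟩
    have b1 : x * y⁻¹ ≠ 1 := fun e => h1 (mul_inv_eq_one.1 e).symm
    set b := x * y⁻¹
    have hb' : f (r 1) * b * (f (r 1))⁻¹ ∈ L := ⟨hn.conj_mem _ hb.1 _, by
      have : f (r 2) * f (r 1) = f (r 1) * f (r 2) := by rw [← map_mul, ← map_mul]; rfl
      calc _ = f (r 2) * f (r 1) * b * (f (r 2) * f (r 1))⁻¹ := by group
        _ = f (r 1) * (f (r 2) * b * (f (r 2))⁻¹) * (f (r 1))⁻¹ := by rw [this]; group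
        _ = _ := by rw [hb.2]; group⟩
    have e2 : f (r 1) * (f (r 1) * b * (f (r 1))⁻¹) * (f (r 1))⁻¹ = b⁻¹ := by
      rw [← hb.2, show (r 2 : DihedralGroup 4) = r 1 * r 1 from rfl, map_mul]; group
    have e3 : b⁻¹ ≠ b := fun e => b1 (mul_eq_left.1 ((i3 b hb.1).symm.trans e))
    rcases tri h9 (L := L) (fun _ h => h.1) (fun l => q fun x hx => (l hx).2) hb b1 (hA.2 b hb.1)
      hb' with e | e | e
    · exact b1 (conj_eq_one_iff.1 e)
    · rw [e, e] at e2; exact e3 e2.symm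
    · rw [e, ← conj_inv, e, inv_inv] at e2; exact e3 e2.symm
  have za : ∀ x ∈ A, f (r 2) * x = x * x * f (r 2) := fun x hx => by
    rw [← i3 x hx, ← zi x hx, inv_mul_cancel_right]
  obtain ⟨a, ha, a1, ta⟩ : ∃ a ∈ A, a ≠ 1 ∧ f (sr 0) * a * (f (sr 0))⁻¹ = a := by
    by_contra! q
    refine absurd (fa (sr 0 * r 2) (by decide) fun x hx => ?_) (by decide)
    have h1 := hn.conj_mem x hx (f (sr 0))
    have : x * (f (sr 0) * x * (f (sr 0))⁻¹) = 1 := by
      by_contra e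
      refine q _ (A.mul_mem hx h1) e ?_
      conv_rhs => rw [hc _ hx _ h1, ← cc (sr 0) (by decide) x]
      rw [cc (sr 0) (by decide) x]
      conv_rhs => rhs; rw [← cc (sr 0) (by decide) x]
      group
    calc _ = f (sr 0) * (f (r 2) * x * (f (r 2))⁻¹) * (f (sr 0))⁻¹ := by rw [map_mul]; group
      _ = (f (sr 0) * x * (f (sr 0))⁻¹)⁻¹ := by rw [zi x hx]; group
      _ = x := inv_eq_of_mul_eq_one_left this
  have hfix : ∀ m : M, (∀ x ∈ A, ρ x m = m) → m = 0 := fun m hm => by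
    rcases hirr (Representation.invariants (ρ.comp A.subtype)) (fun s m h x => by
      have := h ⟨_, hn.conj_mem' x x.2 s⟩
      show ρ x (ρ s m) = ρ s m
      conv_rhs => rw [← this]
      show _ = ρ s (ρ (s⁻¹ * x * s) m)
      rw [mm, mm, ← mul_assoc, ← mul_assoc, mul_inv_cancel, one_mul]) with e | e
    · exact (Submodule.mem_bot _).1 (e.le fun x => hm x x.2)
    · exact absurd (hρ (LinearMap.ext fun m => (e.ge Submodule.mem_top ⟨a, ha⟩).trans
        (by simp))) a1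
  have gen : ∀ T : Subgroup S, A ≤ T → f (sr 0) ∈ T → f (sr 1) ∈ T → T = ⊤ := fun T h0 h1 h2 => by
    refine top_le_iff.1 (hAX ▸ sup_le h0 ?_)
    rintro _ ⟨d, rfl⟩
    have : ∀ d : DihedralGroup 4, ∃ k : Fin 4, d = (sr 0 * sr 1) ^ (k : ℕ) ∨
      d = sr 0 * (sr 0 * sr 1) ^ (k : ℕ) := by decide
    obtain ⟨k, rfl | rfl⟩ := this d <;> simp only [map_mul, map_pow]
    · exact T.pow_mem (T.mul_mem h1 h2) _
    · exact T.mul_mem h1 (T.pow_mem (T.mul_mem h1 h2) _)
  have co : ∀ i j : ZMod 4, (∀ T : Subgroup S, A ≤ T → f (sr i) ∈ T → f (sr j) ∈ T → T = ⊤) →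
      (sr i * sr j : DihedralGroup 4) = sr j * (sr i * r 2) → ∀ a ∈ A, a ≠ 1 →
      f (sr i) * a * (f (sr i))⁻¹ = a → ∀ v, v ≠ 0 → ρ a v = v → _ := fun i j g h a ha a1 ta v v0 hv =>
    core (z := f (r 2)) (b := (f (sr j))⁻¹ * a * f (sr j)) h9 hA.2 hc hirr hfix g ha
      (hn.conj_mem' a ha _) a1 (by simp [← map_mul]) (by simp [← map_mul])
      (by rw [← map_mul]; exact map_one f)
      (by rw [← map_mul, ← map_mul]; congr 1; clear * -; revert i; decide)
      (by rw [← map_mul, ← map_mul]; congr 1; clear * -; revert j; decide)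
      (by rw [← map_mul, h, map_mul, map_mul]) (mul_inv_eq_iff_eq_mul.1 ta) (by group) za v0 hv
  have key : ∃ i j : ZMod 4, (i = 0 ∧ j = 1 ∨ i = 1 ∧ j = 0) ∧ Nat.card M = 16 ∧
      Nat.card {m : M // ρ (f (sr i)) m = m ∧ ρ (f (r 2)) m = m} = 4 ∧
      Nat.card {m : M // ρ (f (sr j)) m = m ∧ ρ (f (r 2)) m = m} = 2 := by
    by_cases c : ∃ v, v ≠ 0 ∧ ρ a v = v
    · obtain ⟨v, v0, hv⟩ := c
      exact ⟨0, 1, Or.inl ⟨rfl, rfl⟩, co 0 1 gen (by decide) a ha a1 ta v v0 hv⟩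
    push Not at c
    set b := f (sr 1) * a * (f (sr 1))⁻¹ with hb
    have bA : b ∈ A := hn.conj_mem a ha _
    have tb : f (sr 0) * b * (f (sr 0))⁻¹ = b⁻¹ := by
      have : f (sr 0) * f (sr 1) = f (r 2) * f (sr 1) * f (sr 0) := by
        simp only [← map_mul]; congr 1
      calc _ = f (sr 0) * f (sr 1) * a * (f (sr 0) * f (sr 1))⁻¹ := by rw [hb]; group
        _ = f (r 2) * (f (sr 1) * (f (sr 0) * a * (f (sr 0))⁻¹) * (f (sr 1))⁻¹) * (f (r 2))⁻¹ := by
          rw [this]; group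
        _ = _ := by rw [ta, ← hb, zi b bA]
    have sq : ∀ x ∈ A, (∀ v, v ≠ 0 → ρ x v ≠ v) → ∀ m, ρ x (ρ x m) = m + ρ x m := fun x hx h m => by
      have : m + ρ x m + ρ x (ρ x m) = 0 := by
        by_contra e
        refine h _ e ?_
        have : x * x * x = 1 := by rw [← hA.2 x hx, pow_succ, pow_two]
        simp only [map_add, mm, ← mul_assoc, this, map_one, Module.End.one_apply]
        abel
      exact add_left_cancel (this.trans (two _).symm)
    have cb : ∀ v, v ≠ 0 → ρ b v ≠ v := fun v v0 e => c (ρ (f (sr 1))⁻¹ v)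
      (fun q => v0 (by simpa [mm] using congrArg (ρ (f (sr 1))) q)) (by
        conv_rhs => rw [← e]
        rw [mm, mm, hb, ← mul_assoc, ← mul_assoc, inv_mul_cancel, one_mul])
    have ab1 : a * b ≠ 1 := fun e => by
      have e1 : b = a⁻¹ := eq_inv_of_mul_eq_one_right e
      rw [e1, ← conj_inv, ta, inv_inv] at tb
      exact a1 (mul_eq_left.1 ((i3 a ha).symm.trans tb))
    obtain ⟨v, v0, hv⟩ : ∃ v, v ≠ 0 ∧ ρ (a * b) v = v := by
      obtain ⟨m, m0⟩ := exists_ne (0 : M)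
      by_cases e : ρ (a * b) m = m
      · exact ⟨m, m0, e⟩
      have h1 : ρ a (m + ρ a (ρ b m)) = ρ b (m + ρ a (ρ b m)) := by
        have : ρ b (ρ a (ρ b m)) = ρ a (ρ b (ρ b m)) := by rw [mm, mm, mm, mm, hc b bA a ha]
        rw [map_add, map_add, this, sq a ha c, sq b bA cb, map_add]
        abel
      refine ⟨ρ (f (sr 0)) (m + ρ a (ρ b m)), fun q => e ?_, ?_⟩
      · have : m + ρ a (ρ b m) = 0 := by
          have := congrArg (ρ (f (sr 0))) q
          rwa [mm, ← map_mul, show (sr 0 * sr 0 : DihedralGroup 4) = 1 from rfl, map_one, map_one,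
            map_zero] at this
        rw [← mm]
        exact add_left_cancel (this.trans (two m).symm)
      · have : a * b * f (sr 0) = f (sr 0) * (b⁻¹ * a) := by
          have e1 : f (sr 0) * b⁻¹ * (f (sr 0))⁻¹ = b := by rw [← conj_inv, tb, inv_inv]
          rw [hc a ha b bA]
          conv_lhs => rw [← e1, ← ta]
          group
        rw [mm, this, ← mm, ← mm, h1, mm b⁻¹, inv_mul_cancel, map_one]
        rfl
    refine ⟨1, 0, Or.inr ⟨rfl, rfl⟩, co 1 0 (fun T h0 h1 h2 => gen T h0 h2 h1) (by decide) _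
      (A.mul_mem ha bA) ab1 ?_ v v0 hv⟩
    rw [hc a ha b bA]
    conv_rhs => rhs; rw [← cc (sr 1) (by decide) a]
    rw [hc b bA a ha, hb]
    group
  obtain ⟨i, j, hij, k1, k2, k3⟩ := key
  have fx : ∀ i, Nat.card {m : M // ∀ b ∈ (V i).map f, ρ b m = m} =
      Nat.card {m : M // ρ (f (sr i)) m = m ∧ ρ (f (r 2)) m = m} := fun i =>
    Nat.card_congr (Equiv.subtypeEquivRight fun m => ⟨fun h => ⟨h _ ⟨_, by simp [mem_V], rfl⟩,
      h _ ⟨_, by simp [mem_V], rfl⟩⟩, by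
      rintro ⟨h1, h2⟩ _ ⟨d, rfl | rfl | rfl | rfl, rfl⟩
      · simp
      · exact h2
      · exact h1
      · rw [map_mul, ← mm, h2, h1]⟩)
  refine ⟨k1, (V j).map f, ⟨map_le_range _ _, by rw [card_map_of_injective hf, card_V], ?_,
    (fx j).trans k3⟩, fun B ⟨b1, b2, b3, b4⟩ => ?_⟩
  · rintro _ ⟨d, hd, rfl⟩
    rw [← map_pow, map_eq_one_iff f hf]
    have : ∀ (j : ZMod 4) (d : DihedralGroup 4),
      (d = 1 ∨ d = r 2 ∨ d = sr j ∨ d = sr j * r 2) → d ^ 2 = 1 := by decide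
    exact this j d hd
  have e0 : (B.comap f).map f = B := map_comap_eq_self b1
  have e1 : ∀ i, B.comap f ≤ V i → B = (V i).map f := fun i h => by
    rw [← e0, eq_of_le_of_card_ge h (by
      rw [card_V, ← card_map_of_injective hf, e0, b2])]
  have e2 : ¬ B.comap f ≤ V i := fun h => by
    rw [e1 i h, fx, k2] at b4
    omega
  have := le_V (B := B.comap f) fun d hd => hf (by rw [map_pow, map_one]; exact b3 _ hd)
  rcases hij with ⟨rfl, rfl⟩ | ⟨rfl, rfl⟩
  · exact e1 _ (this.resolve_left e2)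
  · exact e1 _ (this.resolve_right e2)

end CfsgH9.S3wr
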