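import Cfsg.Agent.H1.Ten4
import Cfsg.Agent.H1.Frob
import Cfsg.Agent.H2.Transfer
import Cfsg.Agent.FT.PF14c

/-! Groups with no class size divisible by four. -/

set_option autoImplicit false
set_option linter.unusedSectionVars false

namespace CfsgH9.SQ

open Subgroup Cfsg CfsgH2

universe u

theorem solvable_of_not_four {G : Type u} [Group G] [Finite G]
    (h : ∀ x : G, ¬ 4 ∣ (centralizer ({x} : Set G)).index) : Group.IsSolvable G := by
  refine CfsgH3.isSolvable_of_simple_sections (fun G _ => ∀ x : G, ¬ 4 ∣ (centralizer ({x} : Set G)).index)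
    (fun G _ _ N _ h x k => h x (k.trans (CfsgH1.index_C1_subgroup_dvd x))) (fun G _ _ N _ h x k => ?_)
    (fun G _ _ _ h => ?_) G h
  · obtain ⟨x, rfl⟩ := QuotientGroup.mk'_surjective N x
    exact h x (k.trans (CfsgH1.index_C1_map_dvd _ (QuotientGroup.mk'_surjective N) x))
  by_contra hc
  have ns : ¬ Group.IsSolvable G := fun k => hc (IsSimpleGroup.comm_iff_isSolvable.2 k)
  have : Fact (Nat.Prime 2) := ⟨Nat.prime_two⟩
  obtain ⟨z, hz⟩ := exists_prime_orderOf_dvd_card' (G := G) 2
    (even_iff_two_dvd.1 (Nat.not_odd_iff_even.1 fun k => ns (CfsgPF.feit_thompson k)))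
  have zc : centralizer ({z} : Set G) ≠ ⊤ := fun e => by
    have : z ∈ center G := mem_center_iff.2 fun g => mem_centralizer_singleton_iff.1 (e.ge (mem_top g))
    rcases (inferInstance : (center G).Normal).eq_bot_or_eq_top with k | k
    · rw [k, mem_bot] at this
      simp [this] at hz
    · exact hc fun a b => mem_center_iff.1 (k.ge (mem_top b)) a
  obtain ⟨x, hx⟩ := not_forall.1 (mt CfsgH1.eq_top_of_forall_conj zc)
  obtain ⟨T, hT⟩ := IsSylowIn.exists_sylowIn 2 (centralizer ({x} : Set G))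
  obtain ⟨S, hS, hTS⟩ := IsSylowIn.exists_le hT.pgroup le_top
  obtain ⟨g, hg⟩ := hS.exists_cj_le (isPGroup_zpowers_of_orderOf (k := 1) hz) le_top
  have hg' : g * z * g⁻¹ ∈ S := hg.2 (conj_mem_cj g (mem_zpowers z))
  have nT : ∀ a : G, a * z * a⁻¹ ∉ T := fun a ha => hx ⟨a, mem_centralizer_singleton_iff.2 (by
    have := mem_centralizer_singleton_iff.1 (hT.le ha)
    calc a⁻¹ * x * a * z = a⁻¹ * (x * (a * z * a⁻¹)) * a := by group
      _ = _ := by rw [← this]; group)⟩
  have i2 : T.relIndex S = 2 := by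
    obtain ⟨k, hk⟩ := (hS.pgroup.index (T.subgroupOf S))
    have d : T.relIndex S ∣ T.relIndex (centralizer {x}) * (centralizer ({x} : Set G)).index := by
      rw [relIndex_mul_index hT.le]; exact relIndex_dvd_index_of_le hTS
    rw [relIndex, hk] at d ⊢
    have d2 := (Nat.Coprime.pow_left k ((Nat.Prime.coprime_iff_not_dvd Nat.prime_two).2
      (hT.not_dvd_of_le le_rfl hT.le))).dvd_of_dvd_mul_left d
    rcases k with _ | _ | k
    · exact absurd (relIndex_eq_one.1 hk hg') (nT g)
    · rfl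
    · exact absurd ((pow_dvd_pow 2 (show 2 ≤ k + 1 + 1 by omega)).trans d2) (h x)
  rcases thompson_transfer' hS hTS i2 ((orderOf_conj' g z).trans hz) hg' with ⟨N, h1, h2, h3⟩ | ⟨a, ha⟩
  · rcases h1.eq_bot_or_eq_top with rfl | rfl
    · rw [index_bot] at h2
      exact hc (isCyclic_of_prime_card h2).isMulCommutative.is_comm.comm
    · exact h3 (mem_top _)
  · exact nT (a * g) (by simpa [mul_assoc] using ha)

end CfsgH9.SQ
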