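import Cfsg.Agent.H9.SQ1
import Cfsg.Agent.H1.Super
import Cfsg.Agent.H2.Focal
import Cfsg.Agent.H2.MaxClass
import Cfsg.Agent.FT.Cyc

/-! Groups with square-free class sizes. -/

set_option autoImplicit false
set_option linter.unusedSectionVars false

namespace CfsgH9.SQ

open Subgroup Cfsg CfsgH2
open scoped commutatorElement

variable {G : Type*} [Group G] [Finite G] {p : ℕ} [hp : Fact p.Prime]

theorem comm_le {R N : Subgroup G} (hR : IsPGroup p R) (hN : N ≤ R) (h : N.relIndex R ∣ p) : ⁅R, R⁆ ≤ N := by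
  rcases (Nat.dvd_prime hp.out).1 h with e | e
  · exact (commutator_le_of_le le_rfl le_rfl).trans (relIndex_eq_one.1 e)
  · refine commutator_le_of_card_sq hR hN (le_normalizer_of_relIndex_prime hR hN e) ?_
    rw [← card_mul_relIndex hN, e]
    exact Nat.mul_le_mul_left _ (Nat.le_self_pow two_ne_zero p)

theorem dvd_of_pow {a k : ℕ} (h : ¬ p ^ 2 ∣ a) (hk : p ^ k ∣ a) : p ^ k ∣ p := by
  rcases k with _ | _ | k
  · simp
  · simp
  · exact absurd ((pow_dvd_pow p (by omega)).trans hk) h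

theorem comm_central (h : ∀ x : G, ¬ p ^ 2 ∣ (centralizer ({x} : Set G)).index) {S : Subgroup G} (hS : IsSylowIn p S ⊤) :
    ⁅S, S⁆ ≤ center G := fun z hz => by
  refine mem_center_iff.2 fun g => mem_centralizer_singleton_iff.1 ((CfsgH1.eq_top_of_forall_conj fun x => ?_).ge (mem_top g))
  obtain ⟨T, hT⟩ := IsSylowIn.exists_sylowIn p (centralizer ({x} : Set G))
  obtain ⟨g, -, hg⟩ := hS.exists_cj_le hT.pgroup le_top
  have hT' := hT.cj g
  rw [cj_centralizer_singleton] at hT'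
  obtain ⟨k, hk⟩ := hS.pgroup.index ((cj g T).subgroupOf S)
  have d : (cj g T).relIndex S ∣ (cj g T).relIndex (centralizer {g * x * g⁻¹}) * (centralizer ({g * x * g⁻¹} : Set G)).index := by
    rw [relIndex_mul_index hT'.le]; exact relIndex_dvd_index_of_le hg
  rw [relIndex, hk] at d
  have := comm_le hS.pgroup hg (by
    rw [relIndex, hk]
    exact dvd_of_pow (h _) ((Nat.Coprime.pow_left k ((Nat.Prime.coprime_iff_not_dvd hp.out).2
      (hT'.not_dvd_of_le le_rfl hT'.le))).dvd_of_dvd_mul_left d)) hz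
  exact ⟨g⁻¹, mem_centralizer_singleton_iff.2 (by simpa using (mem_centralizer_singleton_iff.1 (hT'.le this)).symm)⟩

theorem unip {P : Subgroup G} (hP : IsPGroup p P) {b w : G} (hb : (orderOf b).Coprime p) (h1 : ⁅b, w⁆ ∈ P)
    (h2 : Commute b ⁅b, w⁆) : ⁅b, w⁆ = 1 := by
  have : ∀ n : ℕ, b ^ n * w * (b ^ n)⁻¹ = ⁅b, w⁆ ^ n * w := fun n => by
    induction n with
    | zero => simp
    | succ n ih =>
      calc b ^ (n + 1) * w * (b ^ (n + 1))⁻¹ = b * (b ^ n * w * (b ^ n)⁻¹) * b⁻¹ := by rw [pow_succ']; group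
        _ = _ := by rw [ih, ← mul_assoc, (h2.pow_right n).eq, pow_succ, commutatorElement_def]; group
  have e := this (orderOf b)
  rw [pow_orderOf_eq_one, one_mul, inv_one, mul_one, eq_comm, mul_eq_right] at e
  exact eq_one_of_mem_pgroup_of_coprime hP h1 (hb.coprime_dvd_left (orderOf_dvd_of_pow_eq_one e))

theorem sylow_eq (h : ∀ x : G, ¬ p ^ 2 ∣ (centralizer ({x} : Set G)).index)
    (hC : centralizer (pCore p G : Set G) ≤ pCore p G) : IsSylowIn p (pCore p G) ⊤ := by
  obtain ⟨S, hS, hQ⟩ := IsSylowIn.exists_le (CfsgH1.isPGroup_pCore p G) le_top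
  have hZ := comm_central h hS
  have nz : ∀ g : G, g ∈ normalizer (center G : Set G) := fun g => le_normalizer_of_normal (mem_top g)
  have : (centMod (center G) (pCore p G)).Normal := ⟨fun g hg a => mem_centMod.2 ⟨nz _, fun s hs => by
    have := (inferInstance : (center G).Normal).conj_mem _
      ((mem_centMod.1 hg).2 _ ((inferInstance : (pCore p G).Normal).conj_mem' s hs a)) a
    simpa [mul_assoc] using this⟩⟩
  have pK : IsPGroup p (centMod (center G) (pCore p G)) := isPGroup_of_orderOf fun g hg => by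
    obtain ⟨a, b, -, hb, ha, ob, rfl⟩ := exists_p_part (p := p) g
    have : b ∈ pCore p G := hC (mem_centralizer_iff.2 fun s hs => (commutatorElement_eq_one_iff_mul_comm.1
      (unip (CfsgH1.isPGroup_pCore p G) ob (mul_mem ((inferInstance : (pCore p G).Normal).conj_mem s hs b) (inv_mem hs))
        (mem_center_iff.1 ((mem_centMod.1 (zpowers_le.2 hg hb)).2 s hs) b))).symm)
    rwa [eq_one_of_mem_pgroup_of_coprime (CfsgH1.isPGroup_pCore p G) this ob, mul_one]
  have : S ≤ pCore p G := le_trans (fun g hg => mem_centMod.2 ⟨nz _, fun s hs =>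
    hZ (commutator_mem_commutator hg (hQ hs))⟩) (CfsgH1.le_pCore pK)
  exact le_antisymm this hQ ▸ hS

section
variable {P : Subgroup G} [hn : P.Normal] (hP : IsSylowIn p P ⊤)
  (h : ∀ x : G, ¬ p ^ 2 ∣ (centralizer ({x} : Set G)).index)
include hP h

theorem rel_dvd (x : G) : (P ⊓ centralizer {x}).relIndex P ∣ p := by
  obtain ⟨k, hk⟩ := hP.pgroup.index ((P ⊓ centralizer {x}).subgroupOf P)
  have := CfsgH1.relIndex_normal_dvd_index (centralizer ({x} : Set G)) P
  rw [← inf_relIndex_left, relIndex, hk] at this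
  rw [relIndex, hk]
  exact dvd_of_pow (h x) this

theorem le_of_not {x l : G} {K : Subgroup G} (h1 : P ⊓ centralizer {x} ≤ K) (h2 : l ∈ P) (h3 : l ∈ K)
    (h4 : l ∉ centralizer {x}) : P ≤ K := by
  have lt : P ⊓ centralizer {x} < P ⊓ K := lt_of_le_not_ge (le_inf inf_le_left h1) fun k => h4 (k ⟨h2, h3⟩).2
  have := CfsgH2.mul_card_le_of_lt (hP.pgroup.to_le inf_le_left) lt
  refine inf_eq_left.1 (CfsgH2.eq_of_le_of_card_le inf_le_left (le_trans ?_ this))
  rw [← card_mul_relIndex (inf_le_left (a := P) (b := centralizer {x}))]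
  exact Nat.mul_le_mul_left _ (Nat.le_of_dvd hp.out.pos (rel_dvd hP h x))

omit hP h in
theorem cm (x : G) {w : G} (hw : w ∈ P) : ⁅x, w⁆ ∈ P := mul_mem (hn.conj_mem w hw x) (inv_mem hw)

theorem split (x : G) : ∃ a ∈ P, ∃ b, (orderOf b).Coprime p ∧ x = a * b := by
  obtain ⟨a, b, -, -, ⟨k, ha⟩, ob, rfl⟩ := exists_p_part (p := p) x
  exact ⟨a, hP.le_of_le_normalizer (isPGroup_zpowers_of_orderOf ha) le_top le_normalizer_of_normal (mem_zpowers a), b, ob, rfl⟩

theorem comm_cent (x : G) {w : G} (hw : w ∈ P) : P ≤ centralizer {⁅x, w⁆} := by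
  have hZ := comm_central h hP
  obtain ⟨a, ha, b, ob, rfl⟩ := split hP h x
  have k : P ≤ centralizer {⁅b, w⁆} := by
    by_cases c : ⁅b, w⁆ ∈ centralizer {b}
    · rw [unip hP.pgroup ob (cm b hw) (mem_centralizer_singleton_iff.1 c).symm]
      exact fun u _ => mem_centralizer_singleton_iff.2 (by simp)
    refine le_of_not hP h (fun u hu => mem_centralizer_singleton_iff.2 ?_) (cm b hw) (mem_centralizer_singleton_iff.2 rfl) c
    have e1 : u * b = b * u := mem_centralizer_singleton_iff.1 hu.2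
    have e2 := mem_center_iff.1 (hZ (commutator_mem_commutator (inv_mem hu.1) (inv_mem hw))) b⁻¹
    calc u * ⁅b, w⁆ = (u * b) * w * b⁻¹ * w⁻¹ := by rw [commutatorElement_def]; group
      _ = b * w * u * (⁅u⁻¹, w⁻¹⁆ * b⁻¹) * w⁻¹ := by rw [e1, commutatorElement_def]; group
      _ = b * w * (b⁻¹ * (b * u) * b⁻¹) * ⁅u⁻¹, w⁻¹⁆ * w⁻¹ := by rw [← e2]; group
      _ = _ := by rw [← e1, commutatorElement_def, commutatorElement_def]; group
  intro u hu
  have e1 := mem_centralizer_singleton_iff.1 (k hu)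
  have e2 := mem_centralizer_singleton_iff.1 (k ha)
  have e3 := mem_center_iff.1 (hZ (commutator_mem_commutator ha hw)) u
  rw [mem_centralizer_singleton_iff, show ⁅a * b, w⁆ = (a * ⁅b, w⁆) * a⁻¹ * ⁅a, w⁆ by simp [commutatorElement_def, mul_assoc],
    e2, mul_inv_cancel_right, ← mul_assoc, e1, mul_assoc, e3, mul_assoc]

theorem exists_I (x : G) : ∃ I : Subgroup G, Nat.card I ≤ p ∧ I ≤ P ∧ ∀ l, l ∈ I ↔ ∃ w ∈ P, ⁅x, w⁆ = l := by
  let φ : P →* G := MonoidHom.mk' (fun w => ⁅x, (w : G)⁆) fun a b => by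
    have := mem_centralizer_singleton_iff.1 (comm_cent hP h x b.2 a.2)
    calc ⁅x, (a : G) * b⁆ = ⁅x, (a : G)⁆ * (a * ⁅x, (b : G)⁆) * (a : G)⁻¹ := by simp [commutatorElement_def, mul_assoc]
      _ = _ := by rw [this]; group
  refine ⟨φ.range, ?_, ?_, fun l => ⟨fun ⟨w, e⟩ => ⟨w, w.2, e⟩, fun ⟨w, hw, e⟩ => ⟨⟨w, hw⟩, e⟩⟩⟩
  · have : φ.ker = (P ⊓ centralizer {x}).subgroupOf P := by
      ext w
      rw [MonoidHom.mem_ker, mem_subgroupOf, mem_inf, mem_centralizer_singleton_iff, and_iff_right w.2]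
      exact commutatorElement_eq_one_iff_mul_comm.trans eq_comm
    rw [← index_ker, this]
    exact Nat.le_of_dvd hp.out.pos (rel_dvd hP h x)
  · rintro _ ⟨w, rfl⟩
    exact cm x w.2

theorem exists_line : ∃ L : Subgroup G, Nat.card L ≤ p ∧ ∀ x : G, ∀ w ∈ P, ⁅x, w⁆ ∈ L := by
  choose I I1 I2 I3 using exists_I hP h
  have one : ∀ x w : G, ⁅x, w⁆ = 1 ↔ w ∈ centralizer {x} := fun x w => by
    rw [mem_centralizer_singleton_iff, commutatorElement_eq_one_iff_mul_comm, eq_comm]
  have zp : ∀ x l, l ∈ I x → l ≠ 1 → zpowers l = I x := fun x l h1 h2 => by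
    refine CfsgH2.eq_of_le_of_card_le (zpowers_le.2 h1) ((I1 x).trans ?_)
    simpa using CfsgH2.mul_card_le_of_lt (hP.pgroup.to_le (zpowers_le.2 (I2 x h1))) (bot_lt_iff_ne_bot.2 (zpowers_ne_bot.2 h2))
  have eq : ∀ x y l, l ∈ I x → l ∈ I y → l ≠ 1 → I x = I y := fun x y l a b c => (zp x l a c).symm.trans (zp y l b c)
  have M1 : ∀ x y, ¬ P ≤ centralizer {x} → ¬ P ≤ centralizer {y} → P ⊓ centralizer {x} ≠ P ⊓ centralizer {y} → I x = I y := by
    have k : ∀ x y, ¬ P ≤ centralizer {x} → P ⊓ centralizer {x} ≠ P ⊓ centralizer {y} →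
        ∃ w ∈ P, w ∈ centralizer {y} ∧ w ∉ centralizer {x} := fun x y hx ne => by
      by_contra! k
      refine ne (le_antisymm (fun w hw => ⟨hw.1, by_contra fun c => hx ?_⟩) fun w hw => ⟨hw.1, k w hw.1 hw.2⟩)
      exact le_of_not hP h (fun w hw => k w hw.1 hw.2) hw.1 hw.2 c
    intro x y hx hy ne
    obtain ⟨u, hu, u1, u2⟩ := k x y hx ne
    obtain ⟨w, hw, w1, w2⟩ := k y x hy ne.symm
    have e1 : I (x * y) = I x := eq _ _ ⁅x, u⁆ ((I3 _ _).2 ⟨u, hu, by
      rw [commutatorElement_def, commutatorElement_def, mul_assoc x, ← mem_centralizer_singleton_iff.1 u1]; group⟩)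
      ((I3 _ _).2 ⟨u, hu, rfl⟩) (mt (one _ _).1 u2)
    obtain ⟨v, hv, e⟩ := (I3 _ _).1 (e1.le ((I3 _ _).2 ⟨w, hw, rfl⟩))
    refine eq _ _ ⁅y, w⁆ ((I3 _ _).2 ⟨_, hn.conj_mem' v hv x, ?_⟩) ((I3 _ _).2 ⟨w, hw, rfl⟩) (mt (one _ _).1 w2)
    calc ⁅x, x⁻¹ * v * x⁆ = x⁻¹ * ⁅x, v⁆ * x := by simp [commutatorElement_def, mul_assoc]
      _ = y * w * y⁻¹ * (w * x)⁻¹ * x := by rw [e, commutatorElement_def]; group
      _ = _ := by rw [mem_centralizer_singleton_iff.1 w1, commutatorElement_def]; group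
  by_cases c : ∀ x, P ≤ centralizer {x}
  · exact ⟨⊥, by simpa using hp.out.one_le, fun x w hw => (one x w).2 (c x hw)⟩
  obtain ⟨x, hx⟩ := not_forall.1 c
  refine ⟨I x, I1 x, fun y w hw => by_contra fun k => ?_⟩
  have hy : ¬ P ≤ centralizer {y} := fun e => k ((one y w).2 (e hw) ▸ one_mem _)
  have ne : I x ≠ I y := fun e => k (e.ge ((I3 _ _).2 ⟨w, hw, rfl⟩))
  have e : P ⊓ centralizer {x} = P ⊓ centralizer {y} := by_contra fun e => ne (M1 x y hx hy e)
  have hC : ∀ z, P ⊓ centralizer {x} ≤ centralizer {z} := fun z => by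
    by_contra k
    have hz : ¬ P ≤ centralizer {z} := fun e => k (inf_le_left.trans e)
    have : P ⊓ centralizer {x} ≠ P ⊓ centralizer {z} := fun e => k (e.le.trans inf_le_right)
    exact ne ((M1 x z hx hz this).trans (M1 y z hy hz (e ▸ this)).symm)
  obtain ⟨w, hw, wx⟩ := SetLike.not_le_iff_exists.1 hx
  have ab : ∀ u ∈ P, P ≤ centralizer {u} := fun u hu v hv => mem_centralizer_singleton_iff.2
    (mem_centralizer_singleton_iff.1 (le_of_not hP h (hC v) hw (mem_centralizer_singleton_iff.2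
      (mem_centralizer_singleton_iff.1 (le_of_not hP h (hC w) hw (mem_centralizer_singleton_iff.2 rfl) wx hv)).symm) wx hu)).symm
  have U : ∀ z, ∀ v ∈ P, ⁅z, v⁆ ∈ centralizer {x} → ⁅z, v⁆ = 1 := fun z v hv k => by
    obtain ⟨a, ha, b, ob, rfl⟩ := split hP h z
    have : ⁅a * b, v⁆ = ⁅b, v⁆ := by
      rw [show ⁅a * b, v⁆ = a * ⁅b, v⁆ * a⁻¹ * ⁅a, v⁆ by simp [commutatorElement_def, mul_assoc], (one a v).2 (ab a ha hv),
        mem_centralizer_singleton_iff.1 (ab _ (cm b hv) ha), mul_one, mul_inv_cancel_right]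
    rw [this] at k ⊢
    exact unip hP.pgroup ob (cm b hv) (mem_centralizer_singleton_iff.1 (hC b ⟨cm b hv, k⟩)).symm
  have : (P ⊓ centralizer {x}).Normal := ⟨fun u hu g => by
    rwa [← mem_centralizer_singleton_iff.1 (hC g hu), mul_inv_cancel_right]⟩
  have cyc : P.map (QuotientGroup.mk' (P ⊓ centralizer {x})) = zpowers (w : G ⧸ (P ⊓ centralizer {x})) := by
    refine le_antisymm (map_le_iff_le_comap.2 (le_of_not hP h (fun u hu => ?_) hw (mem_zpowers _) wx)) (zpowers_le.2 ⟨w, hw, rfl⟩)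
    exact mem_comap.2 (by rw [QuotientGroup.mk'_apply, (QuotientGroup.eq_one_iff u).2 hu]; exact one_mem _)
  have k1 := CfsgFT.der_le_cent_of_cyclic (A := ⊤) (cyc ▸ isCyclic_zpowers' _ :
    IsCyclic (P.map (QuotientGroup.mk' (P ⊓ centralizer {x})))) (by
      have := hn.map _ (QuotientGroup.mk'_surjective (P ⊓ centralizer {x})); exact le_normalizer_of_normal)
    (commutator_mem_commutator (mem_top (x : G ⧸ (P ⊓ centralizer {x}))⁻¹) (mem_top (y : G ⧸ (P ⊓ centralizer {x}))⁻¹))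
    _ ⟨w, hw, rfl⟩
  have k2 := U ⁅x⁻¹, y⁻¹⁆ w hw ((QuotientGroup.eq_one_iff (N := P ⊓ centralizer {x}) _).1 (by
    rw [← QuotientGroup.mk'_apply, map_commutatorElement, map_commutatorElement, commutatorElement_eq_one_iff_mul_comm]
    exact k1.symm)).2
  have wy : w ∉ centralizer {y} := fun k => wx (e.ge ⟨hw, k⟩).2
  refine ne (eq _ _ ⁅x, ⁅y, w⁆⁆ ((I3 _ _).2 ⟨_, cm y hw, rfl⟩) ((I3 _ _).2 ⟨_, cm x hw, ?_⟩) fun k => ?_)
  · have e1 := mem_centralizer_singleton_iff.1 (ab _ (cm x hw) (cm y hw))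
    have e2 := commutatorElement_eq_one_iff_mul_comm.1 k2
    calc ⁅y, ⁅x, w⁆⁆ = y * x * (w * ⁅x⁻¹, y⁻¹⁆) * (x * y)⁻¹ * w⁻¹ * (⁅x, w⁆ * ⁅y, w⁆)⁻¹ := by
          simp only [commutatorElement_def]; group
      _ = _ := by rw [← e2, ← e1]; simp only [commutatorElement_def]; group
  · exact wy ((one _ _).1 (U y w hw ((one _ _).1 k)))

theorem not_dvd_of_normal : ¬ p ^ 2 ∣ Nat.card (_root_.commutator G) := fun k => by
  obtain ⟨L, h1, h2⟩ := exists_line hP h
  have h3 := commutator_inf_le_of_fusion (L := L) hP fun x hx g _ _ => by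
    have := mem_centralizer_singleton_iff.1 (comm_cent hP h g hx (inv_mem hx))
    rw [show x⁻¹ * (g * x * g⁻¹) = x⁻¹ * ⁅g, x⁆ * x by simp [commutatorElement_def, mul_assoc], this, inv_mul_cancel_right]
    exact h2 g x hx
  have h4 := (hP.inf_of_normalizer' (N := _root_.commutator G) le_top le_normalizer_of_normal).card_eq
  have h5 := (card_le_of_le ((inf_comm _ _).le.trans h3)).trans h1
  have := Nat.pow_le_pow_right hp.out.pos ((hp.out.pow_dvd_iff_le_factorization Nat.card_pos.ne').1 k)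
  have h6 := hp.out.one_lt
  rw [← h4] at this
  nlinarith [this.trans h5]

end

theorem not_dvd_comm [Group.IsSolvable G] (h : ∀ x : G, ¬ p ^ 2 ∣ (centralizer ({x} : Set G)).index) :
    ¬ p ^ 2 ∣ Nat.card (_root_.commutator G) := fun k => by
  have sj := QuotientGroup.mk'_surjective (pPrimeCore p G)
  have h' : ∀ x : G ⧸ pPrimeCore p G, ¬ p ^ 2 ∣ (centralizer ({x} : Set _)).index := fun x k => by
    obtain ⟨x, rfl⟩ := sj x
    exact h x (k.trans (CfsgH1.index_C1_map_dvd _ sj x))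
  refine not_dvd_of_normal (sylow_eq h' (CfsgH1.IsPSolvable.centralizer_pCore_le CfsgH1.isPSolvable_of_isSolvable
    (CfsgH1.pPrimeCore_quotient_pPrimeCore p G))) h' ?_
  have := k.trans ((card_dvd_of_le (map_le_iff_le_comap.1 (by
    rw [_root_.commutator_def, map_commutator]; exact commutator_mono le_top le_top))).trans
      (CfsgH1.card_comap_dvd_mul (QuotientGroup.mk' (pPrimeCore p G)) (_root_.commutator _)))
  rw [QuotientGroup.ker_mk'] at this
  exact ((CfsgH1.coprime_card_pPrimeCore p G).symm.pow_left 2).dvd_of_dvd_mul_right this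

omit hp in
theorem cyclic_comm (h : Squarefree (Nat.card (_root_.commutator G))) : IsCyclic (_root_.commutator G) := by
  have := IsZGroup.of_squarefree h
  have c : IsCyclic (⁅_root_.commutator G, _root_.commutator G⁆ : Subgroup G) := by
    rw [← map_subtype_commutator]
    have := IsZGroup.isCyclic_commutator (_root_.commutator G)
    exact isCyclic_of_surjective _ (equivMapOfInjective _ _ (subtype_injective _)).surjective
  have k := CfsgFT.der_le_cent_of_cyclic (A := ⊤) c le_normalizer_of_normal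
  have := commutative_of_cyclic_center_quotient (Abelianization.of (G := _root_.commutator G)) fun x hx =>
    mem_center_iff.2 fun g => Subtype.ext (mem_centralizer_iff.1 (k g.2) x (by
      rw [← map_subtype_commutator]; exact ⟨x, (Abelianization.ker_of (_root_.commutator G)).le hx, rfl⟩)).symm
  letI : CommGroup (_root_.commutator G) := { (inferInstance : Group (_root_.commutator G)) with mul_comm := this }
  infer_instance

omit hp in
theorem le_cent {D F : Subgroup G} [D.Normal] (hF : Group.IsNilpotent F) (hD : D ≤ F) (hc : IsCyclic D)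
    (h : Squarefree (Nat.card D)) : D ≤ centralizer (F : Set G) := by
  by_contra k
  have hi : (D ⊓ centralizer (F : Set G)).relIndex D ≠ 1 := fun e => k ((relIndex_eq_one.1 e).trans inf_le_right)
  obtain ⟨r, hr, d⟩ := Nat.exists_prime_and_dvd hi
  have : Fact r.Prime := ⟨hr⟩
  have e := card_mul_relIndex (inf_le_left (a := D) (b := centralizer (F : Set G)))
  obtain ⟨x, hx⟩ := exists_prime_orderOf_dvd_card' (G := D) r (e ▸ d.mul_left _)
  rw [← orderOf_coe] at hx
  have xD := zpowers_le.2 x.2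
  have n : F ≤ normalizer (zpowers (x : G) : Set G) := le_normalizer_of_normal.trans (CfsgFT.norm_le_norm_of_cyclic hc xD)
  have le : ⁅zpowers (x : G), F⁆ ≤ zpowers (x : G) := commutator_le.2 fun a ha b hb => by
    rw [commutatorElement_def, mul_assoc, mul_assoc, ← mul_assoc b]
    exact mul_mem ha (conj_mem_of_mem_normalizer (n hb) (inv_mem ha))
  have b : ⁅zpowers (x : G), F⁆ = ⊥ := by
    have := card_dvd_of_le le
    rw [Nat.card_zpowers, hx, Nat.dvd_prime hr] at this
    refine this.elim card_eq_one.1 fun e => ?_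
    have := eq_bot_of_le_commutator hF (xD.trans hD) (CfsgH2.eq_of_le_of_card_le le (by rw [e, Nat.card_zpowers, hx])).ge
    rw [zpowers_eq_bot.1 this, orderOf_one] at hx
    exact absurd hx hr.one_lt.ne
  have m : (x : G) ∈ D ⊓ centralizer (F : Set G) := ⟨x.2, commutator_eq_bot_iff_le_centralizer.1 b (mem_zpowers _)⟩
  exact Nat.squarefree_iff_prime_squarefree.1 h r hr (e ▸ Nat.mul_dvd_mul (hx ▸ Subgroup.orderOf_dvd_natCard _ m) d)

end CfsgH9.SQ
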