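import Cfsg.Agent.H9.FX3

/-! Overgroups of symplectic groups over an extension field in symplectic groups. -/

set_option autoImplicit false

namespace CfsgH9.SX
open Module CfsgH5 CfsgH5.Form CfsgH9.FX

attribute [local simp] sp_self

variable {F K V : Type*} [Field F] [Field K] [Algebra F K] [AddCommGroup V] [Module F V] [Module K V]
  [IsScalarTower F K V] [FiniteDimensional F V] [FiniteDimensional K V] [Finite F] [Finite K]
  {G : Subgroup (V ≃ₗ[F] V)} {g : V ≃ₗ[F] V} {v w x : V} {S : Form (spParam F) V} {U : Form (spParam K) V}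

section
omit [FiniteDimensional F V] [FiniteDimensional K V] [Finite F] [Finite K]

omit [Algebra F K] [Module F V] [IsScalarTower F K V] in
theorem two_ne (hU0 : U.Nondeg) (hv : v ≠ 0) (hw : w ≠ 0) : ∃ u, U.B u v ≠ 0 ∧ U.B u w ≠ 0 := by
  obtain ⟨a, h1⟩ := hU0.exists_ne hv
  obtain ⟨b, h2⟩ := hU0.exists_ne hw
  by_cases h3 : U.B a w = 0
  · by_cases h4 : U.B b v = 0
    · exact ⟨a + b, by simp [h4, h1], by simp [h3, h2]⟩
    · exact ⟨b, h4, h2⟩
  · exact ⟨a, h1, h3⟩

omit [Algebra F K] [Module F V] [IsScalarTower F K V] in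
theorem move (hU0 : U.Nondeg) (hv : v ≠ 0) (hw : w ≠ 0) : ∃ s ∈ U.isom, s v = w := by
  have k : ∀ {v w}, U.B v w ≠ 0 → ∃ s ∈ U.isom, s v = w := fun {v w} h =>
    ⟨_, U.tv_mem (w - v) (U.B v w)⁻¹, by simp [tv_apply, h]⟩
  obtain ⟨u, h1, h2⟩ := two_ne hU0 hv hw
  obtain ⟨s, a, rfl⟩ := k (ne_symm h1)
  obtain ⟨t, b, rfl⟩ := k h2
  exact ⟨t * s, mul_mem b a, rfl⟩

variable (hU : ∀ t ∈ U.isom, QE.res F K V t ∈ G)
include hU

theorem fix {u : V} (h : U.B u w = 0) (l : K) : ∃ a ∈ G, (∀ k : K, a (k • w) = k • w) ∧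
    ∀ x, a x = x + U.B x w • u + (U.B x u + l * U.B x w) • w :=
  ⟨_, hU _ (eich_mem (U.sp_isEich h l)), fun k => by simp [eich_apply, perp_symm h], fun x => by
    simp only [QE.res_apply, eich_apply, spParam_ε]; module⟩

end

omit [FiniteDimensional F V] [FiniteDimensional K V] in
theorem step (h : Mx K w G g) {a : V ≃ₗ[F] V} (a1 : a ∈ G) (a2 : ∀ k : K, a (k • w) = k • w) {k₀ : K}
    (h1 : k₀ ∉ A K w g) (h2 : ∃ c : K, g (c • w) = a (g (k₀ • w))) (k : K) : ∃ c : K, g (c • w) = a (g (k • w)) := by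
  haveI := Module.finite_of_finite F (M := K)
  have key : ∀ k, k ∈ A K w (g⁻¹ * a * g) ↔ ∃ c : K, g (c • w) = a (g (k • w)) := fun k => by
    simp only [mem_A, LinearEquiv.mul_apply, LinearEquiv.coe_inv, g.eq_symm_apply]
  suffices e : A K w (g⁻¹ * a * g) = ⊤ from (key k).1 (e.ge trivial)
  by_contra e
  have h3 := h.max _ (mul_mem (mul_mem (inv_mem h.mem) a1) h.mem) e
  have h4 := Submodule.finrank_mono (sup_le (a := A K w g) (fun k hk => (key k).2 (by
    obtain ⟨c, e⟩ := mem_A.1 hk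
    exact ⟨k, by rw [← e, a2]⟩)) ((Submodule.span_singleton_le_iff_mem _ _).2 ((key k₀).2 h2)))
  rw [finrank_sup_span_eq h1] at h4
  omega

omit [FiniteDimensional F V] [FiniteDimensional K V] in
theorem scal (h : Mx K w G g) (hr : (finrank F K).Prime) {β : K} (hβ : ∀ k ∈ A K w g, β * k ∈ A K w g) :
    ∃ c : F, algebraMap F K c = β := by
  obtain ⟨y, h3, h4⟩ := Submodule.exists_mem_ne_zero_of_ne_bot h.bot
  let C : Subalgebra F K :=
    { carrier := {c | ∀ k ∈ A K w g, c * k ∈ A K w g}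
      mul_mem' := fun a b k h => by rw [mul_assoc]; exact a _ (b k h)
      add_mem' := fun a b k h => by rw [add_mul]; exact add_mem (a k h) (b k h)
      algebraMap_mem' := fun a k h => by rw [← Algebra.smul_def]; exact Submodule.smul_mem _ _ h }
  haveI := Subalgebra.isSimpleOrder_of_finrank_prime F K hr
  exact Algebra.mem_bot.1 (((eq_bot_or_eq_top C).resolve_right fun hC => h.top (eq_top_iff.2 fun d _ => by
    simpa [h4] using (hC.ge trivial : d / y ∈ C) y h3)).le (hβ : β ∈ C))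

variable (hU0 : U.Nondeg) (hU : ∀ t ∈ U.isom, QE.res F K V t ∈ G)
include hU0 hU

omit [FiniteDimensional F V] [Finite F] [Finite K] in
theorem shift (hx : x ∉ Submodule.span K {w}) (y : K) :
    ∃ a ∈ G, (∀ k : K, a (k • w) = k • w) ∧ a x = x + y • w := by
  by_cases h : U.B x w = 0
  · obtain ⟨u, h1, h2⟩ := hU0.exists_sep _ hx
    obtain ⟨a, a1, a2, a3⟩ := fix hU (u := y • u) (w := w)
      (by simp [perp_symm (h1 w (Submodule.mem_span_singleton_self w))]) 0
    exact ⟨a, a1, a2, by simp [a3, h, h2]⟩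
  · obtain ⟨a, a1, a2, a3⟩ := fix hU (u := 0) (w := w) (by simp) (y / U.B x w)
    exact ⟨a, a1, a2, by simp [a3, h]⟩

theorem exists_mx (hd : 2 ≤ finrank K V) (hw : w ≠ 0) (hg : g ∈ G) (hn : ¬ Nm K g) : ∃ g, Mx K w G g := by
  haveI := Module.finite_of_finite F (M := V)
  haveI := Module.finite_of_finite F (M := K)
  haveI : Finite (V ≃ₗ[F] V) := Finite.of_injective _ DFunLike.coe_injective
  obtain ⟨v, k, h1⟩ : ∃ (v : V) (k : K), ∀ k' : K, g (k • v) ≠ k' • g v := by
    by_contra! e; exact hn (nm_of_lines hd e)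
  have hv : v ≠ 0 := fun e => h1 0 (by simp [e])
  obtain ⟨s, a1, a2⟩ := move hU0 hw hv
  obtain ⟨t, b1, b2⟩ := move hU0 (g.map_ne_zero_iff.2 hv) hw
  replace a1 := hU s a1
  replace b1 := hU t b1
  have h2 : A K w (QE.res F K V t * g * QE.res F K V s) ≠ ⊤ := fun e =>
    let ⟨c, e⟩ := mem_A.1 (e.ge trivial : k ∈ _)
    h1 c (t.injective (by simpa [a2, b2] using e.symm))
  obtain ⟨x, ⟨c1, c2⟩, c3⟩ := Set.exists_max_image {g | g ∈ G ∧ A K w g ≠ ⊤} (fun g => finrank F (A K w g))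
    (Set.toFinite _) ⟨_, mul_mem (mul_mem b1 hg) a1, h2⟩
  refine ⟨x, hw, c1, c2, fun e => ?_, fun g a b => c3 g ⟨a, b⟩⟩
  have := c3 _ ⟨mul_mem (mul_mem b1 hg) a1, h2⟩
  rw [e, finrank_bot, Nat.le_zero, Submodule.finrank_eq_zero] at this
  simpa using this.le (mem_A.2 ⟨1, by simp [a2, b2]⟩ : (1 : K) ∈ _)

omit [FiniteDimensional F V] in
theorem plane (h : Mx K w G g) (hr : (finrank F K).Prime) :
    ∃ k₀ : K, g (k₀ • w) ∉ Submodule.span K {w} ∧ ∀ k : K, ∃ (α : K) (c : F), g (k • w) = α • w + c • g (k₀ • w) := by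
  have hY : ∀ {k y : K}, (∃ c : K, g (c • w) = g (k • w) + y • w) ↔ y ∈ A K w g⁻¹ := fun {k y} => by
    simp only [mem_A, LinearEquiv.coe_inv, g.eq_symm_apply]
    exact ⟨fun ⟨c, e⟩ => ⟨c - k, by simp [sub_smul, e]⟩, fun ⟨c, e⟩ => ⟨k + c, by simp [add_smul, e]⟩⟩
  obtain ⟨y, h3, h4⟩ := Submodule.exists_mem_ne_zero_of_ne_bot h.inv.bot
  by_cases H : ∀ k : K, U.B (g (k • w)) w = 0
  · have st : ∀ {ψ : Dual K V} {k₀ : K}, ψ w = 0 → k₀ ∉ A K w g → ψ (g (k₀ • w)) ∈ A K w g⁻¹ → ∀ k : K,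
        ψ (g (k • w)) ∈ A K w g⁻¹ := fun {ψ k₀} a b c k => by
      obtain ⟨u, hu⟩ := hU0.exists_dual ψ
      obtain ⟨s, a1, a2, a3⟩ := fix hU (u := u) (w := w) (perp_symm (hu w ▸ a)) 0
      exact hY.1 (by simpa [a3, H, ← hu] using step h a1 a2 b (by simpa [a3, H, ← hu] using hY.2 c) k)
    obtain ⟨k₀, h1⟩ : ∃ k, k ∉ A K w g := by by_contra! e; exact h.top (eq_top_iff.2 fun k _ => e k)
    obtain ⟨d, h2⟩ : ∃ k, k ∉ A K w g⁻¹ := by by_contra! e; exact h.inv.top (eq_top_iff.2 fun k _ => e k)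
    refine ⟨k₀, h1, fun k => ?_⟩
    obtain ⟨α, β, e⟩ : ∃ α β : K, α • w + β • g (k₀ • w) = g (k • w) := Submodule.mem_span_pair.1 (by_contra fun e => by
      obtain ⟨ψ, a, b⟩ := exists_dual_sep _ e
      have b1 := b w (Submodule.subset_span (by simp))
      have b2 := b (g (k₀ • w)) (Submodule.subset_span (by simp))
      exact h2 (by simpa [a] using st (ψ := d • ψ) (by simp [b1]) h1 (by simp [b2]) k))
    obtain ⟨χ, a, b⟩ := exists_dual_pair (F := K) (x := g (k₀ • w)) (y := w) h1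
    obtain ⟨c, rfl⟩ := scal h.inv hr (β := β) fun k' hk => by
      simpa [← e, a, b, mul_comm] using st (ψ := k' • χ) (by simp [b]) h1 (by simpa [a]) k
    exact ⟨α, c, by simp [← e]⟩
  obtain ⟨k₀, hz⟩ := not_forall.1 H
  have h1 : k₀ ∉ A K w g := fun e => let ⟨c, e⟩ := mem_A.1 e; hz (by simp [← e])
  refine ⟨k₀, h1, fun k => ?_⟩
  obtain ⟨c, hc⟩ := scal h.inv hr (β := U.B (g (k • w)) w / U.B (g (k₀ • w)) w) fun k' hk => by
    obtain ⟨s, a1, a2, a3⟩ := fix hU (u := 0) (w := w) (by simp) (k' / U.B (g (k₀ • w)) w)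
    convert hY.1 (by simpa [a3] using step h a1 a2 h1 (by simpa [a3, hz] using hY.2 hk) k) using 1
    ring
  have h5 : U.B (g ((k - c • k₀) • w)) w = 0 := by
    simp [sub_smul, ← algebraMap_smul K c (g _), hc, hz]
  suffices e : k - c • k₀ ∈ A K w g from let ⟨α, e⟩ := mem_A.1 e; ⟨α, c, by simp [e, sub_smul]⟩
  by_contra e
  generalize k - c • k₀ = k₁ at h5 e
  have h6 : ∀ t : K, ∃ c : K, g (c • w) =
      t • (U.B (g (k₀ • w)) w • g (k₁ • w) + U.B (g (k₀ • w)) (g (k₁ • w)) • w) := fun t => by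
    obtain ⟨s, a1, a2, a3⟩ := fix hU (u := t • g (k₁ • w)) (w := w) (by simp [h5]) 0
    obtain ⟨c, e'⟩ := step h a1 a2 e ⟨k₁, by simp [a3, h5]⟩ k₀
    exact ⟨c - k₀, by rw [sub_smul, map_sub, e', a3]; simp; module⟩
  choose f hf using h6
  have h7 : ∀ {t α : K}, t • (U.B (g (k₀ • w)) w • g (k₁ • w) + U.B (g (k₀ • w)) (g (k₁ • w)) • w) = α • w → t = 0 :=
    fun {t α} e' => by_contra fun ht => e (mem_A.2 ⟨(t * U.B (g (k₀ • w)) w)⁻¹ * (α - t * U.B (g (k₀ • w)) (g (k₁ • w))),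
      by rw [mul_smul, inv_smul_eq_iff₀ (mul_ne_zero ht hz)]; linear_combination (norm := module) -e'⟩)
  obtain ⟨c', e'⟩ := mem_A.1 h3
  obtain ⟨t, rfl⟩ := Finite.injective_iff_surjective.1 (fun a b e'' => sub_eq_zero.1 (h7 (α := 0) (by
    rw [sub_smul, ← hf, ← hf, e'', sub_self, zero_smul])) : Function.Injective f) c'
  have h8 := (hf t).symm.trans (g.eq_symm_apply.1 e')
  exact h4 (by simpa [h7 h8, h.ne] using h8.symm)

variable (hB : ∀ x y, S.B x y = Algebra.trace F K (U.B x y)) (hI : G ≤ S.isom)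
include hB

omit hU0 hU [FiniteDimensional F V] [FiniteDimensional K V] [Finite F] [Finite K] [IsScalarTower F K V] in
theorem ei (v : V) (s : K) (l : F) : S.IsEich v (s • v) l := S.sp_isEich (by simp [hB]) l

include hI

theorem pt (hr : (finrank F K).Prime) (hd : 2 ≤ finrank K V) (hg : g ∈ G) (hn : ¬ Nm K g) {t : K} (h0 : t ≠ 0)
    (ht : Algebra.trace F K t = 0) (v : V) (s : K) : eich (ei hB v s (Algebra.trace F K (t * s))) ∈ G := by
  by_cases hv : v = 0
  · convert one_mem G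
    exact LinearEquiv.ext fun x => by simp [eich_apply, hv]
  haveI := Module.nontrivial_of_finrank_pos (R := K) (M := V) (by omega)
  obtain ⟨w, hw⟩ := exists_ne (0 : V)
  obtain ⟨g, h⟩ := exists_mx hU0 hU hd hw hg hn
  obtain ⟨k₀, h1, h2⟩ := plane hU0 hU h hr
  obtain ⟨χ, h3, h4⟩ := exists_dual_sep ((Submodule.span K {w}).restrictScalars F) h1
  replace h4 : ∀ k : K, χ (k • w) = 0 := fun k => h4 _ (Submodule.mem_span_singleton.2 ⟨k, rfl⟩)
  obtain ⟨a, ha⟩ := trace_rep (χ ∘ₗ g.toLinearMap ∘ₗ j F K w)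
  replace ha : ∀ k : K, χ (g (k • w)) = Algebra.trace F K (a * k) := ha
  have ha0 : a ≠ 0 := fun e => by simpa [e, h3] using ha k₀
  replace h2 : ∀ k : K, ∃ α : K, g (k • w) = α • w + Algebra.trace F K (a * k) • g (k₀ • w) := fun k =>
    let ⟨α, c, e⟩ := h2 k
    ⟨α, by rw [← ha, e]; simp [h3, h4]⟩
  obtain ⟨y, rfl⟩ : ∃ y, t = a * y := ⟨t / a, by field_simp⟩
  have hy : y ≠ 0 := right_ne_zero_of_mul h0
  obtain ⟨y', h5⟩ := h2 y
  obtain ⟨b, b1, b2, b3⟩ := shift hU0 hU h1 y'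
  have h6 : ∀ k : K, (g⁻¹ * b * g) (k • w) = k • w + Algebra.trace F K (a * k) • y • w := fun k => by
    obtain ⟨α, e⟩ := h2 k
    refine g.injective ?_
    simp only [LinearEquiv.mul_apply, LinearEquiv.coe_inv, LinearEquiv.apply_symm_apply, map_add, map_smul]
    rw [e, h5, ht, map_add, b2, map_smul, b3]
    module
  have h7 := mul_mem (mul_mem (inv_mem h.mem) b1) h.mem
  generalize g⁻¹ * b * g = c at h6 h7
  have h8 : ∀ x, U.B (c⁻¹ x) w = U.B x w + Algebra.trace F K (y * U.B x w) • a := fun x =>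
    sub_eq_zero.1 (trace_inj (F := F) fun k => by
      have := isom_B_right (hI h7) x (k • w)
      rw [h6, add_right, smul_right, hB, hB, hB] at this
      simp only [smul_right, spParam_σ] at this
      rw [sub_mul, add_mul, map_sub, map_add, smul_mul_assoc, map_smul, mul_comm _ k, mul_comm _ k, smul_eq_mul]
      linear_combination -this)
  obtain ⟨r, r1, rfl⟩ := move hU0 (smul_ne_zero hy hw) hv
  have h9 := hU _ (U.tv_mem w (s * y / a))
  have e : eich (ei hB (y • w) s (Algebra.trace F K (a * y * s))) =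
      c * QE.res F K V (U.tv w (s * y / a)) * c⁻¹ * (QE.res F K V (U.tv w (s * y / a)))⁻¹ := by
    refine LinearEquiv.ext fun x => ?_
    rw [← map_inv, tv_inv]
    simp only [LinearEquiv.mul_apply, QE.res_apply, tv_apply, map_add, h6, h8, apply_inv_apply, eich_apply, hB,
      smul_right, add_left, smul_left, sp_self, spParam_σ, spParam_ε, mul_zero, add_zero, mul_add, mul_smul_comm,
      map_smul, map_zero, add_smul, smul_assoc, smul_eq_mul, show s * y / a * a = s * y by field_simp, show a * (s * y) = a * y * s by ring,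
      show ∀ z, a * (s * y / a * z) = s * (y * z) from fun z => by field_simp]
    module
  have := mul_mem (mul_mem (hU r r1) (e ▸ mul_mem (mul_mem (mul_mem h7 h9) (inv_mem h7)) (inv_mem h9) :
    eich (ei hB (y • w) s (Algebra.trace F K (a * y * s))) ∈ G)) (inv_mem (hU r r1))
  rw [conj_eich _ (hI (hU r r1))] at this
  convert this using 1
  exact eich_congr' _ _ rfl (r.map_smul s _).symm rfl

theorem main (hS : S.Nondeg) (hr : (finrank F K).Prime) (hd : 2 ≤ finrank K V) (h7 : 7 ≤ finrank F V) (hg : g ∈ G)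
    (hn : ¬ Nm K g) : S.isom ≤ G := by
  haveI := Module.finite_of_finite F (M := K)
  have P := @pt F K V _ _ _ _ _ _ _ _ _ _ _ G g S U hU0 hU hB hI hr hd hg hn
  have sur : ∀ {t : K}, t ≠ 0 → ∀ c, ∃ s, Algebra.trace F K (t * s) = c := fun {t} ht c => by
    obtain ⟨z, hz⟩ : ∃ z, Algebra.trace F K (t * z) ≠ 0 := by by_contra! e; exact ht (trace_inj e)
    exact ⟨(c / Algebra.trace F K (t * z)) • z, by simp [hz]⟩
  obtain ⟨t, h0, ht⟩ : ∃ t : K, t ≠ 0 ∧ Algebra.trace F K t = 0 := by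
    by_contra! e
    have := LinearMap.finrank_le_finrank_of_injective (f := Algebra.trace F K)
      ((injective_iff_map_eq_zero _).2 fun a b => by_contra fun h => e a h b)
    have := hr.two_le
    simp at *; omega
  refine hS.sp_isom_le fun v c => ?_
  by_cases H : ∃ t', t' ≠ 0 ∧ Algebra.trace F K t' = 0 ∧ t' ≠ t
  · obtain ⟨t', a, b, d⟩ := H
    obtain ⟨s, rfl⟩ := sur (sub_ne_zero.2 d) c
    convert mul_mem (P a b v s) (inv_mem (P h0 ht v s)) using 1
    rw [eq_mul_inv_iff_mul_eq]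
    ext x
    simp only [LinearEquiv.mul_apply, tv_apply, eich_apply, add_left, sub_left, smul_left, sp_self, sub_mul, map_sub,
      spParam_ε, show S.B (s • v) v = 0 by simp [hB]]
    module
  push Not at H
  have h2 : ∀ a : F, a = 0 ∨ a = 1 := fun a => or_iff_not_imp_left.2 fun e =>
    smul_left_injective F h0 (by simpa using H (a • t) (smul_ne_zero e h0) (by simp [ht]))
  have h3 : (2 : F) = 0 := (h2 2).resolve_right fun e => one_ne_zero (by linear_combination e : (1 : F) = 0)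
  have h4 : ∀ v, S.tv v 1 * S.tv v 1 = 1 := fun v => by rw [tv_mul, one_add_one_eq_two, h3, tv_zero]
  have tr : ∀ {a b c}, S.tv a 1 * S.tv b 1 ∈ G → S.tv b 1 * S.tv c 1 ∈ G → S.tv a 1 * S.tv c 1 ∈ G :=
    fun {a b c} p q => by simpa only [mul_assoc, ← mul_assoc (S.tv b 1), h4, one_mul] using mul_mem p q
  have sy : ∀ {a b}, S.tv a 1 * S.tv b 1 ∈ G → S.tv b 1 * S.tv a 1 ∈ G := fun p => by
    simpa only [mul_inv_rev, inv_eq_of_mul_eq_one_right (h4 _)] using inv_mem p
  have cj : ∀ {a b g}, g ∈ G → S.tv a 1 * S.tv b 1 ∈ G → S.tv (g a) 1 * S.tv (g b) 1 ∈ G := fun {a b g} hg p => by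
    rw [← conj_tv S (hI hg), ← conj_tv S (hI hg), conj_mul]
    exact mul_mem (mul_mem hg p) (inv_mem hg)
  have sc : ∀ v {k : K}, k ≠ 0 → S.tv (k • v) 1 * S.tv v 1 ∈ G := fun v k hk => by
    by_cases e : k = 1
    · rw [e, one_smul, h4]; exact one_mem G
    have e' := sub_ne_zero.2 e
    have h5 : Algebra.trace F K (t * (k - 1)⁻¹) = 1 := (h2 _).resolve_left fun e'' => hk (by
      have := inv_eq_one.1 ((mul_eq_left₀ h0).1 (H _ (mul_ne_zero h0 (inv_ne_zero e')) e''))
      have h6 : (2 : K) = 0 := by rw [← map_ofNat (algebraMap F K), h3, map_zero]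
      linear_combination this + h6)
    convert P h0 ht ((k - 1) • v) (k - 1)⁻¹ using 1
    ext x
    have h6 : S.B v (k • v) = 0 := by simp [hB]
    simp only [LinearEquiv.mul_apply, tv_apply, eich_apply, h5, inv_smul_smul₀ e', spParam_ε]
    simp only [sub_smul, one_smul, sub_right, add_left, smul_left, h6]
    generalize k • v = u
    linear_combination (norm := module) h3 • (S.B x v • v)
  obtain ⟨a, b, h5, h6⟩ : ∃ a b, U.B b a ≠ 0 ∧ S.tv b 1 * S.tv a 1 ∈ G := by
    obtain ⟨v, k, h1⟩ : ∃ (v : V) (k : K), ∀ k' : K, g (k • v) ≠ k' • g v := by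
      by_contra! e; exact hn (nm_of_lines hd e)
    have h5 := cj hg (sc v (k := k) fun e => h1 0 (by simp [e]))
    by_cases e : U.B (g (k • v)) (g v) = 0
    · obtain ⟨u, a, b⟩ := hU0.exists_sep (Submodule.span K {g v}) (x := g (k • v)) fun e =>
        let ⟨c, e⟩ := Submodule.mem_span_singleton.1 e; h1 c e.symm
      have h6 := cj (hU _ (U.tv_mem u 1)) h5
      simp only [QE.res_apply, tv_apply, a _ (Submodule.mem_span_singleton_self _), b, mul_zero, zero_smul, add_zero,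
        mul_one, one_smul] at h6
      exact ⟨_, _, by simp [herm_one b], tr h6 (sy h5)⟩
    · exact ⟨_, _, e, h5⟩
  have h8 : ∀ y, U.B y a ≠ 0 → S.tv y 1 * S.tv a 1 ∈ G := fun y hy => by
    obtain ⟨s, a1, a2, a3⟩ := fix hU (w := a) (u := (U.B y a)⁻¹ • y - (U.B b a)⁻¹ • b) (by simp [hy, h5])
      (-(U.B y a)⁻¹ * U.B b y / U.B b a)
    have := cj a1 h6
    rw [show s a = a by simpa using a2 1, show s b = (U.B b a / U.B y a) • y by
      simp [a3, h5, smul_sub, smul_smul, div_eq_mul_inv]] at this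
    exact tr (sy (sc y (div_ne_zero h5 hy))) this
  have h9 : ∀ {x y}, U.B y x ≠ 0 → S.tv y 1 * S.tv x 1 ∈ G := fun {x y} hy => by
    obtain ⟨s, a1, rfl⟩ := move hU0 (v := a) (w := x) (by rintro rfl; simp at h5) (by rintro rfl; simp at hy)
    simpa using cj (hU s a1) (h8 (s⁻¹ y) (by rwa [← isom_B_right a1]))
  have h10 : ∀ {x y z}, S.B x z = 1 → y ≠ 0 → S.tv x 1 * S.tv y 1 ∈ G := fun {x y z} hx hy =>
    let ⟨_, a, b⟩ := two_ne hU0 (v := x) (by rintro rfl; simp at hx) hy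
    tr (sy (h9 a)) (h9 b)
  rcases h2 c with rfl | rfl
  · exact S.tv_zero v ▸ one_mem G
  have hs : ∀ W : Submodule F V, 3 ≤ finrank F W → ∃ x ∈ W, x ≠ 0 ∧ S.q x = 0 := fun W hW =>
    let ⟨x, a, b⟩ := Submodule.exists_mem_ne_zero_of_ne_bot (p := W) (by rintro rfl; simp at hW)
    ⟨x, a, b, S.sp_q x⟩
  obtain ⟨x, x', c1, c2, c3⟩ := hS.exists_hyp_perp hs (Submodule.span F {v})
    (by have := finrank_span_single_le (F := F) v; omega)
  obtain ⟨y, y', d1, d2, d3⟩ := hS.exists_hyp_perp hs (Submodule.span F {v, x})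
    (by have := finrank_span_pair_le (F := F) v x; omega)
  have e1 := c2 v (Submodule.subset_span rfl)
  have e2 := c3 v (Submodule.subset_span rfl)
  have e3 := d2 v (Submodule.subset_span (by simp))
  have e4 := d3 v (Submodule.subset_span (by simp))
  have e5 := d2 x (Submodule.subset_span (by simp))
  have e6 := d3 x (Submodule.subset_span (by simp))
  have n : ∀ {z}, S.B z x' = 1 → z ≠ 0 := by rintro _ e rfl; simp at e
  convert mul_mem (mul_mem (h10 d1.ef (n c1.ef)) (h10 (x := v + y) (z := y') (by simp [e4, d1.ef])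
    (n (z := v + x) (by simp [e2, c1.ef])))) (h10 (x := x + y) (z := y') (by simp [e6, d1.ef])
    (y := v + x + y) fun e => by simpa [e4, e6, d1.ef] using congrArg (S.B · y') e) using 1
  ext z
  simp only [LinearEquiv.mul_apply, tv_apply, add_left, smul_left, add_right, e1, e3, e5, perp_symm e1, perp_symm e3,
    perp_symm e5, sp_self]
  linear_combination (norm := module) -h3 • (S.B z v • (v + x + y) + S.B z x • (v + x + x + y) + S.B z y • (v + x + y + y))

end CfsgH9.SX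

open Module Matrix CfsgH5 CfsgH5.Form Cfsg Cfsg.Geo in
theorem CfsgH9.SX.isMaximalIn_sp_ext {F : Type*} [Field F] [Fintype F] {m : ℕ} (hm : 4 ≤ m) {r : ℕ} (hr : r.Prime)
    {A : Subalgebra F (Matrix (Fin m ⊕ Fin m) (Fin m ⊕ Fin m) F)} (hA : IsFieldSubalgebra r A)
    (hsa : IsSelfAdjointFor (sympForm m F) A) (halt : ∀ k ∈ A, ∀ v, sympForm m F (k *ᵥ v) v = 0) :
    IsMaximalIn (spGL m F) (subalgebraNormalizer A ⊓ spGL m F) := by
  haveI : Nonempty (Fin m) := ⟨⟨0, by omega⟩⟩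
  obtain ⟨K, _, _, _, ψ, rfl, rfl⟩ := exists_field hA
  have hS := spForm_nondeg (F := F) m
  rw [← spForm_B] at hsa halt
  have hG := spGL_eq' (F := F) m
  have hn := finrank_sp (F := F) m
  generalize spForm m F = S at *
  generalize spGL m F = G at *
  letI : Module K (Fin m ⊕ Fin m → F) :=
    Module.compHom _ ((toLinAlgEquiv' : Matrix (Fin m ⊕ Fin m) _ F ≃ₐ[F] _).toAlgHom.comp ψ).toRingHom
  have hs : ∀ (c : K) (v : Fin m ⊕ Fin m → F), c • v = ψ c *ᵥ v := fun _ _ => rfl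
  haveI : IsScalarTower F K (Fin m ⊕ Fin m → F) := ⟨fun a c v => by simp [hs, smul_mulVec]⟩
  haveI : FiniteDimensional K (Fin m ⊕ Fin m → F) := Module.Finite.of_finite
  have h1 : ∀ (c : K) u v, S.B (c • u) v = S.B u (c • v) := fun c => hsa _ ⟨c, rfl⟩
  have h4 : ∀ u v, ∃ β : K, ∀ z, S.B (z • u) v = Algebra.trace F K (β * z) := fun u v =>
    trace_rep ⟨⟨fun z => S.B (z • u) v, fun a b => by simp [add_smul]⟩, fun c a => by simp⟩
  choose β hβ using h4
  have ext : ∀ {a b : K}, (∀ z, Algebra.trace F K (a * z) = Algebra.trace F K (b * z)) → a = b := fun e =>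
    sub_eq_zero.1 (trace_inj (F := F) fun z => by rw [sub_mul, map_sub, e, sub_self])
  let U := ofAlt β (fun x y z => ext fun c => by simp [← hβ, add_mul])
    (fun c x z => ext fun d => by rw [← hβ, mul_comm c, mul_assoc, ← hβ, mul_comm c, mul_smul])
    (fun x y => ext fun c => by rw [← hβ, S.herm, neg_mul (β x y), map_neg, ← hβ, h1]; simp)
    fun x => ext fun c => by rw [← hβ, zero_mul, map_zero]; exact halt _ ⟨c, rfl⟩ x
  have hB : ∀ x y, S.B x y = Algebra.trace F K (U.B x y) := fun x y => by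
    have := hβ x y 1; rwa [one_smul, mul_one] at this
  have hU : U.Nondeg := fun x hx => hS x fun y => by simp [hB, hx]
  have hd : 2 ≤ finrank K (Fin m ⊕ Fin m → F) := by
    rw [← finrank_mul_finrank F K] at hn
    have := hr.eq_two_or_odd
    by_contra! e
    interval_cases finrank K (Fin m ⊕ Fin m → F) <;> omega
  refine isMaximalIn_gl hG (Nm K) (fun g => ⟨fun hg c => ?_, fun hg k => ?_⟩) ?_ fun H a b g hg hn' => EG_le_isom.trans
    (main hU (fun t ht => a _ (hS.sp_EG.ge (mem_isom.2 ⟨fun x y => by simp [hB, isom_B ht], fun x => by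
      simp [S.sp_q]⟩)) fun c => ⟨c, fun v => (t.map_smul c v).symm⟩) hB (b.trans EG_le_isom) hS hr hd (by omega) hg hn')
  · obtain ⟨d, e⟩ := (inv_mem hg (ψ c)).1 ⟨c, rfl⟩
    exact ⟨d, fun v => by simp [hs, show ψ d = _ from e, ← mul_assoc]⟩
  · choose f hf using hg
    have h5 : ∀ c, g.1 * ψ (f c) * g⁻¹.1 = ψ c := fun c => by
      rw [Units.mul_inv_eq_iff_eq_mul]
      exact Matrix.ext_iff_mulVec.2 fun v => by simpa [hs] using (hf c v).symm
    refine ⟨fun ⟨c, e⟩ => ?_, fun ⟨c, e⟩ => ⟨f c, ?_⟩⟩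
    · obtain ⟨c, rfl⟩ := Finite.injective_iff_surjective.1 (fun a b e => ψ.toRingHom.injective
        ((h5 a).symm.trans (e ▸ h5 b)) : Function.Injective f) c
      exact ⟨c, e ▸ (h5 c).symm⟩
    · exact (cjA g).injective ((h5 c).trans e)
  · haveI := Module.finite_of_finite F (M := K)
    obtain ⟨c, hc⟩ := exists_notMem_of_finrank_lt (H := Submodule.span F {(1 : K)})
      ((finrank_span_single_le _).trans_lt hr.two_le)
    obtain ⟨e, he⟩ := exists_ne (0 : Fin m ⊕ Fin m → F)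
    obtain ⟨y, hy⟩ := hS.exists_ne he
    refine ⟨_, S.tv_mem_EG e 1, fun h => hc ?_⟩
    obtain ⟨d, h⟩ := h c
    have h0 : S.B (d • e) e = 0 := halt _ ⟨d, rfl⟩ e
    obtain rfl : c = d := smul_left_injective K he (by simpa [tv_apply, h0, sp_self] using h e)
    have := h y
    simp only [tv_apply, smul_add, one_mul, add_right_inj, ← algebraMap_smul K (S.B _ e) e, smul_smul] at this
    refine Submodule.mem_span_singleton.2 ⟨S.B (c • y) e / S.B y e, ?_⟩
    rw [← Algebra.algebraMap_eq_smul_one, map_div₀, ← smul_left_injective K he this,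
      mul_div_cancel_right₀ _ ((_root_.map_ne_zero _).2 hy)]
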