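import Cfsg.Agent.H9.SX1
import Cfsg.Agent.H9.TX3

/-! Overgroups of a tensor product of symplectic groups in an orthogonal group: the level. -/

set_option autoImplicit false

namespace CfsgH9.TX
open Module CfsgH5 CfsgH5.Form

attribute [local simp] sp_self

variable {F : Type*} [Field F] {V U W : Type*} [AddCommGroup V] [Module F V] [AddCommGroup U] [Module F U]
  [AddCommGroup W] [Module F W] {G : Subgroup (V ≃ₗ[F] V)} {f f' : V →ₗ[F] V} {g z : V ≃ₗ[F] V}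
  {S : Form (orthParam F) V} {S₁ : Form (spParam F) U} {S₂ : Form (spParam F) W}

theorem E.comm3 (h : E G f) (h' : E G f') (h2 : ∀ v, f' (f (f' v)) = 0) : E G (f ∘ₗ f' - f' ∘ₗ f - f ∘ₗ f' ∘ₗ f) :=
  let ⟨a, x, b, c⟩ := h
  let ⟨a', y, b', c'⟩ := h'
  ⟨by simp [h2, a, a'], x * y * x⁻¹ * y⁻¹, mul_mem (mul_mem (mul_mem b b') (inv_mem b)) (inv_mem b'), fun v => by
    simp only [LinearEquiv.mul_apply, inv_apply a c, inv_apply a' c', c, c']
    simp [a, a', h2]; abel⟩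

theorem E.skew (h : E G f) (hI : G ≤ S.isom) (a b : V) : S.B (f a) b = - S.B a (f b) := by
  obtain ⟨h1, g, h2, h3⟩ := h
  have := isom_B_left (hI h2) a b
  rw [inv_apply h1 h3, h3, add_left, sub_right] at this
  linear_combination this

theorem siegel [FiniteDimensional F W] (h2 : S₂.Nondeg) (k : W →ₗ[F] V) (hB : ∀ a b, S.B (k a) (k b) = 0)
    (hq : ∀ a, S.Q (k a) = 0) (l : F) :
    ∃ f, E S.EG f ∧ ∀ m θ, (∀ w, S₂.B θ w = S.B m (k w)) → f m = l • k θ := by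
  obtain ⟨n, a, b, h3, -, h4⟩ := h2.exists_witt_decomp
  let t : Fin n → V →ₗ[F] V := fun i =>
    (S.lin (k (b i))).smulRight (k (l • a i)) - (S.lin (k (l • a i))).smulRight (k (b i))
  refine ⟨∑ i, t i, ?_, fun m θ e => ?_⟩
  · generalize (Finset.univ : Finset (Fin n)) = s
    induction s using Finset.induction_on with
    | empty => exact E.zero
    | insert i s hi ih =>
      have p : S.IsEich (k (b i)) (k (l • a i)) 0 :=
        ⟨S.q_eq_zero_iff.2 (hq _), hB _ _, S.q_eq_π_iff.2 (hq _)⟩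
      rw [Finset.sum_insert hi]
      exact E.add ⟨by simp [t, hB, -map_smul], _, eich_mem_EG p, fun v => by simp [t, eich_apply, -map_smul]; abel⟩ ih
        (by simp [t, hB, sum_left, -map_smul]) (by simp [t, hB, -map_smul])
  · rw [sub_eq_zero.1 (h4 _ (h3.decomp θ) (S₂.sp_q _))]
    simp [t, ← e, Finset.smul_sum, smul_smul, mul_comm, sub_eq_add_neg, Finset.sum_add_distrib]

theorem hyp2 [FiniteDimensional F W] (h2 : S₂.Nondeg) (hd : 4 < finrank F W) (v w : W) : ∃ p q,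
    (S₂.B p q = 1 ∧ S₂.B q p = -1) ∧ (S₂.B p v = 0 ∧ S₂.B v p = 0) ∧ (S₂.B p w = 0 ∧ S₂.B w p = 0) ∧
      (S₂.B q v = 0 ∧ S₂.B v q = 0) ∧ S₂.B q w = 0 ∧ S₂.B w q = 0 := by
  obtain ⟨p, a, q, b, e⟩ : ∃ p ∈ S₂.perp (Submodule.span F {v, w}), ∃ q ∈ S₂.perp (Submodule.span F {v, w}),
      S₂.B p q ≠ 0 := by
    by_contra! e
    have h1 := Submodule.finrank_mono (R := F) (le_of_le_of_eq (fun p a q b => e p a q b :
      S₂.perp (Submodule.span F {v, w}) ≤ S₂.perp (S₂.perp (Submodule.span F {v, w}))) (h2.perp_perp _))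
    have := h2.finrank_perp (Submodule.span F {v, w})
    have := finrank_span_pair_le (F := F) v w
    omega
  rw [perp_span, mem_perp_pair] at a b
  exact ⟨(S₂.B p q)⁻¹ • p, q, by simp [e, a, b, perp_symm a.1, perp_symm a.2, perp_symm b.1, perp_symm b.2,
    S₂.sp_skew p q]⟩

variable [FiniteDimensional F V] [FiniteDimensional F U] [FiniteDimensional F W]
  {j : W →ₗ[F] U →ₗ[F] V} {x : Dual F W →ₗ[F] V →ₗ[F] U} {y : W →ₗ[F] V →ₗ[F] U} {v w : W} {r ν s ξ : U →ₗ[F] U}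

/-- `V` is the tensor product of two symplectic spaces -/
structure ST (j : W →ₗ[F] U →ₗ[F] V) (x : Dual F W →ₗ[F] V →ₗ[F] U) (y : W →ₗ[F] V →ₗ[F] U)
    (S : Form (orthParam F) V) (S₁ : Form (spParam F) U) (S₂ : Form (spParam F) W) (G : Subgroup (V ≃ₗ[F] V)) : Prop
    extends TS j x where
  hy : ∀ w, y w = x (S₂.lin w)
  nd : S.Nondeg
  nd₁ : S₁.Nondeg
  nd₂ : S₂.Nondeg
  B : ∀ w u w' u', S.B (j w u) (j w' u') = S₁.B u u' * S₂.B w w'
  Q : ∀ w u, S.Q (j w u) = 0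
  five : 4 < finrank F W
  hI : G ≤ S.isom
  hG : ∀ g ∈ S.EG, Rat j g → g ∈ G

/-- the level -/
def Lv (j : W →ₗ[F] U →ₗ[F] V) (y : W →ₗ[F] V →ₗ[F] U) (S₂ : Form (spParam F) W) (G : Subgroup (V ≃ₗ[F] V))
    (r ν : U →ₗ[F] U) : Prop := ∀ v w, S₂.B v w = 0 → E G (j v ∘ₗ r ∘ₗ y w + j w ∘ₗ ν ∘ₗ y v)

namespace ST
variable (h : ST j x y S S₁ S₂ G)
include h

theorem ey (w v : W) (u : U) : y w (j v u) = S₂.B v w • u := by simp [h.hy, h.ex]

theorem exy (ψ : Dual F W) : ∃ w, (∀ v, ψ v = S₂.B v w) ∧ x ψ = y w :=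
  let ⟨w, e⟩ := h.nd₂.exists_dual ψ
  ⟨w, e, by rw [h.hy]; congr 1; exact LinearMap.ext e⟩

theorem adj (w : W) (m : V) (u : U) : S₁.B (y w m) u = S.B m (j w u) :=
  h.ext (A := S₁.lin u ∘ₗ y w) (B := S.lin (j w u)) (fun a b => by simp [h.ey, h.B, mul_comm]) m

theorem one (hv : v ≠ 0) : ∃ v', S₂.B v' v = 1 :=
  let ⟨a, e⟩ := h.nd₂.exists_ne hv
  ⟨(S₂.B a v)⁻¹ • a, by simp [e]⟩

theorem y_sur (hw : w ≠ 0) (u : U) : ∃ m, y w m = u :=
  let ⟨a, e⟩ := h.one hw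
  ⟨j a u, by simp [h.ey, e]⟩

theorem T1 (w : W) (l : F) : E G (l • j w ∘ₗ y w) := by
  obtain ⟨f, ⟨a, g, b, c⟩, d⟩ := siegel (S := S) h.nd₁ (j w) (by simp [h.B]) (h.Q w) l
  have e : ∀ m, f m = l • j w (y w m) := fun m => d m _ (h.adj w m)
  exact (show E G f from ⟨a, g, h.hG g b ⟨1, S₂.tv w l, fun a u => by
    simp [c, e, h.ey, tv_apply, mul_smul]⟩, c⟩).congr e

theorem cjU (u : U) (l : F) : ∃ g ∈ G, ∀ w v, g (j w v) = j w (S₁.tv u l v) := by
  obtain ⟨f, ⟨a, g, b, c⟩, d⟩ := siegel (S := S) h.nd₂ (j.flip u) (by simp [h.B]) (fun w => h.Q w u) l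
  have e : ∀ w v, g (j w v) = j w (S₁.tv u l v) := fun w v => by
    rw [c, d _ (S₁.B v u • w) (by simp [h.B])]
    simp [tv_apply, mul_smul]
  exact ⟨g, h.hG g b ⟨_, 1, e⟩, e⟩

theorem lift {t : W ≃ₗ[F] W} (ht : t ∈ S₂.isom) :
    ∃ g ∈ G, (∀ w u, g (j w u) = j (t w) u) ∧ ∀ w m, y w (g.symm m) = y (t w) m := by
  obtain ⟨g, h1, h2⟩ : ∃ g ∈ G, ∀ w u, g (j w u) = j (t w) u := h.nd₂.sp_isom_le
    (K := ⟨⟨⟨{t | ∃ g ∈ G, ∀ w u, g (j w u) = j (t w) u}, fun ⟨a, b, c⟩ ⟨a', b', c'⟩ =>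
      ⟨a * a', mul_mem b b', by simp [c, c']⟩⟩, 1, one_mem _, by simp⟩, fun ⟨a, b, c⟩ =>
      ⟨a⁻¹, inv_mem b, fun w u => a.injective (by simp [c])⟩⟩) (fun v c => by
      obtain ⟨-, g, a, b⟩ := h.T1 v c
      exact ⟨g, a, fun w u => by simp [b, h.ey, tv_apply, mul_smul]⟩) ht
  refine ⟨g, h1, h2, fun w m => ?_⟩
  obtain ⟨m, rfl⟩ := g.surjective m
  rw [g.symm_apply_apply]
  exact h.ext (B := y (t w) ∘ₗ g.toLinearMap) (fun a b => by simp [h2, h.ey, isom_B ht]) m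

theorem Lv_smul (c : F) : Lv j y S₂ G (c • 1) (c • 1) := fun v w e =>
  (((h.T1 (v + w) c).add (h.T1 v (-c)) (by simp [h.ey, e]) (by simp [h.ey, perp_symm e])).add (h.T1 w (-c))
    (by simp [h.ey, perp_symm e]) (by simp [h.ey, e])).congr fun m => by simp; abel

theorem T2 (e : S₂.B v w = 0) : E G (j v ∘ₗ y w + j w ∘ₗ y v) := (h.Lv_smul 1 v w e).congr (by simp)

omit h [FiniteDimensional F V] [FiniteDimensional F U] [FiniteDimensional F W] in
theorem Lv_symm (a : Lv j y S₂ G r ν) : Lv j y S₂ G ν r := fun v w e =>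
  (a w v (perp_symm e)).congr fun _ => add_comm _ _

theorem Lv_add (a : Lv j y S₂ G r ν) (b : Lv j y S₂ G s ξ) : Lv j y S₂ G (r + s) (ν + ξ) := fun v w e =>
  ((a v w e).add (b v w e) (by simp [h.ey, e, perp_symm e]) (by simp [h.ey, e, perp_symm e])).congr
    fun m => by simp; abel

theorem Lv_mul (a : Lv j y S₂ G r ν) (b : Lv j y S₂ G s ξ) : Lv j y S₂ G (r * s) (ξ * ν) := fun v w e => by
  obtain ⟨p, q, h1, h2, h3, h4, h5⟩ := hyp2 h.nd₂ h.five v w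
  exact ((a v q h4.2).comm3 (b p w h3.1) (by simp [h.ey, *, perp_symm e])).congr fun m => by
    simp [h.ey, *, perp_symm e]

theorem Lv_adj (a : Lv j y S₂ G r ν) (u u' : U) : S₁.B (r u) u' = S₁.B u (ν u') := by
  obtain ⟨p, q, h1, -⟩ := hyp2 h.nd₂ h.five 0 0
  obtain ⟨p', q', h2, h3, h4, h5, h6⟩ := hyp2 h.nd₂ h.five p q
  simpa [h.ey, h.B, *] using (a p p' h3.2).skew h.hI (j q' u) (j q u')

theorem mem_Lv (hw : w ≠ 0) (hv : v ∉ Submodule.span F {w}) (h0 : S₂.B v w = 0)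
    (h1 : E G (j v ∘ₗ r ∘ₗ y w + j w ∘ₗ ν ∘ₗ y v)) : Lv j y S₂ G r ν := by
  have k : ∀ v' w', w' ≠ 0 → v' ∉ Submodule.span F {w'} → S₂.B v' w' = 0 →
      E G (j v' ∘ₗ r ∘ₗ y w' + j w' ∘ₗ ν ∘ₗ y v') := fun v' w' a b c => by
    obtain ⟨s, a1, rfl⟩ := h.nd₂.witt_vec hw a (spParam_eq _ _)
    obtain ⟨t, b1, b2, rfl⟩ := h.nd₂.witt_one (Submodule.span F {s w}) (x := s v) (y := v') (fun e => by
      obtain ⟨c, e⟩ := Submodule.mem_span_singleton.1 e
      exact hv (Submodule.mem_span_singleton.2 ⟨c, s.injective (by simp [e])⟩)) b (fun z e => by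
      obtain ⟨d, rfl⟩ := Submodule.mem_span_singleton.1 e
      simp [c, isom_B a1, h0]) (spParam_eq _ _)
    obtain ⟨g, c1, c2, c3⟩ := h.lift (mul_mem b1 a1)
    exact (h1.cj c1).congr fun m => by simp [c2, c3, b2 _ (Submodule.mem_span_singleton_self _)]
  intro v w e
  by_cases a : w = 0
  · exact E.zero.congr (by simp [a])
  by_cases b : v ∈ Submodule.span F {w}
  · obtain ⟨c, rfl⟩ := Submodule.mem_span_singleton.1 b
    obtain ⟨p, q, h1, h2, -, h4, -⟩ := hyp2 h.nd₂ h.five w 0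
    have n : ∀ c : F, c • w + p ∉ Submodule.span F {w} := fun c e => by
      obtain ⟨d, e⟩ := Submodule.mem_span_singleton.1 e
      simpa [h1, h4] using congrArg (S₂.B · q) e
    exact ((k _ w a (n c) (by simp [h2])).add (k _ w a (n 0) (by simp [h2])).neg (by simp [h.ey, h2])
      (by simp [h.ey, h2])).congr fun m => by simp; abel
  · exact k v w a b e

/-- the level algebra -/
def lev : Subalgebra F (End F U) where
  carrier := {r | ∃ ν, Lv j y S₂ G r ν}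
  add_mem' := fun ⟨_, a⟩ ⟨_, b⟩ => ⟨_, h.Lv_add a b⟩
  algebraMap_mem' c := ⟨_, h.Lv_smul c⟩
  mul_mem' := fun ⟨_, a⟩ ⟨_, b⟩ => ⟨_, h.Lv_mul a b⟩

theorem cj (hr : r ∈ h.lev) (u : U) (l : F) : (S₁.tv u l : End F U) * r * (S₁.tv u l).symm ∈ h.lev := by
  obtain ⟨g, h1, h2⟩ := h.cjU u l
  obtain ⟨ν, a⟩ := hr
  have h3 : ∀ w m, y w (g.symm m) = (S₁.tv u l).symm (y w m) := fun w m => by
    obtain ⟨m, rfl⟩ := g.surjective m
    rw [g.symm_apply_apply, LinearEquiv.eq_symm_apply]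
    exact h.ext (A := (S₁.tv u l).toLinearMap ∘ₗ y w) (B := y w ∘ₗ g.toLinearMap) (fun a b => by simp [h2, h.ey]) m
  exact ⟨(S₁.tv u l : End F U) * ν * (S₁.tv u l).symm, fun v w e => ((a v w e).cj h1).congr fun m => by simp [h2, h3]⟩

theorem rank_one (hq : 4 ≤ finrank F U ∨ ∃ c : F, c ≠ 0 ∧ c ≠ 1) (hr : r ∈ h.lev) (h0 : ∀ c : F, r ≠ c • 1)
    (u u' : U) : (S₁.lin u').smulRight u ∈ h.lev := by
  have cg : ∀ {a b : End F U}, a ∈ h.lev → (∀ v, a v = b v) → b ∈ h.lev := fun h e => LinearMap.ext e ▸ h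
  have iv : ∀ u l v, (S₁.tv u l).symm v = S₁.tv u (-l) v := fun u l => LinearEquiv.congr_fun (S₁.tv_inv u l)
  have D : ∀ {r}, r ∈ h.lev → ∀ u l, ∃ s ∈ h.lev, ∀ v, s v = (l * S₁.B (r v) u) • u - (l * S₁.B v u) • r u -
      (l * l * S₁.B (r u) u * S₁.B v u) • u := fun {r} hr u l =>
    ⟨_, sub_mem (h.cj hr u l) hr, fun v => by simp [iv, tv_apply]; module⟩
  have A : ∀ {r u}, r ∈ h.lev → S₁.B (r u) u = 0 → r u ∉ Submodule.span F {u} → (S₁.lin u).smulRight u ∈ h.lev := by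
    intro r u hr h1 h2
    obtain ⟨p, h3, h4⟩ := h.nd₁.exists_sep _ h2
    replace h3 := h3 u (Submodule.mem_span_singleton_self u)
    obtain ⟨s, ⟨ξ, a1⟩, a2⟩ := D hr u 1
    obtain ⟨s', b1, b2⟩ := D ⟨ξ, a1⟩ p 1
    have e1 : ξ p = -u := h.nd₁.ext fun z => by simp [← h.Lv_adj a1, a2, h3, h4]
    have e2 : ξ u = 0 := h.nd₁.ext fun z => by simp [← h.Lv_adj a1, a2, h1]
    exact cg (mul_mem (⟨s, Lv_symm a1⟩ : ξ ∈ h.lev) b1) fun v => by simp [b2, a2, e1, e2, h3, h4, perp_symm h3]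
  obtain ⟨a, h1, h2⟩ : ∃ a, a ≠ 0 ∧ (S₁.lin a).smulRight a ∈ h.lev := by
    obtain ⟨a, ha⟩ := exists_not_eigen h0
    have a0 : a ≠ 0 := fun e => ha (by simp [e])
    by_cases e : S₁.B (r a) a = 0
    · exact ⟨a, a0, A hr e ha⟩
    obtain ⟨s, a1, a2⟩ := D hr a 1
    rcases hq with hq | ⟨c, c0, c1⟩
    · obtain ⟨ν, b⟩ := hr
      obtain ⟨p, p0, p1⟩ := exists_ker (U := F × F × F) (by simp; omega)
        ((S₁.lin a).prod ((S₁.lin (r a)).prod (S₁.lin (ν a))))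
      replace p1 : S₁.B p a = 0 ∧ S₁.B p (r a) = 0 ∧ S₁.B p (ν a) = 0 :=
        ⟨congrArg Prod.fst p1, congrArg (·.2.1) p1, congrArg (·.2.2) p1⟩
      have e1 : s (a + p) = S₁.B (r a) a • a := by simp [a2, p1, h.Lv_adj b p]
      refine ⟨a + p, fun e' => e (perp_symm (by simpa [p1] using congrArg (S₁.B · (r a)) e')),
        A a1 (by simp [e1, perp_symm p1.1]) fun e' => ?_⟩
      obtain ⟨d, e'⟩ := Submodule.mem_span_singleton.1 e'
      have e2 : d = S₁.B (r a) a := by simpa [e1, p1, ne_symm e] using congrArg (S₁.B · (r a)) e'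
      simp [e1, e2, e, p0] at e'
    · obtain ⟨s', b1, b2⟩ := D hr a c
      refine ⟨a, a0, cg (Subalgebra.smul_mem _ (sub_mem b1 (Subalgebra.smul_mem _ a1 c))
        ((c - c * c) * S₁.B (r a) a)⁻¹) fun v => ?_⟩
      have : c - c * c ≠ 0 := fun e => c1 (mul_left_cancel₀ c0 (by linear_combination -e))
      simp only [LinearMap.smul_apply, LinearMap.sub_apply, a2, b2, LinearMap.smulRight_apply, lin_apply]
      match_scalars <;> field_simp <;> ring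
  have k : ∀ {a b}, S₁.B a b ≠ 0 → (S₁.lin a).smulRight a ∈ h.lev → (S₁.lin b).smulRight b ∈ h.lev := by
    intro a b e ha
    have e1 : S₁.tv (b - a) (S₁.B a b)⁻¹ a = b := by simp [tv_apply, e]
    refine cg (h.cj ha (b - a) (S₁.B a b)⁻¹) fun v => ?_
    have := isom_B_right (S₁.tv_mem (b - a) (S₁.B a b)⁻¹) v a
    simp only [End.mul_apply, LinearEquiv.coe_coe, LinearMap.smulRight_apply, lin_apply, map_smul, e1]
    rw [e1] at this
    exact congrArg (· • b) this.symm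
  have N : ∀ {b}, b ≠ 0 → (S₁.lin b).smulRight b ∈ h.lev := fun hb =>
    let ⟨_, c1, c2⟩ := SX.two_ne h.nd₁ h1 hb
    k c2 (k (ne_symm c1) h2)
  by_cases e : u = 0
  · exact cg (zero_mem _) (by simp [e])
  by_cases e' : u' = 0
  · exact cg (zero_mem _) (by simp [e'])
  obtain ⟨p, c1, c2⟩ := SX.two_ne h.nd₁ e e'
  exact cg (Subalgebra.smul_mem _ (mul_mem (mul_mem (N e) (N (b := p) (by rintro rfl; simp at c1))) (N e'))
    (S₁.B u' p * S₁.B p u)⁻¹) fun v => by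
      have := ne_symm c2
      simp only [LinearMap.smul_apply, End.mul_apply, LinearMap.smulRight_apply, lin_apply, map_smul]
      match_scalars; field_simp

theorem EG_le (hR : ∀ u u', (S₁.lin u').smulRight u ∈ h.lev) : S.EG ≤ G := by
  have k : ∀ {v w} u u', S₂.B w v = 0 → ∃ t : S.IsEich (j v u) (j w u') 0, eich t ∈ G := fun {v w} u u' e => by
    have t : S.IsEich (j v u) (j w u') 0 := ⟨S.q_eq_zero_iff.2 (h.Q _ _), by simp [h.B, e], S.q_eq_π_iff.2 (h.Q _ _)⟩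
    obtain ⟨ν, a⟩ := hR u' u
    have e1 : ∀ z, ν z = -(S₁.B z u' • u) := fun z => h.nd₁.ext fun z' => by
      simp [← h.Lv_adj a, S₁.sp_skew z u', mul_comm]
    obtain ⟨-, g, b, c⟩ := a w v e
    exact ⟨t, (LinearEquiv.ext fun m => by simp [c, eich_apply, e1, h.adj]; abel : g = eich t) ▸ b⟩
  have key : ∀ {v u}, v ≠ 0 → u ≠ 0 → S.Qu (j v u) ≤ G := fun {v u} hv hu => by
    have hq := S.q_eq_zero_iff.2 (h.Q v u)
    obtain ⟨v', h1⟩ := h.one hv
    refine Qu_le_of_EA (hu := hq) (fun m hm => ?_) fun l t => ?_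
    · have h2 : m - j v' (y v m) ∈ S.EA G hq := by
        simpa using h.ind (S := ⟨⟨⟨{m | ∀ c : F, c • m - j v' (y v (c • m)) ∈ S.EA G hq}, fun a b c => by
          convert add_mem (a c) (b c) using 1; simp; abel⟩, by simp⟩, fun c m a d => by
            rw [smul_smul]; exact a _⟩) (fun w u' c => by
          obtain ⟨t, e⟩ := k (v := v) (w := w - S₂.B w v • v') u (c • u') (by simp [h1])
          have h5 : _ ∈ S.EA G hq := ⟨0, t, e⟩
          simpa [h.ey, smul_sub] using h5) m 1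
      obtain ⟨p, q, a1, a2, a3, a4, a5⟩ := hyp2 h.nd₂ h.five v v'
      obtain ⟨u', h3⟩ := h.nd₁.exists_ne hu
      obtain ⟨t, e⟩ := k (v := p) (w := v') u (y v m) a3.2
      obtain ⟨t', e'⟩ := k (v := v) (w := q) u (-(S₁.B u' u)⁻¹ • u') a4.1
      have h5 : _ ∈ S.EA G hq := ⟨0, t', e'⟩
      have h4 := EA_conj' e (eich_mem t) (eich_fix t (by simp [h.B]) (perp_symm (by
        rw [h.B, h.adj, hm, zero_mul]))) h5
      convert add_mem h2 (sub_mem h4 h5) using 1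
      simp [eich_apply, h.B, *]
    · obtain rfl : l = 0 := orthParam_π_zero.1 (t.rep.symm.trans S.q_zero)
      convert one_mem G
      exact LinearEquiv.ext fun m => by simp [eich_apply]
  obtain ⟨p, q, a1, -⟩ := hyp2 h.nd₂ h.five 0 0
  obtain ⟨u, hu⟩ := h.exists_ne
  obtain ⟨u', h3⟩ := h.nd₁.exists_ne hu
  exact h.nd.EG_le_of_opp (e := j p u) (f := j q u') (S.q_eq_zero_iff.2 (h.Q _ _)) (S.q_eq_zero_iff.2 (h.Q _ _))
    (by simp [h.B, h3, a1]) (key (by rintro rfl; simp at a1) hu)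
    (key (by rintro rfl; simp at a1) (by rintro rfl; simp at h3))

end ST
end CfsgH9.TX
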