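import Cfsg.Agent.H9.SX2
import Cfsg.Agent.H5.As19

/-! Overgroups of a tensor product of symplectic groups in an orthogonal group: scalar level. -/

set_option autoImplicit false

namespace CfsgH9.TX.ST
open Module CfsgH5 CfsgH5.Form

attribute [local simp] sp_self

variable {F : Type*} [Field F] {V U W : Type*} [AddCommGroup V] [Module F V] [AddCommGroup U] [Module F U]
  [AddCommGroup W] [Module F W] {G : Subgroup (V ≃ₗ[F] V)} {f f' : V →ₗ[F] V} {g z : V ≃ₗ[F] V}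
  {S : Form (orthParam F) V} {S₁ : Form (spParam F) U} {S₂ : Form (spParam F) W}
  [FiniteDimensional F V] [FiniteDimensional F U] [FiniteDimensional F W]
  {j : W →ₗ[F] U →ₗ[F] V} {x : Dual F W →ₗ[F] V →ₗ[F] U} {y : W →ₗ[F] V →ₗ[F] U} {v w v' e a : W} {r : U →ₗ[F] U}
  (h : ST j x y S S₁ S₂ G) (hR : ∀ r ∈ h.lev, ∃ c : F, r = c • 1)
include h hR

theorem B1 (hf : E G f) (he : e ≠ 0) (h1 : ∀ m, y e (f m) = 0)
    (h2 : ∀ m, y e m = 0 → ∀ a, S₂.B a e = 0 → y a (f m) = 0) (ha : S₂.B a e = 0) :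
    (∃ d : F, ∀ m, y a (f m) = d • y e m) ∧ ∃ d : F, ∀ u, f (j a u) = d • j e u := by
  by_cases h0 : a ∈ Submodule.span F {e}
  · obtain ⟨t, rfl⟩ := Submodule.mem_span_singleton.1 h0
    refine ⟨⟨0, by simp [h1]⟩, 0, fun u => ?_⟩
    have : f (j e u) = 0 := h.nd.left fun m => by rw [hf.skew h.hI, S.orth_symm, ← h.adj, h1]; simp
    simp [this]
  obtain ⟨e', h3⟩ := h.one he
  obtain ⟨χ, h4⟩ := exists_dual_one (F := F) he
  have F1 : ∀ {b}, S₂.B b e = 0 → ∀ u, f (j b u) = j e ((x χ ∘ₗ f ∘ₗ j b) u) := fun hb u =>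
    h.mem_line h4 fun ψ a => let ⟨w, c, d⟩ := h.exy ψ
      d ▸ h2 _ (by simp [h.ey, hb]) w (perp_symm (c e ▸ a))
  have F2 : ∀ m, y a (f m) = (y a ∘ₗ f ∘ₗ j e') (y e m) := fun m => by
    simpa [sub_eq_zero] using h2 (m - j e' (y e m)) (by simp [h.ey, h3]) a ha
  obtain ⟨p, q, a1, a2, a3, a4, a5⟩ := hyp2 h.nd₂ h.five a e
  have F3 := F1 ha
  have F4 := F1 a3.1
  have F5 := F1 a5.1
  have F6 := perp_symm ha
  generalize x χ ∘ₗ f ∘ₗ j a = ν at F3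
  generalize x χ ∘ₗ f ∘ₗ j p = ν₁ at F4
  generalize x χ ∘ₗ f ∘ₗ j q = ν₂ at F5
  generalize y a ∘ₗ f ∘ₗ j e' = r at F2
  clear F1 h1 h2 h3 h4
  have := h.mem_Lv (r := r) (ν := -ν) he h0 ha (((hf.comm3 (h.T2 a2.1) (by simp [h.ey, *])).comm3 (h.T2 a4.2)
    (by simp [h.ey, *])).congr fun m => by simp [h.ey, *]; abel)
  obtain ⟨d, rfl⟩ := hR r ⟨_, this⟩
  obtain ⟨d', e⟩ := hR _ ⟨_, Lv_symm this⟩
  exact ⟨⟨d, F2⟩, -d', by simp [F3, neg_eq_iff_eq_neg.1 e]⟩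

theorem sc1 (hv : v ≠ 0) (hf : E G (j v ∘ₗ r ∘ₗ y v)) : ∃ c : F, r = c • 1 := by
  have k : ∀ w, w ≠ 0 → E G (j w ∘ₗ r ∘ₗ y w) := fun w hw => by
    obtain ⟨s, a1, rfl⟩ := h.nd₂.witt_vec hv hw (spParam_eq _ _)
    obtain ⟨g, c1, c2, c3⟩ := h.lift a1
    exact (hf.cj c1).congr fun m => by simp [c2, c3]
  obtain ⟨p, q, a1, a2, -, a4, -⟩ := hyp2 h.nd₂ h.five v 0
  have p0 : p ≠ 0 := by rintro rfl; simp at a1
  refine hR r ⟨r, h.mem_Lv p0 (fun e => ?_) a2.2 ((((k (v + p) fun e => by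
    simpa [a1, a4] using congrArg (S₂.B · q) e).add hf.neg (by simp [h.ey, a2]) (by simp [h.ey, a2])).add (k p p0).neg
    (by simp [h.ey, a2]) (by simp [h.ey, a2])).congr fun m => by simp; abel)⟩
  obtain ⟨c, rfl⟩ := Submodule.mem_span_singleton.1 e
  simp_all

theorem pstep (hg : g ∈ G) (hv : v ≠ 0) {c : U ≃ₗ[F] U} (H : ∀ u, g (j v u) = j v' (c u)) (ha : S₂.B a v = 0) :
    ∃ a', ∀ u, g (j a u) = j a' (c u) := by
  by_cases h0 : a ∈ Submodule.span F {v}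
  · obtain ⟨t, rfl⟩ := Submodule.mem_span_singleton.1 h0
    exact ⟨t • v', by simp [H]⟩
  obtain ⟨u₀, hu⟩ := h.exists_ne
  have hv' : v' ≠ 0 := fun e => by simpa [e, h.eq_zero_iff, hv, hu] using H u₀
  obtain ⟨v₁, h1⟩ := h.one hv'
  obtain ⟨v₀, h2⟩ := h.one hv
  have K : ∀ a m u, S₁.B (y a (g.symm m)) u = S.B m (g (j a u)) := fun a m u => by
    rw [h.adj, isom_B_right (h.hI hg)]; rfl
  have K1 : ∀ m, y v' m = 0 → y v (g.symm m) = 0 := fun m e => h.nd₁.left fun u => by simp [K, H, ← h.adj, e]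
  obtain ⟨l, K3⟩ : ∃ l : F, ∀ m, c (y v (g.symm m)) = l • y v' m := by
    have K2 : ∀ m, c (y v (g.symm m)) = (c ∘ₗ y v ∘ₗ g.symm ∘ₗ j v₁) (y v' m) := fun m => by
      simpa [sub_eq_zero] using K1 (m - j v₁ (y v' m)) (by simp [h.ey, h1])
    obtain ⟨l, e⟩ := h.sc1 hR hv' (r := c ∘ₗ y v ∘ₗ g.symm ∘ₗ j v₁) (((h.T1 v 1).cj hg).congr fun m => by
      simp [H, K2 m])
    exact ⟨l, fun m => by simp [K2, e]⟩
  have K5 : ∀ u, l • y v' (g (j v₀ u)) = c u := fun u => by simp [← K3, h.ey, h2]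
  have hl : l ≠ 0 := fun e => hu (by simpa [e] using (K5 u₀).symm)
  have K4 : ∀ u' u, S₁.B (c u') (c u) = l * S₁.B u' u := fun u' u => by
    rw [← K5, smul_left, h.adj, ← H, isom_B (h.hI hg), h.B, h2, mul_one]
  have K6 : ∀ u, y v' (g (j a u)) = 0 := fun u => by simpa [h.ey, ha, hl] using (K3 (g (j a u))).symm
  obtain ⟨a₁, K7⟩ := h.exists_of_dual (y := g ∘ₗ j a ∘ₗ c.symm + j v' ∘ₗ y v₁ ∘ₗ g ∘ₗ j a ∘ₗ c.symm) fun ψ => by
    obtain ⟨w, -, e⟩ := h.exy ψ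
    have h3 : S₂.B (w - S₂.B w v' • v₁) v' = 0 := by simp [h1]
    obtain ⟨⟨d, e'⟩, -⟩ := h.B1 hR ((h.T2 ha).cj hg) hv' (by simp [K6, H, h.ey])
      (fun m a b c => by simp [K1 m a, H, h.ey, perp_symm c]) h3
    refine ⟨d / l, LinearMap.ext fun u => ?_⟩
    obtain ⟨u, rfl⟩ := c.surjective u
    have := e' (g (j v₀ u))
    simp only [LinearMap.comp_apply, LinearEquiv.coe_coe, LinearEquiv.symm_apply_apply, LinearMap.add_apply, h.ey, h2,
      map_add, map_smul, H, perp_symm h3, one_smul, zero_smul, smul_zero, add_zero] at this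
    simp only [e, LinearMap.comp_apply, LinearEquiv.coe_coe, LinearEquiv.symm_apply_apply, LinearMap.add_apply, h.ey,
      map_add, LinearMap.smul_apply, End.one_apply]
    rw [← K5 u, smul_smul, div_mul_cancel₀ _ hl, ← this]
    simp [S₂.sp_skew w v', sub_eq_add_neg]
  obtain ⟨μ, K8⟩ : ∃ μ : U →ₗ[F] U, ∀ u, g (j a u) = j a₁ (c u) + j v' (μ (c u)) :=
    ⟨-(y v₁ ∘ₗ g ∘ₗ j a ∘ₗ c.symm), fun u => by simp [← K7]⟩
  have h3 : S₂.B a₁ v' = 0 := by simpa [K8, h.ey, hu] using K6 u₀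
  obtain ⟨a', h4, h5⟩ := h.nd₂.exists_sep (Submodule.span F {v'}) (x := a₁) fun e => by
    obtain ⟨t, rfl⟩ := Submodule.mem_span_singleton.1 e
    obtain ⟨χ, b1, b2⟩ := exists_dual_pair h0
    have := congrArg (x χ) (g.injective ((K8 u₀).trans
      (by simp [H] : _ = g (j v (c.symm (t • c u₀ + μ (c u₀)))))))
    exact hu (by simpa [h.ex, b1, b2] using this)
  replace h4 := h4 v' (Submodule.mem_span_singleton_self _)
  have K9 : ∀ m, y v' m = 0 → c (y a (g.symm m)) = l • y a₁ m := fun m e => sub_eq_zero.1 (h.nd₁.left fun u => by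
    obtain ⟨u, rfl⟩ := c.surjective u
    simp [K4, K, K8, ← h.adj, e])
  obtain ⟨-, d, e⟩ := h.B1 hR (((h.T1 a 1).cj hg).add (h.T1 a₁ (-l)) (fun m => by
    simpa [h.eq_zero_iff, hl] using .inr (by simpa [h.ey] using K9 (j a₁ (y a₁ m)) (by simp [h.ey, h3])))
    (by simp [K8, h.ey, perp_symm h3])) hv' (by simp [K6, h.ey, h3])
    (fun m a b c => by simp [K8, K9 m a, h.ey, perp_symm c]) (perp_symm h4)
  refine ⟨a₁ - (d / l) • v', fun u => ?_⟩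
  have := e (c u)
  simp [K8, K9 (j a' (c u)) (by simp [h.ey, perp_symm h4]), h.ey, herm_one h5] at this
  rw [K8, ← inv_smul_smul₀ hl (j v' _), ← neg_neg (l • _), this]
  simp [div_eq_inv_mul, mul_smul, sub_eq_add_neg]

theorem point (hg : g ∈ G) (hv : v ≠ 0) {c : U ≃ₗ[F] U} (H : ∀ u, g (j v u) = j v' (c u)) : Rat j g :=
  h.rat fun w => by
    obtain ⟨p, q, a1, a2, a3, -⟩ := hyp2 h.nd₂ h.five v w
    obtain ⟨p', e⟩ := h.pstep hR hg hv H a2.1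
    exact h.pstep hR hg (by rintro rfl; simp at a1) e a3.2

theorem inc (hg : g ∈ G) (hv : v ≠ 0) (hw : w ≠ 0) (h0 : ∀ u, y w (g (j v u)) = 0) : Rat j g := by
  obtain ⟨-, b, b1, b2⟩ := (h.T1 v 1).cj hg
  replace b2 : ∀ m, b m = m + g (j v (y v (g.symm m))) := by simpa using b2
  have h1 : ∀ u, b (j w u) = j w u := fun u => by
    have : y v (g.symm (j w u)) = 0 := h.nd₁.left fun u' => by
      rw [h.adj, ← isom_B (h.hI hg), g.apply_symm_apply, S.orth_symm, ← h.adj, h0]; simp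
    simp [b2, this]
  obtain ⟨u₀, hu⟩ := h.exists_ne
  obtain ⟨w', h2, h3⟩ := (h.scal (h.point hR b1 hw (c := 1) h1) fun u => ⟨w, hw, h1 u⟩).2 fun e => by
    obtain ⟨m, rfl⟩ := h.y_sur hv u₀
    simpa [e, h.eq_zero_iff, hv, hu] using b2 (g m)
  obtain ⟨χ, h4⟩ := exists_dual_one (F := F) hv
  have h5 : ∀ u, g (j v ((x χ ∘ₗ g.symm.toLinearMap ∘ₗ j w') u)) = j w' u := fun u => by
    obtain ⟨m, e⟩ := h3 u
    simp [← e, b2, h.ex, h4]
  let c := LinearEquiv.ofInjectiveEndo (x χ ∘ₗ g.symm.toLinearMap ∘ₗ j w') ((injective_iff_map_eq_zero _).2 fun a b => by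
    simpa [b, h.eq_zero_iff, h2] using (h5 a).symm)
  replace h5 : ∀ u, g (j v (c u)) = j w' u := h5
  exact h.point hR hg hv (v' := w') (c := c.symm) fun u => by rw [← h5, c.apply_symm_apply]

omit hR in
theorem scal' (hz : Rat j z) (H : ∀ u, ∃ y, y ≠ 0 ∧ z (j y u) = j y u) : ∃ w, w ≠ 0 ∧ ∀ m, y w (z m - m) = 0 :=
  let ⟨ψ, a, b⟩ := (h.scal hz H).1
  let ⟨w, c, d⟩ := h.exy ψ
  ⟨w, fun e => a (LinearMap.ext (by simp [c, e])), d ▸ b⟩

omit hR in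
theorem not_rat' : ∃ g ∈ S.EG, ¬ Rat j g := by
  obtain ⟨p, q, a1, -⟩ := hyp2 h.nd₂ h.five 0 0
  obtain ⟨p', q', a2, a3, a4, a5, a6⟩ := hyp2 h.nd₂ h.five p q
  obtain ⟨u, hu⟩ := h.exists_ne
  obtain ⟨u', h3⟩ := h.nd₁.exists_ne hu
  have t : S.IsEich (j p u) (j p' u) 0 := ⟨S.q_eq_zero_iff.2 (h.Q _ _), by simp [h.B, a3], S.q_eq_π_iff.2 (h.Q _ _)⟩
  refine ⟨_, eich_mem_EG t, fun ⟨c, B, e⟩ => ?_⟩
  have h4 := congrArg (y p) (e q u')
  have h5 := congrArg (y q') (e q u')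
  simp only [eich_apply, map_add, map_sub, map_smul, h.ey, h.B, a1, a2, a3, a4, a5, a6, sp_self, zero_smul, smul_zero,
    add_zero, sub_zero, zero_add] at h4 h5
  simpa [h3] using congrArg₂ S₁.B h4 h5

variable [Finite F]

theorem pure (hg : g ∈ G) (hv : v ≠ 0) (u : U) : ∃ w u', g (j v u) = j w u' := by
  by_cases hu : u = 0
  · exact ⟨0, 0, by simp [hu]⟩
  obtain ⟨w, b1, b2⟩ := exists_ker h.lt (y.flip (g (j v u)))
  replace b2 : y w (g (j v u)) = 0 := b2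
  have T : ∀ w, E G (j w ∘ₗ y w) := fun w => (h.T1 w 1).congr (by simp)
  have c1 : ∀ {f}, E G f → f (g (j v u)) = 0 → E (G ⊓ fixer F {g (j v u)}) f := fun ⟨a, k, b, c⟩ e =>
    ⟨a, k, ⟨b, fun y hy => by rw [hy, c, e, add_zero]⟩, c⟩
  obtain ⟨k, ⟨k1, k2⟩, z, ⟨z1, -⟩, z2, z3, z4, z5⟩ := exists_z (c1 (T w) (by simp [b2]))
    (c1 ((T v).cj hg) (by simp [h.ey])) fun e => by
      obtain ⟨m, rfl⟩ := h.y_sur b1 u
      exact hu (by simpa [h.eq_zero_iff, b1] using LinearMap.congr_fun e m)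
  rw [← k2 _ rfl]
  replace k2 : (k * g) (j v u) = g (j v u) := k2 _ rfl
  replace z4 : ∀ m, z ((k * g) (j v (y v ((k * g).symm m)))) = (k * g) (j v (y v ((k * g).symm (z m)))) := z4
  replace z5 : ∀ m, j w (y w m) = 0 → j w (y w ((k * g) (j v (y v ((k * g).symm m))))) = 0 → z m = m := z5
  replace k1 := mul_mem k1 hg
  change ∃ w u', (k * g) (j v u) = j w u'
  rw [← k2] at b2
  generalize k * g = g at *
  have r1 : Rat j z := h.inc hR z1 b1 b1 fun u => by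
    obtain ⟨m, rfl⟩ := h.y_sur b1 u
    simpa [h.ey] using congrArg (y w) (z3 m)
  have r0 : ∀ u', ∃ a, a ≠ 0 ∧ z (j a u') = j a u' := fun u' => by
    have i1 := (y w ∘ₗ g.toLinearMap ∘ₗ j v).finrank_range_add_finrank_ker
    have i2 := Submodule.one_le_finrank_iff.2 (fun e => hu (e.le b2) : LinearMap.ker (y w ∘ₗ g.toLinearMap ∘ₗ j v) ≠ ⊥)
    obtain ⟨a, i3, i4⟩ := exists_ker (by have := h.lt; rw [finrank_prod, finrank_self]; omega)
      ((S₂.lin w).prod ((y w ∘ₗ g.toLinearMap ∘ₗ j v).rangeRestrict ∘ₗ y v ∘ₗ g.symm.toLinearMap ∘ₗ j.flip u'))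
    obtain ⟨i5, i6⟩ := Prod.mk_eq_zero.1 i4
    exact ⟨a, i3, z5 _ (by simp [h.ey, show S₂.B a w = 0 from i5])
      ((congrArg (j w) (congrArg Subtype.val i6)).trans (map_zero _))⟩
  obtain ⟨w₂, r2, r3⟩ := h.scal' r1 r0
  obtain ⟨w', r5, r6⟩ := (h.scal r1 r0).2 z2
  obtain ⟨-, b, b5, b6⟩ := (T v).cj k1
  replace b6 : ∀ m, b m = m + g (j v (y v (g.symm m))) := b6
  have r7 : Rat j b := h.inc hR b5 r5 r2 fun u => by
    obtain ⟨m, e⟩ := r6 u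
    rw [← e, map_sub b, b6, b6, ← z4, ← map_add z, r3]
  obtain ⟨w₃, r8, r9⟩ := h.scal' r7 fun u' =>
    let ⟨a, i1, i2⟩ := exists_ker h.lt (y v ∘ₗ g.symm.toLinearMap ∘ₗ j.flip u')
    ⟨a, i1, by rw [b6, show y v (g.symm (j a u')) = 0 from i2]; simp⟩
  obtain ⟨c, B, e⟩ := h.inc hR k1 hv r8 fun u => by
    obtain ⟨m, rfl⟩ := h.y_sur hv u
    simpa [b6] using r9 (g m)
  exact ⟨_, _, e v u⟩

theorem rat_all (hg : g ∈ G) : Rat j g := by
  obtain ⟨v, hv, -⟩ := exists_ker_two h.d3 (0 : Dual F W) 0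
  choose w u e using h.pure hR hg hv
  obtain ⟨a, h1, h2⟩ := exists_ker (U := Fin (finrank F U) → F) (by simpa using h.lt)
    (LinearMap.pi fun i => S₂.lin (w (finBasis F U i)))
  exact h.inc hR hg hv h1 (LinearMap.congr_fun ((finBasis F U).ext fun i => by
    simp [e, h.ey, perp_symm (show S₂.B a (w _) = 0 from congrFun h2 i)] : y a ∘ₗ g.toLinearMap ∘ₗ j v = 0))

omit hR in
theorem main (hq : 4 ≤ finrank F U ∨ ∃ c : F, c ≠ 0 ∧ c ≠ 1) (hg : g ∈ G) (hn : ¬ Rat j g) : S.EG ≤ G := by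
  by_cases hR : ∀ r ∈ h.lev, ∃ c : F, r = c • 1
  · exact (hn (h.rat_all hR hg)).elim
  push Not at hR
  obtain ⟨r, h1, h2⟩ := hR
  exact h.EG_le (h.rank_one hq h1 h2)

end CfsgH9.TX.ST

open Module Matrix CfsgH5 CfsgH5.Form Cfsg Cfsg.Geo CfsgH9.TX in
theorem CfsgH9.TX.isMaximalIn_sp_sp {F : Type*} [Field F] [Fintype F] {n : ℕ} (hn : 13 ≤ n) {Q : (Fin n → F) → F}
    (hQ : IsNondegenerateQuadraticForm Q) {a b : ℕ} (h12 : a < b) (hex : ¬ (Fintype.card F = 2 ∧ a = 2))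
    {e : Fin n ≃ Fin a × Fin b} {P : GL (Fin n) F} {f₁ : (Fin a → F) → (Fin a → F) → F}
    {f₂ : (Fin b → F) → (Fin b → F) → F} (hf₁ : IsSymplecticForm f₁) (hf₂ : IsSymplecticForm f₂)
    (hT : IsTensorFormStructure id (QuadraticMap.polar Q) f₁ f₂ e P) (hp : ∀ u w, Q (frV e P (CfsgH5.tv u w)) = 0) :
    IsMaximalIn (omegaGL Q) (tensorProductSubgroup a b e P ⊓ omegaGL Q) := by
  have hS := geoForm_nondeg hQ
  obtain ⟨c, hc, hB⟩ : ∃ c : F, c ≠ 0 ∧ ∀ w u w' u', QuadraticMap.polar Q (jT e P w u) (jT e P w' u') =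
      c * (f₁ u u' * f₂ w w') := by
    obtain ⟨S, hσ, h⟩ := exists_sform_Q hQ
    obtain ⟨S₁, rfl, h1, -⟩ := exists_sform_symp hf₁
    obtain ⟨S₂, rfl, h3, -⟩ := exists_sform_symp hf₂
    obtain ⟨c, h5⟩ := tf_of_isTensor (S := S) (h1.trans hσ.symm) (h3.trans hσ.symm)
      (by rw [hσ, ← h.polar_eq]; exact hT)
    exact ⟨c, h5.ne, fun w u w' u' => by rw [← h5.f_tv, S.frame_f, h.polar_eq]; rfl⟩
  rw [polar_eq_B (geoForm_Q hQ)] at hB
  let S₁ := ofAlt (fun u u' => c * f₁ u u') (fun _ _ _ => by rw [hf₁.bilinear.add_left, mul_add])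
    (fun _ _ _ => by rw [hf₁.bilinear.smul_left, mul_left_comm]) (fun _ _ => by rw [hf₁.skew, mul_neg])
    fun _ => by rw [hf₁.alternating, mul_zero]
  let S₂ := ofAlt f₂ hf₂.bilinear.add_left hf₂.bilinear.smul_left (fun _ _ => hf₂.skew _ _) hf₂.alternating
  have n1 : S₁.Nondeg := fun u hu => by_contra fun h0 =>
    let ⟨y, hy⟩ := (hf₁.nondegenerate u h0).1; mul_ne_zero hc hy (hu y)
  have n2 : S₂.Nondeg := fun u hu => by_contra fun h0 => let ⟨y, hy⟩ := (hf₂.nondegenerate u h0).1; hy (hu y)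
  obtain ⟨a, rfl⟩ : Even a := by simpa using n1.sp_even
  obtain ⟨b, rfl⟩ : Even b := by simpa using n2.sp_even
  have hd : n = (a + a) * (b + b) := by simpa using Fintype.card_congr e
  have ha : 2 ≤ a + a := by rcases a with _ | a <;> simp_all <;> omega
  have hb : 4 < b + b := by by_contra! h; nlinarith
  have ht := ts e P ha h12
  have st : ∀ {G}, G ≤ (geoForm hQ).isom → (∀ g ∈ (geoForm hQ).EG, Rat (jT e P) g → g ∈ G) → ST (jT e P) (xT e P)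
      (xT e P ∘ₗ ⟨⟨S₂.lin, fun _ _ => LinearMap.ext fun _ => S₂.add_right ..⟩,
        fun _ _ => LinearMap.ext fun _ => S₂.smul_right ..⟩) (geoForm hQ) S₁ S₂ G := fun h1 h2 =>
    ⟨ht, fun _ => rfl, hS, n1, n2, fun w u w' u' => (hB w u w' u').trans (mul_assoc ..).symm,
      fun w u => (geoForm_Q hQ _).trans (hp u w), by simpa, h1, h2⟩
  refine isMaximalIn_gl (omegaGL_eq' (geoForm_Q hQ) hS (by simp; omega)) _ (mem_iff e P) ?_ fun N h1 h2 g hg hn =>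
    (st (h2.trans EG_le_isom) h1).main ?_ hg hn
  · exact (st EG_le_isom fun _ a _ => a).not_rat'
  · by_contra! h
    refine hex ⟨le_antisymm ?_ Fintype.one_lt_card, by simp at h; omega⟩
    classical
    exact (Finset.card_le_card (t := {0, 1}) fun c _ => by
      by_cases e : c = 0 <;> simp [e, h.2 c]).trans Finset.card_le_two
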