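import Mathlib

/-! Glauberman's generalisation of the Tutte–Sims bound. -/

set_option autoImplicit false
open Subgroup
open scoped commutatorElement Pointwise

namespace CfsgH9.Sims

variable {G : Type*} [Group G] {p : ℕ}

/-- `R` cuts out a normal subgroup of index `p` of `Q`. -/
def Adj (p : ℕ) (Q R : Subgroup G) : Prop := (R.subgroupOf Q).Normal ∧ R.relIndex Q = p

theorem Adj.gen (hp : p.Prime) {Q R H C : Subgroup G} (h : Adj p Q R) (hH : H ≤ Q)
    (h1 : H ⊓ R ≤ C) {w : G} (w1 : w ∈ H) (w2 : w ∈ C) (w3 : w ∉ R) : H ≤ C := fun y hy => by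
  haveI := h.1
  haveI := Fact.mk hp
  obtain ⟨k, e⟩ := mem_zpowers_of_prime_card (G := Q ⧸ R.subgroupOf Q) (p := p) h.2
    (g := (⟨w, hH w1⟩ : Q)) (g' := (⟨y, hH hy⟩ : Q)) fun e => w3 ((QuotientGroup.eq_one_iff (N := R.subgroupOf Q) (⟨w, hH w1⟩ : Q)).1 e)
  have : (w ^ k)⁻¹ * y ∈ R := (QuotientGroup.eq (s := R.subgroupOf Q) (a := (⟨w, hH w1⟩ : Q) ^ k)
    (b := ⟨y, hH hy⟩)).1 e
  exact (C.mul_mem_cancel_left (C.inv_mem (C.zpow_mem w2 k))).1
    (h1 ⟨H.mul_mem (H.inv_mem (H.zpow_mem w1 k)) hy, this⟩)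

theorem Adj.comm (hp : p.Prime) {Q R : Subgroup G} (h : Adj p Q R) {a b : G} (ha : a ∈ Q)
    (hb : b ∈ Q) : ⁅a, b⁆ ∈ R := by
  haveI := h.1
  haveI := Fact.mk hp
  haveI := isCyclic_of_prime_card (α := Q ⧸ R.subgroupOf Q) (p := p) h.2
  have : ⁅(⟨a, ha⟩ : Q), (⟨b, hb⟩ : Q)⁆ ∈ R.subgroupOf Q := by
    rw [← QuotientGroup.eq_one_iff, ← QuotientGroup.mk'_apply, map_commutatorElement,
      commutatorElement_eq_one_iff_mul_comm]
    exact IsCyclic.commutative.is_comm.comm _ _
  exact this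

theorem Adj.pow {Q R : Subgroup G} (h : Adj p Q R) {a : G} (ha : a ∈ Q) : a ^ p ∈ R := by
  haveI := h.1
  have := (R.subgroupOf Q).pow_index_mem ⟨a, ha⟩
  rwa [show (R.subgroupOf Q).index = p from h.2] at this

theorem Adj.card (hp : p.Prime) {Q R H : Subgroup G} (h : Adj p Q R) (hH : H ≤ Q) (n : ¬ H ≤ R) :
    Nat.card H = p * Nat.card (H ⊓ R : Subgroup G) := by
  haveI := h.1
  have h1 : R.relIndex H ∣ p := by
    rw [← relIndex_subgroupOf hH, ← h.2]
    exact relIndex_dvd_index_of_normal _ _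
  rw [← ((Nat.dvd_prime hp).1 h1).resolve_left fun e => n (relIndex_eq_one.1 e),
    ← inf_relIndex_left, mul_comm, ← relIndex_bot_left, ← relIndex_bot_left,
    relIndex_mul_relIndex _ _ _ bot_le inf_le_left]

theorem Adj.comap {Q R : Subgroup G} (h : Adj p Q R) (e : G ≃* G) :
    Adj p (Q.comap e.toMonoidHom) (R.comap e.toMonoidHom) :=
  ⟨⟨fun a ha b => h.1.conj_mem ⟨e a, a.2⟩ ha ⟨e b, b.2⟩ |> fun q => by
    show e (b * a * (b : G)⁻¹) ∈ R
    simpa [mem_subgroupOf] using q⟩, by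
    rw [relIndex_comap, map_comap_eq_self_of_surjective e.surjective, h.2]⟩

variable (P : Subgroup G) (g : G)

/-- The conjugates of `P` under powers of `g`. -/
def Pz (j : ℤ) : Subgroup G := P.comap (MulAut.conj (g ^ j)).toMonoidHom

/-- Conjugation by powers of `g`. -/
def sg (k : ℤ) : G ≃* G := MulAut.conj (g ^ (-k))

/-- Intersections of consecutive conjugates. -/
def I (a b : ℤ) : Subgroup G := ⨅ j ∈ Set.Icc a b, Pz P g j

variable {P g}

theorem mem_I {a b : ℤ} {y : G} : y ∈ I P g a b ↔ ∀ j, a ≤ j → j ≤ b → y ∈ Pz P g j := by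
  simp [I, mem_iInf]

theorem sg_mem {j k : ℤ} {y : G} : sg g k y ∈ Pz P g j ↔ y ∈ Pz P g (j - k) := by
  simp only [Pz, sg, mem_comap, MulEquiv.coe_toMonoidHom, MulAut.conj_apply]
  rw [show g ^ j * (g ^ (-k) * y * (g ^ (-k))⁻¹) * (g ^ j)⁻¹ = g ^ (j - k) * y * (g ^ (j - k))⁻¹ by
    group]

theorem sg_sg (j k : ℤ) (y : G) : sg g j (sg g k y) = sg g (j + k) y := by
  simp only [sg, MulAut.conj_apply]
  group

theorem Pz_comap (j k : ℤ) : (Pz P g j).comap (sg g k).toMonoidHom = Pz P g (j - k) :=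
  Subgroup.ext fun _ => sg_mem

theorem I_comap (a b k : ℤ) : (I P g a b).comap (sg g k).toMonoidHom = I P g (a - k) (b - k) :=
  Subgroup.ext fun y => by
    rw [mem_comap, mem_I, mem_I]
    exact ⟨fun h j h1 h2 => by
      have := sg_mem.1 (h (j + k) (by omega) (by omega))
      rwa [add_sub_cancel_right] at this, fun h j h1 h2 => sg_mem.2 (h _ (by omega) (by omega))⟩

theorem card_comap (H : Subgroup G) (e : G ≃* G) : Nat.card (H.comap e.toMonoidHom) = Nat.card H :=
  Nat.card_congr (e.toEquiv.subtypeEquiv fun _ => Iff.rfl)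

theorem Pz_zero : Pz P g 0 = P := Subgroup.ext fun y => by simp [Pz]

theorem Pz_eq (i : ℕ) : MulAut.conj (g ^ i)⁻¹ • P = Pz P g i := Subgroup.ext fun y => by
  simp [Pz, mem_pointwise_smul_iff_inv_smul_mem]

theorem I_right {a b : ℤ} (h : a ≤ b + 1) : I P g a b ⊓ Pz P g (b + 1) = I P g a (b + 1) :=
  Subgroup.ext fun y => by
    rw [mem_inf, mem_I, mem_I]
    refine ⟨fun q j h1 h2 => ?_, fun q => ⟨fun j h1 h2 => q j h1 (by omega), q _ h le_rfl⟩⟩
    rcases h2.eq_or_lt with rfl | h2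
    · exact q.2
    · exact q.1 j h1 (by omega)

theorem I_left {a b : ℤ} (h : a - 1 ≤ b) : I P g a b ⊓ Pz P g (a - 1) = I P g (a - 1) b :=
  Subgroup.ext fun y => by
    rw [mem_inf, mem_I, mem_I]
    refine ⟨fun q j h1 h2 => ?_, fun q => ⟨fun j h1 h2 => q j (by omega) h2, q _ le_rfl h⟩⟩
    rcases h1.eq_or_lt with rfl | h1
    · exact q.2
    · exact q.1 j (by omega) h2

theorem I_le {a b j : ℤ} (h1 : a ≤ j) (h2 : j ≤ b) : I P g a b ≤ Pz P g j :=
  fun _ h => mem_I.1 h j h1 h2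

variable [Finite G]

theorem eq_bot_of (h1 : ∀ Q : Subgroup G, Q ≤ P → (Q.subgroupOf P).Normal →
    MulAut.conj g • Q = Q → Q = ⊥) {Q : Subgroup G} (h2 : Q ≤ P) (h3 : P ≤ normalizer (Q : Set G))
    (h4 : ∀ y ∈ Q, sg g 1 y ∈ Q) : Q = ⊥ := by
  refine h1 Q h2 ((normal_subgroupOf_iff_le_normalizer h2).2 h3) ?_
  have : g⁻¹ ∈ normalizer (Q : Set G) := mem_normalizer_fintype fun y hy => by
    simpa [sg] using h4 y hy
  exact Subgroup.ext fun y => by
    rw [mem_pointwise_smul_iff_inv_smul_mem]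
    simpa using (mem_normalizer_iff.1 this y).symm

theorem pgroup (hp : p.Prime) (h : Adj p (Pz P g 1) P) (h1 : ∀ Q : Subgroup G, Q ≤ P →
    (Q.subgroupOf P).Normal → MulAut.conj g • Q = Q → Q = ⊥) : IsPGroup p P := by
  haveI := Fact.mk hp
  let S : Set G := {y | y ∈ P ∧ (orderOf y).Coprime p}
  have e : closure S = ⊥ := by
    refine eq_bot_of h1 ((closure_le _).2 fun y hy => hy.1) (fun a ha => mem_normalizer_fintype ?_) ?_
    · exact (closure_le ((closure S).comap (MulAut.conj a).toMonoidHom)).2 fun y hy =>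
        subset_closure ⟨P.mul_mem (P.mul_mem ha hy.1) (P.inv_mem ha), by
          rw [MulEquiv.coe_toMonoidHom, MulEquiv.orderOf_eq]; exact hy.2⟩
    · refine (closure_le ((closure S).comap (sg g 1).toMonoidHom)).2 fun y hy =>
        subset_closure ⟨?_, by rw [MulEquiv.coe_toMonoidHom, MulEquiv.orderOf_eq]; exact hy.2⟩
      obtain ⟨m, e⟩ := exists_pow_eq_self_of_coprime (x := sg g 1 y) (n := p)
        (by rw [MulEquiv.orderOf_eq]; exact hy.2.symm)
      rw [MulEquiv.coe_toMonoidHom, ← e]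
      exact P.pow_mem (h.pow (sg_mem.2 (by rw [sub_self, Pz_zero]; exact hy.1))) m
  refine IsPGroup.iff_card.2 ⟨_, Nat.eq_prime_pow_of_unique_prime_dvd Nat.card_pos.ne'
    fun {q} hq hd => ?_⟩
  haveI := Fact.mk hq
  obtain ⟨y, hy⟩ := exists_prime_orderOf_dvd_card' q hd
  by_contra ne
  have : (y : G) ∈ closure S := subset_closure ⟨y.2, by
    rw [orderOf_coe, hy]; exact (Nat.coprime_primes hq hp).2 ne⟩
  rw [e, mem_bot] at this
  exact hq.one_lt.ne' (by rw [← hy, ← orderOf_coe, this, orderOf_one])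

theorem adj_rev (hp : p.Prime) (h : Adj p (Pz P g 1) P) (hP : IsPGroup p P) :
    Adj p P (Pz P g 1) := by
  haveI := Fact.mk hp
  have h1 : (Pz P g 1).relIndex P = p := by
    have e1 := relIndex_mul_relIndex ⊥ (P ⊓ Pz P g 1) P bot_le inf_le_left
    have e2 := relIndex_mul_relIndex ⊥ (P ⊓ Pz P g 1) _ bot_le inf_le_right
    rw [relIndex_bot_left, relIndex_bot_left, inf_relIndex_left] at e1
    rw [relIndex_bot_left, relIndex_bot_left, inf_relIndex_right, h.2,
      show Nat.card (Pz P g 1) = Nat.card P from card_comap P _, ← e1] at e2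
    exact (Nat.eq_of_mul_eq_mul_left Nat.card_pos e2).symm
  refine ⟨normal_of_index_eq_minFac_card ?_, h1⟩
  obtain ⟨n, e⟩ := IsPGroup.iff_card.1 hP
  have := ((Pz P g 1).subgroupOf P).index_dvd_card
  rw [show ((Pz P g 1).subgroupOf P).index = p from h1, e] at this ⊢
  rw [hp.pow_minFac (by rintro rfl; exact hp.one_lt.ne' (by simpa using this))]

theorem main (hp : p.Prime) (h : Adj p (Pz P g 1) P) {n : ℕ} (hn : 1 ≤ n)
    (h1 : ∀ Q : Subgroup G, Q ≤ P → (Q.subgroupOf P).Normal → MulAut.conj g • Q = Q → Q = ⊥)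
    (h2 : ∀ y ∈ P, (∀ i : ℕ, i ≤ n → Pz P g i ≤ centralizer {y}) → y = 1) :
    ∃ t : ℕ, Nat.card P = p ^ t ∧ 1 ≤ t ∧ t ≤ 3 * n ∧ t ≠ 3 * n - 1 := by
  classical
  have hr := adj_rev hp h (pgroup hp h h1)
  have aL : ∀ j, Adj p (Pz P g j) (Pz P g (j - 1)) := fun j => by
    have := h.comap (sg g (1 - j))
    rw [← Pz_zero (P := P) (g := g), Pz_comap, Pz_comap, Pz_zero] at this
    convert this using 2 <;> ring
  have aR : ∀ j, Adj p (Pz P g j) (Pz P g (j + 1)) := fun j => by
    have := hr.comap (sg g (-j))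
    rw [← Pz_zero (P := P) (g := g), Pz_comap, Pz_comap, Pz_zero] at this
    convert this using 2 <;> ring
  have cI : ∀ {a b : ℤ} {u w : G}, a ≤ b → u ∈ I P g a b → w ∈ I P g a b →
      ⁅u, w⁆ ∈ I P g (a - 1) (b + 1) := fun {a b u w} l hu hw => by
    rw [← I_left (by omega), ← I_right (by omega)]
    exact ⟨⟨(I P g a b).mul_mem (mul_mem (mul_mem hu hw) (inv_mem hu)) (inv_mem hw),
      (aR b).comm hp (I_le l le_rfl hu) (I_le l le_rfl hw)⟩,
      (aL a).comm hp (I_le le_rfl l hu) (I_le le_rfl l hw)⟩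
  have ex : ∃ m : ℕ, I P g 0 m ≤ Pz P g (m + 1) := by
    obtain ⟨m, hm⟩ := WellFoundedLT.antitone_chain_condition (f := fun m : ℕ => I P g 0 m)
      fun a b l y hy => mem_I.2 fun j h1 h2 => mem_I.1 hy j h1 (by omega)
    exact ⟨m, (hm (m + 1) m.le_succ).le.trans (I_le (by omega) (by omega))⟩
  obtain ⟨T, hT, hm⟩ : ∃ T : ℕ, I P g 0 T ≤ Pz P g (T + 1) ∧
      ∀ m : ℕ, m < T → ¬ I P g 0 m ≤ Pz P g (m + 1) :=
    ⟨_, Nat.find_spec ex, fun m => Nat.find_min ex⟩
  have I0 : ∀ j, I P g j j = Pz P g j := fun j => le_antisymm (I_le le_rfl le_rfl)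
    fun y hy => mem_I.2 fun k h1 h2 => le_antisymm h1 h2 ▸ hy
  have T1 : 1 ≤ T := Nat.pos_of_ne_zero (by
    rintro rfl
    have := (aR 0).2
    rw [Nat.cast_zero, I0] at hT
    rw [relIndex_eq_one.2 hT] at this
    exact hp.one_lt.ne this)
  have cd : ∀ m : ℕ, m ≤ T → Nat.card P = p ^ m * Nat.card (I P g 0 m) := fun m l => by
    induction m with
    | zero => simp [I0, Pz_zero]
    | succ m ih =>
      rw [ih (by omega), (aR m).card hp (I_le (by omega) le_rfl) (hm m l), I_right (by omega),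
        pow_succ, mul_assoc, Nat.cast_succ]
  set Q := I P g 0 T with hQ
  have q1 : I P g 1 (T + 1) = Q := by
    refine (eq_of_le_of_card_ge (fun y hy => mem_I.2 fun j h1 h2 => ?_) (le_of_eq ?_)).symm
    · exact I_le (by omega) h2 ((I_right (P := P) (g := g) (a := 0) (b := T) (by omega)).le ⟨hy, hT hy⟩)
    · rw [← card_comap _ (sg g 1), I_comap, sub_self, add_sub_cancel_right]
  have qa : ∀ a : ℤ, I P g a (a + T) = Q := fun a => by
    induction a using Int.induction_on with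
    | zero => rw [zero_add]
    | succ a ih =>
      have := congrArg (comap (sg g (-1)).toMonoidHom) ih
      rw [hQ, I_comap, I_comap] at this
      rw [← q1]
      convert this using 2 <;> ring
    | pred a ih =>
      have := congrArg (comap (sg g 1).toMonoidHom) (ih.trans q1.symm)
      rw [I_comap, I_comap] at this
      rw [hQ]
      convert this using 2 <;> ring
  obtain ⟨x₀, x1, x2⟩ := SetLike.not_le_iff_exists.1 (hm (T - 1) (by omega))
  rw [show ((T - 1 : ℕ) : ℤ) = T - 1 by omega] at x1 x2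
  let x : ℤ → G := fun k => sg g k x₀
  have xm : ∀ {k a b : ℤ}, k ≤ a → b < k + T → x k ∈ I P g a b := fun {k a b} l1 l2 =>
    mem_I.2 fun j h1 h2 => sg_mem.2 (mem_I.1 x1 _ (by omega) (by omega))
  have xR : ∀ k : ℤ, x k ∉ Pz P g (k + T - 1 + 1) := fun k e => x2 (by
    convert sg_mem.1 e using 2; ring)
  have xQ : ∀ k : ℤ, x k ∉ Q := fun k e => xR k (I_le (by omega) (by omega) (qa k ▸ e))
  have xL : ∀ k : ℤ, x k ∉ Pz P g (k - 1) := fun k e => xQ k (by
    rw [← qa (k - 1), ← I_left (by omega)]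
    exact ⟨xm le_rfl (by omega), e⟩)
  have gen : ∀ (C : Subgroup G) (a b : ℤ), Q ≤ C → a - 1 ≤ b → b < a + T →
      (∀ k, a ≤ k → k ≤ b → x k ∈ C) → I P g b (a + T - 1) ≤ C := fun C a b l1 l2 => by
    induction b, l2 using Int.le_induction with
    | base => exact fun _ _ => by rwa [show a + T - 1 = a - 1 + T by ring, qa]
    | succ b l ih =>
      intro l3 hk
      refine (aL (b + 1)).gen hp (I_le le_rfl (by omega)) ?_ (xm le_rfl (by omega))
        (hk _ (by omega) le_rfl) (xL _)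
      rw [I_left (by omega), add_sub_cancel_right]
      exact ih (by omega) fun k h1 h2 => hk k h1 (by omega)
  have genP : ∀ (C : Subgroup G) (j : ℤ), Q ≤ C → (∀ k, j - T < k → k ≤ j → x k ∈ C) →
      Pz P g j ≤ C := fun C j l hk => by
    have := gen C (j + 1 - T) j l (by omega) (by omega) fun k h1 h2 => hk k (by omega) h2
    rwa [show j + 1 - T + T - 1 = j by ring, I0] at this
  have Q0 : Q = ⊥ := by
    refine eq_bot_of h1 (Pz_zero (P := P) (g := g) ▸ I_le le_rfl (by omega))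
      (Pz_zero (P := P) (g := g) ▸ genP _ 0 le_normalizer fun k _ _ =>
        mem_normalizer_fintype fun y hy => ?_) fun y hy => ?_
    · have e : x k * y * (x k)⁻¹ = ⁅x k, y⁆ * y := by rw [commutatorElement_def]; group
      have := cI (a := k) (b := k + T - 1) (by omega) (xm le_rfl (by omega))
        (mem_I.2 fun j h1 h2 => I_le h1 (by omega) (qa k ▸ hy))
      rw [e]
      refine Q.mul_mem ?_ hy
      rw [← qa k]
      exact mem_I.2 fun j h1 h2 => mem_I.1 this j (by omega) (by omega)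
    · rw [← q1]
      exact mem_I.2 fun j h1 h2 => sg_mem.2 (mem_I.1 hy _ (by omega) (by omega))
  refine ⟨T, by rw [cd T le_rfl, ← hQ, Q0, card_bot, mul_one], T1, ?_⟩
  have qC : ∀ C : Subgroup G, Q ≤ C := fun C => Q0 ▸ bot_le
  have sh : ∀ {i d : ℤ} (k : ℤ), Commute (x i) (x (i + d)) → Commute (x k) (x (k + d)) :=
    fun {i d} k e => by
      have := e.map (sg g (k - i))
      simp only [x, sg_sg] at this ⊢
      convert this using 2 <;> ring
  have cz : ∀ i : ℤ, -T < i → i ≤ 0 → (∀ k : ℤ, -T < k → k ≤ n → Commute (x k) (x i)) → False :=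
    fun i l1 l2 hk => xQ i (h2 _ (Pz_zero (P := P) (g := g) ▸ I_le le_rfl le_rfl (xm l2 (by omega)))
      (fun j l => genP _ _ (qC _) fun k h1 h2 => mem_centralizer_singleton_iff.2
        (hk k (by omega) (by omega)).eq) ▸ Q.one_mem)
  have cmv : ∀ v : ℕ, (∀ d : ℕ, d < v → Commute (x 0) (x (0 + d))) →
      ∀ i k : ℤ, i - k < v → k - i < v → Commute (x i) (x k) := fun v hv i k l1 l2 => by
    rcases le_total i k with l | l
    · have := sh i (hv (k - i).toNat (by omega))
      rwa [show i + ((k - i).toNat : ℤ) = k by omega] at this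
    · have := sh k (hv (i - k).toNat (by omega))
      rw [show k + ((i - k).toNat : ℤ) = i by omega] at this
      exact this.symm
  have exv : ∃ v : ℕ, ¬ Commute (x 0) (x (0 + v)) := by
    by_contra! q
    exact cz 0 (by omega) le_rfl fun k _ _ => cmv (T + n + 1) (fun d _ => q d) _ _ (by omega)
      (by omega)
  obtain ⟨v, hv, cm⟩ : ∃ v : ℕ, ¬ Commute (x 0) (x (0 + v)) ∧
      ∀ i k : ℤ, i - k < v → k - i < v → Commute (x i) (x k) :=
    ⟨_, Nat.find_spec exv, cmv _ fun d l => not_not.1 (Nat.find_min exv l)⟩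
  have v1 : 1 ≤ v := Nat.pos_of_ne_zero (by rintro rfl; exact hv (by simp))
  by_cases vT : T ≤ v
  · have : v ≤ n := by
      by_contra q
      exact cz 0 (by omega) le_rfl fun k _ _ => cm _ _ (by omega) (by omega)
    omega
  have b1 : 2 * v ≤ T + n := by
    by_contra q
    exact cz (v - T) (by omega) (by omega) fun k _ _ => cm _ _ (by omega) (by omega)
  suffices 2 * T ≤ 3 * v by omega
  have hv' : ∀ k : ℤ, ¬ Commute (x k) (x (k + v)) := fun k e => hv (sh 0 e)
  set w := ⁅x 0, x v⁆ with hw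
  have w0 : w ∉ Q := fun e => hv' 0 (by
    rw [Q0, mem_bot] at e
    rw [zero_add]; exact commutatorElement_eq_one_iff_commute.1 e)
  have w1 : w ∈ I P g (v - 1) (T - 1 + 1) := cI (by omega) (xm (by omega) (by omega))
    (xm le_rfl (by omega))
  obtain ⟨c, ⟨c1, c2⟩, c3⟩ := Int.exists_greatest_of_bdd (P := fun c => T - 1 + 1 ≤ c ∧
    w ∈ I P g (v - 1) c) ⟨v - 1 + T, fun c hc => by
      by_contra q
      exact w0 (qa (v - 1) ▸ mem_I.2 fun j h1 h2 => mem_I.1 hc.2 j h1 (by omega))⟩ ⟨_, le_rfl, w1⟩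
  obtain ⟨b, ⟨b2, b3⟩, b4⟩ := Int.exists_least_of_bdd (P := fun b => b ≤ v - 1 ∧
    w ∈ I P g b c) ⟨c - T, fun b hb => by
      by_contra q
      exact w0 (qa b ▸ mem_I.2 fun j h1 h2 => mem_I.1 hb.2 j h1 (by omega))⟩ ⟨_, le_rfl, c2⟩
  obtain ⟨a, rfl⟩ : ∃ a : ℤ, c = a + T - 1 := ⟨c + 1 - T, by ring⟩
  have ab : a ≤ b := by
    by_contra q
    exact w0 (qa b ▸ mem_I.2 fun j h1 h2 => mem_I.1 b3 j h1 (by omega))
  have bT : b ≤ a + T - 1 := by omega
  have wR : w ∉ Pz P g (a + T - 1 + 1) := fun e => by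
    have := c3 (a + T - 1 + 1) ⟨by omega, (I_right (P := P) (g := g) (by omega)).le ⟨c2, e⟩⟩
    omega
  have wL : w ∉ Pz P g (b - 1) := fun e => by
    have := b4 (b - 1) ⟨by omega, (I_left (P := P) (g := g) (by omega)).le ⟨b3, e⟩⟩
    omega
  have gc : ∀ {y u : G} (a b : ℤ), a - 1 ≤ b → b < a + T → (∀ k, a ≤ k → k ≤ b → Commute (x k) y) →
      u ∈ I P g b (a + T - 1) → Commute u y := fun {y u} a b l1 l2 hk hu =>
    mem_centralizer_singleton_iff.1 (gen (centralizer {y}) a b (qC _) l1 l2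
      (fun k h1 h2 => mem_centralizer_singleton_iff.2 (hk k h1 h2).eq) hu)
  have xw : ∀ k : ℤ, b - k < v → k - a < v → Commute (x k) w := fun k l1 l2 =>
    (gc a b (by omega) (by omega) (fun l _ _ => cm _ _ (by omega) (by omega)) b3).symm
  have A1 : (T : ℤ) ≤ a + v := by
    by_contra q
    have hu : ⁅x (a + v), x 0⁆ ∈ I P g (a + v - 1) (1 + T - 1) := by
      have := cI (a := a + v) (b := T - 1) (by omega) (xm (k := a + v) le_rfl (by omega))
        (xm (k := 0) (by omega) (by omega))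
      convert this using 2; ring
    have u1 := gc 1 _ (by omega) (by omega) (fun k _ _ => cm k v (by omega) (by omega)) hu
    have u2 := gc 1 _ (by omega) (by omega) (fun k _ _ => xw k (by omega) (by omega)) hu
    have u3 := cm (a + v) v (by omega) (by omega)
    have u4 : w * x (a + v) = x (a + v) * w := by
      set y := x (a + v)
      set u := ⁅y, x 0⁆ with hu'
      have e1 : y * x 0 * y⁻¹ = u * x 0 := by rw [hu', commutatorElement_def]; group
      have e2 : y * w * y⁻¹ = u * w * u⁻¹ * ⁅u, x v⁆ := by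
        rw [hw, conjugate_commutatorElement, e1, u3.mul_inv_cancel]
        simp only [commutatorElement_def]
        group
      rw [u2.mul_inv_cancel, commutatorElement_eq_one_iff_commute.2 u1, mul_one] at e2
      exact (mul_inv_eq_iff_eq_mul.1 e2).symm
    have := (aR (a + T - 1)).gen hp (C := centralizer {x (a + v)}) (I_le bT le_rfl) (by
      rw [I_right (by omega), show a + T - 1 + 1 = a + 1 + T - 1 by ring]
      exact fun u hu => mem_centralizer_singleton_iff.2 (gc _ _ (by omega) (by omega)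
        (fun k _ _ => cm _ _ (by omega) (by omega)) hu).eq) b3 (mem_centralizer_singleton_iff.2 u4) wR
    exact hv' a (mem_centralizer_singleton_iff.1 (this (xm ab (by omega))))
  have A2 : (T : ℤ) ≤ 2 * v - b := by
    by_contra q
    have hu : ⁅x (b - v), x v⁆ ∈ I P g (v - 1) (b - v + 1 + T - 1) := by
      have := cI (a := v) (b := b - v + T - 1) (by omega) (xm (k := b - v) (by omega) (by omega))
        (xm (k := v) le_rfl (by omega))
      convert this using 2; ring
    have u1 := gc _ _ (by omega) (by omega) (fun k _ _ => cm k 0 (by omega) (by omega)) hu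
    have u2 := gc _ _ (by omega) (by omega) (fun k _ _ => xw k (by omega) (by omega)) hu
    have u3 := cm (b - v) 0 (by omega) (by omega)
    have u4 : w * x (b - v) = x (b - v) * w := by
      set y := x (b - v)
      set u := ⁅y, x v⁆ with hu'
      have e1 : y * x v * y⁻¹ = u * x v := by rw [hu', commutatorElement_def]; group
      have e2 : y * w * y⁻¹ = ⁅x 0, u⁆ * (u * w * u⁻¹) := by
        rw [hw, conjugate_commutatorElement, e1, u3.mul_inv_cancel]
        simp only [commutatorElement_def]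
        group
      rw [u2.mul_inv_cancel, commutatorElement_eq_one_iff_commute.2 u1.symm, one_mul] at e2
      exact (mul_inv_eq_iff_eq_mul.1 e2).symm
    have := (aL b).gen hp (C := centralizer {x (b - v)}) (I_le le_rfl bT) (by
      rw [I_left (by omega)]
      exact fun u hu => mem_centralizer_singleton_iff.2 (gc _ _ (by omega) (by omega)
        (fun k _ _ => cm _ _ (by omega) (by omega)) hu).eq) b3 (mem_centralizer_singleton_iff.2 u4) wL
    refine hv' (b - v) ?_
    rw [sub_add_cancel]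
    exact Commute.symm (mem_centralizer_singleton_iff.1 (this (xm le_rfl (by omega))))
  omega

end CfsgH9.Sims
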