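import Mathlib
import Cfsg.Agent.H9.Sims

/-! Soft subgroups of `p`-groups (Héthelyi). -/

set_option autoImplicit false
open Subgroup CfsgH9.Sims
open scoped commutatorElement

namespace CfsgH9.Soft

universe u

local notation "N(" H ")" => Subgroup.normalizer (SetLike.coe (H : Subgroup _))
local notation "C(" H ")" => Subgroup.centralizer (SetLike.coe (H : Subgroup _))

variable {P : Type u} [Group P] {p : ℕ} [hp : Fact p.Prime]

/-- Soft subgroups. -/
structure Soft (p : ℕ) (E : Subgroup P) : Prop where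
  ab : E ≤ C(E)
  sc : C(E) ≤ E
  idx : E.relIndex N(E) = p

theorem Soft.adj {E : Subgroup P} (h : Soft p E) : Adj p N(E) E := ⟨normal_in_normalizer, h.idx⟩

theorem Soft.sub {E L : Subgroup P} (h : Soft p E) (hL : N(E) ≤ L) : Soft p (E.subgroupOf L) :=
  ⟨fun a ha b hb => Subtype.ext (h.ab ha b hb), fun a ha => h.sc fun b hb =>
    congrArg Subtype.val (ha ⟨b, hL (le_normalizer hb)⟩ hb), by
    rw [← subgroupOf_normalizer_eq (le_normalizer.trans hL), relIndex_subgroupOf hL, h.idx]⟩

theorem Soft.comap {E : Subgroup P} (h : Soft p E) (e : P ≃* P) :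
    Soft p (E.comap e.toMonoidHom) :=
  ⟨fun a ha b hb => e.injective (by simpa using h.ab ha _ hb), fun a ha => h.sc fun b hb => by
    simpa using congrArg e (ha (e.symm b) (by simpa using hb)), by
    rw [← comap_normalizer_eq_of_surjective _ e.surjective]; exact (h.adj.comap e).2⟩

theorem Soft.not_le {E : Subgroup P} (h : Soft p E) : ¬ N(E) ≤ E := fun e =>
  hp.out.one_lt.ne ((relIndex_eq_one.2 e).symm.trans h.idx)

theorem norm_map {Q : Type*} [Group Q] {f : P →* Q} (hf : Function.Surjective f) {K : Subgroup P}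
    (h : f.ker ≤ K) : N(K.map f) = N(K).map f := by
  rw [← map_comap_eq_self_of_surjective hf N(_), comap_normalizer_eq_of_surjective _ hf,
    comap_map_eq_self h]

theorem rel_map {Q : Type*} [Group Q] {f : P →* Q} {A B : Subgroup P} (h : f.ker ≤ A) :
    (A.map f).relIndex (B.map f) = A.relIndex B := by
  rw [← relIndex_comap, comap_map_eq_self h]

variable [Finite P]

theorem lt_norm (hP : IsPGroup p P) {A K : Subgroup P} (h : A ≤ K) (n : ¬ K ≤ A) :
    ∃ x ∈ K, x ∈ N(A) ∧ x ∉ A := by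
  haveI := (hP.to_subgroup K).isNilpotent
  obtain ⟨x, h1, h2⟩ := SetLike.exists_of_lt (Group.normalizerCondition_of_isNilpotent
    (A.subgroupOf K) (lt_top_iff_ne_top.2 fun e => n (subgroupOf_eq_top.1 e)))
  rw [← subgroupOf_normalizer_eq h] at h1
  exact ⟨x, x.2, h1, h2⟩

theorem Soft.norm_le (hP : IsPGroup p P) {E K : Subgroup P} (h : Soft p E) (l : E ≤ K)
    (n : K ≠ E) : N(E) ≤ K := by
  obtain ⟨x, h1, h2, h3⟩ := lt_norm hP l fun e => n (le_antisymm e l)
  exact h.adj.gen hp.out le_rfl (inf_le_right.trans l) h2 h1 h3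

theorem mem_norm_of {E : Subgroup P} {g : P} (h : E ≤ E.comap (MulAut.conj g).toMonoidHom) :
    g ∈ N(E) := mem_normalizer_fintype fun _ hx => h hx

theorem Soft.idx_normal (hP : IsPGroup p P) {E : Subgroup P} (h : Soft p E) [hn : N(E).Normal]
    (t : N(E) ≠ ⊤) : N(E).index = p := by
  obtain ⟨g, hg⟩ : ∃ g, g ∉ N(E) := by
    by_contra! q
    exact t (eq_top_iff.2 fun g _ => q g)
  set E' := E.comap (MulAut.conj g).toMonoidHom
  have h' : Soft p E' := h.comap _
  have e1 : N(E') = N(E) := by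
    rw [← comap_normalizer_eq_of_surjective _ (MulAut.conj g).surjective]
    exact Subgroup.ext fun x => ⟨fun q => by simpa [mul_assoc] using hn.conj_mem' _ q g,
      fun q => hn.conj_mem _ q g⟩
  obtain ⟨e, he, he'⟩ := SetLike.not_le_iff_exists.1 fun q : E ≤ E' => hg (mem_norm_of q)
  have a' := e1 ▸ h'.adj
  let Z := N(E) ⊓ C(N(E))
  have z1 : Z ≤ E := inf_le_right.trans ((centralizer_le le_normalizer).trans h.sc)
  have z2 : Z ≤ E' := inf_le_right.trans ((centralizer_le (e1 ▸ le_normalizer)).trans h'.sc)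
  have z3 : E ⊓ E' ≤ Z := fun y hy => ⟨le_normalizer hy.1, fun b hb =>
    mem_centralizer_singleton_iff.1 (a'.gen hp.out (C := centralizer {y}) le_rfl
      (fun c hc => mem_centralizer_singleton_iff.2 (h'.ab hy.2 c hc.2)) (le_normalizer he)
      (mem_centralizer_singleton_iff.2 (h.ab hy.1 e he)) he' hb)⟩
  let π := QuotientGroup.mk' Z
  letI : MulAction P (P ⧸ Z) := MulAction.compHom _ (MulAut.conj.comp π)
  have s1 : MulAction.stabilizer P (π e) ≤ N(E) := fun x hx => mem_norm_of
    (a'.gen hp.out le_normalizer (fun y hy => z1 (Normal.conj_mem inferInstance y (z3 hy) x)) he (by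
      have : π e = π (x * e * x⁻¹) := (show π x * π e * (π x)⁻¹ = π e from hx).symm
      exact (E.mul_mem_cancel_left (E.inv_mem he)).1 (z1 (QuotientGroup.eq.1 this))) he')
  have s2 : (MulAction.stabilizer P (π e)).index < Nat.card (N(E).map π) := by
    rw [MulAction.index_stabilizer]
    refine Set.ncard_lt_ncard (t := ((N(E).map π : Subgroup (P ⧸ Z)) : Set (P ⧸ Z)))
      ⟨?_, fun q => ?_⟩ (Set.toFinite _)
    · rintro _ ⟨x, rfl⟩
      exact ⟨x * e * x⁻¹, hn.conj_mem _ (le_normalizer he) x, rfl⟩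
    · obtain ⟨x, hx⟩ := q (one_mem _)
      have : π e = 1 := conj_eq_one_iff.1 (show π x * π e * (π x)⁻¹ = 1 from hx)
      exact he' (z2 ((QuotientGroup.eq_one_iff e).1 this))
  have s3 : Nat.card (N(E).map π) ≤ p ^ 2 := by
    rw [← relIndex_ker, QuotientGroup.ker_mk', le_antisymm (le_inf z1 z2) z3, sq]
    exact relIndex_inf_le.trans (by rw [h.idx, a'.2])
  obtain ⟨k, hk⟩ := hP.index N(E)
  have s4 : p ^ k < p ^ 2 := hk ▸ lt_of_le_of_lt (Nat.le_of_dvd (Nat.pos_of_ne_zero
    index_ne_zero_of_finite) (index_dvd_of_le s1)) (s2.trans_le s3)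
  have := (Nat.pow_lt_pow_iff_right hp.out.one_lt).1 s4
  interval_cases k
  · exact absurd (index_eq_one.1 hk) t
  · rw [hk, pow_one]

theorem Soft.idx2 (hP : IsPGroup p P) {E : Subgroup P} (h : Soft p E) (t : N(E) ≠ ⊤) :
    N(E).relIndex N(N(E)) = p := by
  have e := subgroupOf_normalizer_eq (H := E) (N := N(N(E))) (le_normalizer.trans le_normalizer)
  haveI : N(E.subgroupOf N(N(E))).Normal := e ▸ normal_in_normalizer
  have := (h.sub le_normalizer).idx_normal (hP.to_subgroup _) (by
    rw [← e, Ne, subgroupOf_eq_top]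
    obtain ⟨x, -, h1, h2⟩ := lt_norm hP (A := N(E)) le_top fun q => t (top_le_iff.1 q)
    exact fun q => h2 (q h1))
  rwa [← e] at this

theorem Soft.up (hP : IsPGroup p P) {E Z : Subgroup P} [Z.Normal] (h : Soft p E) (hZ : Z ≤ E)
    {z : P} (z1 : z ∉ E) (z2 : ∀ e ∈ E, ⁅z, e⁆ ∈ Z) (t : N(E) ≠ ⊤) :
    Soft p (N(E).map (QuotientGroup.mk' Z)) := by
  let π := QuotientGroup.mk' Z
  have k : π.ker ≤ E := (QuotientGroup.ker_mk' Z).trans_le hZ
  have cm : ∀ a b, π a * π b = π b * π a ↔ ⁅a, b⁆ ∈ Z := fun a b => by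
    rw [← commutatorElement_eq_one_iff_mul_comm, ← map_commutatorElement]
    exact QuotientGroup.eq_one_iff _
  have nm : ∀ z, (∀ e ∈ E, ⁅z, e⁆ ∈ Z) → z ∈ N(E) := fun z z2 => mem_normalizer_fintype fun e he => by
    have : z * e * z⁻¹ = ⁅z, e⁆ * e := by rw [commutatorElement_def]; group
    rw [this]
    exact E.mul_mem (hZ (z2 e he)) he
  have g1 : ∀ a, (∀ e ∈ E, π e * π a = π a * π e) → π z * π a = π a * π z →
      ∀ b ∈ N(E), π b * π a = π a * π b := fun a h1 h2 b hb =>
    mem_centralizer_singleton_iff.1 (h.adj.gen hp.out (C := (centralizer {π a}).comap π) le_rfl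
      (fun e he => mem_centralizer_singleton_iff.2 (h1 e he.2)) (nm z z2)
      (mem_centralizer_singleton_iff.2 h2) z1 hb)
  refine ⟨?_, ?_, ?_⟩
  · rintro _ ⟨a, ha, rfl⟩ _ ⟨b, hb, rfl⟩
    refine g1 a (fun e he => (g1 e (fun c hc => by
      rw [← map_mul, h.ab he c hc, map_mul]) ((cm _ _).2 (z2 e he)) a ha).symm) ?_ b hb
    exact (g1 z (fun e he => ((cm _ _).2 (z2 e he)).symm) rfl a ha).symm
  · intro c hc
    obtain ⟨c, rfl⟩ := QuotientGroup.mk'_surjective Z c
    exact ⟨c, nm c fun e he => (cm _ _).1 (hc _ ⟨e, le_normalizer he, rfl⟩).symm, rfl⟩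
  · rw [norm_map (QuotientGroup.mk'_surjective Z) (k.trans le_normalizer),
      rel_map (k.trans le_normalizer), h.idx2 hP t]

/-- Chain and index property above `E`. -/
def Ch (p : ℕ) (E : Subgroup P) : Prop := (∀ K L : Subgroup P, E ≤ K → E ≤ L → K ≤ L ∨ L ≤ K) ∧
  ∀ K : Subgroup P, E ≤ K → K ≠ ⊤ → K.relIndex N(K) = p

omit hp [Finite P] in
theorem Ch.of_map {Q : Type u} [Group Q] {f : P →* Q} (hf : Function.Surjective f) {E : Subgroup P}
    (k : f.ker ≤ E) (h : Ch p (E.map f)) : Ch p E := by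
  refine ⟨fun K L h1 h2 => (h.1 _ _ (map_mono h1) (map_mono h2)).imp (fun q => ?_) fun q => ?_,
    fun K h1 t => ?_⟩
  · rwa [map_le_iff_le_comap, comap_map_eq_self (k.trans h2)] at q
  · rwa [map_le_iff_le_comap, comap_map_eq_self (k.trans h1)] at q
  · rw [← h.2 _ (map_mono h1) fun e => t (by rw [← comap_map_eq_self (k.trans h1), e, comap_top]),
      norm_map hf (k.trans h1), rel_map (k.trans h1)]

theorem chain (n : ℕ) : ∀ (P : Type u) [Group P] [Finite P] (E : Subgroup P), Nat.card P = n →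
    IsPGroup p P → Soft p E → Ch p E := by
  induction n using Nat.strong_induction_on with | _ n ih => ?_
  intro P _ _ E hn hP h
  have up : Ch p N(E) → Ch p E := fun c => ⟨fun K L h1 h2 => by
    by_cases e1 : K = E
    · exact Or.inl (e1 ▸ h2)
    by_cases e2 : L = E
    · exact Or.inr (e2 ▸ h1)
    exact c.1 K L (h.norm_le hP h1 e1) (h.norm_le hP h2 e2), fun K h1 t => by
    by_cases e1 : K = E
    · exact e1 ▸ h.idx
    exact c.2 K (h.norm_le hP h1 e1) t⟩
  by_cases t : N(E) = ⊤
  · exact up ⟨fun K L _ h2 => Or.inl (le_top.trans (t ▸ h2)),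
      fun K h1 q => absurd (top_le_iff.1 (t ▸ h1)) q⟩
  haveI : Nontrivial P := not_subsingleton_iff_nontrivial.1 fun _ => t (Subsingleton.elim _ _)
  haveI := hP.center_nontrivial
  have lt : Nat.card (P ⧸ center P) < n := by
    rw [← hn, card_eq_card_quotient_mul_card_subgroup (center P)]
    exact lt_mul_of_one_lt_right Nat.card_pos Finite.one_lt_card
  have hZ : center P ≤ E := (center_le_centralizer _).trans h.sc
  have k := (QuotientGroup.ker_mk' (center P)).trans_le hZ
  have sj := QuotientGroup.mk'_surjective (center P)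
  by_cases c : ∃ z, z ∉ E ∧ ∀ e ∈ E, ⁅z, e⁆ ∈ center P
  · obtain ⟨z, z1, z2⟩ := c
    exact up (Ch.of_map sj (k.trans le_normalizer)
      (ih _ lt _ _ rfl (hP.to_quotient _) (h.up hP hZ z1 z2 t)))
  refine Ch.of_map sj k (ih _ lt _ _ rfl (hP.to_quotient _) ⟨?_, fun z hz => ?_, ?_⟩)
  · rintro _ ⟨a, ha, rfl⟩ _ ⟨b, hb, rfl⟩
    rw [← map_mul, h.ab ha b hb, map_mul]
  · obtain ⟨z, rfl⟩ := sj z
    by_contra q
    refine c ⟨z, fun e => q ⟨z, e, rfl⟩, fun e he => ?_⟩
    rw [← QuotientGroup.eq_one_iff, ← QuotientGroup.mk'_apply, map_commutatorElement,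
      commutatorElement_eq_one_iff_mul_comm]
    exact (hz _ ⟨e, he, rfl⟩).symm
  · rw [norm_map sj k, rel_map k, h.idx]

omit hp [Finite P] in
theorem class_of_ker {K Q : Type*} [Group K] [Group Q] [Group.IsNilpotent K] [Nontrivial K]
    (f : K →* Q) (hf : Function.Surjective f) (h : f.ker = center K) :
    Group.nilpotencyClass K = Group.nilpotencyClass Q + 1 := by
  haveI := Group.nilpotent_of_surjective f hf
  refine le_antisymm (Group.nilpotencyClass_le_of_ker_le_center f h.le) ?_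
  rw [Group.nilpotencyClass_eq_quotient_center_plus_one (G := K)]
  exact Nat.succ_le_succ (Group.nilpotencyClass_le_of_surjective
    (QuotientGroup.lift (center K) f h.ge) (QuotientGroup.lift_surjective_of_surjective _ _ hf _))

theorem exists_z2 (hP : IsPGroup p P) {E K : Subgroup P} [hK : K.Normal] (h : Soft p E)
    (l : N(E) ≤ K) (t : K ≠ ⊤) : ∃ z, z ∉ E ∧ ∀ e ∈ E, ⁅z, e⁆ ∈ K ⊓ C(K) := by
  have c := chain _ P E rfl hP h
  obtain ⟨g, hg⟩ : ∃ g, g ∉ K := by
    by_contra! q
    exact t (eq_top_iff.2 fun g _ => q g)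
  have lE := le_normalizer.trans l
  set E' := E.comap (MulAut.conj g).toMonoidHom
  have h' : Soft p E' := h.comap _
  have l' : E' ≤ K := fun x hx => by simpa [mul_assoc] using hK.conj_mem' _ (lE hx) g
  have hJ : K ≤ E ⊔ E' := by
    by_contra q
    have j1 : E ≤ (E ⊔ E').comap (MulAut.conj g).symm.toMonoidHom := fun x hx =>
      mem_sup_right (show (MulAut.conj g) ((MulAut.conj g).symm x) ∈ E by
        rwa [MulEquiv.apply_symm_apply])
    have j2 : E ⊔ E' ≤ (E ⊔ E').comap (MulAut.conj g).symm.toMonoidHom := by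
      rcases c.1 _ _ le_sup_left j1 with e | e
      · exact e
      · exact (eq_of_le_of_card_ge e (card_comap _ _).ge).ge
    have j3 : g⁻¹ ∈ N(E ⊔ E') := mem_normalizer_fintype fun x hx => by simpa using j2 hx
    obtain ⟨x, x1, x2, x3⟩ := lt_norm hP (sup_le lE l') q
    have a : Adj p N(E ⊔ E') (E ⊔ E') := ⟨normal_in_normalizer, c.2 _ le_sup_left
      fun e => q (e ▸ le_top)⟩
    exact hg (K.inv_mem_iff.1 (a.gen hp.out le_rfl (inf_le_right.trans (sup_le lE l')) x2 x1 x3 j3))
  let Z := K ⊓ C(K)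
  let π := QuotientGroup.mk' Z
  have z1 : Z ≤ E := inf_le_right.trans ((centralizer_le lE).trans h.sc)
  haveI : Nontrivial (K.map π) := (nontrivial_iff_ne_bot _).2 fun e => h.not_le (l.trans
    (((Subgroup.map_eq_bot_iff _).1 e).trans ((QuotientGroup.ker_mk' Z).trans_le z1)))
  haveI := ((hP.to_quotient Z).to_subgroup (K.map π)).center_nontrivial
  obtain ⟨⟨⟨_, z, zK, rfl⟩, hz⟩, z0⟩ := exists_ne (1 : center (K.map π))
  have z2 : ∀ k ∈ K, ⁅z, k⁆ ∈ Z := fun k hk => by
    rw [← QuotientGroup.eq_one_iff, ← QuotientGroup.mk'_apply, map_commutatorElement,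
      commutatorElement_eq_one_iff_mul_comm]
    exact (congrArg Subtype.val (mem_center_iff.1 hz ⟨_, k, hk, rfl⟩)).symm
  by_cases q : z ∈ E
  · refine ⟨g * z * g⁻¹, fun q' => z0 (Subtype.ext (Subtype.ext ((QuotientGroup.eq_one_iff z).2
      ⟨zK, centralizer_le hJ (le_centralizer_iff.1 (sup_le (le_centralizer_iff.1 inf_le_left)
        (le_centralizer_iff.1 inf_le_right)) (⟨h.ab q, h'.ab q'⟩ : z ∈ C(E) ⊓ C(E')))⟩))),
      fun e he => ?_⟩
    have := Normal.conj_mem inferInstance _ (z2 _ (hK.conj_mem' _ (lE he) g)) g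
    rwa [conjugate_commutatorElement, show g * (g⁻¹ * e * g) * g⁻¹ = e by group] at this
  · exact ⟨z, q, fun e he => z2 e (lE he)⟩

theorem cls (i : ℕ) : ∀ (P : Type u) [Group P] [Finite P] (E K : Subgroup P), IsPGroup p P →
    Soft p E → E ≤ K → K ≠ ⊤ → E.relIndex K = p ^ i → Group.nilpotencyClass K = i + 1 := by
  induction i with
  | zero =>
    intro P _ _ E K hP h l t e
    obtain rfl : K = E := le_antisymm (relIndex_eq_one.1 e) l
    haveI := (hP.to_subgroup K).isNilpotent
    refine le_antisymm (Group.IsNilpotent.nilpotencyClass_le_one_iff.2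
      ⟨⟨fun a b => Subtype.ext (h.ab b.2 a a.2)⟩⟩) (Nat.pos_of_ne_zero fun q => t ?_)
    have := Group.nilpotencyClass_zero_iff_subsingleton.1 q
    refine eq_top_iff.2 fun a _ => h.sc fun b hb => ?_
    rw [show b = 1 from congrArg Subtype.val (Subsingleton.elim (⟨b, hb⟩ : K) 1)]
    simp
  | succ i ih =>
    suffices ∀ (P : Type u) [Group P] [Finite P] (E K : Subgroup P) [K.Normal], IsPGroup p P →
        Soft p E → N(E) ≤ K → K ≠ ⊤ → E.relIndex K = p ^ (i + 1) →
        Group.nilpotencyClass K = i + 1 + 1 by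
      intro P _ _ E K hP h l t e
      have l1 := h.norm_le hP l (by
        rintro rfl
        rw [relIndex_self] at e
        exact (Nat.one_lt_pow i.succ_ne_zero hp.out.one_lt).ne e)
      have := this N(K) (E.subgroupOf _) (K.subgroupOf _) (hP.to_subgroup _)
        (h.sub (l1.trans le_normalizer)) (by
          rw [← subgroupOf_normalizer_eq (l.trans le_normalizer)]; exact comap_mono l1) (by
          obtain ⟨x, -, h1, h2⟩ := lt_norm hP (A := K) le_top fun q => t (top_le_iff.1 q)
          exact fun q => h2 (subgroupOf_eq_top.1 q h1)) (by rwa [relIndex_subgroupOf le_normalizer])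
      rw [← this]
      haveI := (hP.to_subgroup K).isNilpotent
      haveI := ((hP.to_subgroup N(K)).to_subgroup (K.subgroupOf _)).isNilpotent
      let e := subgroupOfEquivOfLe (H := K) le_normalizer
      exact le_antisymm (Group.nilpotencyClass_le_of_surjective e.toMonoidHom e.surjective)
        (Group.nilpotencyClass_le_of_surjective e.symm.toMonoidHom e.symm.surjective)
    intro P _ _ E K _ hP h l t e
    obtain ⟨z, z1, z2⟩ := exists_z2 hP h l t
    let Z := K ⊓ C(K)
    let π := QuotientGroup.mk' Z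
    have hZ : Z ≤ E := inf_le_right.trans ((centralizer_le (le_normalizer.trans l)).trans h.sc)
    have k : π.ker ≤ N(E) := ((QuotientGroup.ker_mk' Z).trans_le hZ).trans le_normalizer
    have r := ih _ _ (K.map π) (hP.to_quotient Z) (h.up hP hZ z1 z2 fun q => t (top_le_iff.1 (q ▸ l)))
      (map_mono l) (fun q => t (by rw [← comap_map_eq_self (k.trans l), q, comap_top])) (by
        rw [rel_map k]
        refine Nat.eq_of_mul_eq_mul_left hp.out.pos ?_
        rw [← pow_succ', ← e, ← relIndex_mul_relIndex E N(E) K le_normalizer l, h.idx])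
    haveI := (hP.to_subgroup K).isNilpotent
    haveI : Nontrivial K := (nontrivial_iff_ne_bot _).2 fun q => h.not_le (l.trans (q ▸ bot_le))
    rw [← r]
    refine class_of_ker (π.subgroupMap K) (π.subgroupMap_surjective K) (Subgroup.ext fun a => ?_)
    rw [MonoidHom.mem_ker, Subtype.ext_iff, mem_center_iff]
    exact (QuotientGroup.eq_one_iff (a : P)).trans ⟨fun q b => Subtype.ext (q.2 b b.2),
      fun q => ⟨a.2, fun b hb => congrArg Subtype.val (q ⟨b, hb⟩)⟩⟩

end CfsgH9.Soft
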