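import Cfsg.Agent.H5.Sf4
import Cfsg.Agent.H2.SylowIn
import Cfsg.Agent.H2.PGroup

/-! Square-zero unipotent elements of a linear group, and invariant subalgebras of matrix algebras. -/

set_option autoImplicit false

namespace CfsgH9.TX
open Module CfsgH5

variable {F : Type*} [Field F] {V : Type*} [AddCommGroup V] [Module F V] {G : Subgroup (V ≃ₗ[F] V)}
  {f f' : V →ₗ[F] V} {g : V ≃ₗ[F] V}

/-- `f` has square zero and `1 + f` lies in `G` -/
def E (G : Subgroup (V ≃ₗ[F] V)) (f : V →ₗ[F] V) : Prop :=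
  (∀ v, f (f v) = 0) ∧ ∃ g ∈ G, ∀ v, g v = v + f v

theorem inv_apply (h0 : ∀ v, f (f v) = 0) (h : ∀ v, g v = v + f v) (v : V) : g⁻¹ v = v - f v :=
  g.injective ((g.apply_symm_apply v).trans (by simp [h, h0]))

theorem E.zero : E G 0 := ⟨by simp, 1, one_mem _, by simp⟩

theorem E.congr (h : E G f) (e : ∀ v, f v = f' v) : E G f' := LinearMap.ext e ▸ h

theorem E.add (h : E G f) (h' : E G f') (h1 : ∀ v, f (f' v) = 0) (h2 : ∀ v, f' (f v) = 0) : E G (f + f') :=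
  let ⟨a, x, b, c⟩ := h
  let ⟨a', y, b', c'⟩ := h'
  ⟨by simp [a, a', h1, h2], x * y, mul_mem b b', fun v => by simp [c, c', h1]; abel⟩

theorem E.neg (h : E G f) : E G (-f) :=
  let ⟨a, x, b, c⟩ := h
  ⟨by simp [a], x⁻¹, inv_mem b, fun v => by rw [inv_apply a c, sub_eq_add_neg]; rfl⟩

theorem E.cj (h : E G f) (hg : g ∈ G) : E G (g ∘ₗ f ∘ₗ g.symm) :=
  let ⟨a, x, b, c⟩ := h
  ⟨by simp [a], g * x * g⁻¹, mul_mem (mul_mem hg b) (inv_mem hg), fun v => by simp [c]⟩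

theorem E.comm (h : E G f) (h' : E G f') (h2 : ∀ v, f' (f v) = 0) : E G (f ∘ₗ f') :=
  let ⟨a, x, b, c⟩ := h
  let ⟨a', y, b', c'⟩ := h'
  ⟨by simp [h2], x * y * x⁻¹ * y⁻¹, mul_mem (mul_mem (mul_mem b b') (inv_mem b)) (inv_mem b'), fun v => by
    simp only [LinearEquiv.mul_apply, inv_apply a c, inv_apply a' c', c, c']
    simp [a, a', h2]; abel⟩

theorem E.tr {φ : Dual F V} {v : V} (h : E G (φ.smulRight v)) (h0 : φ v = 0) : tr φ v ∈ G :=
  let ⟨_, x, b, c⟩ := h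
  (LinearEquiv.ext fun y => by rw [c, tr_apply h0]; rfl : x = CfsgH5.tr φ v) ▸ b

theorem E.of_tr {φ : Dual F V} {v : V} (h0 : φ v = 0) (h : CfsgH5.tr φ v ∈ G) : E G (φ.smulRight v) :=
  ⟨by simp [h0], _, h, tr_apply h0⟩

theorem pow_char (h0 : ∀ v, f (f v) = 0) (h : ∀ v, g v = v + f v) : g ^ ringChar F = 1 := by
  have : ∀ (n : ℕ) v, (g ^ n) v = v + (n : F) • f v := fun n => by
    induction n with
    | zero => simp
    | succ n ih => intro v; rw [pow_succ, LinearEquiv.mul_apply, ih, h]; simp [h0, add_smul]; abel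
  exact LinearEquiv.ext fun v => by simp [this]

theorem exists_sl [Finite F] [FiniteDimensional F V] (h0 : ∀ v, f (f v) = 0) :
    ∃ g ∈ slSub F V, ∀ v, g v = v + f v := by
  let g : V ≃ₗ[F] V := .ofLinear (1 + f) (1 - f) (by ext; simp [h0]) (by ext; simp [h0])
  have h : ∀ v, g v = v + f v := fun _ => rfl
  refine ⟨g, ?_, h⟩
  haveI := Fact.mk (CharP.char_is_prime F (ringChar F))
  have := congrArg (fun g => (LinearEquiv.det g : F)) (pow_char h0 h)
  simp only [map_pow, map_one, Units.val_pow_eq_pow_val, Units.val_one] at this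
  exact Units.ext (frobenius_inj F (ringChar F) (by simpa [frobenius_def] using this))

/-- a central element of the `p`-group generated by two suitable conjugates -/
theorem exists_z [Finite F] [FiniteDimensional F V] (h : E G f) (h' : E G f') (hf : f ≠ 0) :
    ∃ x ∈ G, ∃ z ∈ G, z ≠ 1 ∧ (∀ v, z (f v) = f (z v)) ∧ (∀ v, z (x (f' (x⁻¹ v))) = x (f' (x⁻¹ (z v)))) ∧
      ∀ v, f v = 0 → f (x (f' (x⁻¹ v))) = 0 → z v = v := by
  haveI := Module.finite_of_finite F (M := V)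
  haveI : Finite (V ≃ₗ[F] V) := Finite.of_injective _ DFunLike.coe_injective
  haveI := Fact.mk (CharP.char_is_prime F (ringChar F))
  obtain ⟨a1, a, a2, a3⟩ := h
  obtain ⟨b1, b, b2, b3⟩ := h'
  have key : ∀ y : G, y.1 ^ ringChar F = 1 → ∃ k, orderOf y = ringChar F ^ k := fun y hy =>
    let ⟨k, _, e⟩ := (Nat.dvd_prime_pow (m := 1) (CharP.char_is_prime F (ringChar F))).1
      (orderOf_dvd_of_pow_eq_one (x := y) (Subtype.ext (by simpa using hy)))
    ⟨k, e⟩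
  obtain ⟨k, hk⟩ := key ⟨a, a2⟩ (pow_char a1 a3)
  obtain ⟨P, hP⟩ := (IsPGroup.of_card ((Nat.card_zpowers _).trans hk)).exists_le_sylow
  obtain ⟨l, hl⟩ := key ⟨b, b2⟩ (pow_char b1 b3)
  obtain ⟨x, hx⟩ := CfsgH2.exists_conj_mem_sylow P hl
  let S : Submodule F V := LinearMap.ker f ⊓ LinearMap.ker (f ∘ₗ x.1 ∘ₗ f' ∘ₗ x.1.symm)
  have hS : ∀ v, v ∈ S ↔ f v = 0 ∧ f (x.1 (f' (x.1.symm v))) = 0 := fun _ => Iff.rfl
  let Q := P.1.map G.subtype ⊓ stab F (S : Set V)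
  have c1 : a ∈ fixer F (S : Set V) := fun v hv => by rw [a3, ((hS v).1 hv).1, add_zero]
  have c2 : a ∈ Q := ⟨⟨_, hP (Subgroup.mem_zpowers _), rfl⟩, fixer_le_stab _ c1⟩
  have c3 : x.1 * b * x.1⁻¹ ∈ Q := ⟨⟨_, hx, rfl⟩, mem_stab_of_le fun v hv => by
    rw [hS] at hv ⊢; simp [b3, b1, hv.1, hv.2]⟩
  obtain ⟨z, ⟨h1, h2⟩, h3, -, h4⟩ := CfsgH2.exists_central_of_ne_bot (V := Q) (N := Q ⊓ fixer F (S : Set V))
    ((P.2.map _).to_le inf_le_left) inf_le_left (fun q hq => CfsgH2.mem_normalizer_of_conj_mem fun y hy =>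
      ⟨Q.mul_mem (Q.mul_mem hq hy.1) (Q.inv_mem hq), fun v hv => by
        rw [LinearEquiv.mul_apply, LinearEquiv.mul_apply, hy.2 _ (stab_apply ((stab F _).inv_mem hq.2) hv)]
        exact q.apply_symm_apply v⟩) fun e => hf (LinearMap.ext fun v => by
      have : a = 1 := e.le ⟨c2, c1⟩
      simpa [this] using a3 v)
  refine ⟨x, x.2, z, Subgroup.map_subtype_le _ h1.1, h3, fun v => ?_, fun v => ?_, fun v i1 i2 => h2 v ⟨i1, i2⟩⟩
  · simpa [a3] using (LinearEquiv.congr_fun (h4 a c2) v).symm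
  · simpa [b3] using (LinearEquiv.congr_fun (h4 _ c3) v).symm

theorem exists_not_eigen {r : End F V} (h : ∀ c : F, r ≠ c • 1) : ∃ u, r u ∉ Submodule.span F {u} := by
  by_contra! h1
  obtain ⟨c, e⟩ := LinearMap.exists_eq_smul_id_of_forall_notLinearIndependent (f := r) fun v hv => by
    obtain ⟨c, e⟩ := Submodule.mem_span_singleton.1 (h1 v)
    simpa using LinearIndependent.pair_iff.1 hv c (-1) (by simp [e])
  exact h c e

/-- an invariant subalgebra which is not scalar contains all maps of rank one -/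
theorem rank_one_mem [FiniteDimensional F V] {L : Subalgebra F (End F V)}
    (hL : ∀ r ∈ L, ∀ (φ : Dual F V) u, φ u = 0 →
      φ.smulRight u * r - r * φ.smulRight u - φ (r u) • φ.smulRight u ∈ L)
    (hq : 3 ≤ finrank F V ∨ ∃ c : F, c ≠ 0 ∧ c ≠ 1) {r : End F V} (hr : r ∈ L) (h : ∀ c : F, r ≠ c • 1)
    (χ : Dual F V) (v : V) : χ.smulRight v ∈ L := by
  have cg : ∀ {a b : End F V}, a ∈ L → (∀ v, a v = b v) → b ∈ L := fun h e => LinearMap.ext e ▸ h
  obtain ⟨u, hu⟩ := exists_not_eigen h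
  have u0 : u ≠ 0 := fun e => hu (by simp [e])
  obtain ⟨χ₀, h1, h2⟩ := exists_dual_pair hu
  obtain ⟨φ, h3, h4, h5⟩ : ∃ φ : Dual F V, φ ≠ 0 ∧ φ u = 0 ∧ φ.smulRight u ∈ L := by
    rcases hq with hq | ⟨c, h3, h4⟩
    · obtain ⟨φ, h3, h4, h5⟩ := exists_ker_two (K := F) (V := Dual F V) (Subspace.dual_finrank_eq (K := F) (V := V) ▸ hq)
        (Dual.eval F V u) (Dual.eval F V (r u))
      replace h4 : φ u = 0 := h4
      replace h5 : φ (r u) = 0 := h5
      exact ⟨φ, h3, h4, cg (L.neg_mem (hL _ (hL r hr φ u h4) χ₀ u h2)) fun v => by simp [h1, h2, h4, h5]⟩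
    · refine ⟨χ₀, fun e => by simp [e] at h1, h2, cg (L.smul_mem (L.sub_mem (L.smul_mem (hL r hr χ₀ u h2) c)
        (hL r hr χ₀ (c • u) (by simp [h2]))) (c * (c - 1))⁻¹) fun v => ?_⟩
      have := sub_ne_zero.2 h4
      simp only [LinearMap.smul_apply, LinearMap.sub_apply, End.mul_apply, LinearMap.smulRight_apply, map_smul, h1]
      match_scalars <;> field_simp <;> ring
  clear h1 h2 χ₀
  obtain ⟨z₀, h6⟩ := exists_apply_one h3
  obtain ⟨χ₀, h7⟩ := exists_dual_one (F := F) u0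
  have k1 : ∀ z, φ z = 1 → φ.smulRight z ∈ L := fun z hz => by
    obtain ⟨χ, a, b⟩ := exists_dual_pair (F := F) (x := u) (y := z) fun e => by
      obtain ⟨c, rfl⟩ := Submodule.mem_span_singleton.1 e
      simp_all
    exact cg (L.neg_mem (L.add_mem (L.mul_mem (hL _ h5 χ z b) h5) h5)) fun v => by simp [a, b, h4, hz]; module
  have k2 : ∀ χ : Dual F V, χ u = 1 → χ.smulRight u ∈ L := fun χ a =>
    cg (L.sub_mem h5 (L.mul_mem h5 (hL _ h5 χ (z₀ - χ z₀ • u) (by simp [a])))) fun v => by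
      simp [a, h4, h6]; module
  have k3 : φ.smulRight v ∈ L := cg (L.sub_mem (k1 (v + (1 - φ v) • z₀) (by simp [h6]))
    (L.smul_mem (k1 z₀ h6) (1 - φ v))) fun v => by simp; module
  have k4 : χ.smulRight u ∈ L := cg (L.sub_mem (k2 (χ + (1 - χ u) • χ₀) (by simp [h7]))
    (L.smul_mem (k2 χ₀ h7) (1 - χ u))) fun v => by simp; module
  have k5 : χ₀.smulRight (z₀ - χ₀ z₀ • u) ∈ L := cg (L.sub_mem (L.sub_mem (k1 (z₀ - χ₀ z₀ • u) (by simp [h4, h6]))
    (k2 χ₀ h7)) (hL _ h5 χ₀ (z₀ - χ₀ z₀ • u) (by simp [h7]))) fun v => by simp [h4, h6, h7]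
  exact cg (L.mul_mem (L.mul_mem k3 k5) k4) fun v => by simp [h4, h6, h7]

end CfsgH9.TX
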