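import Cfsg.Agent.H9.KS1

/-! The subgroup `W(S)` and `p`-stable groups. -/

set_option autoImplicit false

namespace CfsgH9

open Subgroup Cfsg CfsgH2 CfsgFT
open scoped IsMulCommutative commutatorElement

universe u

section
variable {G G' : Type*} [Group G] [Group G'] {p : ℕ} {V S : Subgroup G}

theorem quad_iff {a : G} : Quad V a ↔ ⁅⁅V, zpowers a⁆, zpowers a⁆ = ⊥ := by
  refine ⟨fun h => le_centralizer_iff_bot.1 ?_, fun h => quad_of_commutator h (mem_zpowers a)⟩
  rw [commutator_comm, centralizer_zpowers]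
  exact commutator_zpowers_le (le_normalizer (mem_centralizer_singleton_iff.2 rfl)) fun c hc =>
    mem_centralizer_singleton_iff.2 (h c hc)

theorem map_omegaCT {f : G →* G'} (hf : Function.Injective f) :
    (omegaCenterThompson p G).map f = omegaOne p (centerThompsonOf p f.range) := by
  rw [omegaCenterThompson_eq, map_omegaOne' (hf.comp (subtype_injective ⊤)) ZJ_le, map_ZJ hf, MonoidHom.range_eq_map]

theorem stable_cent_normal [Finite G] [Fact p.Prime] [V.Normal] (hs : IsPStableOn p V) (hS : IsSylowIn p S ⊤) :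
    (V ⊓ centralizer {s | s ∈ S ∧ Quad V s}).Normal := by
  obtain ⟨P, rfl⟩ := hS.of_top
  have e : V ⊓ centralizer {s | s ∈ (P : Subgroup G) ∧ Quad V s} = V ⊓ centralizer {s | Quad V s} :=
    le_antisymm (fun v hv => ⟨hv.1, fun y hy => by
      obtain ⟨s, s1, c, c1, rfl⟩ := (mem_sup_of_normalizer' le_normalizer_of_normal).1 (opm_le_sup P _ (hs y (quad_iff.1 hy)))
      have k : ∀ w ∈ V, s * c * w * (s * c)⁻¹ = s * w * s⁻¹ := fun w hw => by rw [mul_assoc s, ← c1 w hw]; group
      rw [mul_assoc, ← c1 v hv.1, ← mul_assoc, hv.2 s ⟨s1, fun w hw => ?_⟩, mul_assoc]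
      have h1 := hy w hw
      rw [k w hw] at h1
      simpa using h1.mul_right (show Commute _ c from c1 _ (mul_mem ((inferInstance : V.Normal).conj_mem w hw s)
        (inv_mem hw))).inv_right⟩) (inf_le_inf_left _ (centralizer_le fun _ h => h.2))
  rw [e]
  refine ⟨fun v hv g => ⟨(inferInstance : V.Normal).conj_mem v hv.1 g, fun y hy => ?_⟩⟩
  have := hv.2 _ (Quad.conj hy (le_normalizer_of_normal (mem_top g⁻¹)))
  calc _ = g * (g⁻¹ * y * g⁻¹⁻¹ * v) * g⁻¹ := by group
    _ = _ := by rw [this]; group

end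

section
variable {p : ℕ} {S H : Type u} [Group S] [Group H]

theorem oz_le_W : omegaOne p (center S) ≤ stableNormalClosure p S := le_sInf fun _ h => h.1

theorem W_le {W : Subgroup S} (h1 : omegaOne p (center S) ≤ W)
    (h2 : ∀ (H : Type u) [Group H] (τ : S →* H), IsStableEmbedding p τ → (W.map τ).Normal) :
    stableNormalClosure p S ≤ W := sInf_le ⟨h1, h2⟩

theorem oz_le_omegaCT [Finite S] : omegaOne p (center S) ≤ omegaCenterThompson p S := (closure_le _).2 fun x hx => by
  rw [omegaCenterThompson_eq]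
  exact mem_omegaOne (mem_ZJ_of_center (mem_top x) (fun y _ => mem_center_iff.1 hx.1 y) hx.2) hx.2

theorem omegaCT_normal {τ : S →* H} (h : IsStableEmbedding p τ) : ((omegaCenterThompson p S).map τ).Normal := by
  have := h.2.2.2.2.1
  rw [← J_top, map_J h.1, ← MonoidHom.range_eq_map] at this
  rw [map_omegaCT h.1, centerThompsonOf]
  infer_instance

theorem W_le_omegaCT [Finite S] : stableNormalClosure p S ≤ omegaCenterThompson p S :=
  W_le oz_le_omegaCT fun _ _ _ => omegaCT_normal

theorem W_normal [Finite S] {τ : S →* H} (h : IsStableEmbedding p τ) : ((stableNormalClosure p S).map τ).Normal := ⟨by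
  rintro _ ⟨x, hx, rfl⟩ g
  obtain ⟨y, -, e⟩ := (omegaCT_normal h).conj_mem _ (mem_map_of_mem τ (W_le_omegaCT hx)) g
  exact ⟨y, mem_sInf.2 fun W hW => let ⟨z, z1, z2⟩ := (hW.2 H τ h).conj_mem _ (mem_map_of_mem τ (mem_sInf.1 hx W hW)) g
    h.1 (z2.trans e.symm) ▸ z1, e⟩⟩

theorem stable_comp {S' : Type u} [Group S'] (η : S' ≃* S) {τ : S →* H} (h : IsStableEmbedding p τ) :
    IsStableEmbedding p (τ.comp η.toMonoidHom) := by
  have e : η.toMonoidHom.range = ⊤ := MonoidHom.range_eq_top.2 η.surjective
  refine ⟨h.1.comp η.injective, h.2.1, by rw [MonoidHom.range_comp, e, ← MonoidHom.range_eq_map]; exact h.2.2.1,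
    h.2.2.2.1, ?_, fun V _ k => h.2.2.2.2.2 V ?_⟩
  · rw [← map_map, ← J_top, map_J η.injective, ← MonoidHom.range_eq_map, e, J_top]
    exact h.2.2.2.2.1
  · rwa [← map_map, map_omegaCT η.injective, e, ← omegaCenterThompson_eq] at k

theorem map_W_le [Finite S] {S' : Type u} [Group S'] (η : S' ≃* S) :
    (stableNormalClosure p S').map η.toMonoidHom ≤ stableNormalClosure p S := by
  refine map_le_iff_le_comap.2 (W_le ((closure_le _).2 fun x hx => oz_le_W (mem_omegaOne (mem_center_iff.2 fun g => ?_)
    (by rw [← map_pow, hx.2, map_one]))) fun H _ τ h => ?_)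
  · obtain ⟨g, rfl⟩ := η.surjective g
    exact (map_mul η _ _).symm.trans ((congrArg η (mem_center_iff.1 hx.1 g)).trans (map_mul η _ _))
  · have := W_normal (stable_comp η.symm h)
    rwa [← map_map, map_equiv_eq_comap_symm'] at this

theorem map_W [Finite S] {S' : Type u} [Group S'] (η : S ≃* S') :
    (stableNormalClosure p S).map η.toMonoidHom = stableNormalClosure p S' := by
  have := Finite.of_equiv _ η.toEquiv
  refine le_antisymm (map_W_le η) fun x hx => ⟨η.symm x, map_W_le η.symm (mem_map_of_mem _ hx), η.apply_symm_apply x⟩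

instance W_char [Finite S] : (stableNormalClosure p S).Characteristic := characteristic_iff_map_eq.2 fun η => map_W η

theorem W_ea [Finite S] : IsElementaryAbelian p (stableNormalClosure p S) :=
  ea_mono (omegaCenterThompson_eq (G := S) ▸ ea_omegaOne_of_comm ZJ_comm p) W_le_omegaCT

variable [hp : Fact p.Prime]

theorem W_ne_bot [Finite S] (hS : IsPGroup p S) (h : Nontrivial S) : stableNormalClosure p S ≠ ⊥ := fun e =>
  center_ne_bot_of_isPGroup (U := ⊤) (hS.to_subgroup ⊤) top_ne_bot (eq_bot_iff.2 ((omegaOne_mono (inf_le_right.trans_eq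
    (by rw [coe_top, centralizer_univ]))).trans (oz_le_W.trans e.le)))

theorem charP_W : IsCharPFunctor.{u} p fun Q _ => stableNormalClosure p Q :=
  ⟨fun _ _ _ => W_ne_bot, fun _ _ _ _ _ _ => map_W⟩

theorem W_quad [Finite S] {x : S} (hq : Quad (stableNormalClosure p S) x) :
    x ∈ centralizer (stableNormalClosure p S : Set S) := by
  have : stableNormalClosure p S ≤ stableNormalClosure p S ⊓ centralizer {s | Quad (stableNormalClosure p S) s} := by
    refine W_le (le_inf oz_le_W ((omegaOne_le _).trans (center_le_centralizer _))) fun H _ τ h => ?_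
    have := h.2.1
    have := W_normal h
    obtain ⟨P, e⟩ := h.2.2.1
    convert stable_cent_normal (h.2.2.2.2.2 _ (map_mono W_le_omegaCT)) (.of_sylow_top P)
    refine le_antisymm (le_inf (map_mono inf_le_left) ?_) ?_
    · rintro _ ⟨w, hw, rfl⟩ s ⟨s1, s2⟩
      obtain ⟨s, rfl⟩ := e.le s1
      rw [← map_mul, ← map_mul, hw.2 s fun v hv => h.1 (by simpa using (s2 _ (mem_map_of_mem τ hv)).eq)]
    · rintro _ ⟨⟨w, hw, rfl⟩, k⟩
      exact ⟨w, ⟨hw, fun s hs => h.1 (by simpa using k _ ⟨e.ge ⟨s, rfl⟩, Quad.map hs τ⟩)⟩, rfl⟩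
  exact fun w hw => ((this hw).2 x hq).symm

variable {G : Type u} [Group G] [Finite G]

theorem W_normal_of_stable (hst : IsActionPStable p G) (hc : Con p G) (S : Sylow p G) :
    ((stableNormalClosure p S).map (S : Subgroup G).subtype).Normal := by
  set W := (stableNormalClosure p S).map (S : Subgroup G).subtype
  have hW : IsElementaryAbelian p W := ea_map W_ea _
  have hSW : (S : Subgroup G) ≤ normalizer (W : Set G) :=
    le_normalizer.trans (CfsgH1.normalizer_le_normalizer_map_of_characteristic _)
  have hRS := CfsgH1.pCore_le_sylow S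
  have hq : ∀ s ∈ (S : Subgroup G), Quad W s → s ∈ centralizer (W : Set G) := fun s s1 s2 =>
    map_centralizer_le' _ _ (mem_map_of_mem _ (W_quad (x := (⟨s, s1⟩ : S)) fun v hv =>
      Subtype.ext (s2 _ (mem_map_of_mem _ hv))))
  have h1 : W ≤ pCore p G := fun a ha => by
    obtain ⟨D, d1, d2, ⟨k, d3⟩, d4⟩ := hst.2.1 a ((quad_iff.1 (quad_of_commutator (quad_of_comm hW.1 (hRS.trans hSW)) ha)).le.trans bot_le)
    have : IsPGroup p (sectionKernel (pCore p G) ((frattini (pCore p G)).map (pCore p G).subtype)) :=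
      isPGroup_of_forall_coprime fun X x1 x2 => eq_bot_iff.2 ((le_inf ((le_centralizer_iff.1
        (CfsgH1.le_centralizer_of_commutator_le_frattini le_normalizer_of_normal (CfsgH1.IsPGroup.coprime_card_of_coprime
        ((isPGroup_pCore p G).to_subgroup _) x2).symm (by
          rw [← CfsgH1.map_mk'_eq_bot_iff, Subgroup.map_commutator]
          exact le_centralizer_iff_bot.1 (le_centralizer_iff.1 (map_le_iff_le_comap.2 x1))))).trans hc) le_rfl).trans
        (CfsgH1.disjoint_of_isPGroup_of_coprime (isPGroup_pCore p G) x2).le_bot)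
    refine le_pCore d1 (isPGroup_of_forall fun x hx => ?_) d4
    have : (sectionKernel (pCore p G) ((frattini (pCore p G)).map (pCore p G).subtype)).Normal := by
      unfold sectionKernel; infer_instance
    obtain ⟨l, e⟩ := pow_eq_one_of_isPGroup ‹IsPGroup _ _› (d3 ▸ pow_relIndex_mem _ hx)
    exact ⟨k + l, by rwa [pow_add, pow_mul]⟩
  set V := normalClosure (W : Set G)
  have h2 : V ≤ centralizer (W : Set G) := by
    rw [show V = ncl ⊤ W from (ncl_top W).symm]
    refine ncl_le_iff.2 fun g _ x hx => hq x (hRS ((cj_mono g h1).trans (cj_eq_of_normal g _).le hx))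
      (quad_of_commutator (quad_of_comm (ea_cj hW g).1 (h1.trans ?_)) hx)
    rw [← cj_normalizer, ← cj_eq_of_normal g (pCore p G)]
    exact cj_mono g (hRS.trans hSW)
  have h3 : IsElementaryAbelian p V := ea_mono (ea_omegaOne_of_comm (isMulCommutative_iff_le_centralizer.2
    (normalClosure_le_normal (le_centralizer_iff.1 h2))) p)
    (normalClosure_le_normal fun x hx => mem_omegaOne (subset_normalClosure hx) (hW.2 x hx))
  have h4 : thompsonSubgroupOf p (S : Subgroup G) ≤ centralizer (V : Set G) := by
    by_contra k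
    obtain ⟨A, a1, a2, a3⟩ := exists_quadratic_maxA S.isPGroup' le_rfl le_normalizer h3
      ((normalClosure_le_normal h1).trans hRS) le_normalizer_of_normal k
    have := stable_cent_normal (hst.1 V h3) (.of_sylow_top S)
    have k : V ≤ V ⊓ centralizer {s | s ∈ (S : Subgroup G) ∧ Quad V s} := normalClosure_le_normal fun w hw =>
      ⟨subset_normalClosure hw, fun s hs => (hq s hs.1 (hs.2.mono subset_normalClosure) w hw).symm⟩
    exact a2 fun a ha v hv => ((k hv).2 a ⟨a1.le ha, quad_of_commutator (quad_of_comm a1.ea.1 a3) ha⟩).symm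
  have hN := le_normalizer.trans (normalizer_le_normalizer_J (n := p) (S : Subgroup G))
  have h5 := W_normal (p := p) (τ := inclusion hN) ⟨inclusion_injective hN, inferInstance,
    ⟨(IsSylowIn.of_sylow S hN).toSylow, (inclusion_range hN).symm⟩, chP_iff.2 (by
      simpa using (chP_top.2 hc).inf_norm (S.isPGroup'.to_le J_le) le_top), by
      convert normal_subgroupOf_of_le_normalizer (H := normalizer _) le_rfl
      rw [← map_subtype_inj, map_map, map_subgroupOf_eq_of_le le_normalizer]
      rfl, fun U _ k => hst.2.2 S U ((map_mono k).trans (map_map _ _ _).le)⟩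
  have h6 : normalizer (thompsonSubgroupOf p (S : Subgroup G) : Set G) ≤ normalizer (W : Set G) :=
    (range_subtype _).ge.trans ((MonoidHom.range_eq_map _).le.trans ((map_mono (normalizer_eq_top_iff.2 h5).ge).trans
      ((le_normalizer_map _).trans_eq (by rw [map_map]; rfl))))
  refine normalizer_eq_top_iff.1 (eq_top_iff.2 fun g _ => ?_)
  obtain ⟨c, c1, c2⟩ := exists_mul_mem_normalizer_J S h4 g
  simpa using mul_mem (inv_mem (centralizer_le_normalizer _ (centralizer_le subset_normalClosure c1))) (h6 c2)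

theorem actionPStable_of_not_sec {G : Type*} [Group G] [Finite G] (hp2 : p ≠ 2) (h : ¬ Sec (qd p) (⊤ : Subgroup G)) :
    IsActionPStable p G := by
  refine ⟨fun V _ hV => isPStableOn_of_not_sec hp2 h V (ea_isPGroup hV), fun a ha => ?_, fun S V _ hV =>
    isPStableOn_of_not_sec hp2 (not_sec_subgroup _ h) V ((S.isPGroup'.to_le (hV.trans (map_subtype_le _))).of_equiv
      (V.equivMapOfInjective _ (subtype_injective _)).symm)⟩
  have := isPStableOn_of_not_sec hp2 (not_sec_quotient ((frattini (pCore p G)).map (pCore p G).subtype) h) _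
    ((isPGroup_pCore p G).map (QuotientGroup.mk' _)) a (by
      rw [← CfsgH1.map_mk'_eq_bot_iff, Subgroup.map_commutator, Subgroup.map_commutator, MonoidHom.map_zpowers] at ha
      exact ha)
  refine ⟨(opm p _).comap (QuotientGroup.mk' _), inferInstance, comap_mono (le_opm_self _), ?_, this⟩
  have : (sectionKernel (pCore p G) ((frattini (pCore p G)).map (pCore p G).subtype)).Normal := by
    unfold sectionKernel; infer_instance
  exact exists_relIndex_eq_pow le_normalizer_of_normal fun x hx => (opm_pow hx).imp fun k e => by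
    rwa [← map_pow] at e

theorem sfun_W : SFun.{u} p (ind fun Q _ => stableNormalClosure p Q) := sfun_of_char charP_W

end

end CfsgH9
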